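import Mathlib
import Groth.Prelude.Def_DRing2
import Groth.Agent.Lib.Helper8.Andre2
import Groth.Agent.Lib.Helper8.AdicFS7
import Groth.Agent.Lib.Helper8.ABS5
import Groth.Agent.Lib.Helper1.TorL
import Groth.Agent.Lib.Helper4.DimIneq4

/-!
# Stalks of a scheme smooth over a field are regular; vanishing of `Tor` above the dimension
-/

set_option autoImplicit false
universe u

namespace Groth.Agent.Helper8.SmTor

open AlgebraicGeometry CategoryTheory IsLocalRing

/-- stalks of a scheme smooth over a field are regular local rings. -/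
theorem isRegularLocalRing_stalk_of_smooth (K : Type u) [Field K] (X : Scheme.{u})
    (f : X ⟶ Spec (CommRingCat.of K)) [Smooth f] (x : X) :
    IsRegularLocalRing (X.presheaf.stalk x) := by
  obtain ⟨V, hV, hxV, -⟩ :=
    exists_isAffineOpen_mem_and_subset (U := (⊤ : X.Opens)) (x := x) trivial
  have hU : IsAffineOpen (⊤ : (Spec (CommRingCat.of K)).Opens) := isAffineOpen_top _
  have e : V ≤ f ⁻¹ᵁ ⊤ := fun _ _ => trivial
  have hsm := Smooth.smooth_appLE f hU hV e
  letI algB : Algebra Γ(Spec (CommRingCat.of K), ⊤) Γ(X, V) := (f.appLE ⊤ V e).hom.toAlgebra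
  haveI hsmB : Algebra.Smooth Γ(Spec (CommRingCat.of K), ⊤) Γ(X, V) := hsm
  let eK : Γ(Spec (CommRingCat.of K), ⊤) ≃+* K :=
    (Scheme.ΓSpecIso (CommRingCat.of K)).commRingCatIsoToRingEquiv
  haveI : IsRegularLocalRing Γ(Spec (CommRingCat.of K), ⊤) :=
    IsRegularLocalRing.of_ringEquiv eK.symm
  let xV : V := ⟨x, hxV⟩
  letI algBC : Algebra Γ(X, V) (X.presheaf.stalk x) := X.presheaf.algebra_section_stalk xV
  haveI hloc : IsLocalization.AtPrime (X.presheaf.stalk x) (hV.primeIdealOf xV).asIdeal :=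
    hV.isLocalization_stalk xV
  letI algRC : Algebra Γ(Spec (CommRingCat.of K), ⊤) (X.presheaf.stalk x) :=
    ((algebraMap Γ(X, V) (X.presheaf.stalk x)).comp
      (algebraMap Γ(Spec (CommRingCat.of K), ⊤) Γ(X, V))).toAlgebra
  haveI : IsScalarTower Γ(Spec (CommRingCat.of K), ⊤) Γ(X, V) (X.presheaf.stalk x) :=
    IsScalarTower.of_algebraMap_eq (fun r => rfl)
  haveI : Algebra.FormallySmooth Γ(X, V) (X.presheaf.stalk x) :=
    Algebra.FormallySmooth.of_isLocalization (hV.primeIdealOf xV).asIdeal.primeCompl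
  haveI : Algebra.FormallySmooth Γ(Spec (CommRingCat.of K), ⊤) Γ(X, V) := inferInstance
  haveI : Algebra.FormallySmooth Γ(Spec (CommRingCat.of K), ⊤) (X.presheaf.stalk x) :=
    Algebra.FormallySmooth.comp Γ(Spec (CommRingCat.of K), ⊤) Γ(X, V) (X.presheaf.stalk x)
  have hfs : CAlgX.IsAdicFormallySmooth Γ(Spec (CommRingCat.of K), ⊤) (X.presheaf.stalk x)
      (maximalIdeal (X.presheaf.stalk x)) := Groth.Agent.Helper8.AdicFS.of_formallySmooth _
  haveI : IsNoetherianRing Γ(Spec (CommRingCat.of K), ⊤) := inferInstance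
  haveI : Algebra.FiniteType Γ(Spec (CommRingCat.of K), ⊤) Γ(X, V) := inferInstance
  haveI : IsNoetherianRing Γ(X, V) :=
    Algebra.FiniteType.isNoetherianRing Γ(Spec (CommRingCat.of K), ⊤) Γ(X, V)
  haveI : IsNoetherianRing (X.presheaf.stalk x) :=
    IsLocalization.isNoetherianRing (hV.primeIdealOf xV).asIdeal.primeCompl _ inferInstance
  haveI : IsLocalHom (algebraMap Γ(Spec (CommRingCat.of K), ⊤) (X.presheaf.stalk x)) := by
    refine ⟨fun a ha => ?_⟩
    have ha0 : a ≠ 0 := by
      rintro rfl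
      rw [map_zero] at ha
      exact not_isUnit_zero ha
    have h1 : IsUnit (eK a) := by
      rw [isUnit_iff_ne_zero]
      intro h
      exact ha0 (eK.injective (h.trans (map_zero eK).symm))
    have h2 : IsUnit (eK.symm (eK a)) := h1.map eK.symm
    rwa [eK.symm_apply_apply] at h2
  exact Groth.Agent.Helper8.Andre.isRegularLocalRing_of_isAdicFormallySmooth
    (A₁ := Γ(Spec (CommRingCat.of K), ⊤)) (C₁ := X.presheaf.stalk x) hfs

lemma exists_nat_eq_of_le {a : WithBot ℕ∞} {n : ℕ} (h : a ≤ (n : WithBot ℕ∞)) (hb : a ≠ ⊥) :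
    ∃ d : ℕ, a = d ∧ d ≤ n := by
  induction a using WithBot.recBotCoe with
  | bot => exact absurd rfl hb
  | coe a =>
    induction a using ENat.recTopCoe with
    | top =>
      exfalso
      have h1 : ((⊤ : ℕ∞) : WithBot ℕ∞) ≤ ((n : ℕ∞) : WithBot ℕ∞) := h
      rw [WithBot.coe_le_coe, top_le_iff] at h1
      exact ENat.coe_ne_top n h1
    | coe d =>
      refine ⟨d, rfl, ?_⟩
      have h1 : ((d : ℕ∞) : WithBot ℕ∞) ≤ ((n : ℕ∞) : WithBot ℕ∞) := h
      rw [WithBot.coe_le_coe] at h1
      exact_mod_cast h1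

/-- `Tor_p` of the stalks vanishes above the dimension of a smooth variety. -/
theorem subsingleton_tor_stalk (K : Type u) [Field K] (X : Scheme.{u})
    (f : X ⟶ Spec (CommRingCat.of K)) [Smooth f] (n : ℕ) (hn : topologicalKrullDim X = n)
    (x : X) (M N : Type u) [AddCommGroup M] [Module (X.presheaf.stalk x) M] [AddCommGroup N]
    [Module (X.presheaf.stalk x) N] (p : ℕ) (hp : n < p) :
    Subsingleton (DRing.Tor (X.presheaf.stalk x) p M N) := by
  haveI := isRegularLocalRing_stalk_of_smooth K X f x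
  have hle := Groth.Agent.Lib.Helper4.DimIneq4.ringKrullDim_stalk_le X x
  rw [hn] at hle
  obtain ⟨d, hd, hdn⟩ := exists_nat_eq_of_le hle ringKrullDim_ne_bot
  haveI := Groth.Agent.Helper8.ABS.hasProjectiveDimensionLT_of_regular (X.presheaf.stalk x) d hd N
  have hz := Groth.Agent.Helper1.TorL.isZero_tor_of_hasProjectiveDimensionLT d
    (ModuleCat.of (X.presheaf.stalk x) N) (ModuleCat.of (X.presheaf.stalk x) M) p (by omega)
  exact ModuleCat.subsingleton_of_isZero hz

end Groth.Agent.Helper8.SmTor
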