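import Mathlib
import Groth.Agent.Lib.Lead.RelReg15
import Groth.Agent.Lib.Helper8.SmTor1
import Groth.Agent.Lib.Helper8.FlatReg5

/-!
# Depth of the local rings of a smooth morphism is at least the dimension of the fibre local ring

A regular sequence of the (regular) local ring of the fibre lifts, by flatness and local finite
presentation (the lead's `transReg_nhd`), to a weakly regular sequence of the local ring.
-/

set_option autoImplicit false
set_option backward.isDefEq.respectTransparency.types false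
set_option synthInstance.maxHeartbeats 400000
set_option linter.style.haveILetI false
universe u

open AlgebraicGeometry CategoryTheory CategoryTheory.Limits TopologicalSpace RingTheory.Sequence
open TensorProduct

namespace Groth.Agent.Helper8.SmDepth

open Groth.Agent.Lead.RelReg
open Groth.Agent.Lib.Helper4.RelRegBC1 Groth.Agent.Lib.Helper4.QuasiRegImm1
  Groth.Agent.Lib.Helper4.RegSpread2 Groth.Agent.Lead.FO Groth.Agent.Lead.SD

set_option maxHeartbeats 2000000 in
/-- lifting a regular sequence from (a quotient presenting) the local ring of the fibre of a flat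
morphism locally of finite presentation -/
theorem exists_weaklyRegular_stalk_of_fibre {P S : Scheme.{u}} (π : P ⟶ S) [Flat π]
    [LocallyOfFinitePresentation π] (x : P) {F : Type u} [CommRing F]
    (γ : P.presheaf.stalk x →+* F) (hγ : Function.Surjective γ)
    (hkerγ : RingHom.ker γ = Ideal.map (π.stalkMap x).hom
      (IsLocalRing.maximalIdeal (S.presheaf.stalk (π x))))
    (tb : List F) (htb : IsRegular F tb) :
    ∃ t : List (P.presheaf.stalk x), t.map γ = tb ∧ IsWeaklyRegular (P.presheaf.stalk x) t := by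
  classical
  obtain ⟨t, -, httb⟩ := exists_lift_list_mem γ hγ ⊤ tb (fun b _ => by
    rw [Ideal.map_top]
    exact Submodule.mem_top)
  refine ⟨t, httb, ?_⟩
  obtain ⟨_, ⟨V, hV, rfl⟩, hxV, -⟩ :=
    S.isBasis_affineOpens.exists_subset_of_mem_open (Set.mem_univ (π x)) isOpen_univ
  have hreg : IsRegular (P.presheaf.stalk x ⧸ Ideal.map (π.stalkMap x).hom
        (IsLocalRing.maximalIdeal (S.presheaf.stalk (π x))))
      (t.map (Ideal.Quotient.mk (Ideal.map (π.stalkMap x).hom
        (IsLocalRing.maximalIdeal (S.presheaf.stalk (π x)))))) :=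
    isRegular_quot_of_surjective γ hγ _ hkerγ t (httb ▸ htb)
  obtain ⟨W₂, hxW₂, hs₁, hhs₁⟩ := exists_list_germ x t
  obtain ⟨_, ⟨U₀, hU₀, rfl⟩, hxU₀, hU₀sub⟩ :=
    P.isBasis_affineOpens.exists_subset_of_mem_open
      (show x ∈ (((π ⁻¹ᵁ V) ⊓ W₂ : P.Opens) : Set P) from ⟨hxV, hxW₂⟩) ((π ⁻¹ᵁ V) ⊓ W₂).isOpen
  have hU₀V : U₀ ≤ π ⁻¹ᵁ V := fun z hz => (hU₀sub hz).1
  have hU₀W : U₀ ≤ W₂ := fun z hz => (hU₀sub hz).2
  obtain ⟨hs₀, hhs₀def⟩ : ∃ hs₀ : List Γ(P, U₀),
      hs₀ = hs₁.map (P.presheaf.map (homOfLE hU₀W).op).hom := ⟨_, rfl⟩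
  have hhs₀ : hs₀.map (P.presheaf.germ U₀ x hxU₀).hom = t := by
    rw [hhs₀def, ← hhs₁, List.map_map]
    apply List.map_congr_left
    intro a _
    exact P.presheaf.germ_res_apply (homOfLE hU₀W) x hxU₀ a
  obtain ⟨g, hxg, htr⟩ := transReg_nhd π hV hU₀ hU₀V ⟨x, hxU₀⟩
    (Flat.stalkMap π _) hs₀ (by rw [hhs₀]; exact hreg)
  have hU₁ : IsAffineOpen (P.basicOpen g) := hU₀.basicOpen g
  have hU₁U₀ : P.basicOpen g ≤ U₀ := P.basicOpen_le g
  obtain ⟨rs, hrsdef⟩ : ∃ rs : List Γ(P, P.basicOpen g),
      rs = hs₀.map (P.presheaf.map (homOfLE (P.basicOpen_le g)).op).hom := ⟨_, rfl⟩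
  rw [← hrsdef] at htr
  have hrsgerm : rs.map (P.presheaf.germ (P.basicOpen g) x hxg).hom = t := by
    rw [hrsdef, ← hhs₀, List.map_map]
    apply List.map_congr_left
    intro a _
    exact P.presheaf.germ_res_apply (homOfLE hU₁U₀) x hxg a
  let xU₁ : P.basicOpen g := ⟨x, hxg⟩
  letI algB₁L := P.presheaf.algebra_section_stalk xU₁
  haveI locL₁ := hU₁.isLocalization_stalk xU₁
  haveI : Module.Flat Γ(P, P.basicOpen g) (P.presheaf.stalk xU₁.1) :=
    IsLocalization.flat _ (hU₁.primeIdealOf xU₁).asIdeal.primeCompl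
  rw [← hrsgerm]
  exact IsWeaklyRegular.of_flat htr.1

open Groth.Agent.Helper8.Depth LocCoh in
/-- abstract form: the fibre local ring presented as a regular quotient `F` of the local ring -/
theorem le_depth_of_presentation {P S : Scheme.{u}} (π : P ⟶ S) [Flat π]
    [LocallyOfFinitePresentation π] (x : P) {F : Type u} [CommRing F] [IsRegularLocalRing F]
    (γ : P.presheaf.stalk x →+* F) (hγ : Function.Surjective γ)
    (hkerγ : RingHom.ker γ = Ideal.map (π.stalkMap x).hom
      (IsLocalRing.maximalIdeal (S.presheaf.stalk (π x))))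
    (n : ℕ) (hx : (n : WithBot ℕ∞) ≤ ringKrullDim F) :
    (n : ℕ∞) ≤ LocCoh.depth ↑(P.presheaf.stalk x) ↑(P.presheaf.stalk x) := by
  classical
  obtain ⟨xs, hxs, hdim, hw⟩ := Groth.Agent.Helper8.FlatReg.exists_regular_generators F
  have hn : n ≤ xs.length := by
    have h1 : (n : WithBot ℕ∞) ≤ (xs.length : WithBot ℕ∞) := by rw [← hdim]; exact hx
    exact_mod_cast h1
  have hmem : ∀ r ∈ xs.take n, r ∈ IsLocalRing.maximalIdeal F := fun r hr => by
    rw [← hxs]
    exact Ideal.subset_span (List.mem_of_mem_take hr)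
  have htb : IsRegular F (xs.take n) :=
    IsRegular.of_isWeaklyRegular_of_mem_maximalIdeal F hmem (isWeaklyRegular_take xs hw n)
  obtain ⟨t, httb, hwt⟩ := exists_weaklyRegular_stalk_of_fibre π x γ hγ hkerγ (xs.take n) htb
  have hlen : t.length = n := by
    have h1 := congrArg List.length httb
    rw [List.length_map, List.length_take, min_eq_left hn] at h1
    exact h1
  have hmemt : ∀ r ∈ t, r ∈ IsLocalRing.maximalIdeal (P.presheaf.stalk x) := by
    intro r hr
    by_contra hunit
    have hu : IsUnit r := IsLocalRing.notMem_maximalIdeal.mp hunit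
    have h1 : γ r ∈ xs.take n := by
      rw [← httb]
      exact List.mem_map_of_mem hr
    exact (IsLocalRing.mem_maximalIdeal _).mp (hmem _ h1) (hu.map γ)
  have h2 := length_le_idealDepth (I := IsLocalRing.maximalIdeal (P.presheaf.stalk x)) hwt hmemt
  rw [hlen] at h2
  exact h2

/-- the depth of a local ring of the source of a smooth morphism is at least the dimension of the
local ring of the fibre -/
theorem le_depth_stalk_of_smooth {P S : Scheme.{u}} (π : P ⟶ S) [Smooth π] (x : P) (n : ℕ)
    (hx : (n : WithBot ℕ∞) ≤ ringKrullDim ↑(CInt.fiberStalk π x)) :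
    (n : ℕ∞) ≤ LocCoh.depth ↑(P.presheaf.stalk x) ↑(P.presheaf.stalk x) := by
  classical
  haveI : Smooth (π.fiberToSpecResidueField (π x)) :=
    MorphismProperty.pullback_snd _ _ inferInstance
  haveI hregF : IsRegularLocalRing ↑((π.fiber (π x)).presheaf.stalk (π.asFiber x)) :=
    Groth.Agent.Helper8.SmTor.isRegularLocalRing_stalk_of_smooth (S.residueField (π x))
      (π.fiber (π x)) (π.fiberToSpecResidueField (π x)) (π.asFiber x)
  obtain ⟨γ, hγ, hkγ⟩ := Groth.Agent.Helper3.FibStalk.exists_fibre_presentation π x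
  exact le_depth_of_presentation π x γ hγ hkγ n hx

end Groth.Agent.Helper8.SmDepth
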