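import Mathlib
import Groth.Agent.Lib.Helper8.SmDepth1
import Groth.Agent.Lib.Helper8.Depth1

/-!
# Schematic density of an open subset whose complement consists of points of depth `≥ 1`

No Noetherian hypothesis: for a nonzero section `b` on an affine open, a prime minimal over the
annihilator of `b` gives a point at which the germ of `b` is nonzero and every element of the
maximal ideal is a zero divisor.
-/

set_option autoImplicit false
set_option backward.isDefEq.respectTransparency.types false
set_option synthInstance.maxHeartbeats 400000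
set_option linter.style.haveILetI false
universe u

open AlgebraicGeometry CategoryTheory CategoryTheory.Limits TopologicalSpace RingTheory.Sequence

namespace Groth.Agent.Helper8.SmDepth

/-- at a prime minimal over the annihilator of `b`, the image of `b` in the localization is
nonzero and all elements of the maximal ideal are zero divisors -/
theorem zero_divisors_of_minimalPrime {B L : Type u} [CommRing B] [CommRing L] [Algebra B L]
    [IsLocalRing L] (b : B) (q : Ideal B) [hqp : q.IsPrime] [IsLocalization.AtPrime L q]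
    (hq : q ∈ (Submodule.span B {b}).annihilator.minimalPrimes) :
    algebraMap B L b ≠ 0 ∧ ∀ t ∈ IsLocalRing.maximalIdeal L, ¬ IsSMulRegular L t := by
  obtain ⟨⟨-, hIq⟩, hqmin⟩ := hq
  have hb' : algebraMap B L b ≠ 0 := by
    intro h0
    obtain ⟨m, hm⟩ := (IsLocalization.map_eq_zero_iff q.primeCompl L b).mp h0
    have hmI : (m : B) ∈ (Submodule.span B {b}).annihilator := by
      rw [Submodule.mem_annihilator_span_singleton]
      exact hm
    exact m.2 (hIq hmI)
  refine ⟨hb', ?_⟩
  have hI'ne : (Submodule.span L {algebraMap B L b}).annihilator ≠ ⊤ := by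
    intro htop
    have h1 : (1 : L) ∈ (Submodule.span L {algebraMap B L b}).annihilator := by
      rw [htop]
      exact Submodule.mem_top
    rw [Submodule.mem_annihilator_span_singleton, one_smul] at h1
    exact hb' h1
  have hmin : IsLocalRing.maximalIdeal L ∈
      (Submodule.span L {algebraMap B L b}).annihilator.minimalPrimes := by
    refine ⟨⟨(IsLocalRing.maximalIdeal.isMaximal L).isPrime,
      IsLocalRing.le_maximalIdeal hI'ne⟩, ?_⟩
    rintro p' ⟨hp'prime, hI'p'⟩ hp'le
    have hIp : (Submodule.span B {b}).annihilator ≤ p'.comap (algebraMap B L) := by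
      intro a ha
      rw [Submodule.mem_annihilator_span_singleton] at ha
      rw [Ideal.mem_comap]
      apply hI'p'
      rw [Submodule.mem_annihilator_span_singleton, smul_eq_mul, ← map_mul]
      have hab : a * b = 0 := ha
      rw [hab, map_zero]
    have hpq : p'.comap (algebraMap B L) ≤ q := by
      intro a ha
      exact (IsLocalization.AtPrime.to_map_mem_maximal_iff L q a).mp
        (hp'le (Ideal.mem_comap.mp ha))
    haveI := hp'prime
    have hqp' : q ≤ p'.comap (algebraMap B L) := hqmin ⟨inferInstance, hIp⟩ hpq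
    rw [← IsLocalization.AtPrime.map_eq_maximalIdeal q L]
    exact (Ideal.map_mono hqp').trans Ideal.map_comap_le
  intro t ht hreg
  obtain ⟨y, hyI', hty⟩ := Ideal.exists_mul_mem_of_mem_minimalPrimes hmin ht
  rw [Submodule.mem_annihilator_span_singleton] at hyI' hty
  apply hyI'
  apply hreg
  change t • (y • algebraMap B L b) = t • (0 : L)
  rw [smul_zero, ← mul_smul]
  exact hty

open Groth.Agent.Helper8.Depth LocCoh in
set_option maxHeartbeats 1000000 in
/-- an open subset whose complement consists of points with local rings of depth `≥ 1` is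
schematically dense -/
theorem isSchematicallyDense_of_depth {P : Scheme.{u}} (U : P.Opens)
    (hU : ∀ x : P, x ∉ U →
      (1 : ℕ∞) ≤ LocCoh.depth ↑(P.presheaf.stalk x) ↑(P.presheaf.stalk x)) :
    CInt.IsSchematicallyDense U := by
  classical
  intro V
  refine (injective_iff_map_eq_zero
    (P.presheaf.map (homOfLE (inf_le_left : V ⊓ U ≤ V)).op).hom).mpr ?_
  intro f hf
  by_contra hne
  obtain ⟨x, hxV, hx⟩ : ∃ x, ∃ hxV : x ∈ V, (P.presheaf.germ V x hxV).hom f ≠ 0 := by
    by_contra hall
    push Not at hall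
    exact hne (TopCat.Presheaf.section_ext P.sheaf V f 0 (fun x hx => by
      rw [map_zero]
      exact hall x hx))
  obtain ⟨_, ⟨W, hW, rfl⟩, hxW, hWV⟩ :=
    P.isBasis_affineOpens.exists_subset_of_mem_open hxV V.isOpen
  have hWV' : W ≤ V := hWV
  obtain ⟨b, hbdef⟩ : ∃ b : Γ(P, W), b = (P.presheaf.map (homOfLE hWV').op).hom f := ⟨_, rfl⟩
  have hb : b ≠ 0 := by
    intro h0
    apply hx
    have e0 : (P.presheaf.germ W x hxW).hom b = (P.presheaf.germ V x hxV).hom f := by
      rw [hbdef]
      exact P.presheaf.germ_res_apply (homOfLE hWV') x hxW f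
    rw [← e0, h0, map_zero]
  have hIne : (Submodule.span Γ(P, W) {b}).annihilator ≠ ⊤ := by
    intro htop
    have h1 : (1 : Γ(P, W)) ∈ (Submodule.span Γ(P, W) {b}).annihilator := by
      rw [htop]
      exact Submodule.mem_top
    rw [Submodule.mem_annihilator_span_singleton, one_smul] at h1
    exact hb h1
  obtain ⟨M, hMmax, hIM⟩ := Ideal.exists_le_maximal _ hIne
  haveI := hMmax.isPrime
  obtain ⟨q, hq, -⟩ := Ideal.exists_minimalPrimes_le hIM
  haveI hqprime : q.IsPrime := hq.1.1
  obtain ⟨y, hydef⟩ : ∃ y : P, y = hW.fromSpec (⟨q, hqprime⟩ : PrimeSpectrum Γ(P, W)) :=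
    ⟨_, rfl⟩
  have hyW : y ∈ W := by
    have h1 : y ∈ Set.range hW.fromSpec := ⟨_, hydef.symm⟩
    rw [hW.range_fromSpec] at h1
    exact h1
  have hprime : hW.primeIdealOf ⟨y, hyW⟩ = ⟨q, hqprime⟩ := by
    apply hW.fromSpec.isOpenEmbedding.injective
    rw [hW.fromSpec_primeIdealOf ⟨y, hyW⟩]
    exact hydef
  letI alg := P.presheaf.algebra_section_stalk (⟨y, hyW⟩ : W)
  haveI loc : IsLocalization.AtPrime (P.presheaf.stalk y) q := by
    have h1 := hW.isLocalization_stalk ⟨y, hyW⟩
    rw [hprime] at h1
    exact h1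
  obtain ⟨hb', hzd⟩ := zero_divisors_of_minimalPrime (L := P.presheaf.stalk y) b q hq
  have hyU : y ∉ U := by
    intro hyU
    apply hb'
    change (P.presheaf.germ W y hyW).hom b = 0
    have e1 : (P.presheaf.germ W y hyW).hom b = (P.presheaf.germ V y (hWV' hyW)).hom f := by
      rw [hbdef]
      exact P.presheaf.germ_res_apply (homOfLE hWV') y hyW f
    have e2 : (P.presheaf.germ (V ⊓ U) y ⟨hWV' hyW, hyU⟩).hom
        ((P.presheaf.map (homOfLE (inf_le_left : V ⊓ U ≤ V)).op).hom f) =
        (P.presheaf.germ V y (hWV' hyW)).hom f :=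
      P.presheaf.germ_res_apply (homOfLE (inf_le_left : V ⊓ U ≤ V)) y ⟨hWV' hyW, hyU⟩ f
    rw [e1, ← e2, hf, map_zero]
  have hd : ((1 : ℕ) : ℕ∞) ≤ LocCoh.idealDepth (IsLocalRing.maximalIdeal (P.presheaf.stalk y))
      (P.presheaf.stalk y) := by
    have h1 := hU y hyU
    rw [Nat.cast_one]
    exact h1
  have hne' : IsLocalRing.maximalIdeal (P.presheaf.stalk y) •
      (⊤ : Submodule (P.presheaf.stalk y) (P.presheaf.stalk y)) ≠ ⊤ := by
    rw [smul_eq_mul, Ideal.mul_top]
    exact (IsLocalRing.maximalIdeal.isMaximal _).ne_top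
  obtain ⟨rs, hlen, hw, hmem⟩ := (le_idealDepth_iff hne' 1).mp hd
  obtain ⟨t, rfl⟩ := List.length_eq_one_iff.mp hlen
  have ht : t ∈ IsLocalRing.maximalIdeal (P.presheaf.stalk y) :=
    hmem t (List.mem_singleton.mpr rfl)
  have hreg : IsSMulRegular (P.presheaf.stalk y) t :=
    ((RingTheory.Sequence.isWeaklyRegular_cons_iff _ t []).mp hw).1
  exact hzd t ht hreg

/-- big opens (complement of fibrewise codimension `≥ 2`, or just `≥ 1`) of the source of a smooth
morphism are schematically dense -/
theorem isSchematicallyDense_of_smooth {P S : Scheme.{u}} (π : P ⟶ S) [Smooth π] (U : P.Opens)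
    (hU : ∀ x : P, x ∉ U → (2 : WithBot ℕ∞) ≤ ringKrullDim ↑(CInt.fiberStalk π x)) :
    CInt.IsSchematicallyDense U := by
  apply isSchematicallyDense_of_depth
  intro x hxU
  have h := le_depth_stalk_of_smooth π x 2 (by exact_mod_cast hU x hxU)
  have h2 : (2 : ℕ∞) ≤ LocCoh.depth ↑(P.presheaf.stalk x) ↑(P.presheaf.stalk x) := by
    exact_mod_cast h
  exact le_trans one_le_two h2

end Groth.Agent.Helper8.SmDepth
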