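import Mathlib
import Groth.Agent.Lib.Helper8.SmDepth2
import Groth.Agent.Lib.Helper8.Depth14

/-!
# Universal schematic density is a fibrewise condition for flat morphisms locally of finite
presentation (S4871)
-/

set_option autoImplicit false
set_option backward.isDefEq.respectTransparency.types false
set_option synthInstance.maxHeartbeats 400000
set_option linter.style.haveILetI false
universe u

open AlgebraicGeometry CategoryTheory CategoryTheory.Limits TopologicalSpace RingTheory.Sequence

namespace Groth.Agent.Helper8.SmDepth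

open Groth.Agent.Helper8.Depth LocCoh IsLocalRing

/-- In a localization `L = B_q` of a Noetherian ring all of whose maximal-ideal elements are zero
divisors, there is `b : B` with nonzero image in `L` killed by `q`. -/
theorem exists_killed_by_prime {B L : Type u} [CommRing B] [IsNoetherianRing B] [CommRing L]
    [Algebra B L] [IsLocalRing L] (q : Ideal B) [q.IsPrime] [IsLocalization.AtPrime L q]
    (h : ∀ t ∈ maximalIdeal L, ¬ IsSMulRegular L t) :
    ∃ b : B, algebraMap B L b ≠ 0 ∧ ∀ a ∈ q, a * b = 0 := by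
  haveI : IsNoetherianRing L := IsLocalization.isNoetherianRing q.primeCompl L inferInstance
  obtain ⟨p, hp, hmp⟩ := exists_le_associatedPrime_of_forall_not_isSMulRegular (M := L)
    (maximalIdeal L) h
  have hpm : p = maximalIdeal L :=
    ((maximalIdeal.isMaximal L).eq_of_le hp.isPrime.ne_top hmp).symm
  rw [hpm] at hp
  have hfg : ((maximalIdeal L).comap (algebraMap B L)).FG :=
    (isNoetherianRing_iff_ideal_fg B).mp inferInstance _
  have hass :=
    Module.associatedPrimes.comap_mem_associatedPrimes_of_mem_associatedPrimes_of_isLocalizedModule_of_fg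
      q.primeCompl (Algebra.linearMap B L) (maximalIdeal L) hp hfg
  have hq : (maximalIdeal L).comap (algebraMap B L) = q :=
    IsLocalization.AtPrime.under_maximalIdeal L q
  rw [hq] at hass
  obtain ⟨-, b, hb⟩ := isAssociatedPrime_iff.mp hass
  refine ⟨b, ?_, ?_⟩
  · intro h0
    obtain ⟨m, hm⟩ := (IsLocalization.map_eq_zero_iff q.primeCompl L b).mp h0
    have h1 : (m : B) ∈ (⊥ : Submodule B B).colon {b} := by
      rw [Submodule.mem_colon_singleton, Submodule.mem_bot]
      exact hm
    exact m.2 ((SetLike.ext_iff.mp hb (m : B)).mpr h1)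
  · intro a ha
    rw [hb, Submodule.mem_colon_singleton, Submodule.mem_bot] at ha
    exact ha

set_option maxHeartbeats 1000000 in
/-- on a locally Noetherian scheme, the points outside a schematically dense open have local
rings of depth `≥ 1` -/
theorem one_le_depth_of_isSchematicallyDense {X : Scheme.{u}} [IsLocallyNoetherian X]
    (U : X.Opens) (hU : CInt.IsSchematicallyDense U) (x : X) (hx : x ∉ U) :
    (1 : ℕ∞) ≤ LocCoh.depth ↑(X.presheaf.stalk x) ↑(X.presheaf.stalk x) := by
  classical
  by_contra hcon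
  have hzd : ∀ t ∈ maximalIdeal (X.presheaf.stalk x),
      ¬ IsSMulRegular (X.presheaf.stalk x) t := by
    intro t ht hreg
    apply hcon
    have hw : IsWeaklyRegular (X.presheaf.stalk x) [t] :=
      IsWeaklyRegular.cons hreg (IsWeaklyRegular.nil _ _)
    have h1 := length_le_idealDepth (I := maximalIdeal (X.presheaf.stalk x)) hw (by
      intro r hr
      rw [List.mem_singleton] at hr
      rw [hr]
      exact ht)
    have h2 : ((1 : ℕ) : ℕ∞) ≤ LocCoh.idealDepth (maximalIdeal (X.presheaf.stalk x))
        (X.presheaf.stalk x) := h1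
    rw [Nat.cast_one] at h2
    exact h2
  obtain ⟨_, ⟨W, hW, rfl⟩, hxW, -⟩ :=
    X.isBasis_affineOpens.exists_subset_of_mem_open (Set.mem_univ x) isOpen_univ
  haveI : IsNoetherianRing Γ(X, W) := IsLocallyNoetherian.component_noetherian ⟨W, hW⟩
  letI alg := X.presheaf.algebra_section_stalk (⟨x, hxW⟩ : W)
  haveI loc := hW.isLocalization_stalk ⟨x, hxW⟩
  obtain ⟨b, hb0, hkill⟩ := exists_killed_by_prime (L := X.presheaf.stalk x)
    (hW.primeIdealOf ⟨x, hxW⟩).asIdeal hzd
  have hres : (X.presheaf.map (homOfLE (inf_le_left : W ⊓ U ≤ W)).op).hom b = 0 := by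
    apply TopCat.Presheaf.section_ext X.sheaf (W ⊓ U) _ 0
    intro y hy
    rw [map_zero]
    have e : (X.presheaf.germ (W ⊓ U) y hy).hom
        ((X.presheaf.map (homOfLE (inf_le_left : W ⊓ U ≤ W)).op).hom b) =
        (X.presheaf.germ W y hy.1).hom b :=
      X.presheaf.germ_res_apply (homOfLE (inf_le_left : W ⊓ U ≤ W)) y hy b
    refine e.trans ?_
    have hnle : ¬ (hW.primeIdealOf ⟨x, hxW⟩).asIdeal ≤ (hW.primeIdealOf ⟨y, hy.1⟩).asIdeal := by
      intro hle
      have hsp : hW.primeIdealOf ⟨x, hxW⟩ ⤳ hW.primeIdealOf ⟨y, hy.1⟩ :=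
        (PrimeSpectrum.le_iff_specializes _ _).mp hle
      have hsp' := hsp.map hW.fromSpec.continuous
      rw [hW.fromSpec_primeIdealOf ⟨x, hxW⟩, hW.fromSpec_primeIdealOf ⟨y, hy.1⟩] at hsp'
      exact hx (hsp'.mem_open U.isOpen hy.2)
    obtain ⟨a, hax, hay⟩ := SetLike.not_le_iff_exists.mp hnle
    letI algy := X.presheaf.algebra_section_stalk (⟨y, hy.1⟩ : W)
    haveI locy := hW.isLocalization_stalk ⟨y, hy.1⟩
    have hunit : IsUnit (algebraMap Γ(X, W) (X.presheaf.stalk y) a) :=
      IsLocalization.map_units (X.presheaf.stalk y)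
        (⟨a, hay⟩ : (hW.primeIdealOf ⟨y, hy.1⟩).asIdeal.primeCompl)
    have h0 : algebraMap Γ(X, W) (X.presheaf.stalk y) a *
        algebraMap Γ(X, W) (X.presheaf.stalk y) b = 0 := by
      rw [← map_mul, hkill a hax, map_zero]
    exact hunit.mul_right_eq_zero.mp h0
  have hb : b = 0 := by
    apply hU W
    rw [map_zero]
    exact hres
  exact hb0 (by rw [hb, map_zero])

/-- flat local homomorphisms preserve `depth ≥ 1` -/
theorem one_le_depth_of_flat_local {A B : Type u} [CommRing A] [CommRing B] [IsLocalRing A]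
    [IsLocalRing B] (φ : A →+* B) (hflat : φ.Flat) [IsLocalHom φ]
    (h : (1 : ℕ∞) ≤ LocCoh.depth A A) : (1 : ℕ∞) ≤ LocCoh.depth B B := by
  letI := φ.toAlgebra
  haveI : Module.Flat A B := hflat
  have hne : maximalIdeal A • (⊤ : Submodule A A) ≠ ⊤ := by
    rw [smul_eq_mul, Ideal.mul_top]
    exact Ideal.IsPrime.ne_top'
  obtain ⟨rs, hlen, hreg, hmem⟩ := (le_idealDepth_iff hne 1).1 (by rw [Nat.cast_one]; exact h)
  have hreg' : IsWeaklyRegular B (rs.map (algebraMap A B)) := hreg.of_flat
  have hmem' : ∀ r ∈ rs.map (algebraMap A B), r ∈ maximalIdeal B := by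
    intro r hr
    obtain ⟨r0, hr0, rfl⟩ := List.mem_map.mp hr
    have := hmem r0 hr0
    rw [mem_maximalIdeal, mem_nonunits_iff] at this ⊢
    exact fun hu => this (isUnit_of_map_unit φ r0 hu)
  have h1 := length_le_idealDepth (I := maximalIdeal B) (M := B) hreg' hmem'
  rw [List.length_map, hlen, Nat.cast_one] at h1
  exact h1

/-- depth of the fibre local ring bounds the depth of the local ring from below (flat, l.f.p.) -/
theorem le_depth_of_presentation_of_depth {P S : Scheme.{u}} (π : P ⟶ S) [Flat π]
    [LocallyOfFinitePresentation π] (x : P) {F : Type u} [CommRing F] [IsLocalRing F]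
    (γ : P.presheaf.stalk x →+* F) (hγ : Function.Surjective γ)
    (hkerγ : RingHom.ker γ = Ideal.map (π.stalkMap x).hom
      (maximalIdeal (S.presheaf.stalk (π x))))
    (n : ℕ) (hn : (n : ℕ∞) ≤ LocCoh.depth F F) :
    (n : ℕ∞) ≤ LocCoh.depth ↑(P.presheaf.stalk x) ↑(P.presheaf.stalk x) := by
  classical
  have hne : maximalIdeal F • (⊤ : Submodule F F) ≠ ⊤ := by
    rw [smul_eq_mul, Ideal.mul_top]
    exact Ideal.IsPrime.ne_top'
  obtain ⟨rs, hlen, hw, hmem⟩ := (le_idealDepth_iff hne n).mp hn
  have htb : IsRegular F rs := IsRegular.of_isWeaklyRegular_of_mem_maximalIdeal F hmem hw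
  obtain ⟨t, httb, hwt⟩ := exists_weaklyRegular_stalk_of_fibre π x γ hγ hkerγ rs htb
  have hlen' : t.length = n := by
    have h1 := congrArg List.length httb
    rw [List.length_map, hlen] at h1
    exact h1
  have hmemt : ∀ r ∈ t, r ∈ maximalIdeal (P.presheaf.stalk x) := by
    intro r hr
    by_contra hunit
    have hu : IsUnit r := IsLocalRing.notMem_maximalIdeal.mp hunit
    have h1 : γ r ∈ rs := by
      rw [← httb]
      exact List.mem_map_of_mem hr
    exact (IsLocalRing.mem_maximalIdeal _).mp (hmem _ h1) (hu.map γ)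
  have h2 := length_le_idealDepth (I := maximalIdeal (P.presheaf.stalk x)) hwt hmemt
  rw [hlen'] at h2
  exact h2

theorem flat_SpecMap_of_field' {K L : CommRingCat.{u}} (hK : IsField K) (φ : K ⟶ L) :
    Flat (Spec.map φ) := by
  rw [HasRingHomProperty.Spec_iff (P := @Flat)]
  letI := hK.toField
  algebraize [φ.hom]
  show Module.Flat K L
  infer_instance

/-- The comparison morphism of fibres under base change, with its compatibility (as in helper7's
`FibLN.exists_cmp'`). -/
theorem exists_cmp {X S S' : Scheme.{u}} (f : X ⟶ S) (g : S' ⟶ S) (s' : S') :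
    ∃ c : (pullback.snd f g).fiber s' ⟶ f.fiber (g.base s'),
      IsPullback c ((pullback.snd f g).fiberToSpecResidueField s')
        (f.fiberToSpecResidueField (g.base s')) (Spec.map (g.residueFieldMap s')) ∧
      c ≫ f.fiberι (g.base s') = (pullback.snd f g).fiberι s' ≫ pullback.fst f g :=
  ⟨_, isPullback_fiberToSpecResidueField_of_isPullback (IsPullback.of_hasPullback f g) s',
    pullback.lift_fst _ _ _⟩

set_option maxHeartbeats 1000000 in
theorem one_le_depth_bc {X S S' : Scheme.{u}} (f : X ⟶ S) [Flat f]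
    [LocallyOfFinitePresentation f] (g : S' ⟶ S) (U : X.Opens)
    (hB : ∀ s : S, CInt.IsSchematicallyDense ((f.fiberι s) ⁻¹ᵁ U)) (x' : ↥(pullback f g))
    (hx' : x' ∉ (pullback.fst f g) ⁻¹ᵁ U) :
    (1 : ℕ∞) ≤ LocCoh.depth ↑((pullback f g).presheaf.stalk x')
      ↑((pullback f g).presheaf.stalk x') := by
  classical
  haveI : Flat (pullback.snd f g) := MorphismProperty.pullback_snd _ _ inferInstance
  haveI : LocallyOfFinitePresentation (pullback.snd f g) :=
    MorphismProperty.pullback_snd _ _ inferInstance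
  obtain ⟨c, hc, hcomm⟩ := exists_cmp f g ((pullback.snd f g).base x')
  haveI : Flat c := MorphismProperty.of_isPullback (P := @Flat) hc.flip
    (flat_SpecMap_of_field' (Field.toIsField _) _)
  haveI : LocallyOfFiniteType (f.fiberToSpecResidueField (g.base ((pullback.snd f g).base x'))) :=
    MorphismProperty.pullback_snd _ _ inferInstance
  haveI : IsLocallyNoetherian (f.fiber (g.base ((pullback.snd f g).base x'))) :=
    LocallyOfFiniteType.isLocallyNoetherian
      (f.fiberToSpecResidueField (g.base ((pullback.snd f g).base x')))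
  have e1 : f.fiberι (g.base ((pullback.snd f g).base x'))
      (c.base ((pullback.snd f g).asFiber x')) = (pullback.fst f g).base x' := by
    have := congrArg (fun k => k.base ((pullback.snd f g).asFiber x')) hcomm
    simp only [Scheme.Hom.comp_base, TopCat.comp_app] at this
    rw [this, (pullback.snd f g).fiberι_asFiber]
  have hcx : c.base ((pullback.snd f g).asFiber x') ∉
      (f.fiberι (g.base ((pullback.snd f g).base x'))) ⁻¹ᵁ U := by
    intro hmem
    apply hx'
    change (pullback.fst f g).base x' ∈ U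
    rw [← e1]
    exact hmem
  have hd1 := one_le_depth_of_isSchematicallyDense _
    (hB (g.base ((pullback.snd f g).base x'))) (c.base ((pullback.snd f g).asFiber x')) hcx
  have hd2 := one_le_depth_of_flat_local (c.stalkMap ((pullback.snd f g).asFiber x')).hom
    (Flat.stalkMap c _) hd1
  obtain ⟨γ, hγ, hkγ⟩ :=
    Groth.Agent.Helper3.FibStalk.exists_fibre_presentation (pullback.snd f g) x'
  have h3 := le_depth_of_presentation_of_depth (pullback.snd f g) x' γ hγ hkγ 1
    (by rw [Nat.cast_one]; exact hd2)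
  rw [Nat.cast_one] at h3
  exact h3

theorem S4871_main {X S : Scheme.{u}} (f : X ⟶ S) [Flat f] [LocallyOfFinitePresentation f]
    (U : X.Opens) :
    (∀ (S' : Scheme.{u}) (g : S' ⟶ S),
        CInt.IsSchematicallyDense ((pullback.fst f g) ⁻¹ᵁ U)) ↔
      ∀ s : S, CInt.IsSchematicallyDense ((f.fiberι s) ⁻¹ᵁ U) := by
  constructor
  · intro hA s
    exact hA _ (S.fromSpecResidueField s)
  · intro hB S' g
    apply isSchematicallyDense_of_depth
    intro x' hx'
    exact one_le_depth_bc f g U hB x' hx'

end Groth.Agent.Helper8.SmDepth
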