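import Mathlib
import Groth.Prelude.Def_CAlgX
import Groth.Prelude.Def_CInt
import Groth.Agent.Lib.Helper1.LocalCrit
import Groth.Agent.Lib.Helper8.AdicFS1
import Groth.Agent.Lib.Helper8.AdicFS6
import Groth.Agent.Lib.Helper8.AdicFS7
import Groth.Agent.Lib.Helper8.AdicFS9
import Groth.Agent.Lib.Helper8.AdicFS13
import Groth.Agent.Lib.Helper8.AdicFS16
import Groth.Agent.Lib.Helper8.Cartier1
import Groth.Agent.Lib.Helper8.Cartier3
import Groth.Agent.Lib.Helper8.RegSec1
import Groth.Agent.Lib.Helper8.FlatReg1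
import Groth.Agent.Lib.Helper8.FlatReg2
import Groth.Agent.Lib.Helper8.RegularLocal5

/-!
# Smooth closed subschemes and regular ideals: the algebra

`A → B → C = B/K` local homomorphisms of Noetherian local rings with `C` formally smooth over `A`
(for the adic topology).  Then `B` is formally smooth over `A` iff `K` is generated by a regular
sequence.
-/

set_option autoImplicit false

universe u v

namespace Groth.Agent.Helper8.SmSub

open IsLocalRing CAlgX RingTheory.Sequence Pointwise TensorProduct KaehlerDifferential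

theorem ofList_ofFn {R : Type*} [CommRing R] {n : ℕ} (t : Fin n → R) :
    Ideal.ofList (List.ofFn t) = Ideal.span (Set.range t) := by
  unfold Ideal.ofList
  congr 1
  ext x
  simp [List.mem_ofFn]

section Fibre

variable {A : Type*} {B : Type*} [CommRing A] [CommRing B] [Algebra A B] [IsLocalRing A]

/-- If `f` is `M`-regular and `M/fM` is flat over `A`, then `f` is regular on the closed fibre
of `M`. -/
theorem isSMulRegular_fibre_of_flat (M : Type*) [AddCommGroup M] [Module B M] [Module A M]
    [IsScalarTower A B M] (f : B) (hf : IsSMulRegular M f) [Module.Flat A (QuotSMulTop f M)] :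
    IsSMulRegular (M ⧸ ((maximalIdeal A).map (algebraMap A B) • (⊤ : Submodule B M))) f := by
  let u : M →ₗ[A] M := (LinearMap.lsmul B M f).restrictScalars A
  have hu : ∀ x, u x = f • x := fun x => rfl
  let N' : Submodule B M := (maximalIdeal A).map (algebraMap A B) • ⊤
  have hN' : N'.restrictScalars A = maximalIdeal A • (⊤ : Submodule A M) := by
    rw [Ideal.smul_restrictScalars, Submodule.restrictScalars_top]
  let q : M →ₗ[A] QuotSMulTop f M :=
    (Submodule.mkQ (f • (⊤ : Submodule B M))).restrictScalars A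
  have hq : Function.Surjective q := Submodule.mkQ_surjective _
  have hex : Function.Exact u q := by
    intro y
    constructor
    · intro hy
      have hy' : y ∈ f • (⊤ : Submodule B M) := (Submodule.Quotient.mk_eq_zero _).mp hy
      rw [Submodule.mem_smul_pointwise_iff_exists] at hy'
      obtain ⟨x, -, rfl⟩ := hy'
      exact ⟨x, rfl⟩
    · rintro ⟨x, rfl⟩
      exact (Submodule.Quotient.mk_eq_zero _).mpr
        (Submodule.smul_mem_pointwise_smul x f ⊤ Submodule.mem_top)
  have h : Function.Injective (u.lTensor (ResidueField A)) :=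
    LinearMap.lTensor_injective_of_exact_of_flat q hq u (fun a b hab => hf hab) hex
      (ResidueField A)
  rw [Groth.Agent.Helper1.LocalCrit.lTensor_residueField_injective_iff] at h
  have key : ∀ x : M, f • x ∈ N' → x ∈ N' := by
    intro x hx
    have hx' : u x ∈ maximalIdeal A • (⊤ : Submodule A M) := by
      rw [← hN']
      exact hx
    have h2 := h x hx'
    rw [← hN'] at h2
    exact h2
  intro a b hab
  obtain ⟨a, rfl⟩ := Submodule.Quotient.mk_surjective N' a
  obtain ⟨b, rfl⟩ := Submodule.Quotient.mk_surjective N' b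
  have hab' : f • (Submodule.Quotient.mk a : M ⧸ N') = f • (Submodule.Quotient.mk b : M ⧸ N') :=
    hab
  have h1 : f • (a - b) ∈ N' := by
    rw [← Submodule.Quotient.mk_eq_zero, Submodule.Quotient.mk_smul, Submodule.Quotient.mk_sub,
      smul_sub, sub_eq_zero]
    exact hab'
  have h2 := key _ h1
  rw [← sub_eq_zero, ← Submodule.Quotient.mk_sub, Submodule.Quotient.mk_eq_zero]
  exact h2

variable [IsNoetherianRing B] [IsLocalRing B]

/-- A regular sequence with flat quotient stays regular on the closed fibre. -/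
theorem isWeaklyRegular_fibre_of_flat (fs : List B) (hfs : ∀ f ∈ fs, f ∈ maximalIdeal B) :
    ∀ (M : Type v) [AddCommGroup M] [Module B M] [Module A M] [IsScalarTower A B M]
      [Module.Finite B M] (_ : IsWeaklyRegular M fs)
      (_ : Module.Flat A (M ⧸ (Ideal.ofList fs • (⊤ : Submodule B M)))),
      IsWeaklyRegular (M ⧸ ((maximalIdeal A).map (algebraMap A B) • (⊤ : Submodule B M))) fs := by
  induction fs with
  | nil =>
    intro M _ _ _ _ _ _ _
    exact IsWeaklyRegular.nil B _
  | cons f rs ih =>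
    intro M _ _ _ _ _ hreg hflat
    rw [isWeaklyRegular_cons_iff] at hreg
    have hrs : ∀ g ∈ rs, g ∈ maximalIdeal B := fun g hg => hfs g (List.mem_cons_of_mem _ hg)
    have hjac : ∀ g ∈ rs, g ∈ Ideal.jacobson (⊥ : Ideal B) := by
      intro g hg
      rw [IsLocalRing.jacobson_eq_maximalIdeal ⊥ bot_ne_top]
      exact hrs g hg
    have hflat' : Module.Flat A
        (QuotSMulTop f M ⧸ (Ideal.ofList rs • (⊤ : Submodule B (QuotSMulTop f M)))) :=
      FlatReg.flat_of_linearEquiv (A := A)
        (Submodule.quotOfListConsSMulTopEquivQuotSMulTopInner M f rs).symm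
    haveI hflatq : Module.Flat A (QuotSMulTop f M) :=
      FlatReg.flat_of_isWeaklyRegular_of_flat_quotient (A := A) rs hjac (QuotSMulTop f M)
        hreg.2 hflat'
    have h1 := isSMulRegular_fibre_of_flat (A := A) M f hreg.1
    have h2 := ih hrs (QuotSMulTop f M) hreg.2 hflat'
    rw [isWeaklyRegular_cons_iff]
    exact ⟨h1, (LinearEquiv.isWeaklyRegular_congr (FlatReg.quotSwap M f _) rs).mp h2⟩

end Fibre

/-- The kernel of a map between quotients induced by a surjection. -/
theorem ker_eq_of_spec {R S : Type*} [CommRing R] [CommRing S] (f : R →+* S)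
    (hf : Function.Surjective f) (I : Ideal R) (J : Ideal S) (hJ : J ≤ I.map f)
    {F : Type*} [FunLike F (R ⧸ I) (S ⧸ J)] [RingHomClass F (R ⧸ I) (S ⧸ J)] (ρ : F)
    (hρ : ∀ b, ρ (Ideal.Quotient.mk I b) = Ideal.Quotient.mk J (f b)) :
    RingHom.ker ρ = (RingHom.ker f).map (Ideal.Quotient.mk I) := by
  apply le_antisymm
  · intro x hx
    obtain ⟨b, rfl⟩ := Ideal.Quotient.mk_surjective x
    rw [RingHom.mem_ker, hρ, Ideal.Quotient.eq_zero_iff_mem] at hx
    obtain ⟨b', hb', hbb'⟩ := (Ideal.mem_map_iff_of_surjective f hf).mp (hJ hx)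
    have h1 : b - b' ∈ RingHom.ker f := by
      rw [RingHom.mem_ker, map_sub, hbb', sub_self]
    have h2 : Ideal.Quotient.mk I b = Ideal.Quotient.mk I (b - b') := by
      rw [map_sub, Ideal.Quotient.eq_zero_iff_mem.mpr hb', sub_zero]
    rw [h2]
    exact Ideal.mem_map_of_mem _ h1
  · rw [Ideal.map_le_iff_le_comap]
    intro b hb
    rw [Ideal.mem_comap, RingHom.mem_ker, hρ, RingHom.mem_ker.mp hb, map_zero]

section Deriv

variable {R A : Type u} [CommRing R] [CommRing A] [IsLocalRing A] [Algebra R A]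

/-- If every derivation of `R` into the residue field of `A` extends to `A`, the map
`K ⊗ Ω_R → K ⊗ Ω_A` is injective. -/
theorem injective_of_derivation_extension
    (hext : ∀ d : Derivation ℤ R (ResidueField A),
      ∃ d' : Derivation ℤ A (ResidueField A), ∀ x : R, d' (algebraMap R A x) = d x) :
    Function.Injective ((KaehlerDifferential.mapBaseChange ℤ R A).lTensor (ResidueField A)) := by
  rw [injective_iff_map_eq_zero]
  intro z hz
  rw [← Module.forall_dual_apply_eq_zero_iff (ResidueField A)]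
  intro l
  let f₀ : Ω[R⁄ℤ] →ₗ[R] ResidueField A :=
    ((l.restrictScalars A) ∘ₗ
      (TensorProduct.mk A (ResidueField A) (A ⊗[R] Ω[R⁄ℤ]) 1)).restrictScalars R ∘ₗ
      (TensorProduct.mk R A Ω[R⁄ℤ] 1)
  have hf₀ : ∀ ω, f₀ ω = l ((1 : ResidueField A) ⊗ₜ[A] ((1 : A) ⊗ₜ[R] ω)) := fun ω => rfl
  obtain ⟨d', hd'⟩ := hext (f₀.compDer (D ℤ R))
  let μ : ResidueField A ⊗[A] Ω[A⁄ℤ] →ₗ[ResidueField A] ResidueField A :=
    LinearMap.liftBaseChange (ResidueField A) d'.liftKaehlerDifferential
  have key : l = μ ∘ₗ (LinearMap.baseChange (ResidueField A)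
      (KaehlerDifferential.mapBaseChange ℤ R A)) := by
    apply Cartier.linearMap_ext_of_D
    intro x
    rw [LinearMap.comp_apply, LinearMap.baseChange_tmul, KaehlerDifferential.mapBaseChange_tmul,
      one_smul, KaehlerDifferential.map_D]
    show _ = LinearMap.liftBaseChange (ResidueField A) d'.liftKaehlerDifferential _
    rw [LinearMap.liftBaseChange_tmul, one_smul, Derivation.liftKaehlerDifferential_comp_D, hd']
    rfl
  have hz' : LinearMap.baseChange (ResidueField A) (KaehlerDifferential.mapBaseChange ℤ R A) z =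
      0 := hz
  rw [key, LinearMap.comp_apply, hz', map_zero]

end Deriv

/-- Derivations of the base into the residue field extend to `R` as soon as `R/J` is formally
smooth. -/
theorem exists_derivation_extension_of_quotient {k R : Type u} [CommRing k] [CommRing R]
    [IsLocalRing R] [Algebra k R] (J : Ideal R) [IsLocalRing (R ⧸ J)]
    (h : IsAdicFormallySmooth k (R ⧸ J) (maximalIdeal (R ⧸ J)))
    (d : Derivation ℤ k (ResidueField R)) :
    ∃ d' : Derivation ℤ R (ResidueField R), ∀ x : k, d' (algebraMap k R x) = d x := by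
  classical
  haveI hloc : IsLocalHom (Ideal.Quotient.mk J) :=
    IsLocalHom.of_surjective (Ideal.Quotient.mk J) Ideal.Quotient.mk_surjective
  let ε : ResidueField R →+* ResidueField (R ⧸ J) :=
    IsLocalRing.ResidueField.map (Ideal.Quotient.mk J)
  have hε : ∀ a : R, ε (residue R a) = residue (R ⧸ J) (Ideal.Quotient.mk J a) :=
    fun a => IsLocalRing.ResidueField.map_residue (Ideal.Quotient.mk J) a
  have hεsurj : Function.Surjective ε := by
    intro y
    obtain ⟨r', rfl⟩ := IsLocalRing.residue_surjective y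
    obtain ⟨r, rfl⟩ := Ideal.Quotient.mk_surjective r'
    exact ⟨residue R r, hε r⟩
  let e : ResidueField R ≃+* ResidueField (R ⧸ J) :=
    RingEquiv.ofBijective ε ⟨ε.injective, hεsurj⟩
  have he : ∀ c, e c = ε c := fun c => rfl
  have hsk : ∀ (c : k) (y : ResidueField R), c • y = residue R (algebraMap k R c) * y := by
    intro c y
    rw [Algebra.smul_def]
    rfl
  have hsk' : ∀ (c : k) (y : ResidueField (R ⧸ J)),
      c • y = residue (R ⧸ J) (Ideal.Quotient.mk J (algebraMap k R c)) * y := by
    intro c y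
    rw [Algebra.smul_def]
    rfl
  have hsR : ∀ (a : R) (y : ResidueField R), a • y = residue R a * y := by
    intro a y
    rw [Algebra.smul_def]
    rfl
  have hsR' : ∀ (a : R ⧸ J) (y : ResidueField (R ⧸ J)), a • y = residue (R ⧸ J) a * y := by
    intro a y
    rw [Algebra.smul_def]
    rfl
  let el : ResidueField R →ₗ[k] ResidueField (R ⧸ J) :=
    { toFun := fun c => ε c
      map_add' := fun a b => map_add ε a b
      map_smul' := by
        intro c y
        show ε (c • y) = c • ε y
        rw [hsk, hsk', map_mul, hε] }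
  let d₁ : Derivation ℤ k (ResidueField (R ⧸ J)) := el.compDer d
  have hd₁ : ∀ c, d₁ c = ε (d c) := fun c => rfl
  obtain ⟨d₁', hd₁'⟩ := Cartier.exists_derivation_extension h d₁
  let g₀ : R →+ ResidueField R :=
    AddMonoidHom.mk' (fun a => e.symm (d₁' (Ideal.Quotient.mk J a)))
      (fun a b => by simp only [map_add])
  have hg₀ : ∀ a, g₀ a = e.symm (d₁' (Ideal.Quotient.mk J a)) := fun a => rfl
  have hesymm : ∀ a : R, e.symm (residue (R ⧸ J) (Ideal.Quotient.mk J a)) = residue R a := by
    intro a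
    rw [RingEquiv.symm_apply_eq, he, hε]
  have hleib : ∀ a b : R, g₀.toIntLinearMap (a * b) =
      a • g₀.toIntLinearMap b + b • g₀.toIntLinearMap a := by
    intro a b
    show g₀ (a * b) = a • g₀ b + b • g₀ a
    rw [hg₀, hg₀, hg₀, map_mul, Derivation.leibniz, map_add, hsR', hsR', map_mul, map_mul,
      hesymm, hesymm, hsR, hsR]
  refine ⟨Derivation.mk' g₀.toIntLinearMap hleib, fun c => ?_⟩
  show e.symm (d₁' (Ideal.Quotient.mk J (algebraMap k R c))) = d c
  rw [RingEquiv.symm_apply_eq, he, ← hd₁]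
  exact hd₁' c

/-- The case of a base field: a Noetherian local `k`-algebra whose quotient by a regular sequence
is formally smooth over `k` is formally smooth over `k`. -/
theorem field_case {k R : Type u} [Field k] [CommRing R] [IsLocalRing R] [IsNoetherianRing R]
    [Algebra k R] (J : Ideal R) [IsLocalRing (R ⧸ J)]
    (hJ : ∃ rs : List R, RingTheory.Sequence.IsRegular R rs ∧ Ideal.ofList rs = J)
    (h : IsAdicFormallySmooth k (R ⧸ J) (maximalIdeal (R ⧸ J))) :
    IsAdicFormallySmooth k R (maximalIdeal R) := by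
  haveI : IsRegularLocalRing (R ⧸ J) := (AdicFS.regular_and_ringEquiv h).1
  have hreg : IsRegularLocalRing R := (RLR.isRegularLocalRing_iff_of_quotient R J).mpr hJ
  rw [Cartier.isAdicFormallySmooth_iff_regular_and_injective]
  exact ⟨hreg, injective_of_derivation_extension
    (fun d => exists_derivation_extension_of_quotient J h d)⟩

section Core

variable {A B C : Type u} [CommRing A] [CommRing B] [CommRing C] [IsLocalRing A] [IsLocalRing B]
  [IsLocalRing C] [IsNoetherianRing A] [IsNoetherianRing B] [IsNoetherianRing C]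
  [Algebra A B] [Algebra B C] [Algebra A C] [IsScalarTower A B C]
  [IsLocalHom (algebraMap A B)] [IsLocalHom (algebraMap A C)]

local notation "𝔪B" => Ideal.map (algebraMap A B) (maximalIdeal A)
local notation "𝔪C" => Ideal.map (algebraMap A C) (maximalIdeal A)

/-- The algebraic core: with `C = B/K` formally smooth over `A`, the ring `B` is formally smooth
over `A` iff `K` is generated by a regular sequence. -/
theorem core (hsurj : Function.Surjective (algebraMap B C))
    (hC : IsAdicFormallySmooth A C (maximalIdeal C)) :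
    IsAdicFormallySmooth A B (maximalIdeal B) ↔
      CInt.IsRegularIdeal (RingHom.ker (algebraMap B C)) := by
  classical
  have hmBC : Ideal.map (algebraMap B C) 𝔪B = 𝔪C := by
    rw [Ideal.map_map, ← IsScalarTower.algebraMap_eq]
  have hBle : 𝔪B ≤ maximalIdeal B := AdicFS.map_maximalIdeal_le_of_isLocalHom (algebraMap A B)
  have hCle : 𝔪C ≤ maximalIdeal C := AdicFS.map_maximalIdeal_le_of_isLocalHom (algebraMap A C)
  haveI : Nontrivial (B ⧸ 𝔪B) := Ideal.Quotient.nontrivial_iff.2
    (ne_top_of_le_ne_top (maximalIdeal.isMaximal B).ne_top hBle)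
  haveI : IsLocalRing (B ⧸ 𝔪B) :=
    IsLocalRing.of_surjective' (Ideal.Quotient.mk 𝔪B) Ideal.Quotient.mk_surjective
  haveI : Nontrivial (C ⧸ 𝔪C) := Ideal.Quotient.nontrivial_iff.2
    (ne_top_of_le_ne_top (maximalIdeal.isMaximal C).ne_top hCle)
  haveI : IsLocalRing (C ⧸ 𝔪C) :=
    IsLocalRing.of_surjective' (Ideal.Quotient.mk 𝔪C) Ideal.Quotient.mk_surjective
  -- the map between the closed fibres
  have hle : 𝔪B ≤ Ideal.comap (algebraMap B C) 𝔪C := by
    rw [← Ideal.map_le_iff_le_comap, hmBC]
  obtain ⟨ρ, hρ⟩ : ∃ ρ : (B ⧸ 𝔪B) →ₐ[A ⧸ maximalIdeal A] (C ⧸ 𝔪C),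
      ∀ b : B, ρ (Ideal.Quotient.mk 𝔪B b) = Ideal.Quotient.mk 𝔪C (algebraMap B C b) := by
    refine ⟨{ toRingHom := Ideal.quotientMap 𝔪C (algebraMap B C) hle, commutes' := ?_ },
      fun b => ?_⟩
    · intro c
      obtain ⟨a, rfl⟩ := Ideal.Quotient.mk_surjective c
      change Ideal.quotientMap 𝔪C (algebraMap B C) hle
        (Ideal.Quotient.mk 𝔪B (algebraMap A B a)) = Ideal.Quotient.mk 𝔪C (algebraMap A C a)
      rw [Ideal.quotientMap_mk, ← IsScalarTower.algebraMap_apply]
    · show Ideal.quotientMap 𝔪C (algebraMap B C) hle (Ideal.Quotient.mk 𝔪B b) = _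
      exact Ideal.quotientMap_mk
  have hρsurj : Function.Surjective ρ := by
    intro y
    obtain ⟨c, rfl⟩ := Ideal.Quotient.mk_surjective y
    obtain ⟨b, rfl⟩ := hsurj c
    exact ⟨Ideal.Quotient.mk 𝔪B b, hρ b⟩
  have hρker : RingHom.ker ρ = (RingHom.ker (algebraMap B C)).map (Ideal.Quotient.mk 𝔪B) :=
    ker_eq_of_spec (algebraMap B C) hsurj 𝔪B 𝔪C hmBC.ge ρ hρ
  let e : ((B ⧸ 𝔪B) ⧸ RingHom.ker ρ) ≃ₐ[A ⧸ maximalIdeal A] (C ⧸ 𝔪C) :=
    Ideal.quotientKerAlgEquivOfSurjective hρsurj
  haveI : IsLocalRing ((B ⧸ 𝔪B) ⧸ RingHom.ker ρ) := e.symm.toRingEquiv.isLocalRing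
  -- flatness
  haveI hCflat : Module.Flat A C := AdicFS.flat_of_isAdicFormallySmooth hC
  have hKeq : RingHom.ker (IsScalarTower.toAlgHom A B C) = RingHom.ker (algebraMap B C) := by
    ext b
    exact Iff.rfl
  have hflatBK : Module.Flat A (B ⧸ RingHom.ker (algebraMap B C)) := by
    rw [← hKeq]
    exact Module.Flat.of_linearEquiv
      (Ideal.quotientKerAlgEquivOfSurjective (f := IsScalarTower.toAlgHom A B C)
        hsurj).toLinearEquiv
  have hKle : RingHom.ker (algebraMap B C) ≤ maximalIdeal B :=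
    IsLocalRing.le_maximalIdeal (RingHom.ker_ne_top (algebraMap B C))
  -- the closed fibre of `C`
  letI : Field (A ⧸ maximalIdeal A) := Ideal.Quotient.field _
  have hCb := AdicFS.quotient_base hC (maximalIdeal A)
  rw [IsLocalRing.map_maximalIdeal_of_surjective _ Ideal.Quotient.mk_surjective] at hCb
  constructor
  · intro hB
    haveI hBflat : Module.Flat A B := AdicFS.flat_of_isAdicFormallySmooth hB
    have hBb := AdicFS.quotient_base hB (maximalIdeal A)
    rw [IsLocalRing.map_maximalIdeal_of_surjective _ Ideal.Quotient.mk_surjective] at hBb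
    haveI : IsRegularLocalRing (B ⧸ 𝔪B) := (AdicFS.regular_and_ringEquiv hBb).1
    haveI : IsRegularLocalRing (C ⧸ 𝔪C) := (AdicFS.regular_and_ringEquiv hCb).1
    haveI : IsRegularLocalRing ((B ⧸ 𝔪B) ⧸ RingHom.ker ρ) :=
      IsRegularLocalRing.of_ringEquiv e.symm.toRingEquiv
    obtain ⟨rs, hrs, hrsJ⟩ :=
      (RLR.isRegularLocalRing_iff_of_quotient (B ⧸ 𝔪B) (RingHom.ker ρ)).mp inferInstance
    have hlift : ∀ i : Fin rs.length, ∃ t : B, t ∈ RingHom.ker (algebraMap B C) ∧
        Ideal.Quotient.mk 𝔪B t = rs.get i := by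
      intro i
      have hmem : rs.get i ∈ RingHom.ker ρ := by
        rw [← hrsJ]
        exact Ideal.subset_span (List.get_mem rs i)
      rw [hρker] at hmem
      exact (Ideal.mem_map_iff_of_surjective _ Ideal.Quotient.mk_surjective).mp hmem
    choose t htK htmk using hlift
    have hofFn : (List.ofFn fun i => Ideal.Quotient.mk 𝔪B (t i)) = rs := by
      have h1 : (fun i => Ideal.Quotient.mk 𝔪B (t i)) = rs.get := funext htmk
      rw [h1, List.ofFn_get]
    have hspan : Ideal.map (Ideal.Quotient.mk 𝔪B) (RingHom.ker (algebraMap B C)) =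
        Ideal.span (Set.range fun i => Ideal.Quotient.mk 𝔪B (t i)) := by
      rw [← hρker, ← hrsJ, ← ofList_ofFn, hofFn]
    obtain ⟨hw, hK⟩ := RegSec.fibre_criterion (A := A) (B := B) (RingHom.ker (algebraMap B C))
      hflatBK (Ideal.Quotient.mk 𝔪B) Ideal.Quotient.mk_surjective Ideal.mk_ker t htK
      (by rw [hofFn]; exact hrs.toIsWeaklyRegular) hspan
    refine ⟨List.ofFn t, ⟨hw, ?_⟩, ?_⟩
    · intro htop
      rw [smul_eq_mul, Ideal.mul_top, ofList_ofFn, ← hK] at htop
      exact RingHom.ker_ne_top (algebraMap B C) htop.symm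
    · rw [ofList_ofFn]
      exact hK.symm
  · rintro ⟨rs, hrs, hrsK⟩
    have hmem : ∀ g ∈ rs, g ∈ maximalIdeal B := by
      intro g hg
      apply hKle
      rw [← hrsK]
      exact Ideal.subset_span hg
    have hjac : ∀ g ∈ rs, g ∈ Ideal.jacobson (⊥ : Ideal B) := by
      intro g hg
      rw [IsLocalRing.jacobson_eq_maximalIdeal ⊥ bot_ne_top]
      exact hmem g hg
    have hflatq : Module.Flat A (B ⧸ (Ideal.ofList rs • (⊤ : Submodule B B))) := by
      haveI := hflatBK
      exact FlatReg.flat_of_linearEquiv (A := A) (B := B)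
        (Submodule.quotEquivOfEq (Ideal.ofList rs • (⊤ : Submodule B B))
          (RingHom.ker (algebraMap B C)) (by rw [smul_eq_mul, Ideal.mul_top, hrsK]))
    haveI hBflat : Module.Flat A B :=
      FlatReg.flat_of_isWeaklyRegular_of_flat_quotient (A := A) rs hjac B
        hrs.toIsWeaklyRegular hflatq
    refine AdicFS.of_flat_of_fibre_adic (maximalIdeal A) (maximalIdeal B) ?_ hBle
    rw [IsLocalRing.map_maximalIdeal_of_surjective _ Ideal.Quotient.mk_surjective]
    have hwfib := isWeaklyRegular_fibre_of_flat (A := A) rs hmem B hrs.toIsWeaklyRegular hflatq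
    have hwb : IsWeaklyRegular (B ⧸ 𝔪B) (rs.map (algebraMap B (B ⧸ 𝔪B))) := by
      rw [RingTheory.Sequence.isWeaklyRegular_map_algebraMap_iff]
      exact ((Submodule.quotEquivOfEq (𝔪B • (⊤ : Submodule B B)) 𝔪B
        (by rw [smul_eq_mul, Ideal.mul_top])).isWeaklyRegular_congr rs).mp hwfib
    have hJb : Ideal.ofList (rs.map (algebraMap B (B ⧸ 𝔪B))) = RingHom.ker ρ := by
      have h1 : Ideal.ofList (rs.map (algebraMap B (B ⧸ 𝔪B))) =
          Ideal.map (Ideal.Quotient.mk 𝔪B) (Ideal.ofList rs) :=
        (Ideal.map_ofList (Ideal.Quotient.mk 𝔪B) rs).symm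
      rw [h1, hrsK, hρker]
    refine field_case (RingHom.ker ρ) ⟨rs.map (algebraMap B (B ⧸ 𝔪B)), ⟨hwb, ?_⟩, hJb⟩ ?_
    · intro htop
      rw [smul_eq_mul, Ideal.mul_top, hJb] at htop
      have h1 : (1 : B ⧸ 𝔪B) ∈ RingHom.ker ρ := by
        rw [← htop]
        exact Submodule.mem_top
      rw [RingHom.mem_ker, map_one] at h1
      exact one_ne_zero h1
    · refine AdicFS.of_algEquiv hCb e (fun y hy => ?_)
      rw [IsLocalRing.mem_maximalIdeal, mem_nonunits_iff] at hy ⊢
      intro hu
      apply hy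
      have h2 := hu.map e
      rwa [AlgEquiv.apply_symm_apply] at h2

end Core

end Groth.Agent.Helper8.SmSub
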