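import Mathlib
import Groth.Prelude.Def_CAlgX
import Groth.Prelude.Def_CInt
import Groth.Agent.Lib.Helper8.SmSub1
import Groth.Agent.Lib.Helper8.SmPS2

/-!
# Smooth closed subschemes and regular ideals: schemes
-/

set_option autoImplicit false

universe u

namespace Groth.Agent.Helper8.SmSub

open AlgebraicGeometry CategoryTheory IsLocalRing CAlgX

theorem main {X S : Scheme.{u}} [IsLocallyNoetherian S] (f : X ⟶ S)
    [LocallyOfFiniteType f] [LocallyOfFinitePresentation f] (I : X.IdealSheafData)
    [LocallyOfFinitePresentation (I.subschemeι ≫ f)] (x : ↥I.subscheme)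
    (hY : x ∈ (I.subschemeι ≫ f).smoothLocus) :
    I.subschemeι.base x ∈ f.smoothLocus ↔
      CInt.IsRegularIdeal (RingHom.ker (I.subschemeι.stalkMap x).hom) := by
  haveI : IsLocallyNoetherian X := LocallyOfFiniteType.isLocallyNoetherian f
  haveI : IsLocallyNoetherian I.subscheme :=
    LocallyOfFiniteType.isLocallyNoetherian (I.subschemeι ≫ f)
  have hY0 : ((I.subschemeι ≫ f).stalkMap x).hom.FormallySmooth := hY
  show (f.stalkMap (I.subschemeι.base x)).hom.FormallySmooth ↔ _
  have hcomp : (I.subschemeι ≫ f).stalkMap x =
      f.stalkMap (I.subschemeι.base x) ≫ I.subschemeι.stalkMap x :=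
    Scheme.Hom.stalkMap_comp I.subschemeι f x
  have hY' : (f.stalkMap (I.subschemeι.base x) ≫ I.subschemeι.stalkMap x).hom.FormallySmooth := by
    rw [← hcomp]
    exact hY0
  letI algAB : Algebra (S.presheaf.stalk (f.base (I.subschemeι.base x)))
      (X.presheaf.stalk (I.subschemeι.base x)) :=
    (f.stalkMap (I.subschemeι.base x)).hom.toAlgebra
  letI algBC : Algebra (X.presheaf.stalk (I.subschemeι.base x))
      (I.subscheme.presheaf.stalk x) :=
    (I.subschemeι.stalkMap x).hom.toAlgebra
  letI algAC : Algebra (S.presheaf.stalk (f.base (I.subschemeι.base x)))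
      (I.subscheme.presheaf.stalk x) :=
    ((I.subschemeι.stalkMap x).hom.comp (f.stalkMap (I.subschemeι.base x)).hom).toAlgebra
  haveI : IsScalarTower (S.presheaf.stalk (f.base (I.subschemeι.base x)))
      (X.presheaf.stalk (I.subschemeι.base x)) (I.subscheme.presheaf.stalk x) :=
    IsScalarTower.of_algebraMap_eq (fun a => rfl)
  haveI : IsLocalHom (algebraMap (S.presheaf.stalk (f.base (I.subschemeι.base x)))
      (X.presheaf.stalk (I.subschemeι.base x))) :=
    (inferInstance : IsLocalHom (f.stalkMap (I.subschemeι.base x)).hom)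
  haveI : IsLocalHom (algebraMap (S.presheaf.stalk (f.base (I.subschemeι.base x)))
      (I.subscheme.presheaf.stalk x)) := by
    constructor
    intro a ha
    have h1 : IsUnit ((f.stalkMap (I.subschemeι.base x)).hom a) :=
      isUnit_of_map_unit (I.subschemeι.stalkMap x).hom _ ha
    exact isUnit_of_map_unit (f.stalkMap (I.subschemeι.base x)).hom a h1
  have hsurj : Function.Surjective (algebraMap (X.presheaf.stalk (I.subschemeι.base x))
      (I.subscheme.presheaf.stalk x)) := I.subschemeι.stalkMap_surjective x
  have hC : IsAdicFormallySmooth (S.presheaf.stalk (f.base (I.subschemeι.base x)))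
      (I.subscheme.presheaf.stalk x) (maximalIdeal (I.subscheme.presheaf.stalk x)) := by
    haveI : Algebra.FormallySmooth (S.presheaf.stalk (f.base (I.subschemeι.base x)))
      (I.subscheme.presheaf.stalk x) := hY'
    exact AdicFS.of_formallySmooth _
  have hcore := core (A := S.presheaf.stalk (f.base (I.subschemeι.base x)))
    (B := X.presheaf.stalk (I.subschemeι.base x)) (C := I.subscheme.presheaf.stalk x) hsurj hC
  constructor
  · intro hX
    haveI : Algebra.FormallySmooth (S.presheaf.stalk (f.base (I.subschemeι.base x)))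
      (X.presheaf.stalk (I.subschemeι.base x)) := hX
    exact hcore.mp (AdicFS.of_formallySmooth _)
  · intro hreg
    exact SmPS.formallySmooth_stalkMap_of_isAdicFormallySmooth f (I.subschemeι.base x)
      (hcore.mpr hreg)

end Groth.Agent.Helper8.SmSub
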