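import Mathlib.RingTheory.Spectrum.Prime.Topology
import Mathlib.RingTheory.Ideal.MinimalPrime.Localization

/-! Helper lemmas on prime spectra (seat helper8). -/

set_option autoImplicit false

namespace Groth.Agent.Helper8

/-- An element of a minimal prime `p` is killed, up to a power, by an element outside `p`. -/
theorem exists_notMem_mul_pow_eq_zero_of_mem_minimalPrimes {R : Type*} [CommRing R]
    {p : Ideal R} (hp : p ∈ minimalPrimes R) {x : R} (hx : x ∈ p) :
    ∃ s : R, s ∉ p ∧ ∃ n : ℕ, s * x ^ n = 0 := by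
  have hpp : p.IsPrime := hp.1.1
  have h := IsLocalization.AtPrime.radical_map_of_mem_minimalPrimes
    (A := Localization.AtPrime p) p ⊥ hp
  rw [Ideal.map_bot] at h
  have hxm : algebraMap R (Localization.AtPrime p) x ∈ (⊥ : Ideal (Localization.AtPrime p)).radical := by
    rw [h]
    exact Ideal.mem_map_of_mem _ hx
  obtain ⟨n, hn⟩ := hxm
  rw [Ideal.mem_bot, ← map_pow, IsLocalization.map_eq_zero_iff p.primeCompl] at hn
  obtain ⟨m, hm⟩ := hn
  exact ⟨m.1, m.2, n, hm⟩

/-- If an idempotent lies in the radical of an ideal, it lies in the ideal. -/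
theorem mem_of_isIdempotentElem_of_mem_radical {R : Type*} [CommSemiring R]
    {I : Ideal R} {e : R} (he : IsIdempotentElem e) (h : e ∈ I.radical) : e ∈ I := by
  obtain ⟨n, hn⟩ := h
  rcases Nat.eq_zero_or_pos n with rfl | hpos
  · rw [pow_zero] at hn
    rw [(Ideal.eq_top_iff_one I).mpr hn]
    trivial
  · rwa [he.pow_eq (Nat.pos_iff_ne_zero.mp hpos)] at hn

end Groth.Agent.Helper8
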