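import Mathlib
import Groth.Agent.Lib.Helper8.SpecConn

/-!
# Connected components of the prime spectrum via idempotents
-/

set_option autoImplicit false

namespace Groth.Agent.Helper8

open PrimeSpectrum

variable {R : Type*} [CommRing R]

/-- Idempotents lift modulo an ideal generated by idempotents. -/
theorem exists_idempotent_lift (E : Set R) (hE : ∀ e ∈ E, IsIdempotentElem e) (x : R)
    (hx : x ^ 2 - x ∈ Ideal.span E) :
    ∃ e' : R, IsIdempotentElem e' ∧ e' - x ∈ Ideal.span E := by
  classical
  obtain ⟨F, hFE, hxF⟩ := Submodule.mem_span_finite_of_mem_span hx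
  have hidem : IsIdempotentElem (Ideal.span (F : Set R)) := by
    change Ideal.span (F : Set R) * Ideal.span (F : Set R) = Ideal.span (F : Set R)
    apply le_antisymm Ideal.mul_le_right
    rw [Ideal.span_le]
    intro e he
    have h1 : e * e ∈ Ideal.span (F : Set R) * Ideal.span (F : Set R) :=
      Ideal.mul_mem_mul (Ideal.subset_span he) (Ideal.subset_span he)
    rw [(hE e (hFE he)).eq] at h1
    exact h1
  obtain ⟨ε, hε, hspan⟩ := (Ideal.isIdempotentElem_iff_of_fg _ ⟨F, rfl⟩).mp hidem
  have hεI : ε ∈ Ideal.span E := by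
    have : ε ∈ Ideal.span (F : Set R) := by
      rw [hspan]; exact Ideal.mem_span_singleton_self ε
    exact Ideal.span_mono hFE this
  have hxε : x ^ 2 - x ∈ Ideal.span ({ε} : Set R) := by
    have := hxF
    rw [show Submodule.span R (F : Set R) = Ideal.span (F : Set R) from rfl, hspan] at this
    exact this
  obtain ⟨r, hr⟩ := Ideal.mem_span_singleton'.mp hxε
  have hkill : (x ^ 2 - x) * (1 - ε) = 0 := by
    rw [← hr]
    have : ε * (1 - ε) = 0 := by
      rw [mul_sub, mul_one, hε.eq, sub_self]
    rw [mul_assoc, this, mul_zero]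
  refine ⟨(1 - ε) * x, ?_, ?_⟩
  · have h1 : IsIdempotentElem (1 - ε) := hε.one_sub
    change (1 - ε) * x * ((1 - ε) * x) = (1 - ε) * x
    have h2 : (1 - ε) * x * ((1 - ε) * x) = ((1 - ε) * (1 - ε)) * x ^ 2 := by ring
    rw [h2, h1.eq]
    have h3 : (1 - ε) * x ^ 2 = (1 - ε) * x + (x ^ 2 - x) * (1 - ε) := by ring
    rw [h3, hkill, add_zero]
  · have : (1 - ε) * x - x = -(x * ε) := by ring
    rw [this]
    exact neg_mem (Ideal.mul_mem_left _ _ hεI)

theorem idempotent_mem_or_one_sub_mem (p : PrimeSpectrum R) (e : R) (he : IsIdempotentElem e) :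
    e ∈ {e : R | IsIdempotentElem e ∧ e ∈ p.asIdeal} ∨
      1 - e ∈ {e : R | IsIdempotentElem e ∧ e ∈ p.asIdeal} := by
  have h0 : e * (1 - e) = 0 := by rw [mul_sub, mul_one, he.eq, sub_self]
  have : e * (1 - e) ∈ p.asIdeal := by rw [h0]; exact Ideal.zero_mem _
  rcases Ideal.IsPrime.mem_or_mem p.isPrime this with h | h
  · exact Or.inl ⟨he, h⟩
  · exact Or.inr ⟨he.one_sub, h⟩

theorem connectedSpace_quotient_span_idempotents (p : PrimeSpectrum R) :
    ConnectedSpace (PrimeSpectrum
      (R ⧸ Ideal.span {e : R | IsIdempotentElem e ∧ e ∈ p.asIdeal})) := by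
  set E := {e : R | IsIdempotentElem e ∧ e ∈ p.asIdeal} with hE
  have hle : Ideal.span E ≤ p.asIdeal := Ideal.span_le.mpr fun e he => he.2
  rw [connectedSpace_primeSpectrum_iff]
  refine ⟨?_, ?_⟩
  · exact Ideal.Quotient.nontrivial_iff.mpr
      (fun h => p.isPrime.ne_top (top_le_iff.mp (h ▸ hle)))
  · intro ebar hebar
    obtain ⟨x, rfl⟩ := Ideal.Quotient.mk_surjective ebar
    have hx : x ^ 2 - x ∈ Ideal.span E := by
      rw [← Ideal.Quotient.eq, map_pow, pow_two]
      exact hebar.eq
    obtain ⟨e', he', he'x⟩ := exists_idempotent_lift E (fun e he => he.1) x hx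
    have hmk : Ideal.Quotient.mk (Ideal.span E) x = Ideal.Quotient.mk (Ideal.span E) e' :=
      (Ideal.Quotient.eq.mpr he'x).symm
    rcases idempotent_mem_or_one_sub_mem p e' he' with h | h
    · left
      rw [hmk, Ideal.Quotient.eq_zero_iff_mem]
      exact Ideal.subset_span h
    · right
      rw [hmk]
      have : Ideal.Quotient.mk (Ideal.span E) (1 - e') = 0 :=
        Ideal.Quotient.eq_zero_iff_mem.mpr (Ideal.subset_span h)
      rw [map_sub, map_one, sub_eq_zero] at this
      exact this.symm

theorem isClopen_zeroLocus_singleton_of_isIdempotentElem {e : R} (he : IsIdempotentElem e) :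
    IsClopen (zeroLocus ({e} : Set R)) := by
  have : zeroLocus ({e} : Set R) = (basicOpen e : Set (PrimeSpectrum R))ᶜ := by
    ext x
    simp [mem_zeroLocus, Set.singleton_subset_iff]
  rw [this]
  exact (PrimeSpectrum.isClopen_iff.mpr ⟨e, he, rfl⟩).compl

theorem connectedComponent_eq_zeroLocus (p : PrimeSpectrum R) :
    connectedComponent p = zeroLocus {e : R | IsIdempotentElem e ∧ e ∈ p.asIdeal} := by
  set E := {e : R | IsIdempotentElem e ∧ e ∈ p.asIdeal} with hE
  apply Set.Subset.antisymm
  · intro x hx
    rw [mem_zeroLocus]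
    intro e he
    have hcl := isClopen_zeroLocus_singleton_of_isIdempotentElem he.1
    have hp : p ∈ zeroLocus ({e} : Set R) := by
      rw [mem_zeroLocus, Set.singleton_subset_iff]; exact he.2
    have := hcl.connectedComponent_subset hp hx
    rw [mem_zeroLocus, Set.singleton_subset_iff] at this
    exact this
  · haveI := connectedSpace_quotient_span_idempotents p
    have hrange : Set.range (comap (Ideal.Quotient.mk (Ideal.span E))) = zeroLocus E := by
      rw [range_comap_of_surjective _ _ Ideal.Quotient.mk_surjective, Ideal.mk_ker,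
        zeroLocus_span]
    have hpre : IsPreconnected (zeroLocus E) := by
      rw [← hrange]
      exact isPreconnected_range (continuous_comap _)
    have hp : p ∈ zeroLocus E := by
      rw [mem_zeroLocus]; exact fun e he => he.2
    exact hpre.subset_connectedComponent hp

end Groth.Agent.Helper8
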