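import Mathlib

/-! helper8: the (3,3)-forms on the quadric through the doubled three diagonal points:
explicit eigenspaces of the exchange involution (S16153). -/

set_option autoImplicit false
set_option maxHeartbeats 1000000
universe u

namespace Groth.Agent.Helper8.SpinR

open MvPolynomial

variable {k : Type u} [Field k] [CharZero k]

/-- bidegree predicate -/
def Bi (a b : ℕ) (f : MvPolynomial (Fin 4) k) : Prop :=
  f.IsWeightedHomogeneous (![1, 1, 0, 0] : Fin 4 → ℕ) a ∧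
    f.IsWeightedHomogeneous (![0, 0, 1, 1] : Fin 4 → ℕ) b

theorem wh_sub {w : Fin 4 → ℕ} {a : ℕ} {f g : MvPolynomial (Fin 4) k}
    (hf : f.IsWeightedHomogeneous w a) (hg : g.IsWeightedHomogeneous w a) :
    (f - g).IsWeightedHomogeneous w a :=
  (mem_weightedHomogeneousSubmodule k w a _).mp
    (Submodule.sub_mem _ ((mem_weightedHomogeneousSubmodule k w a f).mpr hf)
      ((mem_weightedHomogeneousSubmodule k w a g).mpr hg))

theorem Bi.mul {a b a' b' a'' b'' : ℕ} {f g : MvPolynomial (Fin 4) k} (hf : Bi a b f)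
    (hg : Bi a' b' g) (ha : a + a' = a'') (hb : b + b' = b'') : Bi a'' b'' (f * g) := by
  subst ha hb
  exact ⟨hf.1.mul hg.1, hf.2.mul hg.2⟩

theorem Bi.add {a b : ℕ} {f g : MvPolynomial (Fin 4) k} (hf : Bi a b f) (hg : Bi a b g) :
    Bi a b (f + g) := ⟨hf.1.add hg.1, hf.2.add hg.2⟩

theorem Bi.sub {a b : ℕ} {f g : MvPolynomial (Fin 4) k} (hf : Bi a b f) (hg : Bi a b g) :
    Bi a b (f - g) := ⟨wh_sub hf.1 hg.1, wh_sub hf.2 hg.2⟩

theorem Bi_X0 : Bi (k := k) 1 0 (X 0) :=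
  ⟨isWeightedHomogeneous_X k _ 0, isWeightedHomogeneous_X k _ 0⟩
theorem Bi_X1 : Bi (k := k) 1 0 (X 1) :=
  ⟨isWeightedHomogeneous_X k _ 1, isWeightedHomogeneous_X k _ 1⟩
theorem Bi_X2 : Bi (k := k) 0 1 (X 2) :=
  ⟨isWeightedHomogeneous_X k _ 2, isWeightedHomogeneous_X k _ 2⟩
theorem Bi_X3 : Bi (k := k) 0 1 (X 3) :=
  ⟨isWeightedHomogeneous_X k _ 3, isWeightedHomogeneous_X k _ 3⟩

noncomputable def gl : MvPolynomial (Fin 4) k := X 0 * X 3 - X 1 * X 2
noncomputable def gh1 : MvPolynomial (Fin 4) k := X 0 * (X 3 - X 2) + X 2 * (X 1 - X 0)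
noncomputable def gh2 : MvPolynomial (Fin 4) k := X 1 * (X 2 - X 3) + X 3 * (X 0 - X 1)
noncomputable def gh3 : MvPolynomial (Fin 4) k := X 0 * X 3 + X 1 * X 2
noncomputable def gh : MvPolynomial (Fin 4) k := gh1 + gh2 + gh3
noncomputable def gh13 : MvPolynomial (Fin 4) k := gh1 - gh3
noncomputable def gh23 : MvPolynomial (Fin 4) k := gh2 - gh3
noncomputable def gc : MvPolynomial (Fin 4) k :=
  X 0 * X 1 * (X 0 - X 1) * (X 2 * X 3 * (X 2 - X 3))

theorem Bi_gl : Bi (k := k) 1 1 gl := (Bi_X0.mul Bi_X3 rfl rfl).sub (Bi_X1.mul Bi_X2 rfl rfl)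
theorem Bi_gh1 : Bi (k := k) 1 1 gh1 :=
  (Bi_X0.mul (Bi_X3.sub Bi_X2) rfl rfl).add (Bi_X2.mul (Bi_X1.sub Bi_X0) rfl rfl)
theorem Bi_gh2 : Bi (k := k) 1 1 gh2 :=
  (Bi_X1.mul (Bi_X2.sub Bi_X3) rfl rfl).add (Bi_X3.mul (Bi_X0.sub Bi_X1) rfl rfl)
theorem Bi_gh3 : Bi (k := k) 1 1 gh3 := (Bi_X0.mul Bi_X3 rfl rfl).add (Bi_X1.mul Bi_X2 rfl rfl)
theorem Bi_gh : Bi (k := k) 1 1 gh := (Bi_gh1.add Bi_gh2).add Bi_gh3
theorem Bi_gh13 : Bi (k := k) 1 1 gh13 := Bi_gh1.sub Bi_gh3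
theorem Bi_gh23 : Bi (k := k) 1 1 gh23 := Bi_gh2.sub Bi_gh3
theorem Bi_gc : Bi (k := k) 3 3 gc :=
  ((Bi_X0.mul Bi_X1 rfl rfl).mul (Bi_X0.sub Bi_X1) rfl rfl).mul
    ((Bi_X2.mul Bi_X3 rfl rfl).mul (Bi_X2.sub Bi_X3) rfl rfl) rfl rfl

/-! ### the exchange involution on the generators -/

theorem iota_gl : rename (![2, 3, 0, 1] : Fin 4 → Fin 4) (gl (k := k)) = -gl := by
  simp only [gl, map_sub, map_mul, rename_X, Matrix.cons_val]; ring
theorem iota_gh1 : rename (![2, 3, 0, 1] : Fin 4 → Fin 4) (gh1 (k := k)) = gh1 := by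
  simp only [gh1, map_add, map_sub, map_mul, rename_X, Matrix.cons_val]; ring
theorem iota_gh2 : rename (![2, 3, 0, 1] : Fin 4 → Fin 4) (gh2 (k := k)) = gh2 := by
  simp only [gh2, map_add, map_sub, map_mul, rename_X, Matrix.cons_val]; ring
theorem iota_gh3 : rename (![2, 3, 0, 1] : Fin 4 → Fin 4) (gh3 (k := k)) = gh3 := by
  simp only [gh3, map_add, map_sub, map_mul, rename_X, Matrix.cons_val]; ring
theorem iota_gh : rename (![2, 3, 0, 1] : Fin 4 → Fin 4) (gh (k := k)) = gh := by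
  simp only [gh, map_add, iota_gh1, iota_gh2, iota_gh3]
theorem iota_gh13 : rename (![2, 3, 0, 1] : Fin 4 → Fin 4) (gh13 (k := k)) = gh13 := by
  simp only [gh13, map_sub, iota_gh1, iota_gh3]
theorem iota_gh23 : rename (![2, 3, 0, 1] : Fin 4 → Fin 4) (gh23 (k := k)) = gh23 := by
  simp only [gh23, map_sub, iota_gh2, iota_gh3]
theorem iota_gc : rename (![2, 3, 0, 1] : Fin 4 → Fin 4) (gc (k := k)) = gc := by
  simp only [gc, map_sub, map_mul, rename_X, Matrix.cons_val]; ring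

theorem rho_gl : rename (![0, 1, 0, 1] : Fin 4 → Fin 2) (gl (k := k)) = 0 := by
  simp only [gl, map_sub, map_mul, rename_X, Matrix.cons_val]; ring
theorem rho_gc : rename (![0, 1, 0, 1] : Fin 4 → Fin 2) (gc (k := k))
    = (X 0 * X 1 * (X 0 - X 1)) ^ 2 := by
  simp only [gc, map_sub, map_mul, rename_X, Matrix.cons_val]; ring

/-- membership predicate of the space `I` -/
def InI (f : MvPolynomial (Fin 4) k) : Prop :=
  f.IsWeightedHomogeneous (![1, 1, 0, 0] : Fin 4 → ℕ) 3 ∧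
    f.IsWeightedHomogeneous (![0, 0, 1, 1] : Fin 4 → ℕ) 3 ∧
    (X 0 * X 1 * (X 0 - X 1)) ^ 2 ∣ rename (![0, 1, 0, 1] : Fin 4 → Fin 2) f

theorem InI_l {g : MvPolynomial (Fin 4) k} (hb : Bi 3 3 (gl * g)) : InI (gl * g) :=
  ⟨hb.1, hb.2, by rw [map_mul, rho_gl, zero_mul]; exact dvd_zero _⟩

theorem InI_gc : InI (gc (k := k)) := ⟨Bi_gc.1, Bi_gc.2, by rw [rho_gc]⟩

theorem InI_g1 : InI (gl (k := k) ^ 2 * gh) := by
  have e : gl (k := k) ^ 2 * gh = gl * (gl * gh) := by ring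
  rw [e]; exact InI_l (Bi_gl.mul (Bi_gl.mul Bi_gh rfl rfl) rfl rfl)
theorem InI_g2 : InI (gl (k := k) ^ 2 * gh13) := by
  have e : gl (k := k) ^ 2 * gh13 = gl * (gl * gh13) := by ring
  rw [e]; exact InI_l (Bi_gl.mul (Bi_gl.mul Bi_gh13 rfl rfl) rfl rfl)
theorem InI_g3 : InI (gl (k := k) ^ 2 * gh23) := by
  have e : gl (k := k) ^ 2 * gh23 = gl * (gl * gh23) := by ring
  rw [e]; exact InI_l (Bi_gl.mul (Bi_gl.mul Bi_gh23 rfl rfl) rfl rfl)
theorem InI_g4 : InI (gl (k := k) * gh ^ 2) := by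
  have e : gl (k := k) * gh ^ 2 = gl * (gh * gh) := by ring
  rw [e]; exact InI_l (Bi_gl.mul (Bi_gh.mul Bi_gh rfl rfl) rfl rfl)
theorem InI_g5 : InI (gl (k := k) * gh * gh13) := by
  have e : gl (k := k) * gh * gh13 = gl * (gh * gh13) := by ring
  rw [e]; exact InI_l (Bi_gl.mul (Bi_gh.mul Bi_gh13 rfl rfl) rfl rfl)
theorem InI_g6 : InI (gl (k := k) * gh * gh23) := by
  have e : gl (k := k) * gh * gh23 = gl * (gh * gh23) := by ring
  rw [e]; exact InI_l (Bi_gl.mul (Bi_gh.mul Bi_gh23 rfl rfl) rfl rfl)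
theorem InI_g7 : InI (gl (k := k) * gh13 ^ 2) := by
  have e : gl (k := k) * gh13 ^ 2 = gl * (gh13 * gh13) := by ring
  rw [e]; exact InI_l (Bi_gl.mul (Bi_gh13.mul Bi_gh13 rfl rfl) rfl rfl)
theorem InI_g8 : InI (gl (k := k) * gh23 ^ 2) := by
  have e : gl (k := k) * gh23 ^ 2 = gl * (gh23 * gh23) := by ring
  rw [e]; exact InI_l (Bi_gl.mul (Bi_gh23.mul Bi_gh23 rfl rfl) rfl rfl)
theorem InI_g9 : InI (gl (k := k) * gh13 * gh23) := by
  have e : gl (k := k) * gh13 * gh23 = gl * (gh13 * gh23) := by ring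
  rw [e]; exact InI_l (Bi_gl.mul (Bi_gh13.mul Bi_gh23 rfl rfl) rfl rfl)

theorem iota_g1 : rename (![2, 3, 0, 1] : Fin 4 → Fin 4) (gl (k := k) ^ 2 * gh) = gl ^ 2 * gh := by
  simp only [map_mul, map_pow, iota_gl, iota_gh]; ring
theorem iota_g2 : rename (![2, 3, 0, 1] : Fin 4 → Fin 4) (gl (k := k) ^ 2 * gh13) = gl ^ 2 * gh13 := by
  simp only [map_mul, map_pow, iota_gl, iota_gh13]; ring
theorem iota_g3 : rename (![2, 3, 0, 1] : Fin 4 → Fin 4) (gl (k := k) ^ 2 * gh23) = gl ^ 2 * gh23 := by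
  simp only [map_mul, map_pow, iota_gl, iota_gh23]; ring
theorem iota_g4 : rename (![2, 3, 0, 1] : Fin 4 → Fin 4) (gl (k := k) * gh ^ 2) = -(gl * gh ^ 2) := by
  simp only [map_mul, map_pow, iota_gl, iota_gh]; ring
theorem iota_g5 : rename (![2, 3, 0, 1] : Fin 4 → Fin 4) (gl (k := k) * gh * gh13)
    = -(gl * gh * gh13) := by
  simp only [map_mul, map_pow, iota_gl, iota_gh, iota_gh13]; ring
theorem iota_g6 : rename (![2, 3, 0, 1] : Fin 4 → Fin 4) (gl (k := k) * gh * gh23)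
    = -(gl * gh * gh23) := by
  simp only [map_mul, map_pow, iota_gl, iota_gh, iota_gh23]; ring
theorem iota_g7 : rename (![2, 3, 0, 1] : Fin 4 → Fin 4) (gl (k := k) * gh13 ^ 2)
    = -(gl * gh13 ^ 2) := by
  simp only [map_mul, map_pow, iota_gl, iota_gh13]; ring
theorem iota_g8 : rename (![2, 3, 0, 1] : Fin 4 → Fin 4) (gl (k := k) * gh23 ^ 2)
    = -(gl * gh23 ^ 2) := by
  simp only [map_mul, map_pow, iota_gl, iota_gh23]; ring
theorem iota_g9 : rename (![2, 3, 0, 1] : Fin 4 → Fin 4) (gl (k := k) * gh13 * gh23)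
    = -(gl * gh13 * gh23) := by
  simp only [map_mul, map_pow, iota_gl, iota_gh13, iota_gh23]; ring

/-! ### decomposition of a (3,3)-form into its sixteen monomials -/

/-- exponent vector of `x0^(3-i) x1^i y0^(3-j) y1^j` -/
noncomputable def ex (i j : ℕ) : Fin 4 →₀ ℕ :=
  Finsupp.single 0 (3 - i) + Finsupp.single 1 i + Finsupp.single 2 (3 - j) + Finsupp.single 3 j

noncomputable def mono (i j : ℕ) : MvPolynomial (Fin 4) k :=
  X 0 ^ (3 - i) * X 1 ^ i * X 2 ^ (3 - j) * X 3 ^ j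

theorem mono_eq (i j : ℕ) : (mono i j : MvPolynomial (Fin 4) k) = monomial (ex i j) 1 := by
  simp only [mono, ex, X_pow_eq_monomial, monomial_mul, mul_one]

theorem ex_apply (i j : ℕ) :
    ex i j 0 = 3 - i ∧ ex i j 1 = i ∧ ex i j 2 = 3 - j ∧ ex i j 3 = j := by
  simp [ex, Finsupp.single_apply]

theorem decomp {f : MvPolynomial (Fin 4) k}
    (h1 : f.IsWeightedHomogeneous (![1, 1, 0, 0] : Fin 4 → ℕ) 3)
    (h2 : f.IsWeightedHomogeneous (![0, 0, 1, 1] : Fin 4 → ℕ) 3) :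
    f = ∑ i ∈ Finset.range 4, ∑ j ∈ Finset.range 4, C (coeff (ex i j) f) * mono i j := by
  classical
  have hsupp : ∀ d ∈ f.support, d = ex (d 1) (d 3) ∧ d 1 < 4 ∧ d 3 < 4 := by
    intro d hd
    have hc : coeff d f ≠ 0 := mem_support_iff.mp hd
    have e1 := h1 hc
    have e2 := h2 hc
    have w1 : Finsupp.weight (![1, 1, 0, 0] : Fin 4 → ℕ) d = d 0 + d 1 := by
      simp [Finsupp.weight_apply, Finsupp.sum_fintype, Fin.sum_univ_four]
    have w2 : Finsupp.weight (![0, 0, 1, 1] : Fin 4 → ℕ) d = d 2 + d 3 := by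
      simp [Finsupp.weight_apply, Finsupp.sum_fintype, Fin.sum_univ_four]
    rw [w1] at e1
    rw [w2] at e2
    refine ⟨?_, by omega, by omega⟩
    obtain ⟨a0, a1, a2, a3⟩ := ex_apply (d 1) (d 3)
    ext t
    fin_cases t
    · show d 0 = ex (d 1) (d 3) 0
      rw [a0]; omega
    · show d 1 = ex (d 1) (d 3) 1
      rw [a1]
    · show d 2 = ex (d 1) (d 3) 2
      rw [a2]; omega
    · show d 3 = ex (d 1) (d 3) 3
      rw [a3]
  have hinj : Set.InjOn (fun p : ℕ × ℕ => ex p.1 p.2)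
      (↑(Finset.range 4 ×ˢ Finset.range 4) : Set (ℕ × ℕ)) := by
    rintro ⟨i, j⟩ - ⟨i', j'⟩ - hEq
    have hEq' : ex i j = ex i' j' := hEq
    have e1 := DFunLike.congr_fun hEq' 1
    have e3 := DFunLike.congr_fun hEq' 3
    rw [(ex_apply i j).2.1, (ex_apply i' j').2.1] at e1
    rw [(ex_apply i j).2.2.2, (ex_apply i' j').2.2.2] at e3
    exact Prod.ext e1 e3
  have himg := Finset.sum_image (f := fun d : Fin 4 →₀ ℕ => monomial d (coeff d f)) hinj
  have hsum : f = ∑ p ∈ Finset.range 4 ×ˢ Finset.range 4,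
      monomial (ex p.1 p.2) (coeff (ex p.1 p.2) f) := by
    refine Eq.trans ?_ himg
    conv_lhs => rw [← support_sum_monomial_coeff f]
    refine Finset.sum_subset ?_ ?_
    · intro d hd
      obtain ⟨he, h1', h3'⟩ := hsupp d hd
      rw [Finset.mem_image]
      exact ⟨(d 1, d 3), Finset.mem_product.mpr
        ⟨Finset.mem_range.mpr h1', Finset.mem_range.mpr h3'⟩, he.symm⟩
    · intro d _ hd
      have h0 : coeff d f = 0 := by simpa [mem_support_iff] using hd
      show monomial d (coeff d f) = 0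
      rw [h0, map_zero]
  rw [Finset.sum_product] at hsum
  refine hsum.trans ?_
  apply Finset.sum_congr rfl
  intro i _
  apply Finset.sum_congr rfl
  intro j _
  rw [mono_eq, C_mul_monomial, mul_one]

theorem coeff_iota (f : MvPolynomial (Fin 4) k) (i j : ℕ) :
    coeff (ex i j) (rename (![2, 3, 0, 1] : Fin 4 → Fin 4) f) = coeff (ex j i) f := by
  have hinj : Function.Injective (![2, 3, 0, 1] : Fin 4 → Fin 4) := by decide
  have hm : Finsupp.mapDomain (![2, 3, 0, 1] : Fin 4 → Fin 4) (ex j i) = ex i j := by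
    simp only [ex, Finsupp.mapDomain_add, Finsupp.mapDomain_single, Matrix.cons_val]
    abel
  rw [← hm, coeff_rename_mapDomain _ hinj]

/-! ### the conditions on the diagonal -/

theorem sq_root {G P Q : Polynomial k} {r : k} (hG : G = P ^ 2 * Q) (hP : P.eval r = 0) :
    G.eval r = 0 ∧ (Polynomial.derivative G).eval r = 0 := by
  subst hG
  constructor
  · simp [hP]
  · simp [Polynomial.derivative_mul, Polynomial.derivative_pow, hP]

theorem diag_eqs (a : ℕ → ℕ → k)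
    (hdvd : (X 0 * X 1 * (X 0 - X 1)) ^ 2 ∣ (∑ i ∈ Finset.range 4, ∑ j ∈ Finset.range 4,
      C (a i j) * (X 0 ^ (3 - i) * X 1 ^ i * X 0 ^ (3 - j) * X 1 ^ j) : MvPolynomial (Fin 2) k)) :
    a 3 3 = 0 ∧ a 2 3 + a 3 2 = 0 ∧ a 0 0 = 0 ∧ a 0 1 + a 1 0 = 0 ∧
    (a 0 0 + a 0 1 + a 0 2 + a 0 3 + a 1 0 + a 1 1 + a 1 2 + a 1 3 + a 2 0 + a 2 1 + a 2 2
      + a 2 3 + a 3 0 + a 3 1 + a 3 2 + a 3 3 = 0) ∧
    (a 0 1 + 2 * a 0 2 + 3 * a 0 3 + a 1 0 + 2 * a 1 1 + 3 * a 1 2 + 4 * a 1 3 + 2 * a 2 0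
      + 3 * a 2 1 + 4 * a 2 2 + 5 * a 2 3 + 3 * a 3 0 + 4 * a 3 1 + 5 * a 3 2 + 6 * a 3 3 = 0) := by
  obtain ⟨Q, hQ⟩ := hdvd
  have h1 := congrArg (aeval (![Polynomial.X, 1] : Fin 2 → Polynomial k)) hQ
  have h2 := congrArg (aeval (![1, Polynomial.X] : Fin 2 → Polynomial k)) hQ
  simp only [map_add, map_zero, map_mul, map_pow, map_sub, aeval_X, aeval_C, Matrix.cons_val,
    Finset.sum_range_succ, Finset.sum_range_zero] at h1 h2
  have k1 := sq_root (r := 0) h1 (by simp)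
  have k2 := sq_root (r := 0) h2 (by simp)
  have k3 := sq_root (r := 1) h2 (by simp)
  refine ⟨?_, ?_, ?_, ?_, ?_, ?_⟩
  · have := k1.1
    simp at this
    linear_combination this
  · have := k1.2
    simp at this
    linear_combination this
  · have := k2.1
    simp at this
    linear_combination this
  · have := k2.2
    simp at this
    linear_combination this
  · have := k3.1
    simp at this
    linear_combination this
  · have := k3.2
    simp at this
    linear_combination this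

/-! ### the two eigenspaces -/

theorem sym_dir {f : MvPolynomial (Fin 4) k} (hb : Bi 3 3 f)
    (hd : (X 0 * X 1 * (X 0 - X 1)) ^ 2 ∣ rename (![0, 1, 0, 1] : Fin 4 → Fin 2) f)
    (hs : rename (![2, 3, 0, 1] : Fin 4 → Fin 4) f = f) :
    ∃ a b c d : k, (6 : k) • f
      = a • gc + b • (gl ^ 2 * gh) + c • (gl ^ 2 * gh13) + d • (gl ^ 2 * gh23) := by
  obtain ⟨A, hA⟩ : ∃ A : ℕ → ℕ → k, A = fun i j => coeff (ex i j) f := ⟨_, rfl⟩
  have hAij : ∀ i j, A i j = coeff (ex i j) f := fun i j => by rw [hA]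
  have hdec : f = ∑ i ∈ Finset.range 4, ∑ j ∈ Finset.range 4, C (A i j) * mono i j := by
    rw [hA]; exact decomp hb.1 hb.2
  have hsymA : ∀ i j, A i j = A j i := by
    intro i j
    rw [hAij i j, hAij j i, ← coeff_iota f i j, hs]
  have hρ : rename (![0, 1, 0, 1] : Fin 4 → Fin 2) f
      = ∑ i ∈ Finset.range 4, ∑ j ∈ Finset.range 4,
        C (A i j) * (X 0 ^ (3 - i) * X 1 ^ i * X 0 ^ (3 - j) * X 1 ^ j) := by
    conv_lhs => rw [hdec]
    simp only [map_sum, map_mul, map_pow, rename_C, rename_X, mono, Matrix.cons_val]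
  rw [hρ] at hd
  obtain ⟨e1, e2, e3, e4, e5, e6⟩ := diag_eqs A hd
  have h2 : (2 : k) ≠ 0 := two_ne_zero
  have h33 : A 3 3 = 0 := e1
  have h00 : A 0 0 = 0 := e3
  have h23 : A 2 3 = 0 := by
    have t : (2 : k) * A 2 3 = 0 := by linear_combination e2 - hsymA 3 2
    exact (mul_eq_zero.mp t).resolve_left h2
  have h32 : A 3 2 = 0 := by rw [hsymA 3 2, h23]
  have h01 : A 0 1 = 0 := by
    have t : (2 : k) * A 0 1 = 0 := by linear_combination e4 - hsymA 1 0
    exact (mul_eq_zero.mp t).resolve_left h2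
  have h10 : A 1 0 = 0 := by rw [hsymA 1 0, h01]
  have h20 : A 2 0 = A 0 2 := hsymA 2 0
  have h30 : A 3 0 = A 0 3 := hsymA 3 0
  have h31 : A 3 1 = A 1 3 := hsymA 3 1
  have h12 : A 1 2 = -2 * A 0 2 - A 1 1 - A 0 3 := by
    have t : (2 : k) * A 1 2 = 2 * (-2 * A 0 2 - A 1 1 - A 0 3) := by
      linear_combination (-1) * e6 + 4 * e5 - 4 * e3 - 3 * e4 + e2 + 2 * e1 - 2 * hsymA 2 0
        - hsymA 3 0 - hsymA 2 1
    exact mul_left_cancel₀ h2 t
  have h21 : A 2 1 = -2 * A 0 2 - A 1 1 - A 0 3 := by rw [hsymA 2 1, h12]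
  have h22 : A 2 2 = 2 * A 0 2 + A 1 1 - 2 * A 1 3 := by
    linear_combination e6 - 3 * e5 + 3 * e3 + 2 * e4 - 2 * e2 - 3 * e1 - hsymA 3 1 + hsymA 2 0
  refine ⟨6 * (2 * A 0 2 + A 1 1), 2 * A 0 3, -2 * A 0 3 - 3 * A 0 2, -2 * A 0 3 - 3 * A 1 3, ?_⟩
  rw [hdec]
  simp only [Finset.sum_range_succ, Finset.sum_range_zero, zero_add, smul_eq_C_mul, mono, gc, gl,
    gh, gh1, gh2, gh3, gh13, gh23]
  simp only [h00, h01, h10, h12, h21, h22, h23, h32, h33, h20, h30, h31]
  simp only [map_add, map_sub, map_mul, map_neg, map_zero, map_ofNat, Nat.reduceSub, pow_zero,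
    pow_one]
  ring

theorem anti_dir {f : MvPolynomial (Fin 4) k} (hb : Bi 3 3 f)
    (hs : rename (![2, 3, 0, 1] : Fin 4 → Fin 4) f = -f) :
    ∃ a4 a5 a6 a7 a8 a9 : k, (36 : k) • f
      = a4 • (gl * gh ^ 2) + a5 • (gl * gh * gh13) + a6 • (gl * gh * gh23)
        + a7 • (gl * gh13 ^ 2) + a8 • (gl * gh23 ^ 2) + a9 • (gl * gh13 * gh23) := by
  obtain ⟨A, hA⟩ : ∃ A : ℕ → ℕ → k, A = fun i j => coeff (ex i j) f := ⟨_, rfl⟩
  have hAij : ∀ i j, A i j = coeff (ex i j) f := fun i j => by rw [hA]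
  have hdec : f = ∑ i ∈ Finset.range 4, ∑ j ∈ Finset.range 4, C (A i j) * mono i j := by
    rw [hA]; exact decomp hb.1 hb.2
  have hantiA : ∀ i j, A i j = -A j i := by
    intro i j
    rw [hAij i j, hAij j i, ← coeff_iota f i j, hs, coeff_neg, neg_neg]
  have h2 : (2 : k) ≠ 0 := two_ne_zero
  have hii : ∀ i, A i i = 0 := by
    intro i
    have t : (2 : k) * A i i = 0 := by linear_combination hantiA i i
    exact (mul_eq_zero.mp t).resolve_left h2
  have h00 := hii 0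
  have h11 := hii 1
  have h22 := hii 2
  have h33 := hii 3
  have h10 : A 1 0 = -A 0 1 := hantiA 1 0
  have h20 : A 2 0 = -A 0 2 := hantiA 2 0
  have h30 : A 3 0 = -A 0 3 := hantiA 3 0
  have h21 : A 2 1 = -A 1 2 := hantiA 2 1
  have h31 : A 3 1 = -A 1 3 := hantiA 3 1
  have h32 : A 3 2 = -A 2 3 := hantiA 3 2
  refine ⟨4 * A 0 3, -8 * A 0 3 - 6 * A 0 2, -8 * A 0 3 - 6 * A 1 3,
    9 * A 0 1 + 4 * A 0 3 + 6 * A 0 2, 9 * A 2 3 + 4 * A 0 3 + 6 * A 1 3,
    -A 0 3 + 6 * A 0 2 + 6 * A 1 3 + 9 * A 1 2, ?_⟩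
  rw [hdec]
  simp only [Finset.sum_range_succ, Finset.sum_range_zero, zero_add, smul_eq_C_mul, mono, gl,
    gh, gh1, gh2, gh3, gh13, gh23]
  simp only [h00, h11, h22, h33, h10, h20, h30, h21, h31, h32]
  simp only [map_add, map_sub, map_mul, map_neg, map_zero, map_ofNat, Nat.reduceSub, pow_zero,
    pow_one]
  ring

/-! ### linear independence -/

theorem ren_C_mul (a : k) (g : MvPolynomial (Fin 4) k) :
    rename (![2, 3, 0, 1] : Fin 4 → Fin 4) (C a * g) = C a * rename (![2, 3, 0, 1] : Fin 4 → Fin 4) g := by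
  rw [map_mul, rename_C]

theorem lin_indep : LinearIndependent k
    ![gc (k := k), gl ^ 2 * gh, gl ^ 2 * gh13, gl ^ 2 * gh23, gl * gh ^ 2, gl * gh * gh13,
      gl * gh * gh23, gl * gh13 ^ 2, gl * gh23 ^ 2, gl * gh13 * gh23] := by
  rw [Fintype.linearIndependent_iff]
  intro c hc
  have hE : c 0 • gc (k := k) + c 1 • (gl ^ 2 * gh) + c 2 • (gl ^ 2 * gh13) + c 3 • (gl ^ 2 * gh23)
      + c 4 • (gl * gh ^ 2) + c 5 • (gl * gh * gh13) + c 6 • (gl * gh * gh23)
      + c 7 • (gl * gh13 ^ 2) + c 8 • (gl * gh23 ^ 2) + c 9 • (gl * gh13 * gh23) = 0 := by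
    rw [← hc]
    simp [Fin.sum_univ_succ]
    try abel
  simp only [smul_eq_C_mul] at hE
  have hι := congrArg (rename (![2, 3, 0, 1] : Fin 4 → Fin 4)) hE
  simp only [map_add, map_zero, ren_C_mul, iota_gc, iota_g1, iota_g2, iota_g3, iota_g4, iota_g5,
    iota_g6, iota_g7, iota_g8, iota_g9] at hι
  have hS : (2 : MvPolynomial (Fin 4) k) * (C (c 0) * gc (k := k) + C (c 1) * (gl ^ 2 * gh)
      + C (c 2) * (gl ^ 2 * gh13) + C (c 3) * (gl ^ 2 * gh23)) = 0 := by
    linear_combination hE + hι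
  have hT : (2 : MvPolynomial (Fin 4) k) * (C (c 4) * (gl (k := k) * gh ^ 2)
      + C (c 5) * (gl * gh * gh13)
      + C (c 6) * (gl * gh * gh23) + C (c 7) * (gl * gh13 ^ 2) + C (c 8) * (gl * gh23 ^ 2)
      + C (c 9) * (gl * gh13 * gh23)) = 0 := by
    linear_combination hE - hι
  have h8 : (8 : k) ≠ 0 := by norm_num
  have h6 : (6 : k) ≠ 0 := by norm_num
  have h4 : (4 : k) ≠ 0 := by norm_num
  have h18 : (18 : k) ≠ 0 := by norm_num
  have h48 : (48 : k) ≠ 0 := by norm_num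
  have h16 : (16 : k) ≠ 0 := by norm_num
  -- symmetric part
  have c0 : c 0 = 0 := by
    have := congrArg (eval (![2, 1, 2, 1] : Fin 4 → k)) hS
    simp only [smul_eq_C_mul, map_add, map_mul, map_sub, map_pow, map_zero, map_ofNat, eval_X,
      eval_C, gc, gl, gh, gh1, gh2, gh3, gh13, gh23, Matrix.cons_val] at this
    have t : (8 : k) * c 0 = 0 := by linear_combination this
    exact (mul_eq_zero.mp t).resolve_left h8
  have c1 : c 1 = 0 := by
    have := congrArg (eval (![1, 0, 0, 1] : Fin 4 → k)) hS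
    simp only [smul_eq_C_mul, map_add, map_mul, map_sub, map_pow, map_zero, map_ofNat, eval_X,
      eval_C, gc, gl, gh, gh1, gh2, gh3, gh13, gh23, Matrix.cons_val] at this
    have t : (6 : k) * c 1 = 0 := by linear_combination this
    exact (mul_eq_zero.mp t).resolve_left h6
  have c2 : c 2 = 0 := by
    have := congrArg (eval (![1, 1, 1, 0] : Fin 4 → k)) hS
    simp only [smul_eq_C_mul, map_add, map_mul, map_sub, map_pow, map_zero, map_ofNat, eval_X,
      eval_C, gc, gl, gh, gh1, gh2, gh3, gh13, gh23, Matrix.cons_val] at this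
    have t : (4 : k) * c 2 = 0 := by linear_combination (-1) * this + 2 * c1
    exact (mul_eq_zero.mp t).resolve_left h4
  have c3 : c 3 = 0 := by
    have := congrArg (eval (![1, 1, 0, 1] : Fin 4 → k)) hS
    simp only [smul_eq_C_mul, map_add, map_mul, map_sub, map_pow, map_zero, map_ofNat, eval_X,
      eval_C, gc, gl, gh, gh1, gh2, gh3, gh13, gh23, Matrix.cons_val] at this
    have t : (4 : k) * c 3 = 0 := by linear_combination (-1) * this + 2 * c1
    exact (mul_eq_zero.mp t).resolve_left h4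
  -- antisymmetric part
  have c4 : c 4 = 0 := by
    have := congrArg (eval (![1, 0, 0, 1] : Fin 4 → k)) hT
    simp only [smul_eq_C_mul, map_add, map_mul, map_sub, map_pow, map_zero, map_ofNat, eval_X,
      eval_C, gl, gh, gh1, gh2, gh3, gh13, gh23, Matrix.cons_val] at this
    have t : (18 : k) * c 4 = 0 := by linear_combination this
    exact (mul_eq_zero.mp t).resolve_left h18
  have ePc := congrArg (eval (![1, 1, 1, 0] : Fin 4 → k)) hT
  have ePe := congrArg (eval (![1, 2, 1, 0] : Fin 4 → k)) hT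
  have ePd := congrArg (eval (![1, 1, 0, 1] : Fin 4 → k)) hT
  have ePf := congrArg (eval (![2, 1, 0, 1] : Fin 4 → k)) hT
  have ePg := congrArg (eval (![1, 1, 1, -1] : Fin 4 → k)) hT
  simp only [smul_eq_C_mul, map_add, map_mul, map_sub, map_pow, map_zero, map_ofNat, eval_X,
    eval_C, gl, gh, gh1, gh2, gh3, gh13, gh23, Matrix.cons_val] at ePc ePe ePd ePf ePg
  -- Pc : 2(-c4 + 2c5 - 4c7) = 0 ; Pe : 2(-32c4 + 16c5 - 8c7) = 0
  have c7 : c 7 = 0 := by
    have t : (48 : k) * c 7 = 0 := by linear_combination (-8) * ePc + ePe + 48 * c4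
    exact (mul_eq_zero.mp t).resolve_left h48
  have c5 : c 5 = 0 := by
    have t : (4 : k) * c 5 = 0 := by linear_combination ePc + 2 * c4 + 8 * c7
    exact (mul_eq_zero.mp t).resolve_left h4
  -- Pd : 2(c4 - 2c6 + 4c8) = 0 ; Pf : 2(32c4 - 16c6 + 8c8) = 0
  have c8 : c 8 = 0 := by
    have t : (48 : k) * c 8 = 0 := by linear_combination 8 * ePd - ePf + 48 * c4
    exact (mul_eq_zero.mp t).resolve_left h48
  have c6 : c 6 = 0 := by
    have t : (4 : k) * c 6 = 0 := by linear_combination (-1) * ePd + 2 * c4 + 8 * c8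
    exact (mul_eq_zero.mp t).resolve_left h4
  -- Pg : 2(-8c7 - 8c8 + 8c9) = 0
  have c9 : c 9 = 0 := by
    have t : (16 : k) * c 9 = 0 := by linear_combination ePg + 16 * c7 + 16 * c8
    exact (mul_eq_zero.mp t).resolve_left h16
  intro i
  fin_cases i
  · exact c0
  · exact c1
  · exact c2
  · exact c3
  · exact c4
  · exact c5
  · exact c6
  · exact c7
  · exact c8
  · exact c9

/-! ### the statement -/

theorem main
    (l h1 h2 h3 h h13 h23 c : MvPolynomial (Fin 4) k)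
    (hl : l = X 0 * X 3 - X 1 * X 2)
    (hh1 : h1 = X 0 * (X 3 - X 2) + X 2 * (X 1 - X 0))
    (hh2 : h2 = X 1 * (X 2 - X 3) + X 3 * (X 0 - X 1))
    (hh3 : h3 = X 0 * X 3 + X 1 * X 2)
    (hh : h = h1 + h2 + h3) (hh13 : h13 = h1 - h3) (hh23 : h23 = h2 - h3)
    (hc : c = X 0 * X 1 * (X 0 - X 1) * (X 2 * X 3 * (X 2 - X 3)))
    (I : Submodule k (MvPolynomial (Fin 4) k))
    (hI : ∀ f, f ∈ I ↔
      (f.IsWeightedHomogeneous (![1, 1, 0, 0] : Fin 4 → ℕ) 3 ∧
       f.IsWeightedHomogeneous (![0, 0, 1, 1] : Fin 4 → ℕ) 3 ∧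
       (X 0 * X 1 * (X 0 - X 1)) ^ 2 ∣ rename (![0, 1, 0, 1] : Fin 4 → Fin 2) f)) :
    (∀ f, (f ∈ I ∧ rename (![2, 3, 0, 1] : Fin 4 → Fin 4) f = f) ↔
        f ∈ Submodule.span k ({c, l ^ 2 * h, l ^ 2 * h13, l ^ 2 * h23} : Set (MvPolynomial (Fin 4) k))) ∧
    (∀ f, (f ∈ I ∧ rename (![2, 3, 0, 1] : Fin 4 → Fin 4) f = -f) ↔
        f ∈ Submodule.span k ({l * h ^ 2, l * h * h13, l * h * h23, l * h13 ^ 2, l * h23 ^ 2, l * h13 * h23} :
          Set (MvPolynomial (Fin 4) k))) ∧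
    LinearIndependent k
      ![c, l ^ 2 * h, l ^ 2 * h13, l ^ 2 * h23, l * h ^ 2, l * h * h13, l * h * h23, l * h13 ^ 2, l * h23 ^ 2,
        l * h13 * h23] := by
  have el : l = gl := hl
  have e1 : h1 = gh1 := hh1
  have e2 : h2 = gh2 := hh2
  have e3 : h3 = gh3 := hh3
  have eh : h = gh := by rw [hh, e1, e2, e3]; rfl
  have e13 : h13 = gh13 := by rw [hh13, e1, e3]; rfl
  have e23 : h23 = gh23 := by rw [hh23, e2, e3]; rfl
  have ec : c = gc := hc
  rw [el, eh, e13, e23, ec]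
  have hIn : ∀ f, InI f → f ∈ I := fun f hf => (hI f).mpr hf
  refine ⟨?_, ?_, lin_indep⟩
  · intro f
    constructor
    · rintro ⟨hfI, hs⟩
      obtain ⟨hw1, hw2, hd⟩ := (hI f).mp hfI
      obtain ⟨a, b, c', d, hE⟩ := sym_dir ⟨hw1, hw2⟩ hd hs
      have h6 : (6 : k) ≠ 0 := by norm_num
      have hmem : (6 : k) • f ∈ Submodule.span k ({gc, gl ^ 2 * gh, gl ^ 2 * gh13, gl ^ 2 * gh23} :
          Set (MvPolynomial (Fin 4) k)) := by
        rw [hE]
        refine Submodule.add_mem _ (Submodule.add_mem _ (Submodule.add_mem _ ?_ ?_) ?_) ?_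
        · exact Submodule.smul_mem _ _ (Submodule.subset_span (Set.mem_insert _ _))
        · exact Submodule.smul_mem _ _ (Submodule.subset_span
            (Set.mem_insert_of_mem _ (Set.mem_insert _ _)))
        · exact Submodule.smul_mem _ _ (Submodule.subset_span
            (Set.mem_insert_of_mem _ (Set.mem_insert_of_mem _ (Set.mem_insert _ _))))
        · exact Submodule.smul_mem _ _ (Submodule.subset_span
            (Set.mem_insert_of_mem _ (Set.mem_insert_of_mem _ (Set.mem_insert_of_mem _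
              (Set.mem_singleton _)))))
      have := Submodule.smul_mem _ (6 : k)⁻¹ hmem
      rwa [smul_smul, inv_mul_cancel₀ h6, one_smul] at this
    · intro hf
      induction hf using Submodule.span_induction with
      | mem x hx =>
        simp only [Set.mem_insert_iff, Set.mem_singleton_iff] at hx
        rcases hx with rfl | rfl | rfl | rfl
        · exact ⟨hIn _ InI_gc, iota_gc⟩
        · exact ⟨hIn _ InI_g1, iota_g1⟩
        · exact ⟨hIn _ InI_g2, iota_g2⟩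
        · exact ⟨hIn _ InI_g3, iota_g3⟩
      | zero => exact ⟨I.zero_mem, map_zero _⟩
      | add x y _ _ hx hy => exact ⟨I.add_mem hx.1 hy.1, by rw [map_add, hx.2, hy.2]⟩
      | smul a x _ hx => exact ⟨I.smul_mem a hx.1, by rw [map_smul, hx.2]⟩
  · intro f
    constructor
    · rintro ⟨hfI, hs⟩
      obtain ⟨hw1, hw2, -⟩ := (hI f).mp hfI
      obtain ⟨a4, a5, a6, a7, a8, a9, hE⟩ := anti_dir ⟨hw1, hw2⟩ hs
      have h36 : (36 : k) ≠ 0 := by norm_num
      have hmem : (36 : k) • f ∈ Submodule.span k ({gl * gh ^ 2, gl * gh * gh13, gl * gh * gh23,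
          gl * gh13 ^ 2, gl * gh23 ^ 2, gl * gh13 * gh23} : Set (MvPolynomial (Fin 4) k)) := by
        rw [hE]
        refine Submodule.add_mem _ (Submodule.add_mem _ (Submodule.add_mem _ (Submodule.add_mem _
          (Submodule.add_mem _ ?_ ?_) ?_) ?_) ?_) ?_
        · exact Submodule.smul_mem _ _ (Submodule.subset_span (Set.mem_insert _ _))
        · exact Submodule.smul_mem _ _ (Submodule.subset_span
            (Set.mem_insert_of_mem _ (Set.mem_insert _ _)))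
        · exact Submodule.smul_mem _ _ (Submodule.subset_span
            (Set.mem_insert_of_mem _ (Set.mem_insert_of_mem _ (Set.mem_insert _ _))))
        · exact Submodule.smul_mem _ _ (Submodule.subset_span
            (Set.mem_insert_of_mem _ (Set.mem_insert_of_mem _ (Set.mem_insert_of_mem _
              (Set.mem_insert _ _)))))
        · exact Submodule.smul_mem _ _ (Submodule.subset_span
            (Set.mem_insert_of_mem _ (Set.mem_insert_of_mem _ (Set.mem_insert_of_mem _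
              (Set.mem_insert_of_mem _ (Set.mem_insert _ _))))))
        · exact Submodule.smul_mem _ _ (Submodule.subset_span
            (Set.mem_insert_of_mem _ (Set.mem_insert_of_mem _ (Set.mem_insert_of_mem _
              (Set.mem_insert_of_mem _ (Set.mem_insert_of_mem _ (Set.mem_singleton _)))))))
      have := Submodule.smul_mem _ (36 : k)⁻¹ hmem
      rwa [smul_smul, inv_mul_cancel₀ h36, one_smul] at this
    · intro hf
      induction hf using Submodule.span_induction with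
      | mem x hx =>
        simp only [Set.mem_insert_iff, Set.mem_singleton_iff] at hx
        rcases hx with rfl | rfl | rfl | rfl | rfl | rfl
        · exact ⟨hIn _ InI_g4, iota_g4⟩
        · exact ⟨hIn _ InI_g5, iota_g5⟩
        · exact ⟨hIn _ InI_g6, iota_g6⟩
        · exact ⟨hIn _ InI_g7, iota_g7⟩
        · exact ⟨hIn _ InI_g8, iota_g8⟩
        · exact ⟨hIn _ InI_g9, iota_g9⟩
      | zero => exact ⟨I.zero_mem, by rw [map_zero, neg_zero]⟩
      | add x y _ _ hx hy => exact ⟨I.add_mem hx.1 hy.1, by rw [map_add, hx.2, hy.2, neg_add]⟩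
      | smul a x _ hx => exact ⟨I.smul_mem a hx.1, by rw [map_smul, hx.2, smul_neg]⟩

end Groth.Agent.Helper8.SpinR
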