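import Mathlib

/-!
# Stable point configurations and monomials in determinant sections

Linear Rado theorem, covering by bases with prescribed multiplicities, and the
equivalence between stability of a configuration of vectors and existence of
"monomials in determinant sections" of prescribed multidegree.
-/

namespace Groth.Agent.Lib.Helper8.StabMon

universe u

/-- rank of a finite set of vectors -/
noncomputable def rk (K : Type*) [Field K] {W : Type*} [AddCommGroup W] [Module K W]
    (T : Finset W) : ℕ :=
  Module.finrank K (Submodule.span K (T : Set W))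

theorem rk_mono (K : Type*) [Field K] {W : Type*} [AddCommGroup W] [Module K W]
    [FiniteDimensional K W] {T T' : Finset W} (h : T ⊆ T') : rk K T ≤ rk K T' :=
  Submodule.finrank_mono (Submodule.span_mono (Finset.coe_subset.mpr h))

theorem rk_submod (K : Type*) [Field K] {W : Type*} [AddCommGroup W] [Module K W]
    [FiniteDimensional K W] [DecidableEq W] (T T' : Finset W) :
    rk K (T ∪ T') + rk K (T ∩ T') ≤ rk K T + rk K T' := by
  have h1 := Submodule.finrank_sup_add_finrank_inf_eq (Submodule.span K (T : Set W))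
    (Submodule.span K (T' : Set W))
  have h2 : Module.finrank K (Submodule.span K ((T ∩ T' : Finset W) : Set W)) ≤
      Module.finrank K ↥(Submodule.span K (T : Set W) ⊓ Submodule.span K (T' : Set W)) := by
    apply Submodule.finrank_mono
    rw [Finset.coe_inter]
    exact le_inf (Submodule.span_mono Set.inter_subset_left)
      (Submodule.span_mono Set.inter_subset_right)
  have h3 : Submodule.span K ((T ∪ T' : Finset W) : Set W) =
      Submodule.span K (T : Set W) ⊔ Submodule.span K (T' : Set W) := by
    rw [Finset.coe_union, Submodule.span_union]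
  unfold rk
  rw [h3]
  omega

theorem biUnion_update_of_notMem {ι W : Type*} [DecidableEq ι] [DecidableEq W]
    (S : ι → Finset W) (e₀ : ι) (T : Finset W) (J : Finset ι) (h : e₀ ∉ J) :
    J.biUnion (Function.update S e₀ T) = J.biUnion S :=
  Finset.biUnion_congr rfl (fun e he => by
    rw [Function.update_of_ne]; rintro rfl; exact h he)

/-- Linear version of Rado's theorem. -/
theorem rado (K : Type*) [Field K] {W : Type*} [AddCommGroup W] [Module K W]
    [FiniteDimensional K W] [DecidableEq W] {ι : Type*} [Fintype ι] [DecidableEq ι] :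
    ∀ (n : ℕ) (S : ι → Finset W), (∑ e, (S e).card = n) →
      (∀ J : Finset ι, J.card ≤ rk K (J.biUnion S)) →
      ∃ f : ι → W, (∀ e, f e ∈ S e) ∧ LinearIndependent K f := by
  intro n
  induction n using Nat.strong_induction_on with
  | _ n ih =>
  intro S hn h
  by_cases hall : ∀ e, (S e).card ≤ 1
  · have hone : ∀ e, ∃ a, S e = {a} := by
      intro e
      rw [← Finset.card_eq_one]
      have h1 := h {e}
      rw [Finset.card_singleton, Finset.singleton_biUnion] at h1
      have h2 : (S e).card ≠ 0 := by
        intro h0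
        rw [Finset.card_eq_zero] at h0
        rw [h0] at h1
        simp [rk] at h1
      have := hall e
      omega
    choose f hf using hone
    refine ⟨f, fun e => by rw [hf e]; exact Finset.mem_singleton_self _, ?_⟩
    rw [linearIndependent_iff_card_le_finrank_span]
    have h1 := h Finset.univ
    rw [Finset.card_univ] at h1
    have h2 : ((Finset.univ.biUnion S : Finset W) : Set W) = Set.range f := by
      ext w
      simp only [Finset.coe_biUnion, Finset.coe_univ, Set.mem_univ, Set.iUnion_true,
        Set.mem_iUnion, Finset.mem_coe, Set.mem_range]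
      constructor
      · rintro ⟨e, he⟩
        rw [hf e, Finset.mem_singleton] at he
        exact ⟨e, he.symm⟩
      · rintro ⟨e, rfl⟩
        exact ⟨e, by rw [hf e]; exact Finset.mem_singleton_self _⟩
    unfold rk at h1
    rw [h2] at h1
    exact h1
  · simp only [not_forall, not_le] at hall
    obtain ⟨e₀, he₀⟩ := hall
    obtain ⟨a, ha, b, hb, hab⟩ := Finset.one_lt_card.mp he₀
    have hstep : ∀ c ∈ S e₀,
        (∀ J : Finset ι, J.card ≤ rk K (J.biUnion (Function.update S e₀ ((S e₀).erase c)))) →
        ∃ f : ι → W, (∀ e, f e ∈ S e) ∧ LinearIndependent K f := by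
      intro c hc hR
      have hlt : ∑ e, (Function.update S e₀ ((S e₀).erase c) e).card < n := by
        rw [← hn]
        apply Finset.sum_lt_sum
        · intro e _
          by_cases hee : e = e₀
          · rw [hee, Function.update_self]
            exact Finset.card_le_card (Finset.erase_subset _ _)
          · rw [Function.update_of_ne hee]
        · exact ⟨e₀, Finset.mem_univ _, by
            rw [Function.update_self]; exact Finset.card_erase_lt_of_mem hc⟩
      obtain ⟨f, hf, hfi⟩ := ih _ hlt _ rfl hR
      refine ⟨f, fun e => ?_, hfi⟩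
      have hfe := hf e
      by_cases hee : e = e₀
      · rw [hee] at hfe ⊢
        rw [Function.update_self] at hfe
        exact Finset.mem_of_mem_erase hfe
      · rwa [Function.update_of_ne hee] at hfe
    by_cases hRa : ∀ J : Finset ι,
        J.card ≤ rk K (J.biUnion (Function.update S e₀ ((S e₀).erase a)))
    · exact hstep a ha hRa
    by_cases hRb : ∀ J : Finset ι,
        J.card ≤ rk K (J.biUnion (Function.update S e₀ ((S e₀).erase b)))
    · exact hstep b hb hRb
    exfalso
    simp only [not_forall, not_le] at hRa hRb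
    obtain ⟨J₁, hJ₁⟩ := hRa
    obtain ⟨J₂, hJ₂⟩ := hRb
    have he₁ : e₀ ∈ J₁ := by
      by_contra hne
      rw [biUnion_update_of_notMem S e₀ _ J₁ hne] at hJ₁
      exact absurd (h J₁) (not_le.mpr hJ₁)
    have he₂ : e₀ ∈ J₂ := by
      by_contra hne
      rw [biUnion_update_of_notMem S e₀ _ J₂ hne] at hJ₂
      exact absurd (h J₂) (not_le.mpr hJ₂)
    obtain ⟨T₁, hT₁⟩ : ∃ T, T = J₁.biUnion (Function.update S e₀ ((S e₀).erase a)) := ⟨_, rfl⟩
    obtain ⟨T₂, hT₂⟩ : ∃ T, T = J₂.biUnion (Function.update S e₀ ((S e₀).erase b)) := ⟨_, rfl⟩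
    rw [← hT₁] at hJ₁
    rw [← hT₂] at hJ₂
    have hsub1 : (insert e₀ (J₁.erase e₀ ∪ J₂.erase e₀)).biUnion S ⊆ T₁ ∪ T₂ := by
      intro w hw
      rw [Finset.mem_biUnion] at hw
      obtain ⟨e, he, hwe⟩ := hw
      rw [Finset.mem_insert, Finset.mem_union] at he
      rw [Finset.mem_union, hT₁, hT₂]
      rcases he with he | he | he
      · rw [he] at hwe
        by_cases hwa : w = a
        · right
          rw [Finset.mem_biUnion]
          refine ⟨e₀, he₂, ?_⟩
          rw [Function.update_self, Finset.mem_erase]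
          exact ⟨by rw [hwa]; exact hab, hwe⟩
        · left
          rw [Finset.mem_biUnion]
          refine ⟨e₀, he₁, ?_⟩
          rw [Function.update_self, Finset.mem_erase]
          exact ⟨hwa, hwe⟩
      · left
        rw [Finset.mem_erase] at he
        rw [Finset.mem_biUnion]
        exact ⟨e, he.2, by rw [Function.update_of_ne he.1]; exact hwe⟩
      · right
        rw [Finset.mem_erase] at he
        rw [Finset.mem_biUnion]
        exact ⟨e, he.2, by rw [Function.update_of_ne he.1]; exact hwe⟩
    have hsub2 : (J₁.erase e₀ ∩ J₂.erase e₀).biUnion S ⊆ T₁ ∩ T₂ := by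
      intro w hw
      rw [Finset.mem_biUnion] at hw
      obtain ⟨e, he, hwe⟩ := hw
      rw [Finset.mem_inter, Finset.mem_erase, Finset.mem_erase] at he
      rw [Finset.mem_inter, hT₁, hT₂, Finset.mem_biUnion, Finset.mem_biUnion]
      exact ⟨⟨e, he.1.2, by rw [Function.update_of_ne he.1.1]; exact hwe⟩,
        ⟨e, he.2.2, by rw [Function.update_of_ne he.2.1]; exact hwe⟩⟩
    have hc1 := h (insert e₀ (J₁.erase e₀ ∪ J₂.erase e₀))
    rw [Finset.card_insert_of_notMem (by simp)] at hc1
    have hc2 := h (J₁.erase e₀ ∩ J₂.erase e₀)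
    have hm1 := rk_mono K hsub1
    have hm2 := rk_mono K hsub2
    have hs := rk_submod K T₁ T₂
    have hcard := Finset.card_union_add_card_inter (J₁.erase e₀) (J₂.erase e₀)
    have hk1 : (J₁.erase e₀).card + 1 = J₁.card := Finset.card_erase_add_one he₁
    have hk2 : (J₂.erase e₀).card + 1 = J₂.card := Finset.card_erase_add_one he₂
    omega

/-- Covering by bases with prescribed multiplicities. -/
theorem cover (K : Type*) [Field K] {V : Type*} [AddCommGroup V] [Module K V]
    [FiniteDimensional K V] {E : Type*} [Fintype E] [DecidableEq E] (x : E → V)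
    (w : E → ℕ) (k : ℕ)
    (H1 : ∑ j, w j = k * Module.finrank K V)
    (H2 : ∀ A : Finset E,
      ∑ j ∈ A, w j ≤ k * Module.finrank K (Submodule.span K (x '' (A : Set E)))) :
    ∃ P : Multiset (Finset E), Multiset.card P = k ∧
      (∀ S ∈ P, S.card = Module.finrank K V ∧ LinearIndependent K (fun j : S => x j)) ∧
      ∀ j, Multiset.card (P.filter (fun S => j ∈ S)) = w j := by
  classical
  obtain ⟨S, hS⟩ : ∃ S : (Σ j : E, Fin (w j)) → Finset (Fin k → V),
      ∀ e v, v ∈ S e ↔ ∃ c : Fin k, (Pi.single c (x e.1) : Fin k → V) = v :=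
    ⟨fun e => Finset.univ.image (fun c : Fin k => (Pi.single c (x e.1) : Fin k → V)),
      fun e v => by simp⟩
  have hR : ∀ J : Finset (Σ j : E, Fin (w j)), J.card ≤ rk K (J.biUnion S) := by
    intro J
    obtain ⟨A, hA⟩ : ∃ A : Finset E, A = J.image Sigma.fst := ⟨_, rfl⟩
    have h1 : J.card ≤ ∑ j ∈ A, w j := by
      have hsub : J ⊆ A.sigma (fun j => (Finset.univ : Finset (Fin (w j)))) := by
        intro e he
        rw [Finset.mem_sigma, hA]
        exact ⟨Finset.mem_image_of_mem _ he, Finset.mem_univ _⟩
      calc J.card ≤ (A.sigma (fun j => (Finset.univ : Finset (Fin (w j))))).card :=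
            Finset.card_le_card hsub
        _ = ∑ j ∈ A, w j := by rw [Finset.card_sigma]; simp
    obtain ⟨b, hbA, -, hbi⟩ := Submodule.exists_fun_fin_finrank_span_eq K (x '' (A : Set E))
    have hgi := Pi.linearIndependent_single (R := K) (η := Fin k)
      (ιs := fun _ => Fin (Module.finrank K (Submodule.span K (x '' (A : Set E)))))
      (Ms := fun _ => V) (fun _ => b) (fun _ => hbi)
    have hcard := finrank_span_eq_card hgi
    have hle : Submodule.span K (Set.range fun ji :
          (Σ _ : Fin k, Fin (Module.finrank K (Submodule.span K (x '' (A : Set E))))) =>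
          (Pi.single ji.1 (b ji.2) : Fin k → V)) ≤
        Submodule.span K ((J.biUnion S : Finset (Fin k → V)) : Set (Fin k → V)) := by
      apply Submodule.span_mono
      rintro _ ⟨⟨c, i⟩, rfl⟩
      obtain ⟨j, hjA, hj⟩ := hbA i
      rw [Finset.mem_coe, hA, Finset.mem_image] at hjA
      obtain ⟨e, heJ, hej⟩ := hjA
      rw [Finset.mem_coe, Finset.mem_biUnion]
      refine ⟨e, heJ, (hS e _).mpr ⟨c, ?_⟩⟩
      show (Pi.single c (x e.1) : Fin k → V) = Pi.single c (b i)
      rw [hej, hj]
    have h2 := Submodule.finrank_mono hle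
    rw [hcard] at h2
    have h3 : Fintype.card
        (Σ _ : Fin k, Fin (Module.finrank K (Submodule.span K (x '' (A : Set E))))) =
        k * Module.finrank K (Submodule.span K (x '' (A : Set E))) := by
      rw [Fintype.card_sigma]; simp
    calc J.card ≤ ∑ j ∈ A, w j := h1
      _ ≤ k * Module.finrank K (Submodule.span K (x '' (A : Set E))) := H2 A
      _ = _ := h3.symm
      _ ≤ rk K (J.biUnion S) := h2
  obtain ⟨f, hfS, hfi⟩ := rado K (∑ e, (S e).card) S rfl hR
  have hfc : ∀ e : (Σ j : E, Fin (w j)), ∃ c : Fin k,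
      (Pi.single c (x e.1) : Fin k → V) = f e := fun e => (hS e (f e)).mp (hfS e)
  choose col hcol using hfc
  have hcol_inj : ∀ (j : E) (a a' : Fin (w j)), col ⟨j, a⟩ = col ⟨j, a'⟩ → a = a' := by
    intro j a a' h
    have h1 : f ⟨j, a⟩ = f ⟨j, a'⟩ := by rw [← hcol, ← hcol, h]
    have h2 := hfi.injective h1
    simpa using h2
  obtain ⟨Sfin, hmemS⟩ : ∃ Sfin : Fin k → Finset E,
      ∀ t j, j ∈ Sfin t ↔ ∃ a : Fin (w j), col ⟨j, a⟩ = t := by
    refine ⟨fun t => (Finset.univ.filter
      (fun e : (Σ j : E, Fin (w j)) => col e = t)).image Sigma.fst, fun t j => ?_⟩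
    simp only [Finset.mem_image, Finset.mem_filter, Finset.mem_univ, true_and]
    constructor
    · rintro ⟨⟨j', a⟩, hc, rfl⟩
      exact ⟨a, hc⟩
    · rintro ⟨a, ha⟩
      exact ⟨⟨j, a⟩, ha, rfl⟩
  have hcount : ∀ j, (Finset.univ.filter (fun t => j ∈ Sfin t)).card = w j := by
    intro j
    have h5 : Finset.univ.filter (fun t => j ∈ Sfin t) =
        (Finset.univ : Finset (Fin (w j))).image (fun a => col ⟨j, a⟩) := by
      ext t
      simp only [Finset.mem_filter, Finset.mem_univ, true_and, Finset.mem_image]
      exact hmemS t j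
    rw [h5, Finset.card_image_of_injective _ (fun a a' h => hcol_inj j a a' h),
      Finset.card_univ, Fintype.card_fin]
  have hind : ∀ t, LinearIndependent K (fun j : Sfin t => x j) := by
    intro t
    have hex : ∀ j : Sfin t, ∃ a : Fin (w j), col ⟨j, a⟩ = t := fun j => (hmemS t j).mp j.2
    choose σ hσ using hex
    have hg : Function.Injective (fun j : Sfin t => (⟨j, σ j⟩ : Σ j : E, Fin (w j))) := by
      intro j j' h
      exact Subtype.ext (congrArg Sigma.fst h)
    have h1 : LinearIndependent K
        (f ∘ (fun j : Sfin t => (⟨j, σ j⟩ : Σ j : E, Fin (w j)))) := hfi.comp _ hg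
    have h2 : f ∘ (fun j : Sfin t => (⟨j, σ j⟩ : Σ j : E, Fin (w j))) =
        (LinearMap.single K (fun _ : Fin k => V) t) ∘ (fun j : Sfin t => x j) := by
      funext j
      simp only [Function.comp_apply]
      rw [← hcol, hσ]
      rfl
    rw [h2] at h1
    exact LinearIndependent.of_comp _ h1
  have hsumS : ∑ t, (Sfin t).card = k * Module.finrank K V := by
    rw [← H1]
    have h1 : ∀ t, (Sfin t).card = ∑ j, if j ∈ Sfin t then 1 else 0 := by
      intro t
      rw [Finset.sum_boole, Finset.filter_mem_eq_inter, Finset.univ_inter]; simp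
    simp_rw [h1]
    rw [Finset.sum_comm]
    refine Finset.sum_congr rfl (fun j _ => ?_)
    rw [Finset.sum_boole, hcount j]; simp
  have hleS : ∀ t, (Sfin t).card ≤ Module.finrank K V := by
    intro t
    have h1 := (hind t).fintype_card_le_finrank
    rwa [Fintype.card_coe] at h1
  have heqS : ∀ t, (Sfin t).card = Module.finrank K V := by
    intro t
    by_contra hne
    have hlt : (Sfin t).card < Module.finrank K V := lt_of_le_of_ne (hleS t) hne
    have h1 : ∑ t, (Sfin t).card < ∑ _t : Fin k, Module.finrank K V :=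
      Finset.sum_lt_sum (fun t _ => hleS t) ⟨t, Finset.mem_univ _, hlt⟩
    rw [Finset.sum_const, Finset.card_univ, Fintype.card_fin, smul_eq_mul, hsumS] at h1
    exact lt_irrefl _ h1
  refine ⟨Finset.univ.val.map Sfin, by simp, ?_, ?_⟩
  · intro T hT
    rw [Multiset.mem_map] at hT
    obtain ⟨t, -, rfl⟩ := hT
    exact ⟨heqS t, hind t⟩
  · intro j
    rw [Multiset.filter_map, Multiset.card_map, ← hcount j, Finset.card_def, Finset.filter_val]
    rfl

theorem double_count {E : Type*} [DecidableEq E] (P : Multiset (Finset E)) (A : Finset E) :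
    (P.map (fun S => (S ∩ A).card)).sum =
      ∑ j ∈ A, Multiset.card (P.filter (fun S => j ∈ S)) := by
  induction P using Multiset.induction_on with
  | empty => simp
  | cons S P ih =>
    rw [Multiset.map_cons, Multiset.sum_cons, ih]
    have h1 : ∀ j, Multiset.card ((S ::ₘ P).filter (fun T => j ∈ T)) =
        (if j ∈ S then 1 else 0) + Multiset.card (P.filter (fun T => j ∈ T)) := by
      intro j
      rw [Multiset.filter_cons]
      split_ifs <;> simp <;> omega
    simp_rw [h1]
    rw [Finset.sum_add_distrib, Finset.sum_boole, Finset.filter_mem_eq_inter, Finset.inter_comm]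
    simp

theorem main (K : Type u) [Field K] (V : Type u) [AddCommGroup V] [Module K V]
    [FiniteDimensional K V] (m : ℕ) (x : Fin (m + 1) → V) (hx : ∀ i, x i ≠ 0) :
    (∀ L : Submodule K V, L ≠ ⊥ → L ≠ ⊤ →
        Set.ncard {i : Fin (m + 1) | x i ∈ L} * Module.finrank K V <
          Module.finrank K L * (m + 1)) ↔
      ∃ N N₀ : ℕ, 0 < N₀ ∧ N₀ ≤ N ∧
        ∀ i : Fin (m + 1), ∃ P : Multiset (Finset (Fin (m + 1))), P ≠ 0 ∧
          (∀ S ∈ P, S.card = Module.finrank K V ∧ LinearIndependent K (fun j : S => x j)) ∧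
          ∀ j : Fin (m + 1),
            Multiset.card (P.filter (fun S => j ∈ S)) = if j = i then N - N₀ else N := by
  constructor
  · intro hst
    classical
    obtain ⟨d, hd⟩ : ∃ d, d = Module.finrank K V := ⟨_, rfl⟩
    have hdpos : 0 < d := by
      rw [hd]; exact Module.finrank_pos_iff_exists_ne_zero.mpr ⟨x 0, hx 0⟩
    have hdle : d ≤ d * (d + 1) := Nat.le_mul_of_pos_right d (Nat.succ_pos d)
    refine ⟨d * (d + 1), d, hdpos, hdle, fun i => ?_⟩
    have hpos : 1 ≤ (m + 1) * (d + 1) := Nat.succ_le_of_lt (by positivity)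
    obtain ⟨k, hk⟩ : ∃ k, k + 1 = (m + 1) * (d + 1) :=
      ⟨(m + 1) * (d + 1) - 1, Nat.sub_add_cancel hpos⟩
    obtain ⟨w, hw⟩ : ∃ w : Fin (m + 1) → ℕ,
        ∀ j, w j = if j = i then d * (d + 1) - d else d * (d + 1) := ⟨_, fun _ => rfl⟩
    have hwle : ∀ j, w j ≤ d * (d + 1) := by
      intro j; rw [hw]; split_ifs
      · exact Nat.sub_le _ _
      · exact le_rfl
    have hsum : ∑ j, w j + d = (m + 1) * (d * (d + 1)) := by
      have h1 : ∀ j, w j + (if j = i then d else 0) = d * (d + 1) := by
        intro j
        rw [hw]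
        split_ifs
        · omega
        · rfl
      have h2 : ∑ j, (w j + (if j = i then d else 0)) = ∑ _j : Fin (m + 1), d * (d + 1) :=
        Finset.sum_congr rfl (fun j _ => h1 j)
      rw [Finset.sum_add_distrib, Finset.sum_ite_eq' Finset.univ i (fun _ => d),
        if_pos (Finset.mem_univ i), Finset.sum_const, Finset.card_univ, Fintype.card_fin,
        smul_eq_mul] at h2
      exact h2
    have H1 : ∑ j, w j = k * Module.finrank K V := by
      rw [← hd]
      have h3 : (m + 1) * (d * (d + 1)) = k * d + d := by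
        calc (m + 1) * (d * (d + 1)) = ((m + 1) * (d + 1)) * d := by ring
          _ = (k + 1) * d := by rw [hk]
          _ = k * d + d := by ring
      exact Nat.add_right_cancel (hsum.trans h3)
    have H2 : ∀ A : Finset (Fin (m + 1)), ∑ j ∈ A, w j ≤
        k * Module.finrank K (Submodule.span K (x '' (A : Set (Fin (m + 1))))) := by
      intro A
      rcases A.eq_empty_or_nonempty with hA | hA
      · rw [hA]; simp
      obtain ⟨L, hL⟩ : ∃ L, L = Submodule.span K (x '' (A : Set (Fin (m + 1)))) := ⟨_, rfl⟩
      rw [← hL]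
      have hAL : ∀ j ∈ A, x j ∈ L := fun j hj => by
        rw [hL]; exact Submodule.subset_span ⟨j, hj, rfl⟩
      have hLbot : L ≠ ⊥ := by
        obtain ⟨j, hj⟩ := hA
        intro h
        have h1 := hAL j hj
        rw [h, Submodule.mem_bot] at h1
        exact hx j h1
      by_cases hLtop : L = ⊤
      · rw [hLtop, finrank_top, ← H1]
        exact Finset.sum_le_sum_of_subset (Finset.subset_univ A)
      · have hs := hst L hLbot hLtop
        rw [← hd] at hs
        obtain ⟨r, hr⟩ : ∃ r, r = Module.finrank K L := ⟨_, rfl⟩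
        rw [← hr] at hs ⊢
        obtain ⟨c, hc⟩ : ∃ c, c = Set.ncard {i : Fin (m + 1) | x i ∈ L} := ⟨_, rfl⟩
        rw [← hc] at hs
        have hAc : A.card ≤ c := by
          rw [hc, ← Set.ncard_coe_finset A]
          exact Set.ncard_le_ncard (fun j hj => hAL j hj) (Set.toFinite _)
        have hrd : r ≤ d := by rw [hr, hd]; exact Submodule.finrank_le L
        have h1 : ∑ j ∈ A, w j ≤ A.card * (d * (d + 1)) := by
          calc ∑ j ∈ A, w j ≤ ∑ _j ∈ A, d * (d + 1) := Finset.sum_le_sum (fun j _ => hwle j)
            _ = A.card * (d * (d + 1)) := by rw [Finset.sum_const, smul_eq_mul]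
        have h2 : A.card * (d * (d + 1)) ≤ (c * d) * (d + 1) := by
          calc A.card * (d * (d + 1)) = (A.card * d) * (d + 1) := by ring
            _ ≤ (c * d) * (d + 1) :=
              Nat.mul_le_mul_right _ (Nat.mul_le_mul_right _ hAc)
        have h3 : (c * d + 1) * (d + 1) ≤ (r * (m + 1)) * (d + 1) :=
          Nat.mul_le_mul_right _ (Nat.lt_iff_add_one_le.mp hs)
        have h4 : (k + 1) * r = (r * (m + 1)) * (d + 1) := by rw [hk]; ring
        have h5 : (c * d + 1) * (d + 1) = (c * d) * (d + 1) + (d + 1) := by ring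
        have h6 : (k + 1) * r = k * r + r := by ring
        linarith
    obtain ⟨P, hPc, hPb, hPw⟩ := cover K x w k H1 H2
    refine ⟨P, ?_, hPb, fun j => by rw [hPw j, hw j]⟩
    intro h0
    rw [h0, Multiset.card_zero] at hPc
    have h2 : 2 ≤ (m + 1) * (d + 1) := by nlinarith
    omega
  · rintro ⟨N, N₀, hN₀, hle, hP⟩ L hLbot hLtop
    classical
    obtain ⟨d, hd⟩ : ∃ d, d = Module.finrank K V := ⟨_, rfl⟩
    obtain ⟨r, hr⟩ : ∃ r, r = Module.finrank K L := ⟨_, rfl⟩
    rw [← hd, ← hr]
    obtain ⟨A, hA⟩ : ∃ A : Finset (Fin (m + 1)), ∀ i, i ∈ A ↔ x i ∈ L :=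
      ⟨Finset.univ.filter (fun i => x i ∈ L), fun i => by simp⟩
    have hAc : Set.ncard {i : Fin (m + 1) | x i ∈ L} = A.card := by
      rw [← Set.ncard_coe_finset A]
      congr 1
      ext i
      simp [hA]
    rw [hAc]
    have hrpos : 0 < r := by
      rw [hr]
      obtain ⟨y, hy, hy0⟩ := Submodule.exists_mem_ne_zero_of_ne_bot hLbot
      exact Module.finrank_pos_iff_exists_ne_zero.mpr
        ⟨⟨y, hy⟩, fun h => hy0 (congrArg Subtype.val h)⟩
    have hrd : r < d := by rw [hr, hd]; exact Submodule.finrank_lt hLtop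
    have hbound : ∀ (S : Finset (Fin (m + 1))), LinearIndependent K (fun j : S => x j) →
        (S ∩ A).card ≤ r := by
      intro S hS
      have hsub : ∀ j : ↥(S ∩ A), (j : Fin (m + 1)) ∈ S := fun j => (Finset.mem_inter.mp j.2).1
      have hinL : ∀ j : ↥(S ∩ A), x j ∈ L := fun j => (hA _).mp (Finset.mem_inter.mp j.2).2
      have h1 : LinearIndependent K (fun j : ↥(S ∩ A) => x j) :=
        hS.comp (fun j : ↥(S ∩ A) => (⟨j, hsub j⟩ : S))
          (fun j j' h => Subtype.ext (congrArg (fun z : S => (z : Fin (m + 1))) h))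
      have h2 : LinearIndependent K (fun j : ↥(S ∩ A) => (⟨x j, hinL j⟩ : L)) :=
        LinearIndependent.of_comp L.subtype (by exact h1)
      have h3 := h2.fintype_card_le_finrank
      rwa [Fintype.card_coe, ← hr] at h3
    by_cases hall : A = Finset.univ
    · exfalso
      obtain ⟨P, hP0, hPb, -⟩ := hP 0
      obtain ⟨S, hS⟩ := Multiset.exists_mem_of_ne_zero hP0
      have h1 := hbound S (hPb S hS).2
      rw [hall, Finset.inter_univ, (hPb S hS).1, ← hd] at h1
      omega
    · obtain ⟨i, hi⟩ : ∃ i, i ∉ A := by
        by_contra h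
        simp only [not_exists, not_not] at h
        exact hall (Finset.eq_univ_iff_forall.mpr h)
      obtain ⟨P, hP0, hPb, hPw⟩ := hP i
      have hdc := double_count P A
      have hsumA : ∑ j ∈ A, Multiset.card (P.filter (fun S => j ∈ S)) = A.card * N := by
        have h1 : ∀ j ∈ A, Multiset.card (P.filter (fun S => j ∈ S)) = N := fun j hj => by
          rw [hPw j, if_neg]; rintro rfl; exact hi hj
        rw [Finset.sum_congr rfl h1, Finset.sum_const, smul_eq_mul]
      have hle1 : (P.map (fun S => (S ∩ A).card)).sum ≤ Multiset.card P * r := by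
        have h1 := Multiset.sum_le_card_nsmul (P.map (fun S => (S ∩ A).card)) r (by
          intro y hy
          rw [Multiset.mem_map] at hy
          obtain ⟨S, hS, rfl⟩ := hy
          exact hbound S (hPb S hS).2)
        rwa [Multiset.card_map, smul_eq_mul] at h1
      have hdc2 := double_count P Finset.univ
      have hsumU : ∑ j, Multiset.card (P.filter (fun S => j ∈ S)) + N₀ = (m + 1) * N := by
        have h1 : ∀ j, Multiset.card (P.filter (fun S => j ∈ S)) +
            (if j = i then N₀ else 0) = N := by
          intro j; rw [hPw j]; split_ifs <;> omega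
        have h2 : ∑ j, (Multiset.card (P.filter (fun S => j ∈ S)) +
            (if j = i then N₀ else 0)) = ∑ _j : Fin (m + 1), N :=
          Finset.sum_congr rfl (fun j _ => h1 j)
        rw [Finset.sum_add_distrib, Finset.sum_ite_eq' Finset.univ i (fun _ => N₀),
          if_pos (Finset.mem_univ i), Finset.sum_const, Finset.card_univ, Fintype.card_fin,
          smul_eq_mul] at h2
        exact h2
      have hPd : (P.map (fun S => (S ∩ Finset.univ).card)).sum = Multiset.card P * d := by
        have h1 : P.map (fun S => (S ∩ Finset.univ).card) = P.map (fun _ => d) :=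
          Multiset.map_congr rfl (fun S hS => by rw [Finset.inter_univ, (hPb S hS).1, hd])
        rw [h1, Multiset.map_const', Multiset.sum_replicate, smul_eq_mul]
      have e1 : A.card * N ≤ Multiset.card P * r := by rw [← hsumA, ← hdc]; exact hle1
      have e2 : Multiset.card P * d + N₀ = (m + 1) * N := by rw [← hPd, hdc2]; exact hsumU
      have hN : 0 < N := lt_of_lt_of_le hN₀ hle
      have key : A.card * d * N < r * (m + 1) * N := by
        have f1 : A.card * d * N = (A.card * N) * d := by ring
        have f2 : (A.card * N) * d ≤ (Multiset.card P * r) * d := Nat.mul_le_mul_right d e1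
        have f3 : (Multiset.card P * r) * d + r * N₀ = r * (m + 1) * N := by
          calc (Multiset.card P * r) * d + r * N₀ = r * (Multiset.card P * d + N₀) := by ring
            _ = r * ((m + 1) * N) := by rw [e2]
            _ = r * (m + 1) * N := by ring
        have f4 : 0 < r * N₀ := Nat.mul_pos hrpos hN₀
        linarith
      exact Nat.lt_of_mul_lt_mul_right key

end Groth.Agent.Lib.Helper8.StabMon
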