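import Mathlib
import Groth.Prelude.Def_FSch3
import Groth.Agent.Lib.Helper7.ComplFin.Main

/-!
# Units of adic completions and functoriality of `FSch.complMap`
-/

set_option autoImplicit false
universe u

namespace Groth.Agent.Helper8.StalkSub

open Finset

section Units

variable {R : Type u} [CommRing R] (I : Ideal R)

/-- An element of an adic completion which is a unit modulo `I` is a unit. -/
theorem isUnit_of_isUnit_evalₐ_one (x : AdicCompletion I R)
    (hx : IsUnit (AdicCompletion.evalₐ I 1 x)) : IsUnit x := by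
  obtain ⟨c, rfl⟩ := AdicCompletion.mk_surjective I R x
  obtain ⟨d', hd'⟩ := hx.exists_right_inv
  obtain ⟨d, rfl⟩ := Ideal.Quotient.mk_surjective d'
  rw [AdicCompletion.evalₐ_mk, ← map_mul, ← map_one (Ideal.Quotient.mk (I ^ 1)),
    Ideal.Quotient.eq, pow_one] at hd'
  -- `c n * d - 1 ∈ I` for `n ≥ 1`
  have hw : ∀ n : ℕ, 1 ≤ n → 1 - c.val n * d ∈ I := by
    intro n hn
    have h1 := AdicCompletion.Ideal.mk_eq_mk I hn c
    rw [Ideal.Quotient.eq, pow_one] at h1
    have : 1 - c.val n * d = -(c.val 1 * d - 1) - (c.val n - c.val 1) * d := by ring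
    rw [this]
    exact I.sub_mem (I.neg_mem hd') (I.mul_mem_right _ h1)
  let r : ℕ → R := fun n => d * ∑ k ∈ range n, (1 - c.val n * d) ^ k
  have hr : ∀ n : ℕ, c.val n * r n - 1 ∈ I ^ n := by
    intro n
    have h1 : c.val n * r n - 1 = -((1 - c.val n * d) ^ n) := by
      have := mul_neg_geom_sum (1 - c.val n * d) n
      simp only [r]
      have h2 : c.val n * (d * ∑ k ∈ range n, (1 - c.val n * d) ^ k) =
          (1 - (1 - c.val n * d)) * ∑ k ∈ range n, (1 - c.val n * d) ^ k := by ring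
      rw [h2, this]
      ring
    rw [h1]
    refine (I ^ n).neg_mem ?_
    rcases Nat.eq_zero_or_pos n with rfl | hn
    · simp
    · exact Ideal.pow_mem_pow (hw n hn) n
  have hcauchy : ∀ n, r n ≡ r (n + 1) [SMOD (I ^ n • ⊤ : Submodule R R)] := by
    intro n
    rw [SModEq.sub_mem, smul_eq_mul, Ideal.mul_top]
    have h1 : c.val n - c.val (n + 1) ∈ I ^ n := by
      have := AdicCompletion.Ideal.mk_eq_mk I (Nat.le_succ n) c
      rw [Ideal.Quotient.eq] at this
      rw [← neg_sub]
      exact (I ^ n).neg_mem this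
    have h2 : c.val (n + 1) * r (n + 1) - 1 ∈ I ^ n :=
      Ideal.pow_le_pow_right (Nat.le_succ n) (hr (n + 1))
    have h3 : r n - r (n + 1) = r n * (-(c.val (n + 1) * r (n + 1) - 1))
        - r n * ((c.val n - c.val (n + 1)) * r (n + 1))
        + (c.val n * r n - 1) * r (n + 1) := by ring
    rw [h3]
    refine (I ^ n).add_mem ((I ^ n).sub_mem ?_ ?_) ?_
    · exact (I ^ n).mul_mem_left _ ((I ^ n).neg_mem h2)
    · exact (I ^ n).mul_mem_left _ ((I ^ n).mul_mem_right _ h1)
    · exact (I ^ n).mul_mem_right _ (hr n)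
  let y : AdicCompletion I R := AdicCompletion.mk I R (AdicCompletion.AdicCauchySequence.mk I R r hcauchy)
  rw [isUnit_iff_exists_inv]
  refine ⟨y, ?_⟩
  refine AdicCompletion.ext_evalₐ fun n => ?_
  rw [map_mul, map_one, AdicCompletion.evalₐ_mk, AdicCompletion.evalₐ_mk, ← map_mul,
    ← map_one (Ideal.Quotient.mk (I ^ n)), Ideal.Quotient.eq]
  exact hr n

theorem isUnit_iff_isUnit_evalₐ_one (x : AdicCompletion I R) :
    IsUnit x ↔ IsUnit (AdicCompletion.evalₐ I 1 x) :=
  ⟨fun h => h.map _, isUnit_of_isUnit_evalₐ_one I x⟩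

end Units

section Comp

variable {S T U : Type u} [CommRing S] [CommRing T] [CommRing U]
  (I : Ideal S) (K : Ideal T) (L : Ideal U) (g₁ : S →+* T) (g₂ : T →+* U)

theorem complMap_comp (h₁ : I.map g₁ ≤ K) (h₂ : K.map g₂ ≤ L) (h₃ : I.map (g₂.comp g₁) ≤ L)
    (x : AdicCompletion I S) :
    FSch.complMap K L g₂ h₂ (FSch.complMap I K g₁ h₁ x) =
      FSch.complMap I L (g₂.comp g₁) h₃ x := by
  refine AdicCompletion.ext_evalₐ fun n => ?_
  rw [Groth.Agent.Helper7.ComplFin.evalₐ_complMap, Groth.Agent.Helper7.ComplFin.evalₐ_complMap,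
    Groth.Agent.Helper7.ComplFin.evalₐ_complMap]
  obtain ⟨s, hs⟩ := Ideal.Quotient.mk_surjective (AdicCompletion.evalₐ I n x)
  rw [← hs, Ideal.quotientMap_mk, Ideal.quotientMap_mk, Ideal.quotientMap_mk]
  rfl

theorem complMap_congr {g g' : S →+* T} (hg : g = g') (h : I.map g ≤ K) (h' : I.map g' ≤ K)
    (x : AdicCompletion I S) : FSch.complMap I K g h x = FSch.complMap I K g' h' x := by
  subst hg
  rfl

end Comp

end Groth.Agent.Helper8.StalkSub
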