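import Mathlib
import Groth.Prelude.Def_FSch3
import Groth.Agent.Lib.Helper7.ComplFin.Main
import Groth.Agent.Lib.Helper8.StalkSub1

/-!
# The stalk ring `A_{S}` of a formal spectrum: transition maps, directedness, locality
-/

set_option autoImplicit false
universe u

namespace Groth.Agent.Helper8.StalkSub

open Groth.Agent.Helper7

section LocalCompl

variable {R : Type u} [CommRing R] [IsLocalRing R] (I : Ideal R)

theorem pow_one_ne_top (hI : I ≤ IsLocalRing.maximalIdeal R) : I ^ 1 ≠ ⊤ := by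
  rw [pow_one]
  intro h
  exact (IsLocalRing.maximalIdeal.isMaximal R).ne_top (top_le_iff.mp (h ▸ hI))

theorem isLocalRing_adicCompletion (hI : I ≤ IsLocalRing.maximalIdeal R) :
    IsLocalRing (AdicCompletion I R) := by
  haveI : Nontrivial (R ⧸ I ^ 1) := Ideal.Quotient.nontrivial_iff.mpr (pow_one_ne_top I hI)
  haveI : IsLocalRing (R ⧸ I ^ 1) :=
    IsLocalRing.of_surjective' (Ideal.Quotient.mk (I ^ 1)) Ideal.Quotient.mk_surjective
  haveI : IsLocalHom (AdicCompletion.evalₐ I 1).toRingHom :=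
    ⟨fun x hx => isUnit_of_isUnit_evalₐ_one I x hx⟩
  exact RingHom.domain_isLocalRing (AdicCompletion.evalₐ I 1).toRingHom

theorem isUnit_iff_of_evalₐ_one_eq (hI : I ≤ IsLocalRing.maximalIdeal R)
    (x : AdicCompletion I R) (b : R)
    (hb : AdicCompletion.evalₐ I 1 x = Ideal.Quotient.mk (I ^ 1) b) : IsUnit x ↔ IsUnit b := by
  rw [isUnit_iff_isUnit_evalₐ_one, hb]
  haveI : Nontrivial (R ⧸ I ^ 1) := Ideal.Quotient.nontrivial_iff.mpr (pow_one_ne_top I hI)
  haveI : IsLocalHom (Ideal.Quotient.mk (I ^ 1)) :=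
    IsLocalHom.of_surjective _ Ideal.Quotient.mk_surjective
  exact ⟨fun h => isUnit_of_map_unit (Ideal.Quotient.mk (I ^ 1)) b h, fun h => h.map _⟩

end LocalCompl

variable (A : Type u) [CommRing A] (J : Ideal A)

section Away

variable (f h : A)

/-- The localization map `A_f → A_h` when `f` becomes a unit in `A_h`. -/
noncomputable def awayMap (hu : IsUnit (algebraMap A (Localization.Away h) f)) :
    Localization.Away f →+* Localization.Away h :=
  IsLocalization.Away.lift f hu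

theorem awayMap_algebraMap (hu : IsUnit (algebraMap A (Localization.Away h) f)) (a : A) :
    awayMap A f h hu (algebraMap A (Localization.Away f) a) =
      algebraMap A (Localization.Away h) a :=
  IsLocalization.Away.lift_eq f hu a

theorem awayMap_comp_algebraMap (hu : IsUnit (algebraMap A (Localization.Away h) f)) :
    (awayMap A f h hu).comp (algebraMap A (Localization.Away f)) =
      algebraMap A (Localization.Away h) :=
  RingHom.ext (awayMap_algebraMap A f h hu)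

theorem map_awayMap_le (hu : IsUnit (algebraMap A (Localization.Away h) f)) :
    (J.map (algebraMap A (Localization.Away f))).map (awayMap A f h hu) ≤
      J.map (algebraMap A (Localization.Away h)) := by
  rw [Ideal.map_map, awayMap_comp_algebraMap]

/-- The transition map `A_{f} → A_{h}` of completed localizations. -/
noncomputable def cAwayMap (hu : IsUnit (algebraMap A (Localization.Away h) f)) :
    FSch.cAway A J f →+* FSch.cAway A J h :=
  FSch.complMap _ _ (awayMap A f h hu) (map_awayMap_le A J f h hu)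

theorem isUnit_of_dvd (hd : f ∣ h) : IsUnit (algebraMap A (Localization.Away h) f) :=
  isUnit_of_dvd_unit (map_dvd _ hd) (IsLocalization.Away.algebraMap_isUnit h)

end Away

section Prime

variable (𝔭 : Ideal A) [𝔭.IsPrime]

theorem awayToAtPrime_algebraMap (f : A) (hf : f ∉ 𝔭) (a : A) :
    FSch.awayToAtPrime A 𝔭 f hf (algebraMap A (Localization.Away f) a) =
      algebraMap A (Localization.AtPrime 𝔭) a :=
  IsLocalization.Away.lift_eq f _ a

theorem awayToAtPrime_comp_awayMap (f h : A) (hf : f ∉ 𝔭) (hh : h ∉ 𝔭)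
    (hu : IsUnit (algebraMap A (Localization.Away h) f)) :
    (FSch.awayToAtPrime A 𝔭 h hh).comp (awayMap A f h hu) = FSch.awayToAtPrime A 𝔭 f hf := by
  apply IsLocalization.ringHom_ext (Submonoid.powers f)
  ext a
  simp only [RingHom.coe_comp, Function.comp_apply, awayMap_algebraMap, awayToAtPrime_algebraMap]

theorem cAwayToAtPrime_cAwayMap (f h : A) (hf : f ∉ 𝔭) (hh : h ∉ 𝔭)
    (hu : IsUnit (algebraMap A (Localization.Away h) f)) (x : FSch.cAway A J f) :
    FSch.cAwayToAtPrime A J 𝔭 h hh (cAwayMap A J f h hu x) =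
      FSch.cAwayToAtPrime A J 𝔭 f hf x := by
  have h₃ : (J.map (algebraMap A (Localization.Away f))).map
      ((FSch.awayToAtPrime A 𝔭 h hh).comp (awayMap A f h hu)) ≤
        J.map (algebraMap A (Localization.AtPrime 𝔭)) := by
    rw [awayToAtPrime_comp_awayMap A 𝔭 f h hf hh hu]
    exact FSch.map_awayToAtPrime_le A J 𝔭 f hf
  unfold FSch.cAwayToAtPrime cAwayMap
  rw [complMap_comp _ _ _ _ _ _ _ h₃]
  exact complMap_congr _ _ (awayToAtPrime_comp_awayMap A 𝔭 f h hf hh hu) _ _ x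

theorem range_le_range (f h : A) (hf : f ∉ 𝔭) (hh : h ∉ 𝔭) (hd : f ∣ h) :
    (FSch.cAwayToAtPrime A J 𝔭 f hf).range ≤ (FSch.cAwayToAtPrime A J 𝔭 h hh).range := by
  rintro _ ⟨x, rfl⟩
  exact ⟨cAwayMap A J f h (isUnit_of_dvd A f h hd) x,
    cAwayToAtPrime_cAwayMap A J 𝔭 f h hf hh _ x⟩

theorem mul_not_mem {f g : A} (hf : f ∉ 𝔭) (hg : g ∉ 𝔭) : f * g ∉ 𝔭 :=
  𝔭.primeCompl.mul_mem hf hg

theorem directed_range : Directed (· ≤ ·)
    (fun f : {f : A // f ∉ 𝔭} => (FSch.cAwayToAtPrime A J 𝔭 f.1 f.2).range) := by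
  intro f g
  exact ⟨⟨f.1 * g.1, mul_not_mem A 𝔭 f.2 g.2⟩,
    range_le_range A J 𝔭 _ _ f.2 _ (Dvd.intro _ rfl),
    range_le_range A J 𝔭 _ _ g.2 _ (Dvd.intro_left _ rfl)⟩

theorem mem_stalkSubring_iff (x : FSch.cAtPrime A J 𝔭) :
    x ∈ FSch.stalkSubring A J 𝔭 ↔ ∃ (f : A) (hf : f ∉ 𝔭) (y : FSch.cAway A J f),
      FSch.cAwayToAtPrime A J 𝔭 f hf y = x := by
  haveI : Nonempty {f : A // f ∉ 𝔭} := ⟨⟨1, 𝔭.primeCompl.one_mem⟩⟩
  unfold FSch.stalkSubring
  rw [Subring.mem_iSup_of_directed (directed_range A J 𝔭)]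
  constructor
  · rintro ⟨⟨f, hf⟩, y, hy⟩
    exact ⟨f, hf, y, hy⟩
  · rintro ⟨f, hf, y, hy⟩
    exact ⟨⟨f, hf⟩, y, hy⟩

theorem cAwayToAtPrime_mem (f : A) (hf : f ∉ 𝔭) (y : FSch.cAway A J f) :
    FSch.cAwayToAtPrime A J 𝔭 f hf y ∈ FSch.stalkSubring A J 𝔭 :=
  (mem_stalkSubring_iff A J 𝔭 _).mpr ⟨f, hf, y, rfl⟩

theorem map_le_maximalIdeal (hJ : J ≤ 𝔭) :
    J.map (algebraMap A (Localization.AtPrime 𝔭)) ≤
      IsLocalRing.maximalIdeal (Localization.AtPrime 𝔭) := by
  rw [← Localization.AtPrime.map_eq_maximalIdeal]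
  exact Ideal.map_mono hJ

theorem isLocalRing_cAtPrime (hJ : J ≤ 𝔭) : IsLocalRing (FSch.cAtPrime A J 𝔭) :=
  isLocalRing_adicCompletion _ (map_le_maximalIdeal A J 𝔭 hJ)

/-- Unit spreading: an element of `A_{f}` which becomes a unit in `A{S⁻¹}` is already a
unit in some `A_{fa}`, `a ∉ 𝔭`. -/
theorem exists_isUnit_cAwayMap (hJ : J ≤ 𝔭) (f : A) (hf : f ∉ 𝔭) (y : FSch.cAway A J f)
    (hy : IsUnit (FSch.cAwayToAtPrime A J 𝔭 f hf y)) :
    ∃ (a : A) (_ : a ∉ 𝔭),
      IsUnit (cAwayMap A J f (f * a) (isUnit_of_dvd A f (f * a) (Dvd.intro _ rfl)) y) := by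
  obtain ⟨b, hb⟩ := Ideal.Quotient.mk_surjective
    (AdicCompletion.evalₐ (J.map (algebraMap A (Localization.Away f))) 1 y)
  have h1 : AdicCompletion.evalₐ (J.map (algebraMap A (Localization.AtPrime 𝔭))) 1
      (FSch.cAwayToAtPrime A J 𝔭 f hf y) =
      Ideal.Quotient.mk _ (FSch.awayToAtPrime A 𝔭 f hf b) := by
    unfold FSch.cAwayToAtPrime
    rw [ComplFin.evalₐ_complMap, ← hb, Ideal.quotientMap_mk]
  have h2 : IsUnit (FSch.awayToAtPrime A 𝔭 f hf b) :=
    (isUnit_iff_of_evalₐ_one_eq _ (map_le_maximalIdeal A J 𝔭 hJ) _ _ h1).mp hy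
  obtain ⟨⟨a, s⟩, has⟩ := IsLocalization.surj (Submonoid.powers f) b
  -- `b * algebraMap s = algebraMap a`
  have h3 : FSch.awayToAtPrime A 𝔭 f hf b * algebraMap A (Localization.AtPrime 𝔭) s.1 =
      algebraMap A (Localization.AtPrime 𝔭) a := by
    have := congrArg (FSch.awayToAtPrime A 𝔭 f hf) has
    rwa [map_mul, awayToAtPrime_algebraMap, awayToAtPrime_algebraMap] at this
  have hs : (s : A) ∉ 𝔭 := by
    obtain ⟨k, hk⟩ := s.2
    rw [← hk]
    exact fun hmem => hf (Ideal.IsPrime.mem_of_pow_mem inferInstance k hmem)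
  have ha : a ∉ 𝔭 := by
    have h4 : IsUnit (algebraMap A (Localization.AtPrime 𝔭) a) := by
      rw [← h3]
      exact h2.mul (IsLocalization.map_units (Localization.AtPrime 𝔭)
        (⟨s.1, hs⟩ : 𝔭.primeCompl))
    exact fun hmem => (IsLocalization.AtPrime.isUnit_to_map_iff
      (Localization.AtPrime 𝔭) 𝔭 a).mp h4 hmem
  refine ⟨a, ha, ?_⟩
  set hu := isUnit_of_dvd A f (f * a) (Dvd.intro _ rfl)
  apply isUnit_of_isUnit_evalₐ_one
  unfold cAwayMap
  rw [ComplFin.evalₐ_complMap, ← hb, Ideal.quotientMap_mk]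
  apply IsUnit.map
  have h5 : awayMap A f (f * a) hu b * algebraMap A (Localization.Away (f * a)) s.1 =
      algebraMap A (Localization.Away (f * a)) a := by
    have := congrArg (awayMap A f (f * a) hu) has
    rwa [map_mul, awayMap_algebraMap, awayMap_algebraMap] at this
  have h6 : IsUnit (algebraMap A (Localization.Away (f * a)) a) :=
    isUnit_of_dvd A a (f * a) (Dvd.intro_left _ rfl)
  rw [← h5] at h6
  exact isUnit_of_mul_isUnit_left h6

theorem isLocalHom_subtype (hJ : J ≤ 𝔭) : IsLocalHom (FSch.stalkSubring A J 𝔭).subtype := by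
  refine ⟨fun x hx => ?_⟩
  obtain ⟨f, hf, y, hy⟩ := (mem_stalkSubring_iff A J 𝔭 x.1).mp x.2
  have hy' : IsUnit (FSch.cAwayToAtPrime A J 𝔭 f hf y) := by
    rw [hy]
    exact hx
  obtain ⟨a, ha, hu⟩ := exists_isUnit_cAwayMap A J 𝔭 hJ f hf y hy'
  obtain ⟨z, hz⟩ := hu.exists_right_inv
  have hfa : f * a ∉ 𝔭 := mul_not_mem A 𝔭 hf ha
  rw [isUnit_iff_exists_inv]
  refine ⟨⟨FSch.cAwayToAtPrime A J 𝔭 (f * a) hfa z, cAwayToAtPrime_mem A J 𝔭 _ hfa z⟩, ?_⟩
  apply Subtype.ext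
  rw [Subring.coe_mul, Subring.coe_one]
  show x.1 * FSch.cAwayToAtPrime A J 𝔭 (f * a) hfa z = 1
  rw [← hy, ← cAwayToAtPrime_cAwayMap A J 𝔭 f (f * a) hf hfa
    (isUnit_of_dvd A f (f * a) (Dvd.intro _ rfl)) y, ← map_mul, hz, map_one]

theorem isLocalRing_stalkSubring (hJ : J ≤ 𝔭) : IsLocalRing (FSch.stalkSubring A J 𝔭) := by
  haveI := isLocalRing_cAtPrime A J 𝔭 hJ
  haveI := isLocalHom_subtype A J 𝔭 hJ
  exact RingHom.domain_isLocalRing (FSch.stalkSubring A J 𝔭).subtype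

end Prime

end Groth.Agent.Helper8.StalkSub
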