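import Mathlib
import Groth.Prelude.Def_FSch3
import Groth.Agent.Lib.Helper7.ComplFin.Main
import Groth.Agent.Lib.Helper8.StalkSub2

/-!
# Residue fields of the stalk ring `A_{S}` and of `A{S⁻¹}`
-/

set_option autoImplicit false
universe u

namespace Groth.Agent.Helper8.StalkSub

open Groth.Agent.Helper7

theorem residueField_map_bijective_of_approx {R S : Type*} [CommRing R] [CommRing S]
    [IsLocalRing R] [IsLocalRing S] (φ : R →+* S) [IsLocalHom φ]
    (h : ∀ x : S, ∃ r : R, ¬ IsUnit (x - φ r)) :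
    Function.Bijective (IsLocalRing.ResidueField.map φ) := by
  refine ⟨RingHom.injective _, fun z => ?_⟩
  obtain ⟨x, rfl⟩ := IsLocalRing.residue_surjective z
  obtain ⟨r, hr⟩ := h x
  refine ⟨IsLocalRing.residue R r, ?_⟩
  rw [IsLocalRing.ResidueField.map_residue]
  symm
  rw [← sub_eq_zero, ← map_sub, IsLocalRing.residue_eq_zero_iff]
  exact hr

variable (A : Type u) [CommRing A] (J : Ideal A) (𝔭 : Ideal A) [𝔭.IsPrime]

theorem exists_sub_not_isUnit (hJ : J ≤ 𝔭) (x : FSch.cAtPrime A J 𝔭) :
    ∃ b : Localization.AtPrime 𝔭,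
      ¬ IsUnit (x - algebraMap (Localization.AtPrime 𝔭) (FSch.cAtPrime A J 𝔭) b) := by
  obtain ⟨b, hb⟩ := Ideal.Quotient.mk_surjective
    (AdicCompletion.evalₐ (J.map (algebraMap A (Localization.AtPrime 𝔭))) 1 x)
  refine ⟨b, fun hu => ?_⟩
  haveI : Nontrivial (Localization.AtPrime 𝔭 ⧸ (J.map (algebraMap A (Localization.AtPrime 𝔭))) ^ 1) :=
    Ideal.Quotient.nontrivial_iff.mpr (pow_one_ne_top _ (map_le_maximalIdeal A J 𝔭 hJ))
  have h1 := hu.map (AdicCompletion.evalₐ (J.map (algebraMap A (Localization.AtPrime 𝔭))) 1)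
  rw [map_sub, AlgHom.commutes, ← hb] at h1
  have h2 : Ideal.Quotient.mk (J.map (algebraMap A (Localization.AtPrime 𝔭)) ^ 1) b -
      algebraMap (Localization.AtPrime 𝔭) _ b = 0 := sub_self _
  rw [h2] at h1
  exact not_isUnit_zero h1

theorem algebraMap_mem_stalkSubring (b : Localization.AtPrime 𝔭) :
    algebraMap (Localization.AtPrime 𝔭) (FSch.cAtPrime A J 𝔭) b ∈ FSch.stalkSubring A J 𝔭 := by
  obtain ⟨⟨a, s⟩, has⟩ := IsLocalization.surj 𝔭.primeCompl b
  have hs : (s : A) ∉ 𝔭 := s.2
  set c : Localization.Away (s : A) :=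
    algebraMap A (Localization.Away (s : A)) a * IsLocalization.Away.invSelf (s : A) with hc
  have h1 : c * algebraMap A (Localization.Away (s : A)) s = algebraMap A _ a := by
    have : c * algebraMap A (Localization.Away (s : A)) s =
        algebraMap A (Localization.Away (s : A)) a *
          (algebraMap A (Localization.Away (s : A)) s * IsLocalization.Away.invSelf (s : A)) := by
      rw [hc]; ring
    rw [this, IsLocalization.Away.mul_invSelf, mul_one]
  have h2 : FSch.awayToAtPrime A 𝔭 s hs c = b := by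
    have h3 := congrArg (FSch.awayToAtPrime A 𝔭 s hs) h1
    rw [map_mul, awayToAtPrime_algebraMap, awayToAtPrime_algebraMap] at h3
    have hu : IsUnit (algebraMap A (Localization.AtPrime 𝔭) s) :=
      IsLocalization.map_units (Localization.AtPrime 𝔭) s
    exact hu.mul_left_injective (h3.trans has.symm)
  have h4 : FSch.cAwayToAtPrime A J 𝔭 s hs (algebraMap (Localization.Away (s : A)) _ c) =
      algebraMap (Localization.AtPrime 𝔭) (FSch.cAtPrime A J 𝔭) b := by
    unfold FSch.cAwayToAtPrime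
    rw [ComplFin.complMap_of, h2]
  rw [← h4]
  exact cAwayToAtPrime_mem A J 𝔭 s hs _

end Groth.Agent.Helper8.StalkSub
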