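import Mathlib
import Groth.Prelude.Def_FSch3
import Groth.Agent.Lib.Helper7.ComplFin.Main
import Groth.Agent.Lib.Helper7.ComplFlat2.Main
import Groth.Agent.Lib.Helper8.StalkSub3

/-!
# The stalk ring `A_{S}` for Noetherian `A`: flatness over the stages
-/

set_option autoImplicit false
universe u

namespace Groth.Agent.Helper8.StalkSub

open Groth.Agent.Helper7

section Gen

/-- For a flat ring map `φ : R → S` to a local ring, an element `z` with `φ z = 0` is killed
by an element which becomes a unit in `S`. -/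
theorem exists_mul_eq_zero_isUnit_of_flat {R S : Type*} [CommRing R] [CommRing S]
    [IsLocalRing S] (φ : R →+* S) (hφ : φ.Flat) (z : R) (hz : φ z = 0) :
    ∃ a : R, z * a = 0 ∧ IsUnit (φ a) := by
  letI : Algebra R S := φ.toAlgebra
  haveI hflat : Module.Flat R S := hφ
  have hrel : ∑ _i : Fin 1, z • (1 : S) = 0 := by
    rw [Fin.sum_univ_one, Algebra.smul_def, mul_one]
    exact hz
  obtain ⟨k, a, y, hy1, hy2⟩ := Module.Flat.isTrivialRelation_of_sum_smul_eq_zero
    (R := R) (M := S) (f := fun _ : Fin 1 => z) (x := fun _ : Fin 1 => (1 : S)) hrel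
  have hy1' : (1 : S) = ∑ j, a 0 j • y j := hy1 0
  have hy2' : ∀ j, z * a 0 j = 0 := by
    intro j
    have := hy2 j
    rwa [Fin.sum_univ_one] at this
  have hex : ∃ j, IsUnit (a 0 j • y j) := by
    by_contra hcon
    push Not at hcon
    have hmem : ∑ j, a 0 j • y j ∈ IsLocalRing.maximalIdeal S :=
      Ideal.sum_mem _ (fun j _ => (IsLocalRing.mem_maximalIdeal _).mpr (hcon j))
    rw [← hy1'] at hmem
    exact (IsLocalRing.maximalIdeal.isMaximal S).ne_top ((Ideal.eq_top_iff_one _).mpr hmem)
  obtain ⟨j, hj⟩ := hex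
  refine ⟨a 0 j, hy2' j, ?_⟩
  rw [Algebra.smul_def] at hj
  exact isUnit_of_mul_isUnit_left hj

end Gen

variable (A : Type u) [CommRing A] (J : Ideal A)

section Comp

theorem awayMap_comp_awayMap (f h k : A) (hu₁ : IsUnit (algebraMap A (Localization.Away h) f))
    (hu₂ : IsUnit (algebraMap A (Localization.Away k) h))
    (hu₃ : IsUnit (algebraMap A (Localization.Away k) f)) :
    (awayMap A h k hu₂).comp (awayMap A f h hu₁) = awayMap A f k hu₃ := by
  apply IsLocalization.ringHom_ext (Submonoid.powers f)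
  ext a
  simp only [RingHom.coe_comp, Function.comp_apply, awayMap_algebraMap]

theorem cAwayMap_cAwayMap (f h k : A) (hu₁ : IsUnit (algebraMap A (Localization.Away h) f))
    (hu₂ : IsUnit (algebraMap A (Localization.Away k) h))
    (hu₃ : IsUnit (algebraMap A (Localization.Away k) f)) (x : FSch.cAway A J f) :
    cAwayMap A J h k hu₂ (cAwayMap A J f h hu₁ x) = cAwayMap A J f k hu₃ x := by
  have h₃ : (J.map (algebraMap A (Localization.Away f))).map
      ((awayMap A h k hu₂).comp (awayMap A f h hu₁)) ≤
        J.map (algebraMap A (Localization.Away k)) := by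
    rw [awayMap_comp_awayMap A f h k hu₁ hu₂ hu₃]
    exact map_awayMap_le A J f k hu₃
  unfold cAwayMap
  rw [complMap_comp _ _ _ _ _ _ _ h₃]
  exact complMap_congr _ _ (awayMap_comp_awayMap A f h k hu₁ hu₂ hu₃) _ _ x

end Comp

section Flat

variable [IsNoetherianRing A]

theorem flat_cAwayMap (f h : A) (hu : IsUnit (algebraMap A (Localization.Away h) f)) :
    (cAwayMap A J f h hu).Flat := by
  letI : Algebra (Localization.Away f) (Localization.Away h) := (awayMap A f h hu).toAlgebra
  haveI : IsScalarTower A (Localization.Away f) (Localization.Away h) :=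
    IsScalarTower.of_algebraMap_eq (fun a => (awayMap_algebraMap A f h hu a).symm)
  haveI : Module.Flat A (Localization.Away h) := IsLocalization.flat _ (Submonoid.powers h)
  haveI : Module.Flat (Localization.Away f) (Localization.Away h) :=
    (Module.flat_iff_of_isLocalization (Localization.Away f) (Submonoid.powers f)
      (Localization.Away h)).mpr inferInstance
  have hK : (J.map (algebraMap A (Localization.Away f))).map
      (algebraMap (Localization.Away f) (Localization.Away h)) =
        J.map (algebraMap A (Localization.Away h)) := by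
    rw [Ideal.map_map, ← IsScalarTower.algebraMap_eq]
  exact ComplFlat2.flat_complMap (Localization.Away f) (Localization.Away h) _ _ hK
    (map_awayMap_le A J f h hu)

variable (𝔭 : Ideal A) [𝔭.IsPrime]

theorem flat_cAwayToAtPrime (f : A) (hf : f ∉ 𝔭) : (FSch.cAwayToAtPrime A J 𝔭 f hf).Flat := by
  letI : Algebra (Localization.Away f) (Localization.AtPrime 𝔭) :=
    (FSch.awayToAtPrime A 𝔭 f hf).toAlgebra
  haveI : IsScalarTower A (Localization.Away f) (Localization.AtPrime 𝔭) :=
    IsScalarTower.of_algebraMap_eq (fun a => (awayToAtPrime_algebraMap A 𝔭 f hf a).symm)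
  haveI : Module.Flat A (Localization.AtPrime 𝔭) := IsLocalization.flat _ 𝔭.primeCompl
  haveI : Module.Flat (Localization.Away f) (Localization.AtPrime 𝔭) :=
    (Module.flat_iff_of_isLocalization (Localization.Away f) (Submonoid.powers f)
      (Localization.AtPrime 𝔭)).mpr inferInstance
  have hK : (J.map (algebraMap A (Localization.Away f))).map
      (algebraMap (Localization.Away f) (Localization.AtPrime 𝔭)) =
        J.map (algebraMap A (Localization.AtPrime 𝔭)) := by
    rw [Ideal.map_map, ← IsScalarTower.algebraMap_eq]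
  exact ComplFlat2.flat_complMap (Localization.Away f) (Localization.AtPrime 𝔭) _ _ hK
    (FSch.map_awayToAtPrime_le A J 𝔭 f hf)

/-- Injectivity at the colimit: an element of `A_{h}` dying in `A{S⁻¹}` dies in some
`A_{ha}`. -/
theorem exists_cAwayMap_eq_zero (hJ : J ≤ 𝔭) (h : A) (hh : h ∉ 𝔭) (z : FSch.cAway A J h)
    (hz : FSch.cAwayToAtPrime A J 𝔭 h hh z = 0) :
    ∃ (a : A) (_ : a ∉ 𝔭),
      cAwayMap A J h (h * a) (isUnit_of_dvd A h (h * a) (Dvd.intro _ rfl)) z = 0 := by
  haveI := isLocalRing_cAtPrime A J 𝔭 hJ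
  obtain ⟨b, hb1, hb2⟩ := exists_mul_eq_zero_isUnit_of_flat (FSch.cAwayToAtPrime A J 𝔭 h hh)
    (flat_cAwayToAtPrime A J 𝔭 h hh) z hz
  obtain ⟨a', ha', hu⟩ := exists_isUnit_cAwayMap A J 𝔭 hJ h hh b hb2
  refine ⟨a', ha', ?_⟩
  have := congrArg (cAwayMap A J h (h * a') (isUnit_of_dvd A h (h * a') (Dvd.intro _ rfl)))
    hb1
  rw [map_mul, map_zero] at this
  exact (hu.mul_left_eq_zero).mp this

end Flat

end Groth.Agent.Helper8.StalkSub
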