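import Mathlib
import Groth.Prelude.Def_FSch3
import Groth.Agent.Lib.Helper7.ComplFin.Main
import Groth.Agent.Lib.Helper7.ComplFlat2.Main
import Groth.Agent.Lib.Helper8.StalkSub4

/-!
# The stalk ring `A_{S}` for Noetherian `A`: stage maps and flatness over the stages
-/

set_option autoImplicit false
universe u

namespace Groth.Agent.Helper8.StalkSub

open Groth.Agent.Helper7

section Gen

/-- A ring which is a "directed union" of flat stages is flat. -/
theorem flat_of_stages {E G : Type u} [CommRing E] [CommRing G] [Algebra E G]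
    (hst : ∀ {l : ℕ} (e : Fin l → E) (x : Fin l → G), ∑ i, algebraMap E G (e i) * x i = 0 →
      ∃ (E' : Type u) (_ : CommRing E') (φ : E →+* E') (ψ : E' →+* G) (_ : φ.Flat)
        (_ : ∀ z, ψ (φ z) = algebraMap E G z) (ξ : Fin l → E'),
        (∀ i, ψ (ξ i) = x i) ∧ ∑ i, φ (e i) * ξ i = 0) : Module.Flat E G := by
  apply Module.Flat.of_forall_isTrivialRelation
  intro l e x hex
  have hex' : ∑ i, algebraMap E G (e i) * x i = 0 := by
    rw [← hex]
    apply Finset.sum_congr rfl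
    intro i _
    rw [Algebra.smul_def]
  obtain ⟨E', _, φ, ψ, hφ, hcomp, ξ, hξ, hsum⟩ := hst e x hex'
  letI : Algebra E E' := φ.toAlgebra
  haveI : Module.Flat E E' := hφ
  have h2 : ∑ i, e i • ξ i = 0 := by
    rw [← hsum]
    apply Finset.sum_congr rfl
    intro i _
    rw [Algebra.smul_def]
    rfl
  obtain ⟨m, c, y, hy1, hy2⟩ := Module.Flat.isTrivialRelation_of_sum_smul_eq_zero
    (R := E) (M := E') (f := e) (x := ξ) h2
  refine ⟨m, c, fun j => ψ (y j), ?_, hy2⟩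
  intro i
  have hy1' : ξ i = ∑ j, c i j • y j := hy1 i
  rw [← hξ i, hy1', map_sum]
  apply Finset.sum_congr rfl
  intro j _
  have e1 : c i j • y j = φ (c i j) * y j := Algebra.smul_def _ _
  rw [e1, Algebra.smul_def, map_mul, hcomp]

end Gen

variable (A : Type u) [CommRing A] (J : Ideal A) (𝔭 : Ideal A) [𝔭.IsPrime]

section Stage

/-- The stage map `A_{f} → A_{S}`. -/
noncomputable def stageHom (f : A) (hf : f ∉ 𝔭) : FSch.cAway A J f →+* FSch.stalkSubring A J 𝔭 :=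
  (FSch.cAwayToAtPrime A J 𝔭 f hf).codRestrict (FSch.stalkSubring A J 𝔭)
    (cAwayToAtPrime_mem A J 𝔭 f hf)

@[simp] theorem coe_stageHom (f : A) (hf : f ∉ 𝔭) (x : FSch.cAway A J f) :
    (stageHom A J 𝔭 f hf x : FSch.cAtPrime A J 𝔭) = FSch.cAwayToAtPrime A J 𝔭 f hf x := rfl

theorem stageHom_cAwayMap (f h : A) (hf : f ∉ 𝔭) (hh : h ∉ 𝔭)
    (hu : IsUnit (algebraMap A (Localization.Away h) f)) (x : FSch.cAway A J f) :
    stageHom A J 𝔭 h hh (cAwayMap A J f h hu x) = stageHom A J 𝔭 f hf x :=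
  Subtype.ext (cAwayToAtPrime_cAwayMap A J 𝔭 f h hf hh hu x)

theorem exists_rep (x : FSch.stalkSubring A J 𝔭) :
    ∃ (f : A) (hf : f ∉ 𝔭) (y : FSch.cAway A J f), stageHom A J 𝔭 f hf y = x := by
  obtain ⟨f, hf, y, hy⟩ := (mem_stalkSubring_iff A J 𝔭 x.1).mp x.2
  exact ⟨f, hf, y, Subtype.ext hy⟩

theorem exists_rep_fin (f₀ : A) (hf₀ : f₀ ∉ 𝔭) {l : ℕ} (x : Fin l → FSch.stalkSubring A J 𝔭) :
    ∃ (h : A) (hh : h ∉ 𝔭) (_ : f₀ ∣ h) (ξ : Fin l → FSch.cAway A J h),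
      ∀ i, stageHom A J 𝔭 h hh (ξ i) = x i := by
  choose f hf y hy using fun i => exists_rep A J 𝔭 (x i)
  have hprod : ∏ i, f i ∉ 𝔭 := 𝔭.primeCompl.prod_mem (fun i _ => hf i)
  have hh : f₀ * ∏ i, f i ∉ 𝔭 := mul_not_mem A 𝔭 hf₀ hprod
  have hd : ∀ i, f i ∣ f₀ * ∏ i, f i := fun i =>
    Dvd.dvd.mul_left (Finset.dvd_prod_of_mem f (Finset.mem_univ i)) f₀
  refine ⟨f₀ * ∏ i, f i, hh, Dvd.intro _ rfl,
    fun i => cAwayMap A J (f i) _ (isUnit_of_dvd A _ _ (hd i)) (y i), fun i => ?_⟩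
  rw [stageHom_cAwayMap A J 𝔭 (f i) _ (hf i) hh, hy]

end Stage

section FlatStage

variable [IsNoetherianRing A]

/-- `A_{S}` is flat over every stage `A_{f}`. -/
theorem flat_stage (hJ : J ≤ 𝔭) (f : A) (hf : f ∉ 𝔭)
    [Algebra (FSch.cAway A J f) (FSch.stalkSubring A J 𝔭)]
    (halg : ∀ x, algebraMap (FSch.cAway A J f) (FSch.stalkSubring A J 𝔭) x =
      stageHom A J 𝔭 f hf x) :
    Module.Flat (FSch.cAway A J f) (FSch.stalkSubring A J 𝔭) := by
  apply flat_of_stages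
  intro l e x hex
  obtain ⟨h, hh, hd, ξ, hξ⟩ := exists_rep_fin A J 𝔭 f hf x
  have hu := isUnit_of_dvd A f h hd
  have h1 : FSch.cAwayToAtPrime A J 𝔭 h hh (∑ i, cAwayMap A J f h hu (e i) * ξ i) = 0 := by
    have h2 : stageHom A J 𝔭 h hh (∑ i, cAwayMap A J f h hu (e i) * ξ i) = 0 := by
      rw [map_sum, ← hex]
      apply Finset.sum_congr rfl
      intro i _
      rw [map_mul, stageHom_cAwayMap A J 𝔭 f h hf hh, hξ, halg]
    exact congrArg Subtype.val h2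
  obtain ⟨a, ha, hz⟩ := exists_cAwayMap_eq_zero A J 𝔭 hJ h hh _ h1
  have hh' : h * a ∉ 𝔭 := mul_not_mem A 𝔭 hh ha
  have hu' := isUnit_of_dvd A h (h * a) (Dvd.intro _ rfl)
  have hu'' : IsUnit (algebraMap A (Localization.Away (h * a)) f) :=
    isUnit_of_dvd A f (h * a) (Dvd.dvd.mul_right hd a)
  refine ⟨FSch.cAway A J (h * a), inferInstance, cAwayMap A J f (h * a) hu'',
    stageHom A J 𝔭 (h * a) hh', flat_cAwayMap A J f (h * a) hu'', ?_,
    fun i => cAwayMap A J h (h * a) hu' (ξ i), ?_, ?_⟩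
  · intro z
    rw [stageHom_cAwayMap A J 𝔭 f (h * a) hf hh' hu'', halg]
  · intro i
    rw [stageHom_cAwayMap A J 𝔭 h (h * a) hh hh' hu', hξ]
  · rw [← hz, map_sum]
    apply Finset.sum_congr rfl
    intro i _
    rw [map_mul, cAwayMap_cAwayMap A J f h (h * a) hu hu' hu'']

end FlatStage

end Groth.Agent.Helper8.StalkSub
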