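import Mathlib
import Groth.Prelude.Def_FSch3
import Groth.Agent.Lib.Helper7.ComplFin.Main
import Groth.Agent.Lib.Helper7.ComplFlat2.Main
import Groth.Agent.Lib.Helper7.SHens.NoethMain
import Groth.Agent.Lib.Helper2.CompleteNoeth
import Groth.Agent.Lib.Helper8.StalkSub5

/-!
# The stalk ring `A_{S}` for Noetherian `A`: maximal ideal, Noetherianity, flatness
-/

set_option autoImplicit false
universe u

namespace Groth.Agent.Helper8.StalkSub

open Groth.Agent.Helper7

section Gen

/-- A ring is flat over a "directed union" of rings over which it is flat. -/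
theorem flat_of_stages' {G M : Type u} [CommRing G] [CommRing M] [Algebra G M]
    (hst : ∀ {l : ℕ} (g : Fin l → G), ∃ (E : Type u) (_ : CommRing E) (ψ : E →+* G)
      (_ : ((algebraMap G M).comp ψ).Flat) (ξ : Fin l → E), ∀ i, ψ (ξ i) = g i) :
    Module.Flat G M := by
  apply Module.Flat.of_forall_isTrivialRelation
  intro l g x hgx
  obtain ⟨E, _, ψ, hψ, ξ, hξ⟩ := hst g
  letI : Algebra E M := ((algebraMap G M).comp ψ).toAlgebra
  haveI : Module.Flat E M := hψ
  have e0 : ∀ (c : E) (m : M), c • m = algebraMap G M (ψ c) * m := fun c m =>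
    Algebra.smul_def c m
  have h2 : ∑ i, ξ i • x i = 0 := by
    rw [← hgx]
    apply Finset.sum_congr rfl
    intro i _
    rw [e0, hξ, Algebra.smul_def]
  obtain ⟨m, c, y, hy1, hy2⟩ := Module.Flat.isTrivialRelation_of_sum_smul_eq_zero
    (R := E) (M := M) (f := ξ) (x := x) h2
  refine ⟨m, fun i j => ψ (c i j), y, ?_, ?_⟩
  · intro i
    rw [hy1 i]
    apply Finset.sum_congr rfl
    intro j _
    rw [e0, Algebra.smul_def]
  · intro j
    have := congrArg ψ (hy2 j)
    rw [map_sum, map_zero] at this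
    rw [← this]
    apply Finset.sum_congr rfl
    intro i _
    rw [map_mul, hξ]

end Gen

variable (A : Type u) [CommRing A] (J : Ideal A) (𝔭 : Ideal A) [𝔭.IsPrime]

theorem one_not_mem : (1 : A) ∉ 𝔭 := 𝔭.primeCompl.one_mem

/-- The canonical map `A → A_{S}`. -/
noncomputable def toStalk : A →+* FSch.stalkSubring A J 𝔭 :=
  (stageHom A J 𝔭 1 (one_not_mem A 𝔭)).comp (algebraMap A (FSch.cAway A J 1))

theorem coe_stageHom_algebraMap (f : A) (hf : f ∉ 𝔭) (a : A) :
    (stageHom A J 𝔭 f hf (algebraMap A (FSch.cAway A J f) a) : FSch.cAtPrime A J 𝔭) =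
      algebraMap (Localization.AtPrime 𝔭) (FSch.cAtPrime A J 𝔭)
        (algebraMap A (Localization.AtPrime 𝔭) a) := by
  rw [coe_stageHom, IsScalarTower.algebraMap_apply A (Localization.Away f) (FSch.cAway A J f)]
  unfold FSch.cAwayToAtPrime
  rw [ComplFin.complMap_of, awayToAtPrime_algebraMap]

theorem stageHom_comp_algebraMap (f : A) (hf : f ∉ 𝔭) :
    (stageHom A J 𝔭 f hf).comp (algebraMap A (FSch.cAway A J f)) = toStalk A J 𝔭 := by
  ext a
  simp only [RingHom.coe_comp, Function.comp_apply, toStalk]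
  rw [coe_stageHom_algebraMap, coe_stageHom_algebraMap]

theorem coe_toStalk (a : A) : (toStalk A J 𝔭 a : FSch.cAtPrime A J 𝔭) =
    algebraMap (Localization.AtPrime 𝔭) (FSch.cAtPrime A J 𝔭)
      (algebraMap A (Localization.AtPrime 𝔭) a) :=
  coe_stageHom_algebraMap A J 𝔭 1 (one_not_mem A 𝔭) a

section MaxIdeal

variable [IsNoetherianRing A]

theorem mem_map_of_not_isUnit (hJ : J ≤ 𝔭) (f : A) (hf : f ∉ 𝔭) (y : FSch.cAway A J f)
    (hy : ¬ IsUnit (FSch.cAwayToAtPrime A J 𝔭 f hf y)) :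
    y ∈ 𝔭.map (algebraMap A (FSch.cAway A J f)) := by
  obtain ⟨b, hb⟩ := Ideal.Quotient.mk_surjective
    (AdicCompletion.evalₐ (J.map (algebraMap A (Localization.Away f))) 1 y)
  have h1 : AdicCompletion.evalₐ (J.map (algebraMap A (Localization.AtPrime 𝔭))) 1
      (FSch.cAwayToAtPrime A J 𝔭 f hf y) =
      Ideal.Quotient.mk _ (FSch.awayToAtPrime A 𝔭 f hf b) := by
    unfold FSch.cAwayToAtPrime
    rw [ComplFin.evalₐ_complMap, ← hb, Ideal.quotientMap_mk]
  have h2 : ¬ IsUnit (FSch.awayToAtPrime A 𝔭 f hf b) := fun hu =>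
    hy ((isUnit_iff_of_evalₐ_one_eq _ (map_le_maximalIdeal A J 𝔭 hJ) _ _ h1).mpr hu)
  obtain ⟨⟨a, s⟩, has⟩ := IsLocalization.surj (Submonoid.powers f) b
  have h3 : FSch.awayToAtPrime A 𝔭 f hf b * algebraMap A (Localization.AtPrime 𝔭) s.1 =
      algebraMap A (Localization.AtPrime 𝔭) a := by
    have := congrArg (FSch.awayToAtPrime A 𝔭 f hf) has
    rwa [map_mul, awayToAtPrime_algebraMap, awayToAtPrime_algebraMap] at this
  have ha : a ∈ 𝔭 := by
    by_contra hcon
    have h4 : IsUnit (algebraMap A (Localization.AtPrime 𝔭) a) :=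
      IsLocalization.map_units (Localization.AtPrime 𝔭) (⟨a, hcon⟩ : 𝔭.primeCompl)
    rw [← h3] at h4
    exact h2 (isUnit_of_mul_isUnit_left h4)
  -- the image of `b` lies in `𝔭 A_{f}`
  have hb' : algebraMap (Localization.Away f) (FSch.cAway A J f) b ∈
      𝔭.map (algebraMap A (FSch.cAway A J f)) := by
    have hu : IsUnit (algebraMap (Localization.Away f) (FSch.cAway A J f)
        (algebraMap A (Localization.Away f) s.1)) :=
      (IsLocalization.map_units (Localization.Away f) s).map _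
    rw [← Ideal.mul_unit_mem_iff_mem _ hu, ← map_mul, has,
      ← IsScalarTower.algebraMap_apply A (Localization.Away f) (FSch.cAway A J f)]
    exact Ideal.mem_map_of_mem _ ha
  have hw : y - algebraMap (Localization.Away f) (FSch.cAway A J f) b ∈
      𝔭.map (algebraMap A (FSch.cAway A J f)) := by
    have hfg : (J.map (algebraMap A (Localization.Away f))).FG := IsNoetherian.noetherian _
    have hker : y - algebraMap (Localization.Away f) (FSch.cAway A J f) b ∈
        RingHom.ker (AdicCompletion.evalOneₐ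
          (J.map (algebraMap A (Localization.Away f)))).toRingHom := by
      rw [RingHom.mem_ker]
      show AdicCompletion.evalOneₐ _ _ = 0
      rw [← AdicCompletion.factorₐ_evalₐ_one, map_sub, AlgHom.commutes, ← hb]
      have : Ideal.Quotient.mk (J.map (algebraMap A (Localization.Away f)) ^ 1) b -
          algebraMap (Localization.Away f) _ b = 0 := sub_self _
      rw [this, map_zero]
    rw [AdicCompletion.ker_evalOneₐ_eq_map _ hfg, Ideal.map_map,
      ← IsScalarTower.algebraMap_eq] at hker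
    exact Ideal.map_mono hJ hker
  have := Ideal.add_mem _ hw hb'
  rwa [sub_add_cancel] at this

theorem mem_map_toStalk_iff (hJ : J ≤ 𝔭) (x : FSch.stalkSubring A J 𝔭) :
    x ∈ 𝔭.map (toStalk A J 𝔭) ↔ ¬ IsUnit x := by
  haveI := isLocalRing_stalkSubring A J 𝔭 hJ
  haveI := isLocalHom_subtype A J 𝔭 hJ
  constructor
  · intro hx
    have hle : 𝔭.map (toStalk A J 𝔭) ≤ IsLocalRing.maximalIdeal (FSch.stalkSubring A J 𝔭) := by
      rw [Ideal.map_le_iff_le_comap]
      intro a ha
      rw [Ideal.mem_comap, IsLocalRing.mem_maximalIdeal, mem_nonunits_iff]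
      intro hu
      have hu' : IsUnit ((toStalk A J 𝔭 a : FSch.stalkSubring A J 𝔭) : FSch.cAtPrime A J 𝔭) :=
        hu.map (FSch.stalkSubring A J 𝔭).subtype
      rw [coe_toStalk] at hu'
      have h1 : AdicCompletion.evalₐ (J.map (algebraMap A (Localization.AtPrime 𝔭))) 1
          (algebraMap (Localization.AtPrime 𝔭) (FSch.cAtPrime A J 𝔭)
            (algebraMap A (Localization.AtPrime 𝔭) a)) =
          Ideal.Quotient.mk _ (algebraMap A (Localization.AtPrime 𝔭) a) := by
        rw [AlgHom.commutes]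
        rfl
      have h2 := (isUnit_iff_of_evalₐ_one_eq _ (map_le_maximalIdeal A J 𝔭 hJ) _ _ h1).mp hu'
      exact (IsLocalization.AtPrime.isUnit_to_map_iff (Localization.AtPrime 𝔭) 𝔭 a).mp h2 ha
    have := hle hx
    rwa [IsLocalRing.mem_maximalIdeal, mem_nonunits_iff] at this
  · intro hx
    obtain ⟨f, hf, y, rfl⟩ := exists_rep A J 𝔭 x
    have hy : ¬ IsUnit (FSch.cAwayToAtPrime A J 𝔭 f hf y) := by
      intro hu
      apply hx
      exact isUnit_of_map_unit (FSch.stalkSubring A J 𝔭).subtype _ hu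
    have h1 := mem_map_of_not_isUnit A J 𝔭 hJ f hf y hy
    rw [← stageHom_comp_algebraMap A J 𝔭 f hf, ← Ideal.map_map]
    exact Ideal.mem_map_of_mem _ h1

end MaxIdeal

section Main

variable [IsNoetherianRing A]

theorem isNoetherianRing_cAway (f : A) : IsNoetherianRing (FSch.cAway A J f) :=
  Groth.Agent.Helper2.CompleteNoeth.isNoetherianRing_adicCompletion _ _
    (IsNoetherian.noetherian _)

theorem isNoetherianRing_stalkSubring (hJ : J ≤ 𝔭) :
    IsNoetherianRing (FSch.stalkSubring A J 𝔭) := by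
  haveI := isLocalRing_stalkSubring A J 𝔭 hJ
  have hmax : IsLocalRing.maximalIdeal (FSch.stalkSubring A J 𝔭) = 𝔭.map (toStalk A J 𝔭) := by
    ext x
    rw [mem_map_toStalk_iff A J 𝔭 hJ, IsLocalRing.mem_maximalIdeal, mem_nonunits_iff]
  apply SHens.isNoetherianRing_of_stages (FSch.stalkSubring A J 𝔭)
  · rw [hmax]
    exact Ideal.FG.map (IsNoetherian.noetherian 𝔭) _
  · intro l g
    obtain ⟨h, hh, -, ξ, hξ⟩ := exists_rep_fin A J 𝔭 1 (one_not_mem A 𝔭) g
    refine ⟨FSch.cAway A J h, inferInstance, isNoetherianRing_cAway A J h,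
      (stageHom A J 𝔭 h hh).toAlgebra,
      @flat_stage A _ J 𝔭 _ _ hJ h hh (stageHom A J 𝔭 h hh).toAlgebra (fun _ => rfl),
      𝔭.map (algebraMap A (FSch.cAway A J h)), ?_, fun i => ⟨ξ i, hξ i⟩⟩
    rw [hmax, ← stageHom_comp_algebraMap A J 𝔭 h hh, ← Ideal.map_map]
    rfl

theorem flat_cAtPrime_stalkSubring :
    Module.Flat (FSch.stalkSubring A J 𝔭) (FSch.cAtPrime A J 𝔭) := by
  apply flat_of_stages'
  intro l g
  obtain ⟨h, hh, -, ξ, hξ⟩ := exists_rep_fin A J 𝔭 1 (one_not_mem A 𝔭) g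
  refine ⟨FSch.cAway A J h, inferInstance, stageHom A J 𝔭 h hh, ?_, ξ, hξ⟩
  have : (algebraMap (FSch.stalkSubring A J 𝔭) (FSch.cAtPrime A J 𝔭)).comp
      (stageHom A J 𝔭 h hh) = FSch.cAwayToAtPrime A J 𝔭 h hh := RingHom.ext fun _ => rfl
  rw [this]
  exact flat_cAwayToAtPrime A J 𝔭 h hh

theorem faithfullyFlat_cAtPrime_stalkSubring (hJ : J ≤ 𝔭) :
    Module.FaithfullyFlat (FSch.stalkSubring A J 𝔭) (FSch.cAtPrime A J 𝔭) := by
  haveI := isLocalRing_stalkSubring A J 𝔭 hJ
  haveI := isLocalRing_cAtPrime A J 𝔭 hJ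
  haveI := flat_cAtPrime_stalkSubring A J 𝔭
  haveI : IsLocalHom (algebraMap (FSch.stalkSubring A J 𝔭) (FSch.cAtPrime A J 𝔭)) :=
    isLocalHom_subtype A J 𝔭 hJ
  exact Module.FaithfullyFlat.of_flat_of_isLocalHom

theorem flat_toStalk (hJ : J ≤ 𝔭) : (toStalk A J 𝔭).Flat := by
  unfold toStalk
  refine RingHom.Flat.comp ?_ ?_
  · rw [RingHom.flat_algebraMap_iff]
    haveI : Module.Flat A (Localization.Away (1 : A)) :=
      IsLocalization.flat _ (Submonoid.powers (1 : A))
    exact Module.Flat.trans A (Localization.Away (1 : A)) (FSch.cAway A J 1)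
  · exact @flat_stage A _ J 𝔭 _ _ hJ 1 (one_not_mem A 𝔭)
      (stageHom A J 𝔭 1 (one_not_mem A 𝔭)).toAlgebra (fun _ => rfl)

end Main

end Groth.Agent.Helper8.StalkSub
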