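import Mathlib
import Groth.Prelude.Def_FSch3
import Groth.Agent.Lib.Helper8.AdicFS2

/-!
# The level rings of `A_{f}`
-/

set_option autoImplicit false
universe u

namespace Groth.Agent.Helper8.StalkSub

open Groth.Agent.Helper8

variable (A : Type u) [CommRing A] [IsNoetherianRing A] (J : Ideal A) (f : A) (N : ℕ)

theorem map_pow_eq_ker_evalₐ :
    (J.map (algebraMap A (FSch.cAway A J f))) ^ N =
      RingHom.ker (AdicCompletion.evalₐ (J.map (algebraMap A (Localization.Away f))) N).toRingHom := by
  have hfg : (J.map (algebraMap A (Localization.Away f))).FG := IsNoetherian.noetherian _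
  rw [IsScalarTower.algebraMap_eq A (Localization.Away f) (FSch.cAway A J f), ← Ideal.map_map,
    ← Ideal.map_pow]
  exact le_antisymm (AdicFS.map_pow_le_ker_evalₐ _ N) (AdicFS.ker_evalₐ_le_map_pow _ hfg N)

/-- `A_{f} / J^N A_{f} ≃ A_f / J^N A_f`. -/
noncomputable def quotEquiv :
    (FSch.cAway A J f ⧸ (J.map (algebraMap A (FSch.cAway A J f))) ^ N) ≃+*
      (Localization.Away f ⧸ (J ^ N).map (algebraMap A (Localization.Away f))) :=
  ((Ideal.quotEquivOfEq (map_pow_eq_ker_evalₐ A J f N)).trans
    (RingHom.quotientKerEquivOfSurjective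
      (f := (AdicCompletion.evalₐ (J.map (algebraMap A (Localization.Away f))) N).toRingHom)
      (AdicCompletion.surjective_evalₐ _ N))).trans
    (Ideal.quotEquivOfEq (Ideal.map_pow _ _ _).symm)

theorem quotEquiv_mk (a : A) :
    quotEquiv A J f N (Ideal.Quotient.mk _ (algebraMap A (FSch.cAway A J f) a)) =
      Ideal.Quotient.mk _ (algebraMap A (Localization.Away f) a) := by
  unfold quotEquiv
  rw [RingEquiv.trans_apply, RingEquiv.trans_apply, Ideal.quotEquivOfEq_mk,
    RingHom.quotientKerEquivOfSurjective_apply_mk,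
    IsScalarTower.algebraMap_apply A (Localization.Away f) (FSch.cAway A J f)]
  show Ideal.quotEquivOfEq _ (AdicCompletion.evalₐ _ N (algebraMap _ _ _)) = _
  rw [AlgHom.commutes]
  rfl

instance isLocalizationAway_quot :
    IsLocalization.Away (Ideal.Quotient.mk (J ^ N) f)
      (Localization.Away f ⧸ (J ^ N).map (algebraMap A (Localization.Away f))) := by
  have h : IsLocalization (Algebra.algebraMapSubmonoid (A ⧸ J ^ N) (Submonoid.powers f))
      (Localization.Away f ⧸ (J ^ N).map (algebraMap A (Localization.Away f))) := inferInstance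
  have e : Algebra.algebraMapSubmonoid (A ⧸ J ^ N) (Submonoid.powers f) =
      Submonoid.powers (Ideal.Quotient.mk (J ^ N) f) := by
    unfold Algebra.algebraMapSubmonoid
    rw [Submonoid.map_powers]
    rfl
  rwa [e] at h

theorem exists_ringEquiv :
    ∃ e : Localization.Away (Ideal.Quotient.mk (J ^ N) f) ≃+*
        FSch.cAway A J f ⧸ (J.map (algebraMap A (FSch.cAway A J f))) ^ N,
      ∀ a : A, e (algebraMap (A ⧸ J ^ N) _ (Ideal.Quotient.mk (J ^ N) a)) =
        Ideal.Quotient.mk _ (algebraMap A (FSch.cAway A J f) a) := by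
  let e1 : Localization.Away (Ideal.Quotient.mk (J ^ N) f) ≃ₐ[A ⧸ J ^ N]
      (Localization.Away f ⧸ (J ^ N).map (algebraMap A (Localization.Away f))) :=
    IsLocalization.algEquiv (Submonoid.powers (Ideal.Quotient.mk (J ^ N) f)) _ _
  refine ⟨e1.toRingEquiv.trans (quotEquiv A J f N).symm, fun a => ?_⟩
  rw [RingEquiv.trans_apply, RingEquiv.symm_apply_eq, quotEquiv_mk]
  show e1 _ = _
  rw [AlgEquiv.commutes]
  rfl

end Groth.Agent.Helper8.StalkSub
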