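import Mathlib
import Groth.Prelude
import Groth.Agent.Lib.Helper8.EssFT3
import Groth.Agent.Lib.Helper8.PushCoh12
import Groth.Agent.Lib.Helper8.FEqA6
import Groth.Agent.S9126

/-!
# Strictly formally catenary local rings and algebras essentially of finite type
-/

set_option autoImplicit false
set_option linter.style.haveILetI false
set_option linter.unusedSectionVars false

universe u

namespace Groth.Agent.Helper8.EssFT

open IsLocalRing TensorProduct LocCoh

/-- Localizations preserve `(S_k)`. -/
theorem hasSk_of_isLocalization {R L : Type u} [CommRing R] [CommRing L]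
    [Algebra R L] (M : Submonoid R) [IsLocalization M L] (k : ℕ) (h : HasSk k R R) :
    HasSk k L L := by
  rw [Groth.Agent.Helper8.FlatReg.hasSk_self_iff_skLocal] at h ⊢
  intro Q _
  haveI : IsLocalization.AtPrime (Localization.AtPrime Q) (Q.comap (algebraMap R L)) :=
    IsLocalization.isLocalization_isLocalization_atPrime_isLocalization M _ Q
  let e : Localization.AtPrime (Q.comap (algebraMap R L)) ≃ₐ[R] Localization.AtPrime Q :=
    IsLocalization.algEquiv (Q.comap (algebraMap R L)).primeCompl _ _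
  exact Groth.Agent.Helper8.FlatReg.skLocal_of_ringEquiv k e.toRingEquiv
    (h (Q.comap (algebraMap R L)))

/-- The `(S_n)` analogue of `CplMap.hasCMFormalFibres_of_CM_hom_to_local`. -/
theorem hasSnFormalFibres_of_Sn_hom_to_local (n : ℕ) (A A' : Type u) [CommRing A] [CommRing A']
    [IsNoetherianRing A] [IsNoetherianRing A'] [IsLocalRing A] [IsLocalRing A'] [Algebra A A']
    [IsLocalHom (algebraMap A A')] [Module.Flat A A']
    (hf : ∀ (p : Ideal A) [p.IsPrime], HasSk n (p.Fiber A') (p.Fiber A'))
    (hA' : CAlg.IsRegularHom A' (EGA4.Cpl A')) : EGA4.HasSnFormalFibres n A := by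
  haveI : IsNoetherianRing (EGA4.Cpl A) := Groth.Agent.Helper8.AdicReg.isNoetherianRing A _
  haveI : IsNoetherianRing (EGA4.Cpl A') := Groth.Agent.Helper8.AdicReg.isNoetherianRing A' _
  obtain ⟨hflat, hAC⟩ := Groth.Agent.Helper8.Fib.snFibres_comp A A' (EGA4.Cpl A') n hf
    (fun q _ => by
      haveI := Groth.Agent.Helper8.Fib.isNoetherianRing_fiber (S := EGA4.Cpl A') q
      exact (Groth.Agent.Helper8.Fib.isCohenMacaulayRing_iff_forall_hasSk _).mp
        (Groth.Agent.Helper8.CplMap.cmFibres_of_isRegularHom A' (EGA4.Cpl A') hA' q) n)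
  letI := Groth.Agent.Helper8.CplMap.algebraCpl A A'
  haveI := Groth.Agent.Helper8.CplMap.isScalarTower_cpl A A'
  haveI := Groth.Agent.Helper8.CplMap.faithfullyFlat_cpl A A'
  exact (Groth.Agent.Helper8.Fib.snFibres_descent A (EGA4.Cpl A) (EGA4.Cpl A') n hAC).2

section sn

variable (A B A' : Type u) [CommRing A] [CommRing B] [CommRing A'] [IsNoetherianRing B]
  [IsLocalRing B] [Algebra A B] [Algebra A A'] [Module.FaithfullyFlat A A']
  [Algebra.EssFiniteType A B] [IsNoetherianRing A']

theorem hasSnFormalFibres_of_essFiniteType_aux (n : ℕ) (hA' : CAlg.IsGRing A')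
    (hfib : ∀ (p : Ideal A) [p.IsPrime], HasSk n (p.Fiber A') (p.Fiber A')) :
    EGA4.HasSnFormalFibres n B := by
  obtain ⟨n', hn', hn'B⟩ := exists_prime_over_maximalIdeal A B A'
  haveI := hn'
  have hG := isGRing_tensor A B A' hA'
  haveI : IsNoetherianRing (B ⊗[A] A') := hG.1
  haveI : IsNoetherianRing (Localization.AtPrime n') :=
    IsLocalization.isNoetherianRing n'.primeCompl _ inferInstance
  haveI : Module.Flat (B ⊗[A] A') (Localization.AtPrime n') :=
    IsLocalization.flat _ n'.primeCompl
  haveI : Module.Flat B (Localization.AtPrime n') :=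
    Module.Flat.trans B (B ⊗[A] A') (Localization.AtPrime n')
  haveI := isLocalHom_model A B A' n' hn'B
  refine hasSnFormalFibres_of_Sn_hom_to_local n B
    (Localization.AtPrime n') (fun q _ => ?_) (hG.2 n')
  letI := Groth.Agent.Helper8.GRBase.resAlgebra A B q
  haveI := Groth.Agent.Helper8.GRBase.resAlgebra_isScalarTower A B q
  haveI : Algebra.EssFiniteType A q.ResidueField := Algebra.EssFiniteType.comp A B _
  haveI : Algebra.EssFiniteType (q.comap (algebraMap A B)).ResidueField q.ResidueField :=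
    Algebra.EssFiniteType.of_comp A _ _
  haveI hN : IsNoetherianRing ((q.comap (algebraMap A B)).Fiber A') :=
    Groth.Agent.Helper8.Fib.isNoetherianRing_fiber _
  have h1 : HasSk n (((q.comap (algebraMap A B)).Fiber A')
      ⊗[(q.comap (algebraMap A B)).ResidueField] q.ResidueField)
      (((q.comap (algebraMap A B)).Fiber A')
      ⊗[(q.comap (algebraMap A B)).ResidueField] q.ResidueField) := by
    haveI hN2 : IsNoetherianRing (q.ResidueField ⊗[(q.comap (algebraMap A B)).ResidueField]
        ((q.comap (algebraMap A B)).Fiber A')) :=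
      Groth.Agent.Helper8.GRBase.isNoetherianRing_tensor_of_essFiniteType _ _ _
    haveI : IsNoetherianRing (((q.comap (algebraMap A B)).Fiber A')
        ⊗[(q.comap (algebraMap A B)).ResidueField] q.ResidueField) :=
      isNoetherianRing_of_ringEquiv _ (Algebra.TensorProduct.comm _ _ _).toRingEquiv
    exact Groth.Agent.Helper8.SkBase.hasSk_tensor_field _ _ _ (Or.inr inferInstance) n
      (hfib (q.comap (algebraMap A B)))
  have h2 : HasSk n (q.ResidueField ⊗[(q.comap (algebraMap A B)).ResidueField]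
      ((q.comap (algebraMap A B)).Fiber A'))
      (q.ResidueField ⊗[(q.comap (algebraMap A B)).ResidueField]
      ((q.comap (algebraMap A B)).Fiber A')) :=
    Groth.Agent.Helper8.CplQuot.hasSk_of_ringEquiv
      (Algebra.TensorProduct.comm _ _ _).toRingEquiv n h1
  have h3 : HasSk n (q.Fiber (B ⊗[A] A')) (q.Fiber (B ⊗[A] A')) :=
    Groth.Agent.Helper8.CplQuot.hasSk_of_ringEquiv
      (Groth.Agent.Helper8.GRBase.fibreEquiv A A' B q).symm.toRingEquiv n h2
  have h4 : HasSk n ((B ⊗[A] A') ⊗[B] q.ResidueField) ((B ⊗[A] A') ⊗[B] q.ResidueField) :=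
    Groth.Agent.Helper8.CplQuot.hasSk_of_ringEquiv
      (Algebra.TensorProduct.comm B q.ResidueField (B ⊗[A] A')).toRingEquiv n h3
  haveI hloc : IsLocalization
      (Algebra.algebraMapSubmonoid ((B ⊗[A] A') ⊗[B] q.ResidueField) n'.primeCompl)
      (((B ⊗[A] A') ⊗[B] q.ResidueField) ⊗[B ⊗[A] A'] Localization.AtPrime n') :=
    IsLocalization.tensor (Localization.AtPrime n') n'.primeCompl
  have h5 := hasSk_of_isLocalization
    (Algebra.algebraMapSubmonoid ((B ⊗[A] A') ⊗[B] q.ResidueField) n'.primeCompl)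
    (L := ((B ⊗[A] A') ⊗[B] q.ResidueField) ⊗[B ⊗[A] A'] Localization.AtPrime n') n h4
  obtain ⟨e⟩ := Groth.Agent.Helper8.DescFib.nonempty_baseChange_equiv B (B ⊗[A] A')
    (Localization.AtPrime n') q.ResidueField
  exact Groth.Agent.Helper8.CplQuot.hasSk_of_ringEquiv e n h5

end sn

/-- `(S_n)` formal fibres pass to local rings essentially of finite type. -/
theorem hasSnFormalFibres_of_essFiniteType (n : ℕ) (A : Type u) [CommRing A]
    [IsNoetherianRing A] [IsLocalRing A] (hA : EGA4.HasSnFormalFibres n A) (B : Type u)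
    [CommRing B] [IsNoetherianRing B] [IsLocalRing B] [Algebra A B]
    [Algebra.EssFiniteType A B] : EGA4.HasSnFormalFibres n B := by
  haveI : IsNoetherianRing (EGA4.Cpl A) := Groth.Agent.Helper8.AdicReg.isNoetherianRing A _
  haveI : Module.FaithfullyFlat A (EGA4.Cpl A) := Module.FaithfullyFlat.of_flat_of_isLocalHom
  exact hasSnFormalFibres_of_essFiniteType_aux A B (EGA4.Cpl A) n
    (Groth.Agent.Helper8.GRing.isGRing_of_isAdicComplete _) (fun p _ => hA p)

theorem annihilator_self (R : Type u) [CommRing R] : Module.annihilator R R = ⊥ := by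
  rw [eq_bot_iff]
  intro r hr
  have := Module.mem_annihilator.mp hr 1
  rw [smul_eq_mul, mul_one] at this
  exact Ideal.mem_bot.mpr this

theorem isEquidim_of_isStrictlyEquidim (R : Type u) [CommRing R] [IsNoetherianRing R]
    (h : EGA4.IsStrictlyEquidim R) : EGA4.IsEquidim R := by
  intro p hp
  apply h
  apply Module.associatedPrimes.minimalPrimes_annihilator_subset_associatedPrimes R R
  rw [annihilator_self R]
  exact hp

/-- A strictly equidimensional Noetherian local ring has no embedded primes. -/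
theorem mem_minimalPrimes_of_isStrictlyEquidim (R : Type u) [CommRing R] [IsNoetherianRing R]
    [IsLocalRing R] (h : EGA4.IsStrictlyEquidim R) :
    ∀ P ∈ associatedPrimes R R, P ∈ (Module.annihilator R R).minimalPrimes := by
  intro P hP
  rw [annihilator_self R]
  haveI hPp : P.IsPrime := hP.isPrime
  obtain ⟨P', hP'min, hP'le⟩ := Ideal.exists_minimalPrimes_le (bot_le : (⊥ : Ideal R) ≤ P)
  have hP'ass : P' ∈ associatedPrimes R R := by
    apply Module.associatedPrimes.minimalPrimes_annihilator_subset_associatedPrimes R R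
    rw [annihilator_self R]
    exact hP'min
  by_cases heq : P' = P
  · rw [← heq]
    exact hP'min
  · exfalso
    haveI : P'.IsPrime := hP'min.1.1
    have hlt : P' < P := lt_of_le_of_ne hP'le heq
    have h1 := Groth.Agent.Helper8.Ratliff.ringKrullDim_quotient_add_one_le P' P hlt
    rw [h P hP, h P' hP'ass] at h1
    have hfin := ringKrullDim_lt_top (R := R)
    have hbot := ringKrullDim_ne_bot (R := R)
    generalize ringKrullDim R = x at h1 hfin hbot
    induction x using WithBot.recBotCoe with
    | bot => exact hbot rfl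
    | coe x =>
      induction x using ENat.recTopCoe with
      | top => exact lt_irrefl _ hfin
      | coe d =>
        have h2 : ((d + 1 : ℕ) : WithBot ℕ∞) ≤ ((d : ℕ) : WithBot ℕ∞) := by exact_mod_cast h1
        have h3 : d + 1 ≤ d := by exact_mod_cast h2
        omega

/-- The generic fibre of an algebra over a domain inherits `(S_k)`. -/
theorem hasSk_generic_fibre (R S : Type u) [CommRing R] [CommRing S] [Algebra R S] [IsDomain R]
    (k : ℕ) (h : HasSk k S S) :
    HasSk k ((⊥ : Ideal R).Fiber S) ((⊥ : Ideal R).Fiber S) := by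
  apply Groth.Agent.Helper8.Fib.hasSk_fiber_of_skLocal
  intro Q _ hQ _
  have hbot : (Q.comap (algebraMap R S)).map (algebraMap R (Localization.AtPrime Q)) = ⊥ := by
    rw [hQ, Ideal.map_bot]
  have e : EGA4.FibLocRing R S Q ≃+* Localization.AtPrime Q :=
    (Ideal.quotEquivOfEq hbot).trans (RingEquiv.quotientBot _)
  have h1 := (Groth.Agent.Helper8.FlatReg.hasSk_self_iff_skLocal k S).mp h Q
  exact Groth.Agent.Helper8.FlatReg.skLocal_of_ringEquiv k e.symm h1

/-- The formal fibres of a strictly formally catenary local ring are `(S_1)`. -/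
theorem hasSnFormalFibres_one_of_strict (A : Type u) [CommRing A] [IsNoetherianRing A]
    [IsLocalRing A] (hA : EGA4.IsFormallyStrictlyCatenary A) : EGA4.HasSnFormalFibres 1 A := by
  intro p _
  haveI : IsDomain (A ⧸ p) := Ideal.Quotient.isDomain p
  haveI : IsNoetherianRing (AdicCompletion (maximalIdeal (A ⧸ p)) (A ⧸ p)) :=
    Groth.Agent.Helper8.AdicReg.isNoetherianRing (A ⧸ p) _
  have hS1R : HasSk 1 (AdicCompletion (maximalIdeal (A ⧸ p)) (A ⧸ p))
      (AdicCompletion (maximalIdeal (A ⧸ p)) (A ⧸ p)) :=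
    (Groth.Agent.Helper8.Depth.noEmbeddedPrimes_iff_hasSk_one).mp
      (mem_minimalPrimes_of_isStrictlyEquidim _ (hA p))
  have hgen : HasSk 1 (EGA4.formalFibre (A ⧸ p) ⊥) (EGA4.formalFibre (A ⧸ p) ⊥) :=
    hasSk_generic_fibre (A ⧸ p) (AdicCompletion (maximalIdeal (A ⧸ p)) (A ⧸ p)) 1 hS1R
  obtain ⟨e⟩ := Groth.Agent.Helper8.CplQuot.nonempty_formalFibre_ringEquiv A p
    (⊥ : Ideal (A ⧸ p))
  haveI : ((⊥ : Ideal (A ⧸ p)).under A).IsPrime := Ideal.comap_isPrime _ _
  have h2 : HasSk 1 (EGA4.formalFibre A ((⊥ : Ideal (A ⧸ p)).under A))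
      (EGA4.formalFibre A ((⊥ : Ideal (A ⧸ p)).under A)) :=
    Groth.Agent.Helper8.CplQuot.hasSk_of_ringEquiv e 1 hgen
  have hunder : (⊥ : Ideal (A ⧸ p)).under A = p := by
    ext x
    rw [Ideal.under_def, Ideal.mem_comap, Ideal.mem_bot, Ideal.Quotient.algebraMap_eq,
      Ideal.Quotient.eq_zero_iff_mem]
  have key : ∀ (p0 : Ideal A) [p0.IsPrime], p0 = p →
      HasSk 1 (EGA4.formalFibre A p0) (EGA4.formalFibre A p0) →
      HasSk 1 (EGA4.formalFibre A p) (EGA4.formalFibre A p) := by
    intro p0 _ h0 h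
    subst h0
    exact h
  exact key _ hunder h2

/-- **S4735.** -/
theorem isFormallyStrictlyCatenary_of_essFiniteType (A : Type u) [CommRing A]
    [IsNoetherianRing A] [IsLocalRing A] (hA : EGA4.IsFormallyStrictlyCatenary A) (B : Type u)
    [CommRing B] [IsNoetherianRing B] [IsLocalRing B] [Algebra A B]
    [Algebra.EssFiniteType A B] : EGA4.IsFormallyStrictlyCatenary B := by
  have hFC : EGA4.IsFormallyCatenary A := by
    intro p _
    haveI : IsNoetherianRing (AdicCompletion (maximalIdeal (A ⧸ p)) (A ⧸ p)) :=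
      Groth.Agent.Helper8.AdicReg.isNoetherianRing (A ⧸ p) _
    exact isEquidim_of_isStrictlyEquidim _ (hA p)
  have hUCA := Groth.Agent.Helper8.FormEq.isUniversallyCatenary_of_isFormallyCatenary A hFC
  have hUCB : CAlg.IsUniversallyCatenary B := Groth.Agent.S9126.result A B hUCA
  have hS1A := hasSnFormalFibres_one_of_strict A hA
  have hS1B := hasSnFormalFibres_of_essFiniteType 1 A hS1A B
  intro q _
  haveI : IsDomain (B ⧸ q) := Ideal.Quotient.isDomain q
  have hUC' : CAlg.IsUniversallyCatenary (B ⧸ q) :=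
    Groth.Agent.Helper8.HensEq.isUniversallyCatenary_of_finiteType B (B ⧸ q) hUCB
  have hS' := Groth.Agent.Helper8.PushCoh.hasSnFormalFibres_one_quotient B hS1B q
  exact Groth.Agent.Helper8.PushCoh.isStrictlyEquidim_cpl_of_uc (B ⧸ q) hUC' hS'

end Groth.Agent.Helper8.EssFT
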