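import Mathlib
import Groth.Agent.Lib.Helper4.RegSpread1

/-!
# Lifting syntomic algebras along `R → R/I`, I:
the variables form a weakly regular sequence on polynomial rings, their base changes and
localizations
-/

set_option autoImplicit false
universe u

namespace Groth.Agent.Helper8.SyL

open MvPolynomial RingTheory.Sequence TensorProduct

section Poly

variable (T : Type*) [CommRing T] (m : ℕ)

/-- The list of variables. -/
noncomputable def Xs : List (MvPolynomial (Fin m) T) := List.ofFn (X : Fin m → MvPolynomial (Fin m) T)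

theorem length_Xs : (Xs T m).length = m := by
  unfold Xs
  rw [List.length_ofFn]

theorem ofList_take_Xs (i : ℕ) :
    Ideal.ofList ((Xs T m).take i) =
      Ideal.span ((X : Fin m → MvPolynomial (Fin m) T) '' {j : Fin m | j.1 < i}) := by
  unfold Ideal.ofList Xs
  congr 1
  ext x
  simp only [Set.mem_setOf_eq, Set.mem_image]
  rw [List.mem_take_iff_getElem]
  constructor
  · rintro ⟨j, hj, rfl⟩
    rw [List.length_ofFn, lt_min_iff] at hj
    refine ⟨⟨j, hj.2⟩, hj.1, ?_⟩
    rw [List.getElem_ofFn]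
  · rintro ⟨j, hj, rfl⟩
    refine ⟨j.1, ?_, ?_⟩
    · rw [List.length_ofFn, lt_min_iff]
      exact ⟨hj, j.2⟩
    · rw [List.getElem_ofFn]

/-- The variables form a weakly regular sequence on a polynomial ring. -/
theorem isWeaklyRegular_Xs : IsWeaklyRegular (MvPolynomial (Fin m) T) (Xs T m) := by
  classical
  rw [Groth.Agent.Lib.Helper4.RegSpread1.isWeaklyRegular_iff_elementwise]
  intro i hi x hx
  rw [ofList_take_Xs] at hx ⊢
  rw [mem_ideal_span_X_image] at hx ⊢
  have hi' : i < m := by rwa [length_Xs] at hi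
  have hget : (Xs T m)[i] = X (⟨i, hi'⟩ : Fin m) := by
    simp [Xs]
  rw [hget] at hx
  intro d hd
  have hd' : d + Finsupp.single (⟨i, hi'⟩ : Fin m) 1 ∈ (X (⟨i, hi'⟩ : Fin m) * x).support := by
    rw [mem_support_iff, mul_comm, coeff_mul_X]
    exact mem_support_iff.mp hd
  obtain ⟨j, hj, hne⟩ := hx _ hd'
  refine ⟨j, hj, ?_⟩
  have hji : j ≠ ⟨i, hi'⟩ := by
    intro h
    rw [h] at hj
    exact lt_irrefl i hj
  rw [Finsupp.add_apply, Finsupp.single_apply, if_neg (Ne.symm hji), add_zero] at hne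
  exact hne

end Poly

section Tensor

variable (R : Type u) [CommRing R] (A₀ : Type u) [CommRing A₀] [Algebra R A₀]
  (K : Type u) [CommRing K] [Algebra R K] (m : ℕ)

/-- The ring isomorphism `A₀[w] ⊗ K ≃ (K ⊗ A₀)[w]`. -/
noncomputable def tensorPolyEquiv :
    (MvPolynomial (Fin m) A₀) ⊗[R] K ≃+* MvPolynomial (Fin m) (K ⊗[R] A₀) :=
  ((Algebra.TensorProduct.comm R (MvPolynomial (Fin m) A₀) K).toRingEquiv).trans
    (rTensorAlgEquiv (R := R) (S := K) (N := A₀) (σ := Fin m)).toRingEquiv

theorem tensorPolyEquiv_X_tmul (j : Fin m) :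
    tensorPolyEquiv R A₀ K m ((X j : MvPolynomial (Fin m) A₀) ⊗ₜ[R] (1 : K)) = X j := by
  classical
  unfold tensorPolyEquiv
  rw [RingEquiv.trans_apply]
  change (rTensorAlgEquiv (R := R) (S := K) (N := A₀) (σ := Fin m))
    ((Algebra.TensorProduct.comm R (MvPolynomial (Fin m) A₀) K) (X j ⊗ₜ[R] (1 : K))) = X j
  rw [Algebra.TensorProduct.comm_tmul]
  ext d
  rw [coeff_rTensorAlgEquiv_tmul, coeff_X', coeff_X']
  split_ifs
  · rfl
  · rw [TensorProduct.tmul_zero]

/-- The variables form a weakly regular sequence on `A₀[w] ⊗ K`. -/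
theorem isWeaklyRegular_tensor :
    IsWeaklyRegular ((MvPolynomial (Fin m) A₀) ⊗[R] K) (Xs A₀ m) := by
  let e := tensorPolyEquiv R A₀ K m
  let φ : MvPolynomial (Fin m) A₀ → MvPolynomial (Fin m) (K ⊗[R] A₀) :=
    fun r => e (r ⊗ₜ[R] (1 : K))
  have hmap : (Xs A₀ m).map φ = Xs (K ⊗[R] A₀) m := by
    unfold Xs
    rw [List.map_ofFn]
    congr 1
    funext j
    exact tensorPolyEquiv_X_tmul R A₀ K m j
  have h := isWeaklyRegular_Xs (K ⊗[R] A₀) m
  rw [← hmap] at h
  refine (AddEquiv.isWeaklyRegular_congr (e := e.toAddEquiv) ?_).mpr h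
  refine List.forall₂_map_right_iff.mpr (List.forall₂_same.mpr fun r _ x => ?_)
  change e (r • x) = φ r • e x
  rw [smul_eq_mul, Algebra.smul_def r x, map_mul]
  rfl

end Tensor

section Loc

variable (R : Type u) [CommRing R] (A₀ : Type u) [CommRing A₀] [Algebra R A₀]
  (K : Type u) [CommRing K] [Algebra R K] (m : ℕ) (Gh : MvPolynomial (Fin m) A₀)

/-- The variables form a weakly regular sequence on `A₀[w]_G ⊗ K`. -/
theorem isWeaklyRegular_tensor_away :
    IsWeaklyRegular ((Localization.Away Gh) ⊗[R] K)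
      ((Xs A₀ m).map (algebraMap (MvPolynomial (Fin m) A₀) (Localization.Away Gh))) := by
  have h := isWeaklyRegular_tensor R A₀ K m
  exact IsWeaklyRegular.of_isLocalizedModule (Localization.Away Gh) (Submonoid.powers Gh)
    (AlgebraTensorModule.rTensor R K
      (Algebra.linearMap (MvPolynomial (Fin m) A₀) (Localization.Away Gh))) h

end Loc

end Groth.Agent.Helper8.SyL
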