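import Mathlib
import Groth.Agent.Lib.Helper8.SyL1

/-!
# Lifting syntomic algebras along `R → R/I`, II:
regular sequences on the fibres of an algebra whose reduction modulo `I` is known
-/

set_option autoImplicit false
universe u

namespace Groth.Agent.Helper8.SyL

open RingTheory.Sequence TensorProduct

section Transfer

variable {R : Type u} [CommRing R] (I : Ideal R) {D P K : Type u} [CommRing D] [CommRing P]
  [CommRing K] [Algebra R D] [Algebra R P] [Algebra R K]
  (π : D →ₐ[R] P) (hπ : Function.Surjective π)
  (hker : RingHom.ker π = I.map (algebraMap R D))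
  (hK : ∀ i ∈ I, algebraMap R K i = 0)

include hπ hker hK in
/-- If `D/ID ≅ P` and `I` acts as zero on `K`, then `D ⊗ K ≅ P ⊗ K`. -/
theorem tensorMap_bijective :
    Function.Bijective (Algebra.TensorProduct.map π (AlgHom.id R K)) := by
  refine ⟨?_, Algebra.TensorProduct.map_surjective π (AlgHom.id R K) hπ Function.surjective_id⟩
  rw [injective_iff_map_eq_zero]
  intro x hx
  have hx' : x ∈ RingHom.ker (Algebra.TensorProduct.map π (AlgHom.id R K)) := hx
  rw [Algebra.TensorProduct.rTensor_ker π hπ, hker] at hx'
  have hle : (I.map (algebraMap R D)).map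
      (Algebra.TensorProduct.includeLeft : D →ₐ[R] D ⊗[R] K) ≤ ⊥ := by
    rw [Ideal.map_le_iff_le_comap, Ideal.map_le_iff_le_comap]
    intro i hi
    rw [Ideal.mem_comap, Ideal.mem_comap, Ideal.mem_bot]
    change (algebraMap R D i) ⊗ₜ[R] (1 : K) = 0
    rw [Algebra.algebraMap_eq_smul_one, TensorProduct.smul_tmul, ← Algebra.algebraMap_eq_smul_one,
      hK i hi, TensorProduct.tmul_zero]
  exact (Ideal.mem_bot).mp (hle hx')

include hπ hker hK in
/-- Weak regularity on `D ⊗ K` can be checked on `P ⊗ K`. -/
theorem isWeaklyRegular_tensor_of_surjective (ks : List D)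
    (h : IsWeaklyRegular (P ⊗[R] K) (ks.map π)) : IsWeaklyRegular (D ⊗[R] K) ks := by
  let e : D ⊗[R] K ≃+* P ⊗[R] K :=
    RingEquiv.ofBijective (Algebra.TensorProduct.map π (AlgHom.id R K)).toRingHom
      (tensorMap_bijective I π hπ hker hK)
  refine (AddEquiv.isWeaklyRegular_congr (e := e.toAddEquiv) ?_).mpr h
  refine List.forall₂_map_right_iff.mpr (List.forall₂_same.mpr fun r _ x => ?_)
  change e (r • x) = π r • e x
  rw [Algebra.smul_def r x, map_mul, Algebra.smul_def (π r) (e x)]
  congr 1

end Transfer

section Localized

variable {D : Type u} [CommRing D] (q : Ideal D) [q.IsPrime] (N : Type u) [AddCommGroup N]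
  [Module D N]

/-- A weakly regular sequence of elements of a prime `q` is regular on the localization at `q`,
as soon as the localization maps nontrivially to the residue field. -/
theorem isRegular_localizedModule (ks : List D) (hmem : ∀ k ∈ ks, k ∈ q)
    (h : IsWeaklyRegular N ks) (g : N →ₗ[D] q.ResidueField) (x₀ : N) (hx₀ : g x₀ ≠ 0) :
    IsRegular (LocalizedModule q.primeCompl N) ks := by
  have hw : IsWeaklyRegular (LocalizedModule q.primeCompl N) ks := by
    have h1 := IsWeaklyRegular.of_isLocalizedModule (Localization.AtPrime q) q.primeCompl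
      (LocalizedModule.mkLinearMap q.primeCompl N) h
    exact (isWeaklyRegular_map_algebraMap_iff (Localization.AtPrime q) _ ks).mp h1
  refine ⟨hw, ?_⟩
  intro htop
  -- the map to the residue field
  have hunit : ∀ s : q.primeCompl,
      IsUnit (algebraMap D (Module.End D q.ResidueField) s) := by
    intro s
    have hs : algebraMap D q.ResidueField s ≠ 0 := by
      intro h0
      exact s.2 (Ideal.algebraMap_residueField_eq_zero.mp h0)
    rw [Module.End.isUnit_iff]
    constructor
    · intro a b hab
      simp only [Module.algebraMap_end_apply] at hab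
      rw [Algebra.smul_def, Algebra.smul_def] at hab
      exact mul_left_cancel₀ hs hab
    · intro b
      refine ⟨(algebraMap D q.ResidueField s)⁻¹ * b, ?_⟩
      simp only [Module.algebraMap_end_apply]
      rw [Algebra.smul_def, ← mul_assoc, mul_inv_cancel₀ hs, one_mul]
  let lam : LocalizedModule q.primeCompl N →ₗ[D] q.ResidueField :=
    IsLocalizedModule.lift q.primeCompl (LocalizedModule.mkLinearMap q.primeCompl N) g hunit
  have hlam : lam (LocalizedModule.mkLinearMap q.primeCompl N x₀) = g x₀ :=
    IsLocalizedModule.lift_apply q.primeCompl (LocalizedModule.mkLinearMap q.primeCompl N) g hunit x₀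
  have hmem1 : LocalizedModule.mkLinearMap q.primeCompl N x₀ ∈
      (Ideal.ofList ks • ⊤ : Submodule D (LocalizedModule q.primeCompl N)) := by
    rw [← htop]
    trivial
  have hmem2 : lam (LocalizedModule.mkLinearMap q.primeCompl N x₀) ∈
      Submodule.map lam (Ideal.ofList ks • ⊤ : Submodule D (LocalizedModule q.primeCompl N)) :=
    Submodule.mem_map_of_mem hmem1
  rw [Submodule.map_smul''] at hmem2
  have hzero : (Ideal.ofList ks • Submodule.map lam ⊤ : Submodule D q.ResidueField) ≤ ⊥ := by
    rw [Submodule.smul_le]
    intro r hr n _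
    have hrq : r ∈ q := by
      have hle : Ideal.ofList ks ≤ q := by
        unfold Ideal.ofList
        rw [Ideal.span_le]
        intro k hk
        exact hmem k hk
      exact hle hr
    rw [Submodule.mem_bot, Algebra.smul_def, Ideal.algebraMap_residueField_eq_zero.mpr hrq,
      zero_mul]
  have := hzero hmem2
  rw [Submodule.mem_bot, hlam] at this
  exact hx₀ this

end Localized

end Groth.Agent.Helper8.SyL
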