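import Mathlib
import Groth.Agent.S2586
import Groth.Agent.Lib.Lead.FO1

/-!
# Lifting syntomic algebras along `R → R/I`, III:
flatness of the local rings of `D/(k)` from regularity of `k` on the fibre
-/

set_option autoImplicit false
universe u

namespace Groth.Agent.Helper8.SyL

open RingTheory.Sequence TensorProduct

variable {R D : Type u} [CommRing R] [CommRing D] [Algebra R D]

theorem map_primeCompl_mk (J : Ideal D) (q' : Ideal (D ⧸ J)) [q'.IsPrime] (q : Ideal D)
    [q.IsPrime] (hq : q'.comap (Ideal.Quotient.mk J) = q) :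
    Algebra.algebraMapSubmonoid (D ⧸ J) q.primeCompl = q'.primeCompl := by
  ext t
  constructor
  · rintro ⟨s, hs, rfl⟩
    intro hmem
    apply hs
    rw [SetLike.mem_coe, ← hq, Ideal.mem_comap]
    exact hmem
  · intro ht
    obtain ⟨s, rfl⟩ := Ideal.Quotient.mk_surjective t
    refine ⟨s, ?_, rfl⟩
    intro hmem
    apply ht
    rw [SetLike.mem_coe, ← hq, Ideal.mem_comap] at hmem
    exact hmem

/-- The localization of the `D`-module `D/J•⊤` at `q` is the local ring of `D/J` at the prime
corresponding to `q`. -/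
theorem nonempty_localizedModule_quot_equiv (J : Ideal D) (q' : Ideal (D ⧸ J)) [q'.IsPrime]
    (q : Ideal D) [q.IsPrime] (hq : q'.comap (Ideal.Quotient.mk J) = q) :
    Nonempty (LocalizedModule q.primeCompl (D ⧸ (J • ⊤ : Submodule D D)) ≃ₗ[R]
      Localization.AtPrime q') := by
  have hJ : (J • ⊤ : Submodule D D) = J := by
    rw [smul_eq_mul, Ideal.mul_top]
  let e₀ : (D ⧸ (J • ⊤ : Submodule D D)) ≃ₗ[D] (D ⧸ J) := Submodule.quotEquivOfEq _ _ hJ
  haveI hloc : IsLocalization (Algebra.algebraMapSubmonoid (D ⧸ J) q.primeCompl)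
      (Localization.AtPrime q') := by
    rw [map_primeCompl_mk J q' q hq]
    infer_instance
  haveI h1 : IsLocalizedModule q.primeCompl
      (IsScalarTower.toAlgHom D (D ⧸ J) (Localization.AtPrime q')).toLinearMap :=
    (isLocalizedModule_iff_isLocalization (S := q.primeCompl) (A := D ⧸ J)
      (Aₛ := Localization.AtPrime q')).mpr hloc
  haveI h2 : IsLocalizedModule q.primeCompl
      ((IsScalarTower.toAlgHom D (D ⧸ J) (Localization.AtPrime q')).toLinearMap ∘ₗ
        e₀.toLinearMap) := IsLocalizedModule.of_linearEquiv_right q.primeCompl _ e₀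
  let e : LocalizedModule q.primeCompl (D ⧸ (J • ⊤ : Submodule D D)) ≃ₗ[D]
      Localization.AtPrime q' :=
    IsLocalizedModule.linearEquiv q.primeCompl
      (LocalizedModule.mkLinearMap q.primeCompl (D ⧸ (J • ⊤ : Submodule D D)))
      ((IsScalarTower.toAlgHom D (D ⧸ J) (Localization.AtPrime q')).toLinearMap ∘ₗ
        e₀.toLinearMap)
  exact ⟨e.restrictScalars R⟩

/-- Flatness of the local rings of `D/(k)` at primes where `k` is regular on the fibre. -/
theorem flat_atPrime_quotient [Algebra.FinitePresentation R D] [Module.Flat R D]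
    (ks : List D) (q' : Ideal (D ⧸ Ideal.ofList ks)) [q'.IsPrime] (q : Ideal D) [q.IsPrime]
    (hq : q'.comap (Ideal.Quotient.mk (Ideal.ofList ks)) = q)
    (hreg : IsRegular (LocalizedModule q.primeCompl
      (D ⊗[R] (q.comap (algebraMap R D)).ResidueField)) ks) :
    Module.Flat R (Localization.AtPrime q') := by
  have hmem : ∀ b ∈ ks, b ∈ q := by
    intro b hb
    have hbJ : b ∈ Ideal.ofList ks := Ideal.subset_span (show b ∈ {r | r ∈ ks} from hb)
    rw [← hq, Ideal.mem_comap, Ideal.Quotient.eq_zero_iff_mem.mpr hbJ]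
    exact Ideal.zero_mem _
  haveI hfl : Module.Flat R (LocalizedModule q.primeCompl D) :=
    Groth.Agent.Lead.FO.flat_of_isLocalizedModule_algebra (R := R) q.primeCompl
      (LocalizedModule.mkLinearMap q.primeCompl D)
  obtain ⟨-, h2⟩ := Groth.Agent.S2586.result (A := R) (B := D) D q ks hmem hfl hreg
  have h3 := h2 ks.length le_rfl
  rw [List.take_length] at h3
  obtain ⟨e⟩ := nonempty_localizedModule_quot_equiv (R := R) (Ideal.ofList ks) q' q hq
  haveI := h3
  exact Module.Flat.of_linearEquiv e.symm

end Groth.Agent.Helper8.SyL
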