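import Mathlib
import Groth.Agent.Lib.Helper2.Synt.SyntNhd
import Groth.Agent.Lib.Helper2.Synt.SyntLocal
import Groth.Agent.Lib.Helper2.Synt.FieldSynt

/-!
# Lifting syntomic algebras along `R → R/I`, IV:
the fibres over primes containing `I` of an algebra whose reduction modulo `I` is syntomic
-/

set_option autoImplicit false
universe u

namespace Groth.Agent.Helper8.SyL

open TensorProduct

variable {R : Type u} [CommRing R] (I : Ideal R) (A' A₀ : Type u) [CommRing A'] [Algebra R A']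
  [CommRing A₀] [Algebra (R ⧸ I) A₀]

/-- `(R/I) ⊗ A' ≅ A'/IA'` as `R/I`-algebras. -/
noncomputable def quotTensorEquiv' :
    (R ⧸ I) ⊗[R] A' ≃ₐ[R ⧸ I] (A' ⧸ I.map (algebraMap R A')) :=
  AlgEquiv.extendScalarsOfSurjective (R := R) (S := R ⧸ I) Ideal.Quotient.mk_surjective
    ((((Algebra.TensorProduct.quotIdealMapEquivTensorQuot A' I).restrictScalars R).trans
      (Algebra.TensorProduct.comm R A' (R ⧸ I))).symm)

variable {A' A₀}
variable (ι : (A' ⧸ I.map (algebraMap R A')) ≃ₐ[R ⧸ I] A₀)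
  (K : Type u) [Field K] [Algebra R K] [Algebra (R ⧸ I) K] [IsScalarTower R (R ⧸ I) K]

/-- The fibre of `A'` over a field on which `I` vanishes is the fibre of `A'/IA'`. -/
noncomputable def fibreEquiv : K ⊗[R] A' ≃ₐ[K] K ⊗[R ⧸ I] A₀ :=
  (Algebra.TensorProduct.cancelBaseChange R (R ⧸ I) K K A').symm.trans
    (Algebra.TensorProduct.congr AlgEquiv.refl ((quotTensorEquiv' I A').trans ι))

include ι in
theorem isLCIOver_fibre (h : _root_.Synt.IsSyntomic (R ⧸ I) A₀) :
    _root_.Synt.IsLCIOver K (K ⊗[R] A') := by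
  obtain ⟨hfl, hlci⟩ := (Groth.Agent.Helper2.Synt.isSyntomic_iff_flat_and_isLCI (R ⧸ I) A₀).mp h
  haveI := hfl
  have h1 : LCI.IsLCI K (K ⊗[R ⧸ I] A₀) :=
    Groth.Agent.Helper3.KosBC.isLCI_baseChange (R ⧸ I) A₀ K hlci
  exact Groth.Agent.Helper2.Synt.isLCIOver_of_algEquiv (fibreEquiv I ι K).symm
    (Groth.Agent.Helper2.Synt.isLCIOver_of_isLCI K _ h1)

include ι in
/-- The local rings of the fibres of `A'` over primes containing `I` are complete
intersections. -/
theorem isCIOver_fibre_atPrime (h : _root_.Synt.IsSyntomic (R ⧸ I) A₀) (p : Ideal R) [p.IsPrime]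
    (hIp : I ≤ p) (Q : Ideal (p.Fiber A')) [Q.IsPrime] :
    _root_.Synt.IsCIOver p.ResidueField (Localization.AtPrime Q) := by
  have hz : ∀ a ∈ I, algebraMap R p.ResidueField a = 0 := fun a ha =>
    Ideal.algebraMap_residueField_eq_zero.mpr (hIp ha)
  letI : Algebra (R ⧸ I) p.ResidueField :=
    (Ideal.Quotient.lift I (algebraMap R p.ResidueField) hz).toAlgebra
  haveI : IsScalarTower R (R ⧸ I) p.ResidueField := IsScalarTower.of_algebraMap_eq fun r => rfl
  obtain ⟨hft, hloc⟩ := isLCIOver_fibre I ι p.ResidueField h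
  haveI : Algebra.FiniteType p.ResidueField (p.ResidueField ⊗[R] A') := hft
  exact (Groth.Agent.Helper2.Synt.isCIOver_atPrime_iff_exists_away_of_finiteType p.ResidueField
    (p.ResidueField ⊗[R] A') Q).mpr (hloc ⟨Q, inferInstance⟩)

end Groth.Agent.Helper8.SyL
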