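import Mathlib
import Groth.Agent.Lib.Helper8.SyL2
import Groth.Agent.Lib.Helper8.SyL3
import Groth.Agent.Lib.Helper8.SyL4
import Groth.Agent.Lib.Helper8.Fib1
import Groth.Agent.Lib.Helper2.Synt.SplitAlg
import Groth.Agent.Lib.Lead.SyntSm1

/-!
# Lifting syntomic algebras along `R → R/I`, V:
the quotient of a syntomic algebra by a sequence which is regular on the fibres over `V(I)` is
syntomic in a neighbourhood of `V(I)`
-/

set_option autoImplicit false
universe u

namespace Groth.Agent.Helper8.SyL

open RingTheory.Sequence TensorProduct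

section Closure

variable (R : Type u) [CommRing R] {S : Type u} [CommRing S] [Algebra R S]

/-- If `S_x` is syntomic, so is `(S_y)_x`. -/
theorem isSyntomic_away_algebraMap (x y : S)
    (h : _root_.Synt.IsSyntomic R (Localization.Away x)) :
    _root_.Synt.IsSyntomic R (Localization.Away (algebraMap S (Localization.Away y) x)) := by
  haveI i1 : IsLocalization.Away (x * y)
      (Localization.Away (algebraMap S (Localization.Away y) x)) := inferInstance
  haveI i2 : IsLocalization.Away (x * y)
      (Localization.Away (algebraMap S (Localization.Away x) y)) := by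
    have : IsLocalization.Away (y * x)
      (Localization.Away (algebraMap S (Localization.Away x) y)) := inferInstance
    rwa [mul_comm] at this
  let e : Localization.Away (algebraMap S (Localization.Away x) y) ≃ₐ[S]
      Localization.Away (algebraMap S (Localization.Away y) x) :=
    IsLocalization.algEquiv (Submonoid.powers (x * y)) _ _
  haveI : Algebra.Smooth (Localization.Away x)
      (Localization.Away (algebraMap S (Localization.Away x) y)) :=
    Algebra.Smooth.of_isLocalization_Away (algebraMap S (Localization.Away x) y)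
  have h2 : _root_.Synt.IsSyntomic (Localization.Away x)
      (Localization.Away (algebraMap S (Localization.Away x) y)) :=
    Groth.Agent.Lead.SyntSm.isSyntomic_of_smooth _ _
  have h3 := Groth.Agent.Helper2.Synt.isSyntomic_comp R (Localization.Away x)
    (Localization.Away (algebraMap S (Localization.Away x) y)) h h2
  exact Groth.Agent.Helper2.Synt.isSyntomic_of_algEquiv (e.restrictScalars R) h3

/-- If the `S_g`, `g ∈ s`, are syntomic and `a` lies in the ideal generated by `s`, then `S_a` is
syntomic. -/
theorem isSyntomic_away_of_mem_span (s : Finset S)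
    (hs : ∀ g ∈ s, _root_.Synt.IsSyntomic R (Localization.Away g)) (a : S)
    (ha : a ∈ Ideal.span (s : Set S)) : _root_.Synt.IsSyntomic R (Localization.Away a) := by
  classical
  refine Groth.Agent.Helper2.Synt.isSyntomic_of_span_eq_top R (Localization.Away a)
    (s.image (algebraMap S (Localization.Away a))) ?_ ?_
  · have h1 : algebraMap S (Localization.Away a) a ∈
        Ideal.span ((s.image (algebraMap S (Localization.Away a)) : Finset (Localization.Away a)) :
          Set (Localization.Away a)) := by
      have h2 : algebraMap S (Localization.Away a) a ∈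
          (Ideal.span (s : Set S)).map (algebraMap S (Localization.Away a)) :=
        Ideal.mem_map_of_mem _ ha
      rw [Ideal.map_span] at h2
      rw [Finset.coe_image]
      exact h2
    exact Ideal.eq_top_of_isUnit_mem _ h1 (IsLocalization.Away.algebraMap_isUnit a)
  · intro g' hg'
    rw [Finset.mem_image] at hg'
    obtain ⟨g, hg, rfl⟩ := hg'
    exact isSyntomic_away_algebraMap R g a (hs g hg)

end Closure

section Main

variable {R : Type u} [CommRing R] (I : Ideal R) {D P : Type u} [CommRing D] [CommRing P]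
  [Algebra R D] [Algebra R P] (hD : _root_.Synt.IsSyntomic R D)
  (π : D →ₐ[R] P) (hπ : Function.Surjective π)
  (hker : RingHom.ker π = I.map (algebraMap R D)) (ks : List D)
  (hTR : ∀ (K : Type u) [Field K] [Algebra R K], (∀ i ∈ I, algebraMap R K i = 0) →
    IsWeaklyRegular (P ⊗[R] K) (ks.map π))
  {A₀ : Type u} [CommRing A₀] [Algebra (R ⧸ I) A₀] (hA₀ : _root_.Synt.IsSyntomic (R ⧸ I) A₀)
  (ι : ((D ⧸ Ideal.ofList ks) ⧸ I.map (algebraMap R (D ⧸ Ideal.ofList ks))) ≃ₐ[R ⧸ I] A₀)

include hD hπ hker hTR hA₀ ι in
/-- The local claim: around every prime containing `I`, `D/(k)` is syntomic. -/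
theorem exists_isSyntomic_away_of_prime (q' : Ideal (D ⧸ Ideal.ofList ks)) [q'.IsPrime]
    (hI : I.map (algebraMap R (D ⧸ Ideal.ofList ks)) ≤ q') :
    ∃ g : D ⧸ Ideal.ofList ks, g ∉ q' ∧ _root_.Synt.IsSyntomic R (Localization.Away g) := by
  obtain ⟨hDflat, hDfp, -⟩ := hD
  haveI := hDflat
  haveI := hDfp
  -- the primes
  obtain ⟨q, hq⟩ : ∃ q : Ideal D, q = q'.comap (Ideal.Quotient.mk (Ideal.ofList ks)) := ⟨_, rfl⟩
  haveI hqprime : q.IsPrime := by rw [hq]; exact Ideal.comap_isPrime _ _
  obtain ⟨p, hp⟩ : ∃ p : Ideal R, p = q.comap (algebraMap R D) := ⟨_, rfl⟩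
  haveI hpprime : p.IsPrime := by rw [hp]; exact Ideal.comap_isPrime _ _
  have hpq' : q'.comap (algebraMap R (D ⧸ Ideal.ofList ks)) = p := by
    rw [hp, hq]
    rfl
  have hIp : I ≤ p := by
    intro i hi
    rw [← hpq', Ideal.mem_comap]
    exact hI (Ideal.mem_map_of_mem _ hi)
  have hmem : ∀ b ∈ ks, b ∈ q := by
    intro b hb
    have hbJ : b ∈ Ideal.ofList ks := Ideal.subset_span (show b ∈ {r | r ∈ ks} from hb)
    rw [hq, Ideal.mem_comap, Ideal.Quotient.eq_zero_iff_mem.mpr hbJ]
    exact Ideal.zero_mem _
  -- regularity on the fibre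
  have hK : ∀ i ∈ I, algebraMap R (q.comap (algebraMap R D)).ResidueField i = 0 := by
    intro i hi
    rw [Ideal.algebraMap_residueField_eq_zero, ← hp]
    exact hIp hi
  have hw : IsWeaklyRegular (D ⊗[R] (q.comap (algebraMap R D)).ResidueField) ks :=
    isWeaklyRegular_tensor_of_surjective I π hπ hker hK ks
      (hTR (q.comap (algebraMap R D)).ResidueField hK)
  let φ : D ⊗[R] (q.comap (algebraMap R D)).ResidueField →ₐ[R] q.ResidueField :=
    Algebra.TensorProduct.productMap (IsScalarTower.toAlgHom R D q.ResidueField)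
      (Ideal.ResidueField.mapₐ (q.comap (algebraMap R D)) q (Algebra.ofId R D) rfl)
  let gl : D ⊗[R] (q.comap (algebraMap R D)).ResidueField →ₗ[D] q.ResidueField :=
    { toFun := φ
      map_add' := map_add φ
      map_smul' := by
        intro d x
        rw [Algebra.smul_def, map_mul, RingHom.id_apply, Algebra.smul_def]
        congr 1
        change φ (d ⊗ₜ[R] 1) = _
        simp [φ] }
  have hgl : gl 1 ≠ 0 := by
    change φ 1 ≠ 0
    rw [map_one]
    exact one_ne_zero
  have hreg := isRegular_localizedModule q _ ks hmem hw gl 1 hgl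
  -- flatness of the local ring
  have hflat : Module.Flat R (Localization.AtPrime q') :=
    flat_atPrime_quotient ks q' q hq.symm hreg
  -- the fibre
  obtain ⟨Q, hQprime, hQ⟩ := Groth.Agent.Helper8.Fib.exists_fiber_prime p q' hpq'
  haveI := hQprime
  have hCI := isCIOver_fibre_atPrime I ι hA₀ p hIp Q
  haveI : q'.LiesOver p := ⟨hpq'.symm⟩
  haveI : Algebra.FinitePresentation R (D ⧸ Ideal.ofList ks) := by
    haveI : Algebra.FinitePresentation D (D ⧸ Ideal.ofList ks) :=
      Algebra.FinitePresentation.quotient (Submodule.fg_span (List.finite_toSet ks))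
    exact Algebra.FinitePresentation.trans R D _
  have hfp : Algebra.FinitePresentation R (Localization.Away (1 : D ⧸ Ideal.ofList ks)) := by
    haveI : Algebra.FinitePresentation (D ⧸ Ideal.ofList ks)
        (Localization.Away (1 : D ⧸ Ideal.ofList ks)) :=
      IsLocalization.Away.finitePresentation (1 : D ⧸ Ideal.ofList ks)
    exact Algebra.FinitePresentation.trans R (D ⧸ Ideal.ofList ks) _
  have h1 : (1 : D ⧸ Ideal.ofList ks) ∉ q' := fun h =>
    (inferInstance : q'.IsPrime).ne_top ((Ideal.eq_top_iff_one _).mpr h)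
  obtain ⟨g, hg, n, c, F, hrel, ⟨e⟩⟩ :=
    Groth.Agent.Helper2.Synt.exists_relGCI_away_of_local_conditions R (D ⧸ Ideal.ofList ks) p q' Q
      hQ 1 h1 hfp hflat hCI
  exact ⟨g, hg, Groth.Agent.Helper2.Synt.isSyntomic_of_algEquiv e.symm
    (Groth.Agent.Helper2.Synt.isSyntomic_of_isRelGCI R n c F hrel)⟩

include hD hπ hker hTR hA₀ ι in
/-- The quotient `D/(k)` is syntomic after inverting an element which is `1` modulo `I`. -/
theorem exists_isSyntomic_away :
    ∃ f' : D ⧸ Ideal.ofList ks, f' - 1 ∈ I.map (algebraMap R (D ⧸ Ideal.ofList ks)) ∧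
      _root_.Synt.IsSyntomic R (Localization.Away f') := by
  have hsup : Ideal.span {g : D ⧸ Ideal.ofList ks |
      _root_.Synt.IsSyntomic R (Localization.Away g)} ⊔
      I.map (algebraMap R (D ⧸ Ideal.ofList ks)) = ⊤ := by
    by_contra hne
    obtain ⟨m, hm, hle⟩ := Ideal.exists_le_maximal _ hne
    haveI := hm.isPrime
    obtain ⟨g, hg, hsyn⟩ := exists_isSyntomic_away_of_prime I hD π hπ hker ks hTR hA₀ ι m
      (le_sup_right.trans hle)
    exact hg (hle (Ideal.mem_sup_left (Ideal.subset_span hsyn)))
  obtain ⟨a, ha, j, hj, haj⟩ := Submodule.mem_sup.mp ((Ideal.eq_top_iff_one _).mp hsup)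
  obtain ⟨s, hs, has⟩ := Submodule.mem_span_finite_of_mem_span ha
  refine ⟨a, ?_, isSyntomic_away_of_mem_span R s (fun g hg => hs hg) a has⟩
  have : a - 1 = -j := by
    rw [← haj]
    ring
  rw [this]
  exact neg_mem hj

end Main

end Groth.Agent.Helper8.SyL
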