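import Mathlib

/-!
# Syntomic algebras as retracts of relative global complete intersections, III:
the presentation of the symmetric algebra of the conormal module and Nakayama
-/

set_option autoImplicit false
universe u

namespace Groth.Agent.Helper8.SyR

open MvPolynomial

variable (R : Type u) [CommRing R] (n m : ℕ)

/-- The inclusion `R[x] → R[x, y]`. -/
noncomputable def inc : MvPolynomial (Fin n) R →ₐ[R] MvPolynomial (Fin (n + m)) R :=
  rename (Fin.castAdd m)

/-- The variable `y_j`. -/
noncomputable def Yv (j : Fin m) : MvPolynomial (Fin (n + m)) R := X (Fin.natAdd n j)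

variable {R n m}
variable (g : Fin m → MvPolynomial (Fin n) R) (E : Fin m → Fin m → MvPolynomial (Fin n) R)

/-- The linear relation `y_k - ∑ E_{jk} y_j`. -/
noncomputable def lin (k : Fin m) : MvPolynomial (Fin (n + m)) R :=
  Yv R n m k - ∑ j, inc R n m (E j k) * Yv R n m j

/-- The relation `g_k + ℓ_k`. -/
noncomputable def Frel (k : Fin m) : MvPolynomial (Fin (n + m)) R :=
  inc R n m (g k) + lin E k

/-- The ideal `(g_k, ℓ_k)`. -/
noncomputable def Kid : Ideal (MvPolynomial (Fin (n + m)) R) :=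
  Ideal.span (Set.range fun k => inc R n m (g k)) ⊔ Ideal.span (Set.range (lin E))

/-- The ideal `(g_k, ℓ_k, y_k)`. -/
noncomputable def aid : Ideal (MvPolynomial (Fin (n + m)) R) :=
  Kid g E ⊔ Ideal.span (Set.range (Yv R n m))

theorem inc_g_mem_Kid (k : Fin m) : inc R n m (g k) ∈ Kid g E :=
  Ideal.mem_sup_left (Ideal.subset_span ⟨k, rfl⟩)

theorem lin_mem_Kid (k : Fin m) : lin E k ∈ Kid g E :=
  Ideal.mem_sup_right (Ideal.subset_span ⟨k, rfl⟩)

theorem Yv_mem_aid (k : Fin m) : Yv R n m k ∈ aid g E :=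
  Ideal.mem_sup_right (Ideal.subset_span ⟨k, rfl⟩)

theorem Kid_le_aid : Kid g E ≤ aid g E := le_sup_left

theorem inc_mem_Kid {a : MvPolynomial (Fin n) R} (ha : a ∈ Ideal.span (Set.range g)) :
    inc R n m a ∈ Kid g E := by
  have h1 : inc R n m a ∈ (Ideal.span (Set.range g)).map (inc R n m) := Ideal.mem_map_of_mem _ ha
  rw [Ideal.map_span] at h1
  refine Ideal.mem_sup_left (Ideal.span_mono ?_ h1)
  rintro _ ⟨_, ⟨k, rfl⟩, rfl⟩
  exact ⟨k, rfl⟩

theorem inc_mem_aid_mul_Kid {a : MvPolynomial (Fin n) R}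
    (ha : a ∈ (Ideal.span (Set.range g)) ^ 2) : inc R n m a ∈ aid g E * Kid g E := by
  have h1 : inc R n m a ∈ ((Ideal.span (Set.range g)) ^ 2).map (inc R n m) :=
    Ideal.mem_map_of_mem _ ha
  rw [Ideal.map_pow, pow_two] at h1
  have hle : (Ideal.span (Set.range g)).map (inc R n m) ≤ Kid g E := by
    rw [Ideal.map_le_iff_le_comap]
    intro x hx
    exact inc_mem_Kid g E hx
  exact Ideal.mul_mono (hle.trans (Kid_le_aid g E)) hle h1

theorem Frel_mem_aid (k : Fin m) : Frel g E k ∈ aid g E :=
  (aid g E).add_mem (Kid_le_aid g E (inc_g_mem_Kid g E k)) (Kid_le_aid g E (lin_mem_Kid g E k))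

section Nakayama

variable (hP1 : ∀ k, g k - ∑ j, E j k * g j ∈ (Ideal.span (Set.range g)) ^ 2)
  (hP3 : ∀ a : Fin m → MvPolynomial (Fin n) R, ∑ j, a j * g j ∈ (Ideal.span (Set.range g)) ^ 2 →
    ∀ i, ∑ j, E i j * a j ∈ Ideal.span (Set.range g))

include hP1 hP3 in
/-- The lifted matrix is idempotent modulo `J`. -/
theorem idem_mem (i j : Fin m) : E i j - ∑ k, E i k * E k j ∈ Ideal.span (Set.range g) := by
  classical
  have h := hP3 (fun k => (if k = j then 1 else 0) - E k j) (by
    have : ∑ k, ((if k = j then (1 : MvPolynomial (Fin n) R) else 0) - E k j) * g k =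
        g j - ∑ k, E k j * g k := by
      simp only [sub_mul, Finset.sum_sub_distrib, ite_mul, one_mul, zero_mul,
        Finset.sum_ite_eq', Finset.mem_univ, if_true]
    rw [this]
    exact hP1 j) i
  have : ∑ k, E i k * ((if k = j then (1 : MvPolynomial (Fin n) R) else 0) - E k j) =
      E i j - ∑ k, E i k * E k j := by
    simp only [mul_sub, Finset.sum_sub_distrib, mul_ite, mul_one, mul_zero,
      Finset.sum_ite_eq', Finset.mem_univ, if_true]
  rw [this] at h
  exact h

include hP1 hP3 in
theorem Kid_le : Kid g E ≤ Ideal.span (Set.range (Frel g E)) ⊔ aid g E * Kid g E := by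
  classical
  have hF : ∀ k, Frel g E k ∈ Ideal.span (Set.range (Frel g E)) ⊔ aid g E * Kid g E := fun k =>
    Ideal.mem_sup_left (Ideal.subset_span ⟨k, rfl⟩)
  have hg : ∀ j, inc R n m (g j) ∈
      Ideal.span (Set.range (Frel g E)) ⊔ aid g E * Kid g E := by
    intro j
    have key : inc R n m (g j) = ∑ k, inc R n m (E k j) * Frel g E k +
        inc R n m (g j - ∑ k, E k j * g k) -
        ∑ i, inc R n m (E i j - ∑ k, E i k * E k j) * Yv R n m i := by
      unfold Frel lin
      simp only [map_sub, map_sum, map_mul, mul_add, mul_sub, Finset.sum_add_distrib,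
        Finset.sum_sub_distrib, sub_mul, Finset.mul_sum, Finset.sum_mul]
      rw [Finset.sum_comm (f := fun x y => inc R n m (E x j) * (inc R n m (E y x) * Yv R n m y))]
      have : ∀ x y, inc R n m (E x j) * (inc R n m (E y x) * Yv R n m y) =
          inc R n m (E y x) * inc R n m (E x j) * Yv R n m y := fun x y => by ring
      simp only [this]
      ring
    rw [key]
    refine Ideal.sub_mem _ (Ideal.add_mem _ ?_ ?_) ?_
    · exact Ideal.sum_mem _ fun k _ => Ideal.mul_mem_left _ _ (hF k)
    · exact Ideal.mem_sup_right (inc_mem_aid_mul_Kid g E (hP1 j))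
    · refine Ideal.sum_mem _ fun i _ => Ideal.mem_sup_right ?_
      have h1 := Ideal.mul_mem_mul (Yv_mem_aid g E i)
        (inc_mem_Kid g E (idem_mem g E hP1 hP3 i j))
      have h2 : inc R n m (E i j - ∑ k, E i k * E k j) * Yv R n m i =
          Yv R n m i * inc R n m (E i j - ∑ k, E i k * E k j) := mul_comm _ _
      rw [h2]
      exact h1
  unfold Kid
  rw [sup_le_iff, Ideal.span_le, Ideal.span_le]
  constructor
  · rintro _ ⟨k, rfl⟩
    exact hg k
  · rintro _ ⟨k, rfl⟩
    have : lin E k = Frel g E k - inc R n m (g k) := by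
      unfold Frel
      ring
    rw [this]
    exact Ideal.sub_mem _ (hF k) (hg k)

include hP1 hP3 in
/-- Nakayama: after inverting an element `G ≡ 1` modulo `(g, ℓ, y)`, the ideal `(g, ℓ)` is
generated by the `m` elements `g_k + ℓ_k`. -/
theorem exists_nakayama : ∃ G : MvPolynomial (Fin (n + m)) R, G - 1 ∈ aid g E ∧
    ∀ x ∈ Kid g E, G * x ∈ Ideal.span (Set.range (Frel g E)) := by
  have hfg : (Kid g E).FG := by
    unfold Kid
    exact Submodule.FG.sup (Submodule.fg_span (Set.finite_range _))
      (Submodule.fg_span (Set.finite_range _))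
  obtain ⟨r, hr1, hr2⟩ := Submodule.exists_sub_one_mem_and_smul_le_of_fg_of_le_sup
    (I := aid g E) (N := Ideal.span (Set.range (Frel g E))) (N' := Kid g E) (P := Kid g E)
    hfg le_rfl (Kid_le g E hP1 hP3)
  refine ⟨r, hr1, fun x hx => ?_⟩
  have := hr2 (Submodule.smul_mem_pointwise_smul x r _ hx)
  exact this

end Nakayama

end Groth.Agent.Helper8.SyR
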