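import Mathlib
import Groth.Agent.Lib.Helper8.SyR3
import Groth.Agent.Lib.Helper8.LocTr5

/-!
# Syntomic algebras as retracts of relative global complete intersections, IV:
the algebra `(R[x, y]/(g_k + ℓ_k))_G`, its structure over `A = R[x]/(g)`, smoothness, retraction
-/

set_option autoImplicit false
universe u

namespace Groth.Agent.Helper8.SyR

open MvPolynomial

variable {R : Type u} [CommRing R] {n m : ℕ}
variable (g : Fin m → MvPolynomial (Fin n) R) (E : Fin m → Fin m → MvPolynomial (Fin n) R)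
  (G : MvPolynomial (Fin (n + m)) R)

/-- The algebra `R[x, y]/(g_k + ℓ_k)`. -/
abbrev Sq : Type u := MvPolynomial (Fin (n + m)) R ⧸ Ideal.span (Set.range (Frel g E))

/-- The algebra `(R[x, y]/(g_k + ℓ_k))_G`. -/
abbrev Cq : Type u :=
  Localization.Away (Ideal.Quotient.mk (Ideal.span (Set.range (Frel g E))) G)

/-- The canonical map `R[x, y] → (R[x, y]/(g_k + ℓ_k))_G`. -/
noncomputable def tau : MvPolynomial (Fin (n + m)) R →ₐ[R] Cq g E G :=
  (IsScalarTower.toAlgHom R (Sq g E) (Cq g E G)).comp (Ideal.Quotient.mkₐ R _)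

theorem tau_apply (q : MvPolynomial (Fin (n + m)) R) :
    tau g E G q = algebraMap (Sq g E) (Cq g E G) (Ideal.Quotient.mk _ q) := rfl

theorem tau_G_isUnit : IsUnit (tau g E G G) :=
  IsLocalization.Away.algebraMap_isUnit (Ideal.Quotient.mk (Ideal.span (Set.range (Frel g E))) G)

theorem tau_eq_zero_of_mem {q : MvPolynomial (Fin (n + m)) R}
    (hq : q ∈ Ideal.span (Set.range (Frel g E))) : tau g E G q = 0 := by
  rw [tau_apply, Ideal.Quotient.eq_zero_iff_mem.mpr hq, map_zero]

section

variable (hGK : ∀ x ∈ Kid g E, G * x ∈ Ideal.span (Set.range (Frel g E)))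

include hGK in
theorem tau_Kid {x : MvPolynomial (Fin (n + m)) R} (hx : x ∈ Kid g E) : tau g E G x = 0 := by
  have h1 := tau_eq_zero_of_mem g E G (hGK x hx)
  rw [map_mul] at h1
  exact ((tau_G_isUnit g E G).mul_right_eq_zero).mp h1

include hGK in
theorem tau_inc_eq_zero {a : MvPolynomial (Fin n) R} (ha : a ∈ Ideal.span (Set.range g)) :
    tau g E G (inc R n m a) = 0 :=
  tau_Kid g E G hGK (inc_mem_Kid g E ha)

include hGK in
theorem tau_Yv (k : Fin m) :
    tau g E G (Yv R n m k) = ∑ j, tau g E G (inc R n m (E j k)) * tau g E G (Yv R n m j) := by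
  have h1 := tau_Kid g E G hGK (lin_mem_Kid g E k)
  unfold lin at h1
  rw [map_sub, sub_eq_zero] at h1
  rw [h1, map_sum]
  simp only [map_mul]

end

section Structure

variable {A : Type u} [CommRing A] [Algebra R A] (f : MvPolynomial (Fin n) R →ₐ[R] A)
  (hf : Function.Surjective f) (hker : RingHom.ker f.toRingHom = Ideal.span (Set.range g))
  (hGK : ∀ x ∈ Kid g E, G * x ∈ Ideal.span (Set.range (Frel g E)))

include hker hGK in
theorem ker_le_ker : RingHom.ker f.toRingHom ≤
    RingHom.ker ((tau g E G).comp (inc R n m)).toRingHom := by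
  intro a ha
  rw [hker] at ha
  exact tau_inc_eq_zero g E G hGK ha

/-- The structure map `A → (R[x, y]/(g_k + ℓ_k))_G`. -/
noncomputable def algA : A →ₐ[R] Cq g E G :=
  AlgHom.liftOfSurjective f hf ((tau g E G).comp (inc R n m)) (ker_le_ker g E G f hker hGK)

theorem algA_apply (b : MvPolynomial (Fin n) R) :
    algA g E G f hf hker hGK (f b) = tau g E G (inc R n m b) :=
  AlgHom.liftOfSurjective_apply f hf _ _ b

/-- The values `x_i ↦ f(x_i)`, `y_j ↦ 0`. -/
noncomputable def rhoVals : Fin (n + m) → A := Fin.append (fun i => f (X i)) (fun _ => 0)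

theorem aeval_rhoVals_inc (b : MvPolynomial (Fin n) R) :
    aeval (rhoVals (m := m) f) (inc R n m b) = f b := by
  unfold inc
  rw [aeval_rename]
  have : (rhoVals (m := m) f ∘ Fin.castAdd m) = fun i => f (X i) := by
    funext i
    simp [rhoVals]
  rw [this]
  have h2 : f = aeval (fun i => f (X i)) := aeval_unique f
  exact (congrArg (fun φ : MvPolynomial (Fin n) R →ₐ[R] A => φ b) h2).symm

theorem aeval_rhoVals_Yv (j : Fin m) : aeval (rhoVals (m := m) f) (Yv R n m j) = 0 := by
  unfold Yv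
  rw [aeval_X]
  simp [rhoVals]

include hker in
theorem aeval_rhoVals_aid {x : MvPolynomial (Fin (n + m)) R} (hx : x ∈ aid g E) :
    aeval (rhoVals (m := m) f) x = 0 := by
  have hle : aid g E ≤ RingHom.ker (aeval (rhoVals (m := m) f) :
      MvPolynomial (Fin (n + m)) R →ₐ[R] A).toRingHom := by
    unfold aid Kid
    rw [sup_le_iff, sup_le_iff, Ideal.span_le, Ideal.span_le, Ideal.span_le]
    refine ⟨⟨?_, ?_⟩, ?_⟩
    · rintro _ ⟨k, rfl⟩
      rw [SetLike.mem_coe, RingHom.mem_ker]
      change aeval (rhoVals (m := m) f) (inc R n m (g k)) = 0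
      rw [aeval_rhoVals_inc]
      have : g k ∈ RingHom.ker f.toRingHom := by
        rw [hker]
        exact Ideal.subset_span ⟨k, rfl⟩
      exact this
    · rintro _ ⟨k, rfl⟩
      rw [SetLike.mem_coe, RingHom.mem_ker]
      change aeval (rhoVals (m := m) f) (lin E k) = 0
      unfold lin
      rw [map_sub, map_sum, aeval_rhoVals_Yv, zero_sub, neg_eq_zero]
      refine Finset.sum_eq_zero fun j _ => ?_
      rw [map_mul, aeval_rhoVals_Yv, mul_zero]
    · rintro _ ⟨k, rfl⟩
      rw [SetLike.mem_coe, RingHom.mem_ker]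
      exact aeval_rhoVals_Yv f k
  exact hle hx

include hker in
/-- The retraction. -/
theorem exists_retraction (hG1 : G - 1 ∈ aid g E) :
    ∃ ρ : Cq g E G →ₐ[R] A, ∀ b, ρ (tau g E G (inc R n m b)) = f b := by
  have hrel : ∀ k, aeval (rhoVals (m := m) f) (Frel g E k) = 0 := fun k =>
    aeval_rhoVals_aid g E f hker (Frel_mem_aid g E k)
  have hu : IsUnit (aeval (rhoVals (m := m) f) G) := by
    have h1 := aeval_rhoVals_aid g E f hker hG1
    rw [map_sub, map_one, sub_eq_zero] at h1
    rw [h1]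
    exact isUnit_one
  obtain ⟨ρ, hρ⟩ := Groth.Agent.Helper8.LocTr.exists_algHom_away (A := R) (Frel g E) G
    (rhoVals (m := m) f) hrel hu
  refine ⟨ρ, fun b => ?_⟩
  rw [tau_apply, hρ, aeval_rhoVals_inc]

end Structure

end Groth.Agent.Helper8.SyR
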