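import Mathlib
import Groth.Agent.Lib.Helper8.SyR4

/-!
# Syntomic algebras as retracts of relative global complete intersections, V:
smoothness of `(R[x, y]/(g_k + ℓ_k))_G` over `A = R[x]/(g)`
-/

set_option autoImplicit false
universe u

namespace Groth.Agent.Helper8.SyR

open MvPolynomial

variable {R : Type u} [CommRing R] {n m : ℕ}
variable (g : Fin m → MvPolynomial (Fin n) R) (E : Fin m → Fin m → MvPolynomial (Fin n) R)
  (G : MvPolynomial (Fin (n + m)) R)
variable {A : Type u} [CommRing A] [Algebra R A] (f : MvPolynomial (Fin n) R →ₐ[R] A)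

/-- The values `x_i ↦ f(x_i)`, `y_j ↦ ∑ e_{ij} y_i` in `A[y]`. -/
noncomputable def phiVals : Fin (n + m) → MvPolynomial (Fin m) A :=
  Fin.append (fun i => C (f (X i))) (fun j => ∑ i, C (f (E i j)) * X i)

theorem aeval_phiVals_inc (b : MvPolynomial (Fin n) R) :
    aeval (phiVals E f) (inc R n m b) = C (f b) := by
  unfold inc
  rw [aeval_rename]
  have : (phiVals E f ∘ Fin.castAdd m) = fun i => (C (f (X i)) : MvPolynomial (Fin m) A) := by
    funext i
    simp [phiVals]
  rw [this]
  let φ : MvPolynomial (Fin n) R →ₐ[R] MvPolynomial (Fin m) A :=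
    (IsScalarTower.toAlgHom R A (MvPolynomial (Fin m) A)).comp f
  have h2 : φ = aeval (fun i => φ (X i)) := aeval_unique φ
  have h3 : ∀ b, φ b = C (f b) := fun b => rfl
  have h4 := congrArg (fun ψ : MvPolynomial (Fin n) R →ₐ[R] MvPolynomial (Fin m) A => ψ b) h2
  simp only [h3] at h4
  exact h4.symm

theorem aeval_phiVals_Yv (j : Fin m) :
    aeval (phiVals E f) (Yv R n m j) = ∑ i, C (f (E i j)) * X i := by
  unfold Yv
  rw [aeval_X]
  simp [phiVals]

section

variable (hker : RingHom.ker f.toRingHom = Ideal.span (Set.range g))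
  (hP1 : ∀ k, g k - ∑ j, E j k * g j ∈ (Ideal.span (Set.range g)) ^ 2)
  (hP3 : ∀ a : Fin m → MvPolynomial (Fin n) R, ∑ j, a j * g j ∈ (Ideal.span (Set.range g)) ^ 2 →
    ∀ i, ∑ j, E i j * a j ∈ Ideal.span (Set.range g))

include hker hP1 hP3 in
theorem f_idem (i k : Fin m) : f (E i k) = ∑ j, f (E i j) * f (E j k) := by
  have h1 := idem_mem g E hP1 hP3 i k
  rw [← hker] at h1
  have h2 : f (E i k - ∑ j, E i j * E j k) = 0 := h1
  rw [map_sub, sub_eq_zero, map_sum] at h2
  rw [h2]
  simp only [map_mul]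

include hker hP1 hP3 in
theorem aeval_phiVals_Frel (k : Fin m) : aeval (phiVals E f) (Frel g E k) = 0 := by
  unfold Frel lin
  rw [map_add, aeval_phiVals_inc, map_sub, map_sum, aeval_phiVals_Yv]
  have hgk : f (g k) = 0 := by
    have : g k ∈ RingHom.ker f.toRingHom := by
      rw [hker]
      exact Ideal.subset_span ⟨k, rfl⟩
    exact this
  rw [hgk, map_zero, zero_add, sub_eq_zero]
  simp only [map_mul, aeval_phiVals_inc, aeval_phiVals_Yv, Finset.mul_sum]
  rw [Finset.sum_comm]
  refine Finset.sum_congr rfl fun i _ => ?_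
  rw [f_idem g E f hker hP1 hP3 i k, map_sum, Finset.sum_mul]
  refine Finset.sum_congr rfl fun j _ => ?_
  rw [map_mul]
  ring

end

section Smooth

variable (hf : Function.Surjective f)
  (hker : RingHom.ker f.toRingHom = Ideal.span (Set.range g))
  (hP1 : ∀ k, g k - ∑ j, E j k * g j ∈ (Ideal.span (Set.range g)) ^ 2)
  (hP3 : ∀ a : Fin m → MvPolynomial (Fin n) R, ∑ j, a j * g j ∈ (Ideal.span (Set.range g)) ^ 2 →
    ∀ i, ∑ j, E i j * a j ∈ Ideal.span (Set.range g))
  (hGK : ∀ x ∈ Kid g E, G * x ∈ Ideal.span (Set.range (Frel g E)))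
  [Algebra A (Cq g E G)] [IsScalarTower R A (Cq g E G)]
  (hA : ∀ b, algebraMap A (Cq g E G) (f b) = tau g E G (inc R n m b))

include hf hker hP1 hP3 hGK hA in
theorem formallySmooth_Cq : Algebra.FormallySmooth A (Cq g E G) := by
  classical
  let Gh : MvPolynomial (Fin m) A := aeval (phiVals E f) G
  let P2 := Localization.Away Gh
  -- the map `Φ`
  let vals : Fin (n + m) → P2 := fun o => algebraMap (MvPolynomial (Fin m) A) P2 (phiVals E f o)
  have hvals : ∀ q : MvPolynomial (Fin (n + m)) R,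
      aeval vals q = algebraMap (MvPolynomial (Fin m) A) P2 (aeval (phiVals E f) q) := by
    intro q
    have := comp_aeval_apply (f := phiVals E f)
      (IsScalarTower.toAlgHom R (MvPolynomial (Fin m) A) P2) q
    exact this.symm
  have hrel : ∀ k, aeval vals (Frel g E k) = 0 := by
    intro k
    rw [hvals, aeval_phiVals_Frel g E f hker hP1 hP3, map_zero]
  have hu : IsUnit (aeval vals G) := by
    rw [hvals]
    exact IsLocalization.Away.algebraMap_isUnit Gh
  obtain ⟨Φ, hΦ⟩ := Groth.Agent.Helper8.LocTr.exists_algHom_away (A := R) (Frel g E) G vals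
    hrel hu
  have hΦA : ∀ a : A, Φ (algebraMap A (Cq g E G) a) = algebraMap A P2 a := by
    intro a
    obtain ⟨b, rfl⟩ := hf a
    rw [hA, tau_apply, hΦ, hvals, aeval_phiVals_inc]
    rw [IsScalarTower.algebraMap_apply A (MvPolynomial (Fin m) A) P2]
    rfl
  let ΦA : Cq g E G →ₐ[A] P2 := { Φ.toRingHom with commutes' := hΦA }
  -- the map `Ψ`
  let Ψ₀ : MvPolynomial (Fin m) A →ₐ[A] Cq g E G := aeval (fun j => tau g E G (Yv R n m j))
  have hΨ₀C : ∀ a : A, Ψ₀ (C a) = algebraMap A (Cq g E G) a := fun a => Ψ₀.commutes a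
  have hΨ₀v : ∀ o, Ψ₀ (phiVals E f o) = tau g E G (X o) := by
    intro o
    induction o using Fin.addCases with
    | left i =>
      have h1 : phiVals E f (Fin.castAdd m i) = C (f (X i)) := by simp [phiVals]
      rw [h1, hΨ₀C, hA]
      unfold inc
      rw [rename_X]
    | right j =>
      have h1 : phiVals E f (Fin.natAdd n j) = ∑ i, C (f (E i j)) * X i := by simp [phiVals]
      rw [h1, map_sum]
      have h2 := tau_Yv g E G hGK j
      change _ = tau g E G (Yv R n m j)
      rw [h2]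
      refine Finset.sum_congr rfl fun i _ => ?_
      rw [map_mul, hΨ₀C, hA]
      congr 1
      exact aeval_X _ _
  have hΨ₀G : Ψ₀ Gh = tau g E G G := by
    have h1 := comp_aeval_apply (f := phiVals E f) (Ψ₀.restrictScalars R) G
    have h2 : (fun o => (Ψ₀.restrictScalars R) (phiVals E f o)) = (tau g E G) ∘ X := by
      funext o
      exact hΨ₀v o
    rw [h2, ← aeval_unique] at h1
    exact h1
  have hΨ₀u : IsUnit (Ψ₀ Gh) := by
    rw [hΨ₀G]
    exact tau_G_isUnit g E G
  let Ψ : P2 →ₐ[A] Cq g E G := IsLocalization.Away.liftAlgHom Gh (f := Ψ₀) hΨ₀u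
  have hΨ : ∀ c, Ψ (algebraMap (MvPolynomial (Fin m) A) P2 c) = Ψ₀ c := fun c =>
    IsLocalization.Away.lift_eq _ hΨ₀u c
  have hR : (Ψ.restrictScalars R).comp Φ = AlgHom.id R (Cq g E G) := by
    refine Groth.Agent.Helper8.LocTr.algHom_ext_away (Frel g E) G fun o => ?_
    change Ψ (Φ (algebraMap (Sq g E) (Cq g E G) (Ideal.Quotient.mk _ (X o)))) =
      algebraMap (Sq g E) (Cq g E G) (Ideal.Quotient.mk _ (X o))
    rw [hΦ, aeval_X]
    change Ψ (algebraMap _ P2 (phiVals E f o)) = _
    rw [hΨ, hΨ₀v]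
    rfl
  have h : Ψ.comp ΦA = AlgHom.id A (Cq g E G) := by
    refine AlgHom.ext fun x => ?_
    have := congrArg (fun φ : Cq g E G →ₐ[R] Cq g E G => φ x) hR
    exact this
  exact Groth.Agent.Helper8.LocTr.formallySmooth_of_retract ΦA Ψ h

end Smooth

end Groth.Agent.Helper8.SyR
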