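import Mathlib
import Groth.Agent.Lib.Helper8.SyR5

/-!
# Lifting syntomic algebras along `R → R/I`, VI:
the algebra `A[w]_G` is smooth over the relative global complete intersection `(R[x, y]/(g + ℓ))_G`
-/

set_option autoImplicit false
universe u

namespace Groth.Agent.Helper8.SyL

open MvPolynomial Groth.Agent.Helper8.SyR

variable {R : Type u} [CommRing R] {n m : ℕ}
variable (g : Fin m → MvPolynomial (Fin n) R) (E : Fin m → Fin m → MvPolynomial (Fin n) R)
  (G : MvPolynomial (Fin (n + m)) R)
variable {A : Type u} [CommRing A] [Algebra R A] (f : MvPolynomial (Fin n) R →ₐ[R] A)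

/-- The image of `G` in `A[w]`. -/
noncomputable def Gh : MvPolynomial (Fin m) A := aeval (phiVals E f) G

/-- The algebra `A[w]_G`. -/
abbrev P2 : Type u := Localization.Away (Gh E G f)

/-- The image of `w_k`. -/
noncomputable def wv (k : Fin m) : P2 E G f :=
  algebraMap (MvPolynomial (Fin m) A) (P2 E G f) (X k)

section Smooth

variable (hf : Function.Surjective f)
  (hker : RingHom.ker f.toRingHom = Ideal.span (Set.range g))
  (hP1 : ∀ k, g k - ∑ j, E j k * g j ∈ (Ideal.span (Set.range g)) ^ 2)
  (hP3 : ∀ a : Fin m → MvPolynomial (Fin n) R, ∑ j, a j * g j ∈ (Ideal.span (Set.range g)) ^ 2 →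
    ∀ i, ∑ j, E i j * a j ∈ Ideal.span (Set.range g))
  (hGK : ∀ x ∈ Kid g E, G * x ∈ Ideal.span (Set.range (Frel g E)))
  [Algebra A (Cq g E G)] [IsScalarTower R A (Cq g E G)]
  (hA : ∀ b, algebraMap A (Cq g E G) (f b) = tau g E G (inc R n m b))
  [Algebra (Cq g E G) (P2 E G f)]
  (hΦ : ∀ q, algebraMap (Cq g E G) (P2 E G f) (tau g E G q) =
    algebraMap (MvPolynomial (Fin m) A) (P2 E G f) (aeval (phiVals E f) q))

include hΦ in
theorem tower_R : IsScalarTower R (Cq g E G) (P2 E G f) := by
  refine IsScalarTower.of_algebraMap_eq fun r => ?_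
  have h1 : algebraMap R (Cq g E G) r = tau g E G (C r) := ((tau g E G).commutes r).symm
  rw [h1, hΦ]
  have h2 : aeval (phiVals E f) (C r : MvPolynomial (Fin (n + m)) R) =
      algebraMap R (MvPolynomial (Fin m) A) r := (aeval (phiVals E f)).commutes r
  rw [h2, ← IsScalarTower.algebraMap_apply]

include hf hA hΦ in
theorem tower_A : IsScalarTower A (Cq g E G) (P2 E G f) := by
  refine IsScalarTower.of_algebraMap_eq fun a => ?_
  obtain ⟨b, rfl⟩ := hf a
  rw [hA, hΦ, aeval_phiVals_inc, IsScalarTower.algebraMap_apply A (MvPolynomial (Fin m) A)]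
  rfl

include hf hker hP1 hP3 hGK hA hΦ in
theorem formallySmooth_P2 : Algebra.FormallySmooth (Cq g E G) (P2 E G f) := by
  classical
  haveI := tower_R g E G f hΦ
  haveI := tower_A g E G f hf hA hΦ
  -- the section `s`
  let sv : Fin m → MvPolynomial (Fin m) (Cq g E G) := fun k =>
    C (tau g E G (Yv R n m k)) + X k - ∑ j, C (algebraMap A (Cq g E G) (f (E j k))) * X j
  let s₀ : MvPolynomial (Fin m) A →ₐ[A] MvPolynomial (Fin m) (Cq g E G) := aeval sv
  have hs₀C : ∀ a : A, s₀ (C a) = C (algebraMap A (Cq g E G) a) := fun a => s₀.commutes a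
  have hs₀X : ∀ k, s₀ (X k) = sv k := fun k => aeval_X _ _
  have hs₀v : ∀ o, s₀ (phiVals E f o) = C (tau g E G (X o)) := by
    intro o
    induction o using Fin.addCases with
    | left i =>
      have h1 : phiVals E f (Fin.castAdd m i) = C (f (X i)) := by simp [phiVals]
      rw [h1, hs₀C, hA]
      unfold inc
      rw [rename_X]
    | right j =>
      have h1 : phiVals E f (Fin.natAdd n j) = ∑ i, C (f (E i j)) * X i := by simp [phiVals]
      rw [h1, map_sum]
      have h2 := tau_Yv g E G hGK j
      change _ = C (tau g E G (Yv R n m j))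
      simp only [map_mul, hs₀C, hs₀X, sv]
      have h3 : ∀ l, algebraMap A (Cq g E G) (f (E l j)) =
          ∑ i, algebraMap A (Cq g E G) (f (E l i)) * algebraMap A (Cq g E G) (f (E i j)) := by
        intro l
        rw [f_idem g E f hker hP1 hP3 l j, map_sum]
        simp only [map_mul]
      have h4 : ∑ i, C (algebraMap A (Cq g E G) (f (E i j))) *
          (∑ l, C (algebraMap A (Cq g E G) (f (E l i))) * (X l : MvPolynomial (Fin m) (Cq g E G))) =
          ∑ l, C (algebraMap A (Cq g E G) (f (E l j))) * X l := by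
        simp only [Finset.mul_sum]
        rw [Finset.sum_comm]
        refine Finset.sum_congr rfl fun l _ => ?_
        rw [h3 l, map_sum, Finset.sum_mul]
        refine Finset.sum_congr rfl fun i _ => ?_
        rw [map_mul]
        ring
      have h5 : C (tau g E G (Yv R n m j)) =
          ∑ i, C (algebraMap A (Cq g E G) (f (E i j))) *
            (C (tau g E G (Yv R n m i)) : MvPolynomial (Fin m) (Cq g E G)) := by
        rw [h2, map_sum]
        refine Finset.sum_congr rfl fun i _ => ?_
        rw [map_mul, hA]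
      simp only [mul_sub, mul_add, Finset.sum_sub_distrib, Finset.sum_add_distrib]
      rw [h4, ← h5]
      ring
  have hs₀G : s₀ (Gh E G f) = C (tau g E G G) := by
    have h1 := comp_aeval_apply (f := phiVals E f) (s₀.restrictScalars R) G
    have h2 : (fun o => (s₀.restrictScalars R) (phiVals E f o)) =
        ((IsScalarTower.toAlgHom R (Cq g E G) (MvPolynomial (Fin m) (Cq g E G))).comp
          (tau g E G)) ∘ X := by
      funext o
      exact hs₀v o
    rw [h2, ← aeval_unique] at h1
    exact h1
  have hs₀u : IsUnit (s₀ (Gh E G f)) := by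
    rw [hs₀G]
    exact (tau_G_isUnit g E G).map C
  let s' : P2 E G f →ₐ[A] MvPolynomial (Fin m) (Cq g E G) :=
    IsLocalization.Away.liftAlgHom (Gh E G f) (f := s₀) hs₀u
  have hs' : ∀ c, s' (algebraMap (MvPolynomial (Fin m) A) (P2 E G f) c) = s₀ c := fun c =>
    IsLocalization.Away.lift_eq _ hs₀u c
  have hsΦ : ∀ c : Cq g E G, s' (algebraMap (Cq g E G) (P2 E G f) c) = C c := by
    have h1 : ((s'.restrictScalars R).comp (IsScalarTower.toAlgHom R (Cq g E G) (P2 E G f))) =
        IsScalarTower.toAlgHom R (Cq g E G) (MvPolynomial (Fin m) (Cq g E G)) := by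
      refine Groth.Agent.Helper8.LocTr.algHom_ext_away (Frel g E) G fun o => ?_
      change s' (algebraMap (Cq g E G) (P2 E G f) (tau g E G (X o))) = C (tau g E G (X o))
      rw [hΦ, hs', aeval_X, hs₀v]
    intro c
    exact congrArg (fun φ : Cq g E G →ₐ[R] MvPolynomial (Fin m) (Cq g E G) => φ c) h1
  let sC : P2 E G f →ₐ[Cq g E G] MvPolynomial (Fin m) (Cq g E G) :=
    { s'.toRingHom with commutes' := hsΦ }
  -- the retraction `r`
  let r : MvPolynomial (Fin m) (Cq g E G) →ₐ[Cq g E G] P2 E G f := aeval (wv E G f)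
  have hrC : ∀ c, r (C c) = algebraMap (Cq g E G) (P2 E G f) c := fun c => r.commutes c
  have hrX : ∀ k, r (X k) = wv E G f k := fun k => aeval_X _ _
  have hAw : ∀ a : A, algebraMap (Cq g E G) (P2 E G f) (algebraMap A (Cq g E G) a) =
      algebraMap (MvPolynomial (Fin m) A) (P2 E G f) (C a) := by
    intro a
    rw [← IsScalarTower.algebraMap_apply, IsScalarTower.algebraMap_apply A (MvPolynomial (Fin m) A)]
    rfl
  have h : r.comp sC = AlgHom.id (Cq g E G) (P2 E G f) := by
    have hring : (r.toRingHom.comp s'.toRingHom) = RingHom.id (P2 E G f) := by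
      refine IsLocalization.ringHom_ext (Submonoid.powers (Gh E G f)) ?_
      refine MvPolynomial.ringHom_ext (fun a => ?_) (fun k => ?_)
      · change r (s' (algebraMap _ (P2 E G f) (C a))) = algebraMap _ (P2 E G f) (C a)
        rw [hs', hs₀C, hrC, hAw]
      · change r (s' (algebraMap _ (P2 E G f) (X k))) = algebraMap _ (P2 E G f) (X k)
        rw [hs', hs₀X]
        simp only [sv, map_sub, map_add, map_sum, map_mul, hrC, hrX, hAw]
        have h1 := hΦ (Yv R n m k)
        rw [aeval_phiVals_Yv, map_sum] at h1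
        rw [h1]
        simp only [map_mul]
        change _ + wv E G f k - _ = wv E G f k
        unfold wv
        ring
    refine AlgHom.ext fun x => ?_
    exact congrArg (fun φ : P2 E G f →+* P2 E G f => φ x) hring
  exact Groth.Agent.Helper8.LocTr.formallySmooth_of_retract sC r h

include hf hker hP1 hP3 hGK hA hΦ in
theorem smooth_P2 [Algebra.FinitePresentation R A] : Algebra.Smooth (Cq g E G) (P2 E G f) := by
  haveI := tower_R g E G f hΦ
  haveI hfs := formallySmooth_P2 g E G f hf hker hP1 hP3 hGK hA hΦ
  haveI hfpR : Algebra.FinitePresentation R (P2 E G f) := by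
    haveI : Algebra.FinitePresentation A (MvPolynomial (Fin m) A) := inferInstance
    haveI : Algebra.FinitePresentation (MvPolynomial (Fin m) A) (P2 E G f) :=
      IsLocalization.Away.finitePresentation (Gh E G f)
    haveI : Algebra.FinitePresentation A (P2 E G f) :=
      Algebra.FinitePresentation.trans A (MvPolynomial (Fin m) A) (P2 E G f)
    exact Algebra.FinitePresentation.trans R A (P2 E G f)
  haveI hftC : Algebra.FiniteType R (Cq g E G) := by
    haveI : Algebra.FiniteType R (Sq g E) :=
      Algebra.FiniteType.of_surjective (Ideal.Quotient.mkₐ R _) (Ideal.Quotient.mkₐ_surjective R _)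
    haveI : Algebra.FiniteType (Sq g E) (Cq g E G) :=
      IsLocalization.finiteType_of_monoid_fg (Submonoid.powers
        (Ideal.Quotient.mk (Ideal.span (Set.range (Frel g E))) G)) (Cq g E G)
    exact Algebra.FiniteType.trans (S := Sq g E) inferInstance inferInstance
  haveI hfpC : Algebra.FinitePresentation (Cq g E G) (P2 E G f) :=
    Algebra.FinitePresentation.of_restrict_scalars_finitePresentation R (Cq g E G) _
  exact ⟨hfs, hfpC⟩

end Smooth

end Groth.Agent.Helper8.SyL
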