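import Mathlib
import Groth.Agent.S6827
import Groth.Agent.Lib.Helper2.Synt.SyntLift
import Groth.Agent.Lib.Helper2.Synt.SplitAlg
import Groth.Agent.Lib.Helper2.Synt.RelGCISynt
import Groth.Agent.Lib.Lead.SyntSm1

/-!
# Lifting syntomic algebras along `R → R/I`, VII:
lifting a smooth algebra over a relative global complete intersection over `R/I` to a syntomic
algebra over `R`
-/

set_option autoImplicit false
universe u

namespace Groth.Agent.Helper8.SyL

open MvPolynomial

variable {R : Type u} [CommRing R] (I : Ideal R)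

/-- Lifting a smooth algebra along `C → C/IC ≅ Cq`, where `C` is syntomic over `R`. -/
theorem exists_syntomic_lift_of_smooth_over_quotient
    (C : Type u) [CommRing C] [Algebra R C] (hCsyn : _root_.Synt.IsSyntomic R C)
    (Cq : Type u) [CommRing Cq] [Algebra (R ⧸ I) Cq]
    (T : Type u) [CommRing T] [Algebra R T] [Algebra (R ⧸ I) T] [IsScalarTower R (R ⧸ I) T]
    (e₂ : (C ⧸ I.map (algebraMap R C)) ≃ₐ[R] T) (eC : Cq ≃ₐ[R ⧸ I] T)
    (P2 : Type u) [CommRing P2] [Algebra (R ⧸ I) P2] [Algebra Cq P2] [IsScalarTower (R ⧸ I) Cq P2]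
    [Algebra.Smooth Cq P2] :
    ∃ (D : Type u) (_ : CommRing D) (_ : Algebra R D), _root_.Synt.IsSyntomic R D ∧
      ∃ π : D →+* P2, Function.Surjective π ∧ RingHom.ker π = I.map (algebraMap R D) ∧
        ∀ r, π (algebraMap R D r) = algebraMap (R ⧸ I) P2 (Ideal.Quotient.mk I r) := by
  classical
  -- the isomorphism `C/IC ≅ Cq`
  let ε : (C ⧸ I.map (algebraMap R C)) ≃+* Cq := e₂.toRingEquiv.trans eC.symm.toRingEquiv
  have hε : ∀ r : R, ε (Ideal.Quotient.mk (I.map (algebraMap R C)) (algebraMap R C r)) =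
      algebraMap (R ⧸ I) Cq (Ideal.Quotient.mk I r) := by
    intro r
    change eC.symm (e₂ (algebraMap R (C ⧸ I.map (algebraMap R C)) r)) = _
    rw [e₂.commutes, IsScalarTower.algebraMap_apply R (R ⧸ I) T, eC.symm.commutes]
    rfl
  letI a1 : Algebra (C ⧸ I.map (algebraMap R C)) Cq := ε.toRingHom.toAlgebra
  let e3 : (C ⧸ I.map (algebraMap R C)) ≃ₐ[C ⧸ I.map (algebraMap R C)] Cq :=
    AlgEquiv.ofRingEquiv (f := ε) (fun x => rfl)
  haveI : Algebra.Smooth (C ⧸ I.map (algebraMap R C)) (C ⧸ I.map (algebraMap R C)) :=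
    ⟨inferInstance, inferInstance⟩
  haveI hs1 : Algebra.Smooth (C ⧸ I.map (algebraMap R C)) Cq := Algebra.Smooth.of_equiv e3
  letI a2 : Algebra (C ⧸ I.map (algebraMap R C)) P2 :=
    ((algebraMap Cq P2).comp ε.toRingHom).toAlgebra
  haveI t1 : IsScalarTower (C ⧸ I.map (algebraMap R C)) Cq P2 :=
    IsScalarTower.of_algebraMap_eq fun x => rfl
  haveI hs2 : Algebra.Smooth (C ⧸ I.map (algebraMap R C)) P2 :=
    Algebra.Smooth.comp (C ⧸ I.map (algebraMap R C)) Cq P2
  obtain ⟨D, iD, aD, hDsm, ⟨ψ⟩⟩ :=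
    Groth.Agent.S6827.result (R := C) (I.map (algebraMap R C)) (A₀ := P2)
  letI aRD : Algebra R D := ((algebraMap C D).comp (algebraMap R C)).toAlgebra
  haveI tRCD : IsScalarTower R C D := IsScalarTower.of_algebraMap_eq fun x => rfl
  have hDsyn : _root_.Synt.IsSyntomic R D :=
    Groth.Agent.Helper2.Synt.isSyntomic_comp R C D hCsyn
      (Groth.Agent.Lead.SyntSm.isSyntomic_of_smooth C D)
  refine ⟨D, iD, aRD, hDsyn,
    (ψ.toRingEquiv.toRingHom).comp
      (Ideal.Quotient.mk ((I.map (algebraMap R C)).map (algebraMap C D))), ?_, ?_, ?_⟩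
  · exact ψ.surjective.comp Ideal.Quotient.mk_surjective
  · ext x
    rw [RingHom.mem_ker, RingHom.comp_apply]
    change ψ (Ideal.Quotient.mk ((I.map (algebraMap R C)).map (algebraMap C D)) x) = 0 ↔ _
    rw [map_eq_zero_iff _ ψ.injective, Ideal.Quotient.eq_zero_iff_mem, Ideal.map_map]
    rfl
  · intro r
    rw [RingHom.comp_apply]
    change ψ (Ideal.Quotient.mk ((I.map (algebraMap R C)).map (algebraMap C D))
      (algebraMap C D (algebraMap R C r))) = _
    have h1 : Ideal.Quotient.mk ((I.map (algebraMap R C)).map (algebraMap C D))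
        (algebraMap C D (algebraMap R C r)) =
        algebraMap (C ⧸ I.map (algebraMap R C)) (D ⧸ (I.map (algebraMap R C)).map (algebraMap C D))
          (Ideal.Quotient.mk (I.map (algebraMap R C)) (algebraMap R C r)) := rfl
    rw [h1, ψ.commutes]
    change algebraMap Cq P2 (ε (Ideal.Quotient.mk (I.map (algebraMap R C)) (algebraMap R C r))) = _
    rw [hε, ← IsScalarTower.algebraMap_apply]

/-- A smooth algebra over a relative global complete intersection over `R/I` is the reduction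
modulo `I` of a syntomic `R`-algebra. -/
theorem exists_syntomic_lift_of_smooth_over_relGCI
    (Cq : Type u) [CommRing Cq] [Algebra (R ⧸ I) Cq] (N c : ℕ)
    (Fb : Fin c → MvPolynomial (Fin N) (R ⧸ I)) (hcn : c ≤ N)
    (hrel : _root_.Synt.IsRelGCI (R ⧸ I) N c Fb)
    (eC : Cq ≃ₐ[R ⧸ I] _root_.Synt.RelGCIRing (R ⧸ I) N c Fb)
    (P2 : Type u) [CommRing P2] [Algebra (R ⧸ I) P2] [Algebra Cq P2] [IsScalarTower (R ⧸ I) Cq P2]
    [Algebra.Smooth Cq P2] :
    ∃ (D : Type u) (_ : CommRing D) (_ : Algebra R D), _root_.Synt.IsSyntomic R D ∧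
      ∃ π : D →+* P2, Function.Surjective π ∧ RingHom.ker π = I.map (algebraMap R D) ∧
        ∀ r, π (algebraMap R D r) = algebraMap (R ⧸ I) P2 (Ideal.Quotient.mk I r) := by
  classical
  -- lift the relations
  have hlift : ∀ i, ∃ F : MvPolynomial (Fin N) R,
      MvPolynomial.map (Ideal.Quotient.mk I) F = Fb i := fun i =>
    MvPolynomial.map_surjective _ Ideal.Quotient.mk_surjective (Fb i)
  choose F hF using hlift
  have hFb : Fb = Groth.Agent.Helper2.Synt.mapRel R N c F (R ⧸ I) := by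
    funext i
    rw [← hF i]
    rfl
  subst hFb
  obtain ⟨G', hrelT, hG'⟩ := Groth.Agent.Helper2.Synt.exists_isRelGCI_lift R I N c F hcn hrel
  obtain ⟨e₂⟩ := Groth.Agent.Helper2.Synt.nonempty_quotient_awayRel_algEquiv R I N c F G' hG'
  have hCsyn : _root_.Synt.IsSyntomic R (_root_.Synt.RelGCIRing R (N + 1) (c + 1)
      (Groth.Agent.Helper2.Synt.awayRel' R N c F G')) :=
    Groth.Agent.Helper2.Synt.isSyntomic_of_isRelGCI R (N + 1) (c + 1) _ hrelT
  exact exists_syntomic_lift_of_smooth_over_quotient I _ hCsyn Cq _ e₂ eC P2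

end Groth.Agent.Helper8.SyL
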