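import Mathlib
import Groth.Agent.Lib.Helper8.SyL6

/-!
# Lifting syntomic algebras along `R → R/I`, VIII:
the structure map `(R[x, y]/(g + ℓ))_G → A[w]_G` and the zero section `A[w]_G → A`
-/

set_option autoImplicit false
universe u

namespace Groth.Agent.Helper8.SyL

open MvPolynomial Groth.Agent.Helper8.SyR

variable {R : Type u} [CommRing R] {n m : ℕ}
variable (g : Fin m → MvPolynomial (Fin n) R) (E : Fin m → Fin m → MvPolynomial (Fin n) R)
  (G : MvPolynomial (Fin (n + m)) R)
variable {A : Type u} [CommRing A] [Algebra R A] (f : MvPolynomial (Fin n) R →ₐ[R] A)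

section Phi

variable (hker : RingHom.ker f.toRingHom = Ideal.span (Set.range g))
  (hP1 : ∀ k, g k - ∑ j, E j k * g j ∈ (Ideal.span (Set.range g)) ^ 2)
  (hP3 : ∀ a : Fin m → MvPolynomial (Fin n) R, ∑ j, a j * g j ∈ (Ideal.span (Set.range g)) ^ 2 →
    ∀ i, ∑ j, E i j * a j ∈ Ideal.span (Set.range g))

include hker hP1 hP3 in
/-- The map `Φ : (R[x, y]/(g + ℓ))_G → A[w]_G`. -/
theorem exists_Phi : ∃ Φ : Cq g E G →ₐ[R] P2 E G f, ∀ q, Φ (tau g E G q) =
    algebraMap (MvPolynomial (Fin m) A) (P2 E G f) (aeval (phiVals E f) q) := by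
  let vals : Fin (n + m) → P2 E G f :=
    fun o => algebraMap (MvPolynomial (Fin m) A) (P2 E G f) (phiVals E f o)
  have hvals : ∀ q : MvPolynomial (Fin (n + m)) R,
      aeval vals q = algebraMap (MvPolynomial (Fin m) A) (P2 E G f) (aeval (phiVals E f) q) := by
    intro q
    have := comp_aeval_apply (f := phiVals E f)
      (IsScalarTower.toAlgHom R (MvPolynomial (Fin m) A) (P2 E G f)) q
    exact this.symm
  have hrel : ∀ k, aeval vals (Frel g E k) = 0 := by
    intro k
    rw [hvals, aeval_phiVals_Frel g E f hker hP1 hP3, map_zero]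
  have hu : IsUnit (aeval vals G) := by
    rw [hvals]
    exact IsLocalization.Away.algebraMap_isUnit (Gh E G f)
  obtain ⟨Φ, hΦ⟩ := Groth.Agent.Helper8.LocTr.exists_algHom_away (A := R) (Frel g E) G vals
    hrel hu
  refine ⟨Φ, fun q => ?_⟩
  rw [tau_apply, hΦ, hvals]

end Phi

section Rho

variable (hker : RingHom.ker f.toRingHom = Ideal.span (Set.range g)) (hG1 : G - 1 ∈ aid g E)

/-- The kernel of the evaluation at `0`. -/
theorem ker_aeval_zero (S : Type*) [CommRing S] (k : ℕ) :
    RingHom.ker (aeval (fun _ => (0 : S)) : MvPolynomial (Fin k) S →ₐ[S] S) =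
      Ideal.span (Set.range (X : Fin k → MvPolynomial (Fin k) S)) := by
  classical
  ext p
  rw [RingHom.mem_ker, ← Set.image_univ, mem_ideal_span_X_image]
  have h0 : aeval (fun _ => (0 : S)) p = constantCoeff p := by
    have := aeval_zero' (σ := Fin k) (R := S) (S₁ := S) p
    simpa using this
  rw [h0]
  constructor
  · intro hp d hd
    by_contra hcon
    push Not at hcon
    have hd0 : d = 0 := by
      ext i
      exact hcon i (Set.mem_univ i)
    rw [hd0, mem_support_iff] at hd
    exact hd hp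
  · intro hp
    by_contra hcon
    have h1 : (0 : Fin k →₀ ℕ) ∈ p.support := by
      rw [mem_support_iff]
      exact hcon
    obtain ⟨i, -, hi⟩ := hp 0 h1
    exact hi rfl

include hker hG1 in
/-- The zero section `A[w]_G → A`. -/
theorem exists_rho : ∃ ρ' : P2 E G f →ₐ[A] A, (∀ k, ρ' (wv E G f k) = 0) ∧
    RingHom.ker ρ' = Ideal.span (Set.range (wv E G f)) := by
  classical
  let ρ₀ : MvPolynomial (Fin m) A →ₐ[A] A := aeval (fun _ => (0 : A))
  have hρ₀v : ∀ o, ρ₀ (phiVals E f o) = rhoVals (m := m) f o := by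
    intro o
    induction o using Fin.addCases with
    | left i =>
      have h1 : phiVals E f (Fin.castAdd m i) = C (f (X i)) := by simp [phiVals]
      have h2 : rhoVals (m := m) f (Fin.castAdd m i) = f (X i) := by simp [rhoVals]
      rw [h1, h2]
      exact aeval_C _ _
    | right j =>
      have h1 : phiVals E f (Fin.natAdd n j) = ∑ i, C (f (E i j)) * X i := by simp [phiVals]
      have h2 : rhoVals (m := m) f (Fin.natAdd n j) = 0 := by simp [rhoVals]
      rw [h1, h2, map_sum]
      refine Finset.sum_eq_zero fun i _ => ?_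
      rw [map_mul]
      have : ρ₀ (X i) = 0 := aeval_X _ _
      rw [this, mul_zero]
  have hρ₀G : ρ₀ (Gh E G f) = 1 := by
    have h1 := comp_aeval_apply (f := phiVals E f) (ρ₀.restrictScalars R) G
    have h2 : (fun o => (ρ₀.restrictScalars R) (phiVals E f o)) = rhoVals (m := m) f := by
      funext o
      exact hρ₀v o
    rw [h2] at h1
    have h3 := aeval_rhoVals_aid g E f hker hG1
    rw [map_sub, map_one, sub_eq_zero] at h3
    change ρ₀ (Gh E G f) = 1
    rw [← h3]
    exact h1
  have hu : IsUnit (ρ₀ (Gh E G f)) := by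
    rw [hρ₀G]
    exact isUnit_one
  let ρ' : P2 E G f →ₐ[A] A := IsLocalization.Away.liftAlgHom (Gh E G f) (f := ρ₀) hu
  have hρ' : ∀ c, ρ' (algebraMap (MvPolynomial (Fin m) A) (P2 E G f) c) = ρ₀ c := fun c =>
    IsLocalization.Away.lift_eq _ hu c
  have hw : ∀ k, ρ' (wv E G f k) = 0 := by
    intro k
    unfold wv
    rw [hρ']
    exact aeval_X _ _
  refine ⟨ρ', hw, le_antisymm ?_ ?_⟩
  · intro x hx
    rw [RingHom.mem_ker] at hx
    obtain ⟨a, s, rfl⟩ := IsLocalization.exists_mk'_eq (Submonoid.powers (Gh E G f)) x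
    have hspec := IsLocalization.mk'_spec (P2 E G f) a s
    have h1 : ρ₀ a = 0 := by
      have := congrArg ρ' hspec
      rw [map_mul, hx, zero_mul, hρ'] at this
      exact this.symm
    have h2 : a ∈ Ideal.span (Set.range (X : Fin m → MvPolynomial (Fin m) A)) := by
      rw [← ker_aeval_zero A m]
      exact h1
    have h3 : algebraMap (MvPolynomial (Fin m) A) (P2 E G f) a ∈
        Ideal.span (Set.range (wv E G f)) := by
      have h4 := Ideal.mem_map_of_mem (algebraMap (MvPolynomial (Fin m) A) (P2 E G f)) h2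
      rw [Ideal.map_span, ← Set.range_comp] at h4
      exact h4
    have hunit : IsUnit (algebraMap (MvPolynomial (Fin m) A) (P2 E G f) s.1) :=
      IsLocalization.map_units _ s
    have h5 : IsLocalization.mk' (P2 E G f) a s =
        (hunit.unit⁻¹ : (P2 E G f)ˣ) * algebraMap (MvPolynomial (Fin m) A) (P2 E G f) a := by
      rw [← hspec, mul_comm (IsLocalization.mk' (P2 E G f) a s), ← mul_assoc]
      have : ((hunit.unit⁻¹ : (P2 E G f)ˣ) : P2 E G f) *
          algebraMap (MvPolynomial (Fin m) A) (P2 E G f) s.1 = 1 := by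
        have := hunit.unit.inv_mul
        rwa [IsUnit.unit_spec] at this
      rw [this, one_mul]
    rw [h5]
    exact Ideal.mul_mem_left _ _ h3
  · rw [Ideal.span_le]
    rintro _ ⟨k, rfl⟩
    exact hw k

end Rho

end Groth.Agent.Helper8.SyL
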