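import Mathlib
import Groth.Agent.Lib.Helper2.Synt.CotProj
import Groth.Agent.Lib.Helper2.Synt.BridgeMp

/-!
# Syntomic algebras as retracts of relative global complete intersections, I:
the conormal module of a syntomic presentation is projective; matrix form
-/

set_option autoImplicit false
universe u

namespace Groth.Agent.Helper8.SyR

/-- Projectivity descends along a bijective algebra map. -/
theorem projective_of_bijective_algebraMap {S S' N : Type*} [CommRing S] [CommRing S']
    [Algebra S S'] [AddCommGroup N] [Module S N] [Module S' N] [IsScalarTower S S' N]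
    (hb : Function.Bijective (algebraMap S S')) [Module.Projective S' N] :
    Module.Projective S N := by
  let e₁ : S ≃+* S' := RingEquiv.ofBijective (algebraMap S S') hb
  letI i1 : RingHomInvPair (e₁.symm : S' →+* S) (e₁ : S →+* S') :=
    RingHomInvPair.of_ringEquiv e₁.symm
  letI i2 : RingHomInvPair (e₁ : S →+* S') (e₁.symm : S' →+* S) :=
    RingHomInvPair.of_ringEquiv e₁
  let e₂ : N ≃ₛₗ[(e₁.symm : S' →+* S)] N :=
    { AddEquiv.refl N with
      map_smul' := by
        intro r x
        change r • x = (e₁.symm r) • x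
        conv_lhs => rw [← e₁.apply_symm_apply r]
        change (algebraMap S S' (e₁.symm r)) • x = _
        rw [algebraMap_smul] }
  exact Module.Projective.of_equiv e₂

/-- The conormal module of a finite presentation of a syntomic algebra is projective. -/
theorem cotangent_projective_of_isSyntomic (R : Type u) [CommRing R] (n : ℕ)
    (I : Ideal (MvPolynomial (Fin n) R)) (hI : I.FG)
    (h : _root_.Synt.IsSyntomic R (MvPolynomial (Fin n) R ⧸ I)) :
    Module.Projective (MvPolynomial (Fin n) R ⧸ I) I.Cotangent := by
  let S := MvPolynomial (Fin n) R ⧸ I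
  have e₀ : S ≃ₐ[R] Localization.Away (1 : S) :=
    (IsLocalization.atOne S (Localization.Away (1 : S))).restrictScalars R
  have hs := Groth.Agent.Helper2.Synt.isSyntomic_of_algEquiv e₀ h
  obtain ⟨-, hproj⟩ := Groth.Agent.Helper2.Synt.cotangent_localization_finite_projective R n I hI
    (1 : S) hs
  haveI := hproj
  have hb : Function.Bijective (algebraMap S (Localization.Away (1 : S))) :=
    (IsLocalization.atOne S (Localization.Away (1 : S))).bijective
  haveI : Module.Projective S (LocalizedModule (Submonoid.powers (1 : S)) I.Cotangent) :=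
    projective_of_bijective_algebraMap hb
  haveI : IsLocalization (Submonoid.powers (1 : S)) S :=
    IsLocalization.away_of_isUnit_of_bijective S isUnit_one Function.bijective_id
  haveI := isLocalizedModule_id (S := Submonoid.powers (1 : S)) I.Cotangent S
  exact Module.Projective.of_equiv' (IsLocalizedModule.linearEquiv (Submonoid.powers (1 : S))
    (LinearMap.id : I.Cotangent →ₗ[S] I.Cotangent)
    (LocalizedModule.mkLinearMap (Submonoid.powers (1 : S)) I.Cotangent)).symm

/-- Matrix form of the projectivity of the conormal module `J/J²` of `J = (g_1, …, g_m)`. -/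
theorem exists_matrix_of_projective {P : Type u} [CommRing P] {m : ℕ} (g : Fin m → P)
    (hproj : Module.Projective (P ⧸ Ideal.span (Set.range g))
      (Ideal.span (Set.range g)).Cotangent) :
    ∃ E : Fin m → Fin m → P,
      (∀ k, g k - ∑ j, E j k * g j ∈ (Ideal.span (Set.range g)) ^ 2) ∧
      (∀ a : Fin m → P, ∑ j, a j * g j ∈ (Ideal.span (Set.range g)) ^ 2 →
        ∀ i, ∑ j, E i j * a j ∈ Ideal.span (Set.range g)) := by
  classical
  set J := Ideal.span (Set.range g) with hJ
  let Q := P ⧸ J
  have hgJ : ∀ j, g j ∈ J := fun j => Ideal.subset_span ⟨j, rfl⟩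
  let v : Fin m → J.Cotangent := fun j => J.toCotangent ⟨g j, hgJ j⟩
  let π : (Fin m → Q) →ₗ[Q] J.Cotangent := Fintype.linearCombination Q v
  -- the value of `π` on a vector of classes
  have hπmk : ∀ (a : Fin m → P) (ha : ∑ j, a j * g j ∈ J),
      π (fun j => Ideal.Quotient.mk J (a j)) = J.toCotangent ⟨∑ j, a j * g j, ha⟩ := by
    intro a ha
    have h1 : (⟨∑ j, a j * g j, ha⟩ : J) = ∑ j, a j • (⟨g j, hgJ j⟩ : J) := by
      ext
      simp [smul_eq_mul]
    rw [h1, map_sum]
    change ∑ j, (Ideal.Quotient.mk J (a j)) • v j = _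
    refine Finset.sum_congr rfl fun j _ => ?_
    rw [map_smul]
    rfl
  have hsumJ : ∀ a : Fin m → P, ∑ j, a j * g j ∈ J := fun a =>
    J.sum_mem fun j _ => J.mul_mem_left _ (hgJ j)
  have hπ : Function.Surjective π := by
    intro x
    obtain ⟨⟨y, hy⟩, rfl⟩ := J.toCotangent_surjective x
    obtain ⟨a, ha⟩ := (Ideal.mem_span_range_iff_exists_fun).mp hy
    refine ⟨fun j => Ideal.Quotient.mk J (a j), ?_⟩
    rw [hπmk a (hsumJ a)]
    congr 1
    exact Subtype.ext ha
  obtain ⟨s, hs⟩ := Module.projective_lifting_property π LinearMap.id hπ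
  let T : (Fin m → Q) →ₗ[Q] (Fin m → Q) := s.comp π
  have hTchoose : ∀ i j, ∃ e : P, Ideal.Quotient.mk J e = T (Pi.single j 1) i := fun i j =>
    Ideal.Quotient.mk_surjective _
  choose E hE using hTchoose
  -- `T` applied to a vector of classes
  have hT : ∀ (a : Fin m → P) (i : Fin m), T (fun j => Ideal.Quotient.mk J (a j)) i =
      Ideal.Quotient.mk J (∑ j, E i j * a j) := by
    intro a i
    rw [LinearMap.pi_apply_eq_sum_univ T (fun j => Ideal.Quotient.mk J (a j))]
    rw [Finset.sum_apply, map_sum]
    refine Finset.sum_congr rfl fun j _ => ?_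
    have hsingle : (fun l => if j = l then (1 : Q) else 0) = Pi.single j 1 := by
      ext l
      simp [Pi.single_apply, eq_comm]
    rw [hsingle, Pi.smul_apply, smul_eq_mul, map_mul, hE, mul_comm]
  have hπT : ∀ x, π (T x) = π x := by
    intro x
    change π (s (π x)) = π x
    have := congr($hs (π x))
    exact this
  refine ⟨E, fun k => ?_, fun a ha i => ?_⟩
  · -- (P1)
    have h1 : π (Pi.single k 1) = J.toCotangent ⟨g k, hgJ k⟩ := by
      have := hπmk (Pi.single k 1) (hsumJ _)
      have h2 : (fun j => Ideal.Quotient.mk J ((Pi.single k 1 : Fin m → P) j)) =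
          (Pi.single k 1 : Fin m → Q) := by
        ext l
        by_cases hl : l = k
        · subst hl; simp
        · simp [hl]
      rw [h2] at this
      rw [this]
      congr 1
      apply Subtype.ext
      simp [Pi.single_apply]
    have h3 : T (Pi.single k 1) = fun i => Ideal.Quotient.mk J (E i k) := by
      ext i
      exact (hE i k).symm
    have h4 := hπT (Pi.single k 1)
    rw [h3, hπmk (fun j => E j k) (hsumJ _), h1] at h4
    have h5 : J.toCotangent (⟨g k, hgJ k⟩ - ⟨∑ j, E j k * g j, hsumJ _⟩) = 0 := by
      rw [map_sub, h4, sub_self]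
    rw [Ideal.toCotangent_eq_zero] at h5
    exact h5
  · -- (P3)
    have h1 : π (fun j => Ideal.Quotient.mk J (a j)) = 0 := by
      rw [hπmk a (hsumJ a), Ideal.toCotangent_eq_zero]
      exact ha
    have h2 : T (fun j => Ideal.Quotient.mk J (a j)) = 0 := by
      change s (π _) = 0
      rw [h1, map_zero]
    have h3 := hT a i
    rw [h2, Pi.zero_apply] at h3
    exact Ideal.Quotient.eq_zero_iff_mem.mp h3.symm

end Groth.Agent.Helper8.SyR
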