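import Mathlib
import Groth.Agent.Lib.Helper2.Synt.RelSemicont

/-!
# Syntomic algebras as retracts of relative global complete intersections, II:
fibre dimension of polynomial algebras, localizations and quotients
-/

set_option autoImplicit false
universe u

namespace Groth.Agent.Helper8.SyR

open TensorProduct

/-- The dimension of a localization is at most the dimension of the ring. -/
theorem ringKrullDim_le_of_isLocalization {T : Type*} [CommRing T] (M : Submonoid T)
    (T' : Type*) [CommRing T'] [Algebra T T'] [IsLocalization M T'] :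
    ringKrullDim T' ≤ ringKrullDim T := by
  rw [ringKrullDim_le_iff_height_le]
  intro P hP
  have h := IsLocalization.height_under M P
  rw [← h]
  haveI : (P.under T).IsPrime := Ideal.comap_isPrime _ _
  exact Ideal.height_le_ringKrullDim_of_isPrime

variable {R : Type u} [CommRing R]

/-- The fibres of a polynomial algebra over `D`. -/
theorem ringKrullDim_fiber_mvPolynomial (D : Type u) [CommRing D] [Algebra R D]
    [Algebra.FiniteType R D] (c : ℕ) (p : Ideal R) [p.IsPrime] :
    ringKrullDim (p.Fiber (MvPolynomial (Fin c) D)) = ringKrullDim (p.Fiber D) + c := by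
  haveI : Algebra.FiniteType p.ResidueField (p.Fiber D) := by
    unfold Ideal.Fiber
    infer_instance
  haveI : IsNoetherianRing (p.Fiber D) :=
    Algebra.FiniteType.isNoetherianRing p.ResidueField (p.Fiber D)
  have e : p.Fiber (MvPolynomial (Fin c) D) ≃ₐ[p.ResidueField] MvPolynomial (Fin c) (p.Fiber D) :=
    MvPolynomial.rTensorAlgEquiv
  rw [ringKrullDim_eq_of_ringEquiv e.toRingEquiv, MvPolynomial.ringKrullDim_of_isNoetherianRing,
    Nat.card_fin]

/-- Fibre dimension of a principal localization of a polynomial algebra. -/
theorem fibreDimLE_mvPolynomial (D : Type u) [CommRing D] [Algebra R D]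
    [Algebra.FiniteType R D] (c d : ℕ)
    (hD : ∀ (p : Ideal R) [p.IsPrime], ringKrullDim (p.Fiber D) ≤ (d : WithBot ℕ∞))
    (g : MvPolynomial (Fin c) D) :
    Groth.Agent.Helper2.Synt.FibreDimLE R (MvPolynomial (Fin c) D) (d + c) g := by
  rw [Groth.Agent.Helper2.Synt.fibreDimLE_iff]
  intro p _
  refine (ringKrullDim_le_of_isLocalization (Submonoid.powers
    ((1 : p.ResidueField) ⊗ₜ[R] g : p.Fiber (MvPolynomial (Fin c) D))) _).trans ?_
  rw [ringKrullDim_fiber_mvPolynomial D c p]
  push_cast
  exact add_le_add_left (hD p) _

/-- Fibre dimension passes to quotients. -/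
theorem ringKrullDim_fiber_le_of_surjective {S T : Type u} [CommRing S] [CommRing T]
    [Algebra R S] [Algebra R T] (θ : S →ₐ[R] T) (hθ : Function.Surjective θ) (d : ℕ)
    (hS : ∀ (p : Ideal R) [p.IsPrime], ringKrullDim (p.Fiber S) ≤ (d : WithBot ℕ∞))
    (p : Ideal R) [p.IsPrime] : ringKrullDim (p.Fiber T) ≤ (d : WithBot ℕ∞) := by
  refine le_trans ?_ (hS p)
  have hsurj : Function.Surjective
      (Algebra.TensorProduct.map (AlgHom.id R p.ResidueField) θ) := by
    exact TensorProduct.map_surjective Function.surjective_id hθ
  exact ringKrullDim_le_of_surjective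
    (Algebra.TensorProduct.map (AlgHom.id R p.ResidueField) θ).toRingHom hsurj

end Groth.Agent.Helper8.SyR
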