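import Mathlib
import Groth.Agent.Lib.Helper8.SyR2
import Groth.Agent.Lib.Helper8.SyR4
import Groth.Agent.Lib.Helper2.Synt.RelAway
import Groth.Agent.Lib.Helper2.Synt.SyntLift

/-!
# Syntomic algebras as retracts of relative global complete intersections, VI:
the fibre dimension of `(R[x, y]/(g_k + ℓ_k))_G` near a point where `(g)` has `c₀` generators
-/

set_option autoImplicit false
universe u

namespace Groth.Agent.Helper8.SyR

open MvPolynomial Groth.Agent.Helper2.Synt

variable {R : Type u} [CommRing R] {n m : ℕ}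
variable (g : Fin m → MvPolynomial (Fin n) R) (E : Fin m → Fin m → MvPolynomial (Fin n) R)
  (G : MvPolynomial (Fin (n + m)) R)
  (hP3 : ∀ a : Fin m → MvPolynomial (Fin n) R, ∑ j, a j * g j ∈ (Ideal.span (Set.range g)) ^ 2 →
    ∀ i, ∑ j, E i j * a j ∈ Ideal.span (Set.range g))
  (hGK : ∀ x ∈ Kid g E, G * x ∈ Ideal.span (Set.range (Frel g E)))

include hP3 hGK in
/-- If `∑ u_i g_i = 0` modulo `J²` then `∑ u_i y_i = 0` in the algebra. -/
theorem sum_tau_eq_zero (u : Fin m → MvPolynomial (Fin n) R)
    (hu : ∑ i, u i * g i ∈ (Ideal.span (Set.range g)) ^ 2) :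
    ∑ i, tau g E G (inc R n m (u i)) * tau g E G (Yv R n m i) = 0 := by
  have h1 : ∀ i, tau g E G (inc R n m (u i)) * tau g E G (Yv R n m i) =
      ∑ l, tau g E G (inc R n m (E l i * u i)) * tau g E G (Yv R n m l) := by
    intro i
    rw [tau_Yv g E G hGK i, Finset.mul_sum]
    refine Finset.sum_congr rfl fun l _ => ?_
    rw [map_mul, map_mul]
    ring
  simp only [h1]
  rw [Finset.sum_comm]
  refine Finset.sum_eq_zero fun l _ => ?_
  rw [← Finset.sum_mul, ← map_sum, ← map_sum, tau_inc_eq_zero g E G hGK (hP3 u hu l), zero_mul]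

section Local

variable (c₀ : ℕ) (F' : Fin c₀ → MvPolynomial (Fin n) R) (H : MvPolynomial (Fin n) R)
  (b : Fin c₀ → Fin m → MvPolynomial (Fin n) R) (a : Fin m → Fin c₀ → MvPolynomial (Fin n) R)
  (hb : ∀ k, F' k = ∑ j, b k j * g j)
  (ha : ∀ j, H * g j = ∑ k, a j k * F' k)

/-- The elements `z_k = ∑ b_{kj} y_j`. -/
noncomputable def zbar (k : Fin c₀) : Cq g E G :=
  ∑ j, tau g E G (inc R n m (b k j)) * tau g E G (Yv R n m j)

include hP3 hGK hb ha in
theorem key_rel (j : Fin m) : tau g E G (inc R n m H) * tau g E G (Yv R n m j) =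
    ∑ k, tau g E G (inc R n m (a j k)) * zbar g E G c₀ b k := by
  classical
  let u : Fin m → MvPolynomial (Fin n) R := fun i =>
    (if i = j then H else 0) - ∑ k, a j k * b k i
  have hu0 : ∑ i, u i * g i = 0 := by
    simp only [u, sub_mul, Finset.sum_sub_distrib, ite_mul, zero_mul, Finset.sum_ite_eq',
      Finset.mem_univ, if_true]
    rw [ha j, sub_eq_zero]
    simp only [hb, Finset.mul_sum, Finset.sum_mul]
    rw [Finset.sum_comm]
    refine Finset.sum_congr rfl fun k _ => Finset.sum_congr rfl fun i _ => ?_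
    ring
  have hu : ∑ i, u i * g i ∈ (Ideal.span (Set.range g)) ^ 2 := by
    rw [hu0]
    exact Ideal.zero_mem _
  have h0 := sum_tau_eq_zero g E G hP3 hGK u hu
  have h1 : ∀ i, tau g E G (inc R n m (u i)) * tau g E G (Yv R n m i) =
      (if i = j then tau g E G (inc R n m H) * tau g E G (Yv R n m j) else 0) -
      ∑ k, tau g E G (inc R n m (a j k)) *
        (tau g E G (inc R n m (b k i)) * tau g E G (Yv R n m i)) := by
    intro i
    simp only [u, map_sub, map_sum, map_mul, sub_mul, Finset.sum_mul]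
    congr 1
    · split_ifs with h
      · subst h
        rfl
      · simp
    · refine Finset.sum_congr rfl fun k _ => ?_
      ring
  simp only [h1, Finset.sum_sub_distrib, Finset.sum_ite_eq', Finset.mem_univ, if_true] at h0
  rw [sub_eq_zero] at h0
  rw [h0, Finset.sum_comm]
  refine Finset.sum_congr rfl fun k _ => ?_
  unfold zbar
  rw [Finset.mul_sum]

include hP3 hGK hb ha in
theorem fibreDimLE_of_local (hF' : ∀ i, F' i ∈ Ideal.span (Set.range g))
    (hrel : _root_.Synt.IsRelGCI R (n + 1) (c₀ + 1) (awayRel' R n c₀ F' H))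
    (hHu : IsUnit (tau g E G (inc R n m H))) :
    FibreDimLE R (Sq g E) n (Ideal.Quotient.mk (Ideal.span (Set.range (Frel g E))) G) := by
  classical
  let T := Cq g E G
  let D := _root_.Synt.RelGCIRing R (n + 1) (c₀ + 1) (awayRel' R n c₀ F' H)
  let mkD : MvPolynomial (Fin (n + 1)) R →ₐ[R] D := Ideal.Quotient.mkₐ R _
  -- the inverse of `H`
  obtain ⟨w, hw⟩ : ∃ w : T, tau g E G (inc R n m H) * w = 1 := ⟨_, hHu.mul_val_inv⟩
  -- the map `D → T`
  let valsD : Fin (n + 1) → T :=
    Fin.snoc (α := fun _ => T) (fun i => tau g E G (X (Fin.castAdd m i))) w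
  have hvalsD : ∀ q : MvPolynomial (Fin n) R,
      aeval valsD (rename Fin.castSucc q) = tau g E G (inc R n m q) := by
    intro q
    rw [aeval_rename]
    have h1 : (valsD ∘ Fin.castSucc) = fun i => tau g E G (X (Fin.castAdd m i)) := by
      funext i
      simp [valsD]
    rw [h1]
    have h2 : (tau g E G).comp (inc R n m) =
        aeval (fun i => ((tau g E G).comp (inc R n m)) (X i)) := aeval_unique _
    have h3 : ∀ i, ((tau g E G).comp (inc R n m)) (X i) = tau g E G (X (Fin.castAdd m i)) := by
      intro i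
      change tau g E G (inc R n m (X i)) = _
      unfold inc
      rw [rename_X]
    simp only [h3] at h2
    exact (congrArg (fun φ : MvPolynomial (Fin n) R →ₐ[R] T => φ q) h2).symm
  have hrelD : ∀ i, aeval valsD (awayRel' R n c₀ F' H i) = 0 := by
    intro i
    induction i using Fin.lastCases with
    | last =>
      have h1 : awayRel' R n c₀ F' H (Fin.last c₀) =
          rename Fin.castSucc H * X (Fin.last n) - 1 := by
        simp [awayRel']
      rw [h1, map_sub, map_mul, hvalsD, aeval_X, map_one]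
      have h2 : valsD (Fin.last n) = w := by simp [valsD]
      rw [h2, hw, sub_self]
    | cast i =>
      have h1 : awayRel' R n c₀ F' H (Fin.castSucc i) = rename Fin.castSucc (F' i) := by
        simp [awayRel']
      rw [h1, hvalsD]
      exact tau_inc_eq_zero g E G hGK (hF' i)
  have h0 : ∀ q ∈ Ideal.span (Set.range (awayRel' R n c₀ F' H)), aeval valsD q = 0 := by
    intro q hq
    have hle : Ideal.span (Set.range (awayRel' R n c₀ F' H)) ≤
        RingHom.ker (aeval valsD : MvPolynomial (Fin (n + 1)) R →ₐ[R] T).toRingHom := by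
      rw [Ideal.span_le]
      rintro _ ⟨i, rfl⟩
      rw [SetLike.mem_coe, RingHom.mem_ker]
      exact hrelD i
    exact hle hq
  let δ : D →ₐ[R] T := Ideal.Quotient.liftₐ _ (aeval valsD) h0
  have hδ : ∀ q, δ (mkD q) = aeval valsD q := fun q => rfl
  -- the map `D[z] → T`
  let Θ : MvPolynomial (Fin c₀) D →ₐ[R] T := aevalTower δ (zbar g E G c₀ b)
  have hΘC : ∀ d : D, Θ (C d) = δ d := fun d => aevalTower_C _ _ d
  have hΘX : ∀ k, Θ (X k) = zbar g E G c₀ b k := fun k => aevalTower_X _ _ k
  -- the element to invert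
  let gVals : Fin (n + m) → MvPolynomial (Fin c₀) D :=
    Fin.append (fun i => C (mkD (X (Fin.castSucc i))))
      (fun j => C (mkD (X (Fin.last n))) * ∑ k, C (mkD (rename Fin.castSucc (a j k))) * X k)
  have hΘg : ∀ o, Θ (gVals o) = tau g E G (X o) := by
    intro o
    induction o using Fin.addCases with
    | left i =>
      have h1 : gVals (Fin.castAdd m i) = C (mkD (X (Fin.castSucc i))) := by simp [gVals]
      rw [h1, hΘC, hδ, aeval_X]
      simp [valsD]
    | right j =>
      have h1 : gVals (Fin.natAdd n j) = C (mkD (X (Fin.last n))) *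
          ∑ k, C (mkD (rename Fin.castSucc (a j k))) * X k := by simp [gVals]
      rw [h1, map_mul, hΘC, hδ, aeval_X, map_sum]
      have h2 : valsD (Fin.last n) = w := by simp [valsD]
      rw [h2]
      have h3 : ∀ k, Θ (C (mkD (rename Fin.castSucc (a j k))) * X k) =
          tau g E G (inc R n m (a j k)) * zbar g E G c₀ b k := by
        intro k
        rw [map_mul, hΘC, hδ, hvalsD, hΘX]
      simp only [h3]
      rw [← key_rel g E G hP3 hGK c₀ F' H b a hb ha j]
      change _ = tau g E G (Yv R n m j)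
      calc w * (tau g E G (inc R n m H) * tau g E G (Yv R n m j))
          = (tau g E G (inc R n m H) * w) * tau g E G (Yv R n m j) := by ring
        _ = tau g E G (Yv R n m j) := by rw [hw, one_mul]
  let g' : MvPolynomial (Fin c₀) D := aeval gVals G
  have hΘg' : Θ g' = tau g E G G := by
    have h1 := comp_aeval_apply (f := gVals) Θ G
    have h2 : (fun o => Θ (gVals o)) = (tau g E G) ∘ X := by
      funext o
      exact hΘg o
    rw [h2, ← aeval_unique] at h1
    exact h1
  have hΘu : IsUnit (Θ g') := by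
    rw [hΘg']
    exact tau_G_isUnit g E G
  let Θ' : Localization.Away g' →ₐ[R] T := IsLocalization.Away.liftAlgHom g' (f := Θ) hΘu
  have hΘ' : ∀ c, Θ' (algebraMap (MvPolynomial (Fin c₀) D) (Localization.Away g') c) = Θ c :=
    fun c => IsLocalization.Away.lift_eq _ hΘu c
  -- surjectivity
  have hsurj : Function.Surjective Θ' := by
    have hX : ∀ o, tau g E G (X o) ∈ Θ'.range := fun o => ⟨algebraMap _ _ (gVals o), by
      change Θ' _ = _
      rw [hΘ', hΘg]⟩
    have htau : ∀ q, tau g E G q ∈ Θ'.range := by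
      intro q
      have h1 : tau g E G q ∈ (aeval ((tau g E G) ∘ X) : MvPolynomial (Fin (n + m)) R →ₐ[R] T).range := by
        rw [← aeval_unique]
        exact ⟨q, rfl⟩
      rw [aeval_range] at h1
      refine Algebra.adjoin_le ?_ h1
      rintro _ ⟨o, rfl⟩
      exact hX o
    obtain ⟨v, hv⟩ : ∃ v : Localization.Away g', Θ' v * tau g E G G = 1 := by
      refine ⟨IsLocalization.mk' (Localization.Away g') (1 : MvPolynomial (Fin c₀) D)
        (⟨g', Submonoid.mem_powers g'⟩ : Submonoid.powers g'), ?_⟩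
      rw [← hΘg', ← hΘ', ← map_mul, IsLocalization.mk'_spec, map_one, map_one]
    intro t
    obtain ⟨s, ⟨_, k, rfl⟩, rfl⟩ := IsLocalization.exists_mk'_eq
      (Submonoid.powers (Ideal.Quotient.mk (Ideal.span (Set.range (Frel g E))) G)) t
    obtain ⟨q, rfl⟩ := Ideal.Quotient.mk_surjective s
    have h1 := IsLocalization.mk'_spec (Cq g E G) (Ideal.Quotient.mk _ q)
      (⟨(Ideal.Quotient.mk (Ideal.span (Set.range (Frel g E))) G) ^ k, k, rfl⟩ :
        Submonoid.powers (Ideal.Quotient.mk (Ideal.span (Set.range (Frel g E))) G))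
    obtain ⟨q', hq'0⟩ := htau q
    have hq' : Θ' q' = tau g E G q := hq'0
    refine ⟨q' * v ^ k, ?_⟩
    rw [map_mul, map_pow, hq']
    have h2 : algebraMap (Sq g E) (Cq g E G)
        ((Ideal.Quotient.mk (Ideal.span (Set.range (Frel g E))) G) ^ k) =
        (tau g E G G) ^ k := by
      rw [map_pow]
      rfl
    have h3 : tau g E G q = algebraMap (Sq g E) (Cq g E G) (Ideal.Quotient.mk _ q) := rfl
    rw [h3, ← h1]
    simp only [h2]
    rw [mul_assoc, ← mul_pow, mul_comm (tau g E G G), hv, one_pow, mul_one]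
  -- the fibre dimension of `D`
  have hD : ∀ (p : Ideal R) [p.IsPrime], ringKrullDim (p.Fiber D) ≤ ((n - c₀ : ℕ) : WithBot ℕ∞) := by
    intro p _
    by_cases hnt : Nontrivial (p.Fiber D)
    · have := (hrel ⟨p, inferInstance⟩ hnt).2
      have h2 : n + 1 - (c₀ + 1) = n - c₀ := by omega
      rw [h2] at this
      exact this.le
    · rw [not_nontrivial_iff_subsingleton] at hnt
      rw [ringKrullDim_eq_bot_of_subsingleton]
      exact bot_le
  intro p _
  by_cases hDnt : Nontrivial D
  · have hc : c₀ + 1 ≤ n + 1 := le_of_isRelGCI_of_nontrivial R (n + 1) (c₀ + 1) _ hrel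
    have h1 := ringKrullDim_fiber_le_of_surjective Θ' hsurj (n - c₀ + c₀)
      (fibreDimLE_mvPolynomial D c₀ (n - c₀) hD g') p
    have h2 : n - c₀ + c₀ = n := by omega
    rw [h2] at h1
    exact h1
  · rw [not_nontrivial_iff_subsingleton] at hDnt
    haveI : Subsingleton T := by
      refine subsingleton_of_zero_eq_one ?_
      rw [← map_one δ, ← map_zero δ]
      congr 1
      exact Subsingleton.elim _ _
    haveI : Subsingleton (p.Fiber T) := by
      refine subsingleton_of_zero_eq_one ?_
      have h1 : (1 : p.Fiber T) = (1 : p.ResidueField) ⊗ₜ[R] (1 : T) := rfl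
      rw [h1, Subsingleton.elim (1 : T) 0, TensorProduct.tmul_zero]
    rw [ringKrullDim_eq_bot_of_subsingleton]
    exact bot_le

end Local

end Groth.Agent.Helper8.SyR
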