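import Mathlib
import Groth.Agent.Lib.Helper8.SyR6
import Groth.Agent.Lib.Helper2.Synt.SyntGen
import Groth.Agent.Lib.Helper2.Synt.BridgeMp

/-!
# Syntomic algebras as retracts of relative global complete intersections, VII:
the global choice of the element to invert
-/

set_option autoImplicit false
universe u

namespace Groth.Agent.Helper8.SyR

open MvPolynomial Groth.Agent.Helper2.Synt

variable {R : Type u} [CommRing R] {n m : ℕ}
variable (g : Fin m → MvPolynomial (Fin n) R) (E : Fin m → Fin m → MvPolynomial (Fin n) R)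
variable {A : Type u} [CommRing A] [Algebra R A] (f : MvPolynomial (Fin n) R →ₐ[R] A)

theorem exists_good_G (hf : Function.Surjective f)
    (hker : RingHom.ker f.toRingHom = Ideal.span (Set.range g))
    (hsynt : _root_.Synt.IsSyntomic R A)
    (hP1 : ∀ k, g k - ∑ j, E j k * g j ∈ (Ideal.span (Set.range g)) ^ 2)
    (hP3 : ∀ a : Fin m → MvPolynomial (Fin n) R,
      ∑ j, a j * g j ∈ (Ideal.span (Set.range g)) ^ 2 →
      ∀ i, ∑ j, E i j * a j ∈ Ideal.span (Set.range g)) :
    ∃ G : MvPolynomial (Fin (n + m)) R, G - 1 ∈ aid g E ∧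
      (∀ x ∈ Kid g E, G * x ∈ Ideal.span (Set.range (Frel g E))) ∧
      FibreDimLE R (Sq g E) n (Ideal.Quotient.mk (Ideal.span (Set.range (Frel g E))) G) := by
  classical
  obtain ⟨G₁, hG₁1, hG₁K⟩ := exists_nakayama g E hP1 hP3
  let mk := Ideal.Quotient.mk (Ideal.span (Set.range (Frel g E)))
  have hFle : Ideal.span (Set.range (Frel g E)) ≤ aid g E := by
    rw [Ideal.span_le]
    rintro _ ⟨k, rfl⟩
    exact Frel_mem_aid g E k
  have hsynt1 : _root_.Synt.IsSyntomic R (Localization.Away (1 : A)) :=
    isSyntomic_of_algEquiv ((IsLocalization.atOne A (Localization.Away (1 : A))).restrictScalars R)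
      hsynt
  have hkerfg : (RingHom.ker f.toRingHom).FG := by
    rw [hker]
    exact Submodule.fg_span (Set.finite_range g)
  have hsup : Ideal.span {x : Sq g E | FibreDimLE R (Sq g E) n x} ⊔ (aid g E).map mk = ⊤ := by
    by_contra hne
    obtain ⟨M, hM, hle⟩ := Ideal.exists_le_maximal _ hne
    haveI := hM.isPrime
    -- the prime of `R[x]`
    let q' : Ideal (MvPolynomial (Fin n) R) := M.comap (mk.comp (inc R n m).toRingHom)
    haveI hq'prime : q'.IsPrime := Ideal.comap_isPrime _ _
    have hJq' : RingHom.ker f.toRingHom ≤ q' := by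
      intro x hx
      rw [hker] at hx
      change mk (inc R n m x) ∈ M
      exact hle (Ideal.mem_sup_right (Ideal.mem_map_of_mem _
        (Kid_le_aid g E (inc_mem_Kid g E hx))))
    haveI hqprime : (q'.map f).IsPrime := Ideal.map_isPrime_of_surjective hf hJq'
    have hqcomap : (q'.map f).comap f = q' := by
      rw [Ideal.comap_map_of_surjective f hf, ← RingHom.ker_eq_comap_bot]
      exact sup_eq_left.mpr hJq'
    have h1q : (1 : A) ∉ q'.map f := fun h1 =>
      hqprime.ne_top ((Ideal.eq_top_iff_one _).mpr h1)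
    obtain ⟨c₀, F', H, hFker, hH, -, hHI, hrel⟩ := exists_generators_of_syntomic_away R A n f hf
      hkerfg (1 : A) hsynt1 (q'.map f) h1q (1 : MvPolynomial (Fin n) R) (by rw [map_one]; exact h1q)
    rw [hker] at hFker hHI
    have hHq' : mk (inc R n m H) ∉ M := by
      intro hmem
      apply hH
      have : H ∈ q' := hmem
      rw [← hqcomap] at this
      exact this
    have hG₁M : mk G₁ ∉ M := by
      intro hmem
      have h1 : mk (G₁ - 1) ∈ M :=
        hle (Ideal.mem_sup_right (Ideal.mem_map_of_mem _ hG₁1))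
      rw [map_sub, map_one] at h1
      have h2 : (1 : Sq g E) ∈ M := by
        have := M.sub_mem hmem h1
        rwa [sub_sub_cancel] at this
      exact hM.ne_top ((Ideal.eq_top_iff_one _).mpr h2)
    -- the good element
    have hGK₂ : ∀ x ∈ Kid g E, (G₁ * inc R n m H) * x ∈ Ideal.span (Set.range (Frel g E)) := by
      intro x hx
      have : (G₁ * inc R n m H) * x = inc R n m H * (G₁ * x) := by ring
      rw [this]
      exact Ideal.mul_mem_left _ _ (hG₁K x hx)
    have hbex : ∀ k, ∃ b : Fin m → MvPolynomial (Fin n) R, ∑ j, b j * g j = F' k := fun k =>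
      Ideal.mem_span_range_iff_exists_fun.mp (hFker k)
    choose b hb using hbex
    have haex : ∀ j, ∃ a : Fin c₀ → MvPolynomial (Fin n) R, ∑ k, a k * F' k = H * g j := fun j =>
      Ideal.mem_span_range_iff_exists_fun.mp (hHI (g j) (Ideal.subset_span ⟨j, rfl⟩))
    choose a ha using haex
    have hHu : IsUnit (tau g E (G₁ * inc R n m H) (inc R n m H)) := by
      have h1 := tau_G_isUnit g E (G₁ * inc R n m H)
      have h2 : tau g E (G₁ * inc R n m H) (G₁ * inc R n m H) =
          tau g E (G₁ * inc R n m H) G₁ * tau g E (G₁ * inc R n m H) (inc R n m H) :=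
        map_mul _ _ _
      rw [h2] at h1
      exact isUnit_of_mul_isUnit_right h1
    have hgood := fibreDimLE_of_local g E (G₁ * inc R n m H) hP3 hGK₂ c₀ F' H b a
      (fun k => (hb k).symm) (fun j => (ha j).symm) hFker hrel hHu
    have hmem : mk (G₁ * inc R n m H) ∈ M := hle (Ideal.mem_sup_left (Ideal.subset_span hgood))
    rw [map_mul] at hmem
    rcases Ideal.IsPrime.mem_or_mem inferInstance hmem with h1 | h1
    · exact hG₁M h1
    · exact hHq' h1
  obtain ⟨j, hj, i, hi, hji⟩ := Submodule.mem_sup.mp ((Ideal.eq_top_iff_one _).mp hsup)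
  obtain ⟨G₂, rfl⟩ := Ideal.Quotient.mk_surjective j
  have hG₂1 : G₂ - 1 ∈ aid g E := by
    have h1 : mk (G₂ - 1) ∈ (aid g E).map mk := by
      have : mk (G₂ - 1) = -i := by
        rw [map_sub, map_one, ← hji]
        ring
      rw [this]
      exact neg_mem hi
    have h2 : G₂ - 1 ∈ ((aid g E).map mk).comap mk := h1
    rw [Ideal.comap_map_of_surjective mk Ideal.Quotient.mk_surjective,
      ← RingHom.ker_eq_comap_bot, Ideal.mk_ker] at h2
    exact (sup_le le_rfl hFle) h2
  refine ⟨G₁ * G₂, ?_, ?_, ?_⟩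
  · have : G₁ * G₂ - 1 = G₁ * (G₂ - 1) + (G₁ - 1) := by ring
    rw [this]
    exact (aid g E).add_mem ((aid g E).mul_mem_left _ hG₂1) hG₁1
  · intro x hx
    have : (G₁ * G₂) * x = G₂ * (G₁ * x) := by ring
    rw [this]
    exact Ideal.mul_mem_left _ _ (hG₁K x hx)
  · apply fibreDimLE_of_mem_span
    rw [map_mul]
    exact Ideal.mul_mem_left _ _ hj

end Groth.Agent.Helper8.SyR
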