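import Mathlib
import Groth.Agent.Lib.Helper8.SyL5
import Groth.Agent.Lib.Helper8.SyL7
import Groth.Agent.Lib.Helper8.SyL8
import Groth.Agent.Lib.Helper8.SyR1
import Groth.Agent.Lib.Helper8.SyR7

/-!
# Lifting syntomic algebras along `R → R/I`, IX: assembly
-/

set_option autoImplicit false
universe u

namespace Groth.Agent.Helper8.SyL

open MvPolynomial RingTheory.Sequence TensorProduct Groth.Agent.Helper8.SyR

section Iota

variable {R : Type u} [CommRing R] (I : Ideal R) {D A₀ : Type u} [CommRing D] [CommRing A₀]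
  [Algebra R D] [Algebra (R ⧸ I) A₀] [Algebra R A₀] [IsScalarTower R (R ⧸ I) A₀]

/-- The reduction modulo `I` of `D/(k)`, when `D → A₀` has kernel `(k) + ID`. -/
theorem nonempty_quot_algEquiv (Λ : D →ₐ[R] A₀) (hΛ : Function.Surjective Λ) (ks : List D)
    (hkerΛ : RingHom.ker Λ = Ideal.ofList ks ⊔ I.map (algebraMap R D)) :
    Nonempty (((D ⧸ Ideal.ofList ks) ⧸ I.map (algebraMap R (D ⧸ Ideal.ofList ks))) ≃ₐ[R ⧸ I]
      A₀) := by
  have h1 : I.map (algebraMap R (D ⧸ Ideal.ofList ks)) =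
      (I.map (algebraMap R D)).map (Ideal.Quotient.mkₐ R (Ideal.ofList ks)) := by
    have h0 : (I.map (algebraMap R D)).map (Ideal.Quotient.mkₐ R (Ideal.ofList ks)) =
        (I.map (algebraMap R D)).map (Ideal.Quotient.mk (Ideal.ofList ks)) := rfl
    rw [h0, Ideal.map_map]
    rfl
  let e1 : ((D ⧸ Ideal.ofList ks) ⧸ I.map (algebraMap R (D ⧸ Ideal.ofList ks))) ≃ₐ[R]
      ((D ⧸ Ideal.ofList ks) ⧸
        (I.map (algebraMap R D)).map (Ideal.Quotient.mkₐ R (Ideal.ofList ks))) :=
    Ideal.quotientEquivAlgOfEq R h1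
  let e2 := DoubleQuot.quotQuotEquivQuotSupₐ R (Ideal.ofList ks) (I.map (algebraMap R D))
  let e3 : (D ⧸ (Ideal.ofList ks ⊔ I.map (algebraMap R D))) ≃ₐ[R] (D ⧸ RingHom.ker Λ) :=
    Ideal.quotientEquivAlgOfEq R hkerΛ.symm
  let e4 : (D ⧸ RingHom.ker Λ) ≃ₐ[R] A₀ := Ideal.quotientKerAlgEquivOfSurjective hΛ
  exact ⟨AlgEquiv.extendScalarsOfSurjective (R := R) (S := R ⧸ I) Ideal.Quotient.mk_surjective
    (((e1.trans e2).trans e3).trans e4)⟩

end Iota

section Main

/-- Lifting of syntomic algebras along a surjection `R → R/I`. -/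
theorem main {R A₀ : Type u} [CommRing R] (I : Ideal R) [CommRing A₀]
    [Algebra (R ⧸ I) A₀] (h : _root_.Synt.IsSyntomic (R ⧸ I) A₀) :
    ∃ (A : Type u) (_ : CommRing A) (_ : Algebra R A), _root_.Synt.IsSyntomic R A ∧
      Nonempty ((A ⧸ I.map (algebraMap R A)) ≃ₐ[R ⧸ I] A₀) := by
  classical
  obtain ⟨n, f, hf, hkerfg⟩ := h.2.1.out
  obtain ⟨m, g, hg⟩ := (Submodule.fg_iff_exists_fin_generating_family).mp hkerfg
  have hker : RingHom.ker f.toRingHom = Ideal.span (Set.range g) := hg.symm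
  -- projectivity of the conormal module
  have e₀ : A₀ ≃ₐ[R ⧸ I] (MvPolynomial (Fin n) (R ⧸ I) ⧸ Ideal.span (Set.range g)) :=
    (Ideal.quotientKerAlgEquivOfSurjective hf).symm.trans (Ideal.quotientEquivAlgOfEq (R ⧸ I) hker)
  have hsyn' := Groth.Agent.Helper2.Synt.isSyntomic_of_algEquiv e₀ h
  have hproj := cotangent_projective_of_isSyntomic (R ⧸ I) n
    (Ideal.span (Set.range g)) (Submodule.fg_span (Set.finite_range g)) hsyn'
  obtain ⟨E, hP1, hP3⟩ := exists_matrix_of_projective g hproj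
  obtain ⟨G, hG1, hGK, hgood⟩ := exists_good_G g E f hf hker h hP1 hP3
  have hgood' : Groth.Agent.Helper2.Synt.FibreDimLE (R ⧸ I)
      (_root_.Synt.RelGCIRing (R ⧸ I) (n + m) m (Frel g E)) (n + m - m)
      (Ideal.Quotient.mk (Ideal.span (Set.range (Frel g E))) G) := by
    have : n + m - m = n := by omega
    rw [this]
    exact hgood
  have hrel : _root_.Synt.IsRelGCI (R ⧸ I) (n + m + 1) (m + 1)
      (Groth.Agent.Helper2.Synt.awayRel' (R ⧸ I) (n + m) m (Frel g E) G) :=
    Groth.Agent.Helper2.Synt.isRelGCI_away_of_fibreDimLE (by omega) hgood'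
  let e' := Groth.Agent.Helper2.Synt.awayEquivRelGCIRing (R ⧸ I) (n + m) m (Frel g E) G
  -- the algebra structures
  let α := algA g E G f hf hker hGK
  letI algC' : Algebra A₀ (Cq g E G) := α.toRingHom.toAlgebra
  haveI towerC' : IsScalarTower (R ⧸ I) A₀ (Cq g E G) :=
    IsScalarTower.of_algebraMap_eq fun r => (α.commutes r).symm
  have hA : ∀ b, algebraMap A₀ (Cq g E G) (f b) = tau g E G (inc (R ⧸ I) n m b) := fun b =>
    algA_apply g E G f hf hker hGK b
  obtain ⟨Φ, hΦ⟩ := exists_Phi g E G f hker hP1 hP3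
  letI algCP : Algebra (Cq g E G) (P2 E G f) := Φ.toRingHom.toAlgebra
  have hΦ' : ∀ q, algebraMap (Cq g E G) (P2 E G f) (tau g E G q) =
      algebraMap (MvPolynomial (Fin m) A₀) (P2 E G f) (aeval (phiVals E f) q) := hΦ
  haveI hfpA : Algebra.FinitePresentation (R ⧸ I) A₀ := h.2.1
  haveI hsm : Algebra.Smooth (Cq g E G) (P2 E G f) :=
    smooth_P2 g E G f hf hker hP1 hP3 hGK hA hΦ'
  haveI towR : IsScalarTower (R ⧸ I) (Cq g E G) (P2 E G f) := tower_R g E G f hΦ'
  -- the syntomic algebra `D`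
  obtain ⟨D, iD, aD, hDsyn, π, hπ, hkerπ, hπR⟩ :=
    exists_syntomic_lift_of_smooth_over_relGCI I (Cq g E G) (n + m + 1) (m + 1) _ (by omega)
      hrel e' (P2 E G f)
  -- `R`-algebra structures
  letI algRA : Algebra R A₀ := ((algebraMap (R ⧸ I) A₀).comp (algebraMap R (R ⧸ I))).toAlgebra
  haveI towRA : IsScalarTower R (R ⧸ I) A₀ := IsScalarTower.of_algebraMap_eq fun r => rfl
  haveI towRP : IsScalarTower R (R ⧸ I) (P2 E G f) := inferInstance
  let πa : D →ₐ[R] P2 E G f :=
    { π with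
      commutes' := fun r => by
        change π (algebraMap R D r) = algebraMap R (P2 E G f) r
        rw [hπR, IsScalarTower.algebraMap_apply R (R ⧸ I) (P2 E G f)]
        rfl }
  have hπa : Function.Surjective πa := hπ
  have hkerπa : RingHom.ker πa = I.map (algebraMap R D) := by
    rw [← hkerπ]
    ext x
    rw [RingHom.mem_ker, RingHom.mem_ker]
    rfl
  -- the sequence
  choose d hd using fun k => hπ (wv E G f k)
  have hd' : ∀ k, πa (d k) = wv E G f k := hd
  have hksmap : (List.ofFn d).map πa =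
      (Xs A₀ m).map (algebraMap (MvPolynomial (Fin m) A₀) (P2 E G f)) := by
    unfold Xs
    rw [List.map_ofFn, List.map_ofFn]
    congr 1
    funext k
    exact hd' k
  have hTR : ∀ (K : Type u) [Field K] [Algebra R K], (∀ i ∈ I, algebraMap R K i = 0) →
      IsWeaklyRegular (P2 E G f ⊗[R] K) ((List.ofFn d).map πa) := by
    intro K _ _ _
    rw [hksmap]
    exact isWeaklyRegular_tensor_away R A₀ K m (Gh E G f)
  -- the reduction modulo `I`
  obtain ⟨ρ', hρ'w, hkerρ'⟩ := exists_rho g E G f hker hG1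
  let Λ : D →ₐ[R] A₀ := (ρ'.restrictScalars R).comp πa
  have hΛ : Function.Surjective Λ := by
    intro a
    obtain ⟨x, hx⟩ := hπa (algebraMap A₀ (P2 E G f) a)
    refine ⟨x, ?_⟩
    change ρ' (πa x) = a
    rw [hx, ρ'.commutes]
    rfl
  have hofList : Ideal.ofList (List.ofFn d) = Ideal.span (Set.range d) := by
    unfold Ideal.ofList
    congr 1
    ext x
    simp [List.mem_ofFn]
  have hkerΛ : RingHom.ker Λ = Ideal.ofList (List.ofFn d) ⊔ I.map (algebraMap R D) := by
    apply le_antisymm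
    · intro x hx
      rw [RingHom.mem_ker] at hx
      have h1 : πa x ∈ RingHom.ker ρ' := by
        rw [RingHom.mem_ker]
        exact hx
      rw [hkerρ'] at h1
      have h2 : Ideal.span (Set.range (wv E G f)) = (Ideal.span (Set.range d)).map πa := by
        rw [Ideal.map_span, ← Set.range_comp]
        congr 2
        funext k
        exact (hd' k).symm
      rw [h2, Ideal.mem_map_iff_of_surjective πa hπa] at h1
      obtain ⟨y, hy, hyx⟩ := h1
      have h3 : x - y ∈ RingHom.ker πa := by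
        rw [RingHom.mem_ker, map_sub, hyx, sub_self]
      rw [hkerπa] at h3
      have h4 : x = y + (x - y) := by ring
      rw [h4, hofList]
      exact Ideal.add_mem _ (Ideal.mem_sup_left hy) (Ideal.mem_sup_right h3)
    · rw [sup_le_iff]
      constructor
      · rw [hofList, Ideal.span_le]
        rintro _ ⟨k, rfl⟩
        rw [SetLike.mem_coe, RingHom.mem_ker]
        change ρ' (πa (d k)) = 0
        rw [hd', hρ'w]
      · rw [Ideal.map_le_iff_le_comap]
        intro i hi
        rw [Ideal.mem_comap, RingHom.mem_ker, Λ.commutes,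
          IsScalarTower.algebraMap_apply R (R ⧸ I) A₀]
        have : algebraMap R (R ⧸ I) i = 0 := Ideal.Quotient.eq_zero_iff_mem.mpr hi
        rw [this, map_zero]
  obtain ⟨ι⟩ := nonempty_quot_algEquiv I Λ hΛ (List.ofFn d) hkerΛ
  -- conclusion
  obtain ⟨f', hf', hsyn⟩ := exists_isSyntomic_away I hDsyn πa hπa hkerπa (List.ofFn d) hTR h ι
  obtain ⟨e₁⟩ := Groth.Agent.Helper2.Synt.nonempty_quotient_algEquiv_away R I f' hf'
  refine ⟨Localization.Away f', inferInstance, inferInstance, hsyn, ⟨?_⟩⟩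
  exact ((AlgEquiv.extendScalarsOfSurjective (R := R) (S := R ⧸ I)
    Ideal.Quotient.mk_surjective e₁).symm).trans ι

end Main

end Groth.Agent.Helper8.SyL
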