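import Mathlib
import Groth.Prelude.Def_W4bk5brsh16IT

set_option autoImplicit false
universe u

namespace Groth.Agent.Helper8.TC

open LocCoh

variable {R : Type u} [CommRing R]

section Frob

variable (p : ℕ) [Fact p.Prime] [CharP R p]

/-- the Frobenius power of an ideal generated by a list. -/
lemma frobPow_ofList (l : List R) (e : ℕ) :
    frobPow (Ideal.ofList l) (p ^ e) = Ideal.ofList (l.map (· ^ p ^ e)) := by
  apply le_antisymm
  · unfold frobPow
    rw [Ideal.span_le]
    rintro x ⟨y, hy, rfl⟩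
    refine Submodule.span_induction (p := fun y _ => y ^ p ^ e ∈ Ideal.ofList (l.map (· ^ p ^ e)))
      ?_ ?_ ?_ ?_ hy
    · intro z hz
      exact Ideal.subset_span (List.mem_map.mpr ⟨z, hz, rfl⟩)
    · rw [zero_pow (pow_pos (Fact.out : p.Prime).pos e).ne']
      exact Submodule.zero_mem _
    · intro a b _ _ ha hb
      rw [add_pow_char_pow]
      exact Submodule.add_mem _ ha hb
    · intro r a _ ha
      rw [smul_eq_mul, mul_pow]
      exact Ideal.mul_mem_left _ _ ha
  · rw [Ideal.span_le]
    intro x hx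
    obtain ⟨z, hz, rfl⟩ := List.mem_map.mp hx
    exact Ideal.subset_span ⟨z, Ideal.subset_span hz, rfl⟩

lemma frobPow_mono {I J : Ideal R} (h : I ≤ J) (q : ℕ) : frobPow I q ≤ frobPow J q := by
  unfold frobPow
  apply Ideal.span_mono
  rintro x ⟨y, hy, rfl⟩
  exact ⟨y, h hy, rfl⟩

lemma tightClosure_mono {I J : Ideal R} (h : I ≤ J) : tightClosure p I ⊆ tightClosure p J := by
  rintro r ⟨c, hc, e₀, he⟩
  exact ⟨c, hc, e₀, fun e hee => frobPow_mono h _ (he e hee)⟩

end Frob

end Groth.Agent.Helper8.TC
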