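import Groth.Agent.Lib.Helper8.W4c
import Groth.Agent.Lib.Helper8.LC36
import Groth.Agent.Lib.Helper8.CanMod2
import Groth.Agent.Lib.Helper8.LD10

/-!
# One-dimensional local domains: relative lengths of fractional submodules (towards S15008)
-/

set_option autoImplicit false
universe u

namespace Groth.Agent.Helper8.TF

open CategoryTheory Abelian IsLocalRing

section rel

variable {R : Type*} [CommRing R] {Y : Type*} [AddCommGroup Y] [Module R Y]

/-- the length of `b / (a ∩ b)`. -/
noncomputable def relLen (a b : Submodule R Y) : ℕ∞ :=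
  Module.length R (↥b ⧸ Submodule.comap b.subtype a)

lemma relLen_add {a b c : Submodule R Y} (hab : a ≤ b) (hbc : b ≤ c) :
    relLen a c = relLen a b + relLen b c := by
  unfold relLen
  let f : (↥b ⧸ Submodule.comap b.subtype a) →ₗ[R] (↥c ⧸ Submodule.comap c.subtype a) :=
    Submodule.mapQ _ _ (Submodule.inclusion hbc) (by intro y hy; exact hy)
  let g : (↥c ⧸ Submodule.comap c.subtype a) →ₗ[R] (↥c ⧸ Submodule.comap c.subtype b) :=
    Submodule.mapQ _ _ LinearMap.id (by intro y hy; exact hab hy)
  have hf : Function.Injective f := by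
    rw [← LinearMap.ker_eq_bot, LinearMap.ker_eq_bot']
    intro q hq
    obtain ⟨y, rfl⟩ := Submodule.mkQ_surjective _ q
    rw [Submodule.mkQ_apply] at hq ⊢
    rw [Submodule.mapQ_apply, Submodule.Quotient.mk_eq_zero] at hq
    rw [Submodule.Quotient.mk_eq_zero]
    exact hq
  have hg : Function.Surjective g := by
    intro q
    obtain ⟨z, rfl⟩ := Submodule.mkQ_surjective _ q
    exact ⟨Submodule.Quotient.mk z, rfl⟩
  have hfg : Function.Exact f g := by
    intro q
    obtain ⟨z, rfl⟩ := Submodule.mkQ_surjective _ q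
    rw [Submodule.mkQ_apply]
    constructor
    · intro hq
      rw [Submodule.mapQ_apply, Submodule.Quotient.mk_eq_zero] at hq
      have hz : (z : Y) ∈ b := hq
      refine ⟨Submodule.Quotient.mk ⟨z.1, hz⟩, ?_⟩
      rw [Submodule.mapQ_apply]
      rfl
    · rintro ⟨p, hp⟩
      obtain ⟨y, rfl⟩ := Submodule.mkQ_surjective _ p
      rw [← hp, Submodule.mkQ_apply, Submodule.mapQ_apply, Submodule.mapQ_apply,
        Submodule.Quotient.mk_eq_zero]
      exact y.2
  exact Module.length_eq_add_of_exact f g hf hg hfg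

lemma relLen_self (a : Submodule R Y) : relLen a a = 0 := by
  unfold relLen
  rw [Module.length_eq_zero_iff]
  refine ⟨fun p q => ?_⟩
  obtain ⟨y, rfl⟩ := Submodule.mkQ_surjective _ p
  obtain ⟨z, rfl⟩ := Submodule.mkQ_surjective _ q
  rw [Submodule.mkQ_apply, Submodule.mkQ_apply, Submodule.Quotient.eq]
  exact Submodule.sub_mem _ y.2 z.2

lemma le_of_relLen_eq_zero {a b : Submodule R Y} (h : relLen a b = 0) : b ≤ a := by
  unfold relLen at h
  rw [Module.length_eq_zero_iff] at h
  intro y hy
  have h1 : (Submodule.Quotient.mk ⟨y, hy⟩ : ↥b ⧸ Submodule.comap b.subtype a) = 0 :=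
    Subsingleton.elim _ _
  rw [Submodule.Quotient.mk_eq_zero] at h1
  exact h1

/-- an injective endomorphism preserves relative lengths. -/
lemma relLen_map (m : Y →ₗ[R] Y) (hm : Function.Injective m) (a b : Submodule R Y) :
    relLen (a.map m) (b.map m) = relLen a b := by
  unfold relLen
  symm
  refine (Submodule.Quotient.equiv _ _ (Submodule.equivMapOfInjective m hm b) ?_).length_eq
  ext z
  constructor
  · rintro ⟨y, hy, rfl⟩
    exact ⟨y.1, hy, rfl⟩
  · intro hz
    obtain ⟨y', hy', hyz⟩ := hz
    obtain ⟨y'', hy'', hyz'⟩ := z.2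
    have h1 : y' = y'' := hm (hyz.trans hyz'.symm)
    refine ⟨⟨y', h1 ▸ hy''⟩, hy', ?_⟩
    exact Subtype.ext hyz

end rel

section fin

variable {O : Type u} [CommRing O] [IsDomain O] [IsNoetherianRing O] [IsLocalRing O]
  (hdim : ringKrullDim O = 1)

include hdim in
/-- a finite module killed by a nonzero element has finite length. -/
lemma isFiniteLength_of_smul_eq_zero (T : Type u) [AddCommGroup T] [Module O T]
    [Module.Finite O T] (d : O) (hd : d ≠ 0) (hkill : ∀ t : T, d • t = 0) :
    IsFiniteLength O T := by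
  have h1 : Ideal.span {d} ≤ Module.annihilator O T := by
    rw [Ideal.span_le, Set.singleton_subset_iff]
    exact Module.mem_annihilator.mpr hkill
  have h2 := Groth.Agent.Helper8.CanMod.supportDim_le_of_le_annihilator (Ideal.span {d}) T h1
  have h3 := ringKrullDim_quotient_succ_le_of_nonZeroDivisor (mem_nonZeroDivisors_of_ne_zero hd)
  rw [hdim] at h3
  have h4 : Module.supportDim O T ≤ ((0 : ℕ) : WithBot ℕ∞) := by
    refine h2.trans ?_
    generalize ringKrullDim (O ⧸ Ideal.span {d}) = x at h3
    induction x using WithBot.recBotCoe with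
    | bot => exact bot_le
    | coe n =>
      induction n using ENat.recTopCoe with
      | top =>
        exfalso
        have : ((⊤ : ℕ∞) : WithBot ℕ∞) + 1 = ((⊤ : ℕ∞) : WithBot ℕ∞) := by
          rw [← WithBot.coe_one, ← WithBot.coe_add, top_add]
        rw [this] at h3
        have h5 : (⊤ : ℕ∞) ≤ 1 := by exact_mod_cast h3
        simp at h5
      | coe n =>
        have h5 : n + 1 ≤ 1 := by exact_mod_cast h3
        have h6 : n = 0 := by omega
        subst h6
        exact le_rfl
  haveI := Groth.Agent.Helper8.LC.isArtinian_of_supportDim_le_zero T h4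
  exact isFiniteLength_iff_isNoetherian_isArtinian.mpr ⟨inferInstance, inferInstance⟩

include hdim in
lemma exists_mem_maximalIdeal_ne_zero : ∃ x ∈ maximalIdeal O, x ≠ 0 := by
  by_contra h
  push Not at h
  have hm : maximalIdeal O = ⊥ := by
    rw [eq_bot_iff]
    intro x hx
    exact (Submodule.mem_bot O).mpr (h x hx)
  have hfield : IsField O := IsLocalRing.isField_iff_maximalIdeal_eq.mpr hm
  have h0 := ringKrullDim_eq_zero_of_isField hfield
  rw [hdim] at h0
  exact one_ne_zero h0

include hdim in
/-- finite length modules are killed by a nonzero element. -/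
lemma exists_ne_zero_smul_eq_zero (T : Type u) [AddCommGroup T] [Module O T]
    (hT : IsFiniteLength O T) : ∃ d : O, d ≠ 0 ∧ ∀ t : T, d • t = 0 := by
  obtain ⟨x, hxm, hx0⟩ := exists_mem_maximalIdeal_ne_zero hdim
  induction hT with
  | of_subsingleton => exact ⟨1, one_ne_zero, fun t => Subsingleton.elim _ _⟩
  | @of_simple_quotient M _ _ N hsimple hN ih =>
    obtain ⟨d, hd0, hd⟩ := ih
    obtain ⟨I, hImax, ⟨e⟩⟩ := isSimpleModule_iff_quot_maximal.mp hsimple
    obtain rfl : I = maximalIdeal O := IsLocalRing.eq_maximalIdeal hImax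
    refine ⟨d * x, mul_ne_zero hd0 hx0, fun t => ?_⟩
    have h1 : x • t ∈ N := by
      rw [← Submodule.Quotient.mk_eq_zero, Submodule.Quotient.mk_smul]
      apply e.injective
      rw [map_smul, map_zero]
      obtain ⟨c, hc⟩ := Ideal.Quotient.mk_surjective (e (Submodule.Quotient.mk t))
      rw [← hc, Algebra.smul_def, Ideal.Quotient.algebraMap_eq, ← map_mul,
        Ideal.Quotient.eq_zero_iff_mem]
      exact Ideal.mul_mem_right _ _ hxm
    rw [mul_smul]
    have h2 := hd ⟨x • t, h1⟩
    exact congrArg Subtype.val h2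

variable (K : Type u) [Field K] [Algebra O K] [IsFractionRing O K]

omit [IsNoetherianRing O] [IsLocalRing O] in
lemma exists_ne_zero_smul_le_one (b : Submodule O K) (hb : b.FG) :
    ∃ d : O, d ≠ 0 ∧ ∀ y ∈ b, d • y ∈ (1 : Submodule O K) := by
  obtain ⟨s, rfl⟩ := hb
  obtain ⟨⟨d, hd⟩, hds⟩ :=
    IsLocalization.exist_integer_multiples_of_finset (nonZeroDivisors O) s
  refine ⟨d, nonZeroDivisors.ne_zero hd, fun y hy => ?_⟩
  induction hy using Submodule.span_induction with
  | mem z hz =>
    obtain ⟨r, hr⟩ := hds z hz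
    exact Submodule.mem_one.mpr ⟨r, hr⟩
  | zero => rw [smul_zero]; exact Submodule.zero_mem _
  | add z w _ _ hz hw => rw [smul_add]; exact Submodule.add_mem _ hz hw
  | smul a z _ hz => rw [smul_comm]; exact Submodule.smul_mem _ _ hz

include hdim in
lemma relLen_one_ne_top (b : Submodule O K) (hb : b.FG) :
    relLen (1 : Submodule O K) b ≠ ⊤ := by
  unfold relLen
  rw [Module.length_ne_top_iff]
  obtain ⟨d, hd0, hd⟩ := exists_ne_zero_smul_le_one K b hb
  haveI : Module.Finite O ↥b := Module.Finite.iff_fg.mpr hb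
  apply isFiniteLength_of_smul_eq_zero hdim _ d hd0
  intro t
  obtain ⟨y, rfl⟩ := Submodule.mkQ_surjective _ t
  rw [Submodule.mkQ_apply, ← Submodule.Quotient.mk_smul, Submodule.Quotient.mk_eq_zero]
  exact hd y.1 y.2

omit [IsNoetherianRing O] [IsLocalRing O] in
/-- a finitely generated submodule of `K` embeds into `O`. -/
lemma exists_injective_to_ring (b : Submodule O K) (hb : b.FG) :
    ∃ j : ↥b →ₗ[O] O, Function.Injective j := by
  obtain ⟨d, hd0, hd⟩ := exists_ne_zero_smul_le_one K b hb
  have hinj : Function.Injective (Algebra.linearMap O K) := IsFractionRing.injective O K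
  let e := LinearEquiv.ofInjective (Algebra.linearMap O K) hinj
  have hmem : ∀ y : ↥b, (d • b.subtype) y ∈ LinearMap.range (Algebra.linearMap O K) := by
    intro y
    have h1 := hd y.1 y.2
    rw [Submodule.one_eq_range] at h1
    exact h1
  let j0 : ↥b →ₗ[O] LinearMap.range (Algebra.linearMap O K) :=
    (d • b.subtype).codRestrict _ hmem
  refine ⟨e.symm.toLinearMap ∘ₗ j0, ?_⟩
  apply e.symm.injective.comp
  intro y z hyz
  have h1 : d • (y : K) = d • (z : K) := congrArg Subtype.val hyz
  apply Subtype.ext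
  rw [Algebra.smul_def, Algebra.smul_def] at h1
  refine mul_left_cancel₀ ?_ h1
  rw [Ne, map_eq_zero_iff _ (IsFractionRing.injective O K)]
  exact hd0

end fin

end Groth.Agent.Helper8.TF
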