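import Groth.Agent.Lib.Helper8.TF1

/-!
# One-dimensional local domains: duality with a canonical ideal (towards S15008)
-/

set_option autoImplicit false
universe u

namespace Groth.Agent.Helper8.TF

open CategoryTheory Abelian IsLocalRing
open Groth.Agent.Helper8.W4

variable {O : Type u} [CommRing O] [IsDomain O] [IsNoetherianRing O] [IsLocalRing O]
  (hdim : ringKrullDim O = 1)
  {K : Type u} [Field K] [Algebra O K] [IsFractionRing O K] (ω : Submodule O K)

omit [IsNoetherianRing O] [IsLocalRing O] in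
/-- there are no maps from a torsion module to a submodule of `K`. -/
lemma subsingleton_ext_zero_of_torsion (T : Type u) [AddCommGroup T] [Module O T] (d : O)
    (hd : d ≠ 0) (hkill : ∀ t : T, d • t = 0) :
    Subsingleton (Ext (ModuleCat.of O T) (ModuleCat.of O ↥ω) 0) := by
  have hz : ∀ g : T →ₗ[O] ↥ω, g = 0 := by
    intro g
    apply LinearMap.ext
    intro t
    have h1 : d • g t = 0 := by rw [← map_smul, hkill, map_zero]
    have h2 : d • ((g t : ↥ω) : K) = 0 := congrArg Subtype.val h1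
    rw [Algebra.smul_def, mul_eq_zero] at h2
    rcases h2 with h2 | h2
    · exact absurd ((map_eq_zero_iff _ (IsFractionRing.injective O K)).mp h2) hd
    · exact Subtype.ext h2
  have : Subsingleton (T →ₗ[O] ↥ω) := ⟨fun g h => by rw [hz g, hz h]⟩
  exact (Groth.Agent.Helper8.LD.ext0Equiv T ↥ω).toEquiv.subsingleton

variable (hωinj : HasInjectiveDimensionLT (ModuleCat.of O ↥ω) 2)

include hωinj in
lemma subsingleton_ext_two (X : ModuleCat.{u} O) :
    Subsingleton (Ext X (ModuleCat.of O ↥ω) 2) :=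
  HasInjectiveDimensionLT.subsingleton (ModuleCat.of O ↥ω) 2 2 le_rfl X

include hdim hωinj in
/-- `ℓ(Ext^1(T, ω)) = r · ℓ(T)` for `T` of finite length, `r = ℓ(Ext^1(k, ω))`. -/
theorem length_ext_one (T : Type u) [AddCommGroup T] [Module O T] (hT : IsFiniteLength O T) :
    Module.length O (Ext (ModuleCat.of O T) (ModuleCat.of O ↥ω) 1) =
      Module.length O (Ext (ModuleCat.of O (O ⧸ maximalIdeal O)) (ModuleCat.of O ↥ω) 1) *
        Module.length O T := by
  induction hT with
  | @of_subsingleton M _ _ _ =>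
    have hz : Limits.IsZero (ModuleCat.of O M) := ModuleCat.isZero_of_subsingleton _
    have := hz.hasProjectiveDimensionLT_zero
    haveI : Subsingleton (Ext (ModuleCat.of O M) (ModuleCat.of O ↥ω) 1) :=
      HasProjectiveDimensionLT.subsingleton (ModuleCat.of O M) 0 1 (Nat.zero_le _) _
    have h1 : Module.length O (Ext (ModuleCat.of O M) (ModuleCat.of O ↥ω) 1) = 0 :=
      Module.length_eq_zero
    have h2 : Module.length O M = 0 := Module.length_eq_zero
    rw [h1, h2, mul_zero]
  | @of_simple_quotient M _ _ N hsimple hN ih =>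
    obtain ⟨I, hImax, ⟨e⟩⟩ := isSimpleModule_iff_quot_maximal.mp hsimple
    obtain rfl : I = maximalIdeal O := IsLocalRing.eq_maximalIdeal hImax
    obtain ⟨d, hd0, hd⟩ := exists_ne_zero_smul_eq_zero hdim N hN
    let S := ModuleCat.shortComplexOfCompEqZero N.subtype N.mkQ
      (LinearMap.exact_subtype_mkQ N).linearMap_comp_eq_zero
    have hS : S.ShortExact := ModuleCat.shortComplex_shortExact S (LinearMap.exact_subtype_mkQ N)
      N.injective_subtype N.mkQ_surjective
    have hinj : Function.Injective (cφ S (ModuleCat.of O ↥ω) 1) := by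
      rw [injective_iff_map_eq_zero]
      intro x hx
      obtain ⟨y, rfl⟩ := (exact_cδ_cφ hS (ModuleCat.of O ↥ω) 0 x).mp hx
      haveI : Subsingleton (Ext S.X₁ (ModuleCat.of O ↥ω) 0) :=
        subsingleton_ext_zero_of_torsion ω N d hd0 hd
      rw [Subsingleton.elim y 0, map_zero]
    have hsurj : Function.Surjective (cψ S (ModuleCat.of O ↥ω) 1) := by
      intro x
      haveI : Subsingleton (Ext S.X₃ (ModuleCat.of O ↥ω) (1 + 1)) :=
        subsingleton_ext_two ω hωinj _
      exact (exact_cψ_cδ hS (ModuleCat.of O ↥ω) 1 x).mp (Subsingleton.elim _ _)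
    have h1 : Module.length O (Ext (ModuleCat.of O M) (ModuleCat.of O ↥ω) 1) =
        Module.length O (Ext (ModuleCat.of O (M ⧸ N)) (ModuleCat.of O ↥ω) 1) +
          Module.length O (Ext (ModuleCat.of O N) (ModuleCat.of O ↥ω) 1) :=
      Module.length_eq_add_of_exact (cφ S (ModuleCat.of O ↥ω) 1) (cψ S (ModuleCat.of O ↥ω) 1)
        hinj hsurj (exact_cφ_cψ hS (ModuleCat.of O ↥ω) 1)
    have h2 := Module.length_eq_add_of_exact N.subtype N.mkQ N.injective_subtype
      N.mkQ_surjective (LinearMap.exact_subtype_mkQ N)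
    have h3 : Module.length O (M ⧸ N) = 1 := Module.length_eq_one O _
    have h4 := (extCongrLeft e.toModuleIso (ModuleCat.of O ↥ω) 1).length_eq
    rw [h1, h2, h3, ← h4, ih]
    ring

include hωinj in
/-- `Ext^1(X, ω) = 0` if `X` embeds into a projective module. -/
lemma subsingleton_ext_one_of_injective (X : Type u) [AddCommGroup X] [Module O X]
    (j : X →ₗ[O] O) (hj : Function.Injective j) :
    Subsingleton (Ext (ModuleCat.of O X) (ModuleCat.of O ↥ω) 1) := by
  let S := ModuleCat.shortComplexOfCompEqZero j (LinearMap.range j).mkQ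
    (LinearMap.exact_map_mkQ_range j).linearMap_comp_eq_zero
  have hS : S.ShortExact := ModuleCat.shortComplex_shortExact S (LinearMap.exact_map_mkQ_range j)
    hj (Submodule.mkQ_surjective _)
  have hz : ∀ x : Ext (ModuleCat.of O X) (ModuleCat.of O ↥ω) 1, x = 0 := by
    intro x
    haveI : Subsingleton (Ext S.X₃ (ModuleCat.of O ↥ω) (1 + 1)) :=
      subsingleton_ext_two ω hωinj _
    obtain ⟨z, rfl⟩ := (exact_cψ_cδ hS (ModuleCat.of O ↥ω) 1 x).mp (Subsingleton.elim _ _)
    haveI : Subsingleton (Ext (ModuleCat.of O O) (ModuleCat.of O ↥ω) 1) :=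
      Ext.subsingleton_of_projective _ _ 0
    have hz0 : z = 0 := Subsingleton.elim (α := Ext (ModuleCat.of O O) (ModuleCat.of O ↥ω) 1) _ _
    rw [hz0, map_zero]
  exact ⟨fun x y => by rw [hz x, hz y]⟩

omit [IsNoetherianRing O] [IsLocalRing O] in
/-- linear maps between submodules of `K` are multiplications. -/
lemma hom_apply_eq_mul (b : Submodule O K) (g : ↥b →ₗ[O] ↥ω) (y₀ y : ↥b) :
    ((g y : ↥ω) : K) * (y₀ : K) = ((g y₀ : ↥ω) : K) * (y : K) := by
  by_cases h0 : (y₀ : K) = 0
  · have : y₀ = 0 := Subtype.ext h0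
    rw [this, map_zero]
    simp
  -- `y = (p / q) y₀`
  obtain ⟨⟨q, hq⟩, p, hp⟩ :=
    IsLocalization.exists_integer_multiple (nonZeroDivisors O) ((y : K) / (y₀ : K))
  have hq0 : algebraMap O K q ≠ 0 := by
    rw [Ne, map_eq_zero_iff _ (IsFractionRing.injective O K)]
    exact nonZeroDivisors.ne_zero hq
  have h1 : q • y = p • y₀ := by
    apply Subtype.ext
    change q • (y : K) = p • (y₀ : K)
    have hp' : algebraMap O K p = q • ((y : K) / (y₀ : K)) := hp
    rw [Algebra.smul_def, Algebra.smul_def, hp', Algebra.smul_def]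
    field_simp
  have h2 : q • g y = p • g y₀ := by rw [← map_smul, ← map_smul, h1]
  have h3 : q • ((g y : ↥ω) : K) = p • ((g y₀ : ↥ω) : K) := congrArg Subtype.val h2
  have h4 : q • (y : K) = p • (y₀ : K) := congrArg Subtype.val h1
  rw [Algebra.smul_def, Algebra.smul_def] at h3 h4
  apply mul_left_cancel₀ hq0
  calc algebraMap O K q * (((g y : ↥ω) : K) * (y₀ : K))
      = (algebraMap O K q * ((g y : ↥ω) : K)) * (y₀ : K) := by ring
    _ = (algebraMap O K p * ((g y₀ : ↥ω) : K)) * (y₀ : K) := by rw [h3]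
    _ = ((g y₀ : ↥ω) : K) * (algebraMap O K p * (y₀ : K)) := by ring
    _ = ((g y₀ : ↥ω) : K) * (algebraMap O K q * (y : K)) := by rw [h4]
    _ = algebraMap O K q * (((g y₀ : ↥ω) : K) * (y : K)) := by ring

include hdim hωinj in
/-- **Duality**: `ℓ(ω / (ω : b)) = r · ℓ(b / O)` for a finitely generated `b ⊇ O`. -/
theorem relLen_div (b : Submodule O K) (hb : b.FG) (h1b : (1 : Submodule O K) ≤ b) :
    relLen (ω / b) ω =
      Module.length O (Ext (ModuleCat.of O (O ⧸ maximalIdeal O)) (ModuleCat.of O ↥ω) 1) *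
        relLen (1 : Submodule O K) b := by
  -- the short exact sequence `0 → O → b → b/O → 0`
  let ι : O →ₗ[O] ↥b := (Algebra.linearMap O K).codRestrict b
    (fun r => h1b (Submodule.mem_one.mpr ⟨r, rfl⟩))
  have hι : Function.Injective ι := by
    intro r s hrs
    exact IsFractionRing.injective O K (congrArg Subtype.val hrs)
  have hex : Function.Exact ι (Submodule.comap b.subtype (1 : Submodule O K)).mkQ := by
    intro y
    rw [Submodule.mkQ_apply, Submodule.Quotient.mk_eq_zero, Submodule.mem_comap,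
      Submodule.mem_one]
    constructor
    · rintro ⟨r, hr⟩
      exact ⟨r, Subtype.ext hr⟩
    · rintro ⟨r, rfl⟩
      exact ⟨r, rfl⟩
  let S := ModuleCat.shortComplexOfCompEqZero ι
    (Submodule.comap b.subtype (1 : Submodule O K)).mkQ hex.linearMap_comp_eq_zero
  have hS : S.ShortExact := ModuleCat.shortComplex_shortExact S hex hι
    (Submodule.mkQ_surjective _)
  -- `b/O` has finite length
  have hQ : IsFiniteLength O (↥b ⧸ Submodule.comap b.subtype (1 : Submodule O K)) :=
    Module.length_ne_top_iff.mp (relLen_one_ne_top hdim K b hb)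
  -- `Ext^1(b, ω) = 0`
  obtain ⟨j, hj⟩ := exists_injective_to_ring K b hb
  have hvan := subsingleton_ext_one_of_injective ω hωinj ↥b j hj
  have hsurj : Function.Surjective (cδ hS (ModuleCat.of O ↥ω) 0) := by
    intro x
    apply (exact_cδ_cφ hS (ModuleCat.of O ↥ω) 0 x).mp
    exact Subsingleton.elim (α := Ext (ModuleCat.of O ↥b) (ModuleCat.of O ↥ω) 1) _ _
  have hker : LinearMap.ker (cδ hS (ModuleCat.of O ↥ω) 0) =
      LinearMap.range (cψ S (ModuleCat.of O ↥ω) 0) :=
    (exact_cψ_cδ hS (ModuleCat.of O ↥ω) 0).linearMap_ker_eq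
  have e1 := (LinearMap.quotKerEquivOfSurjective _ hsurj).length_eq
  rw [hker] at e1
  -- identify the quotient with `ω / (ω : b)`
  let e : Ext (ModuleCat.of O O) (ModuleCat.of O ↥ω) 0 ≃ₗ[O] ↥ω :=
    (Groth.Agent.Helper8.LD.ext0Equiv O ↥ω).trans (LinearMap.ringLmapEquivSelf O O ↥ω)
  have hmap : (LinearMap.range (cψ S (ModuleCat.of O ↥ω) 0)).map (e : _ →ₗ[O] ↥ω) =
      Submodule.comap ω.subtype (ω / b) := by
    ext f
    constructor
    · rintro ⟨_, ⟨β, rfl⟩, rfl⟩
      obtain ⟨g, rfl⟩ := (Ext.mk₀_bijective _ _).2 β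
      have h1 : cψ S (ModuleCat.of O ↥ω) 0 (Ext.mk₀ g) = Ext.mk₀ (ModuleCat.ofHom ι ≫ g) := by
        change (Ext.mk₀ S.f).comp (Ext.mk₀ g) (zero_add 0) = _
        rw [Ext.mk₀_comp_mk₀]
      have h2 : e (Ext.mk₀ (ModuleCat.ofHom ι ≫ g)) = g.hom (ι 1) := by
        change (Groth.Agent.Helper8.LD.ext0Equiv O ↥ω (Ext.mk₀ (ModuleCat.ofHom ι ≫ g))) 1 = _
        rw [Groth.Agent.Helper8.LD.ext0Equiv_mk₀]
        rfl
      change e (cψ S (ModuleCat.of O ↥ω) 0 (Ext.mk₀ g)) ∈ _
      rw [h1, h2, Submodule.mem_comap, Submodule.mem_div_iff_forall_mul_mem]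
      intro y hy
      have h3 := hom_apply_eq_mul ω b g.hom (ι 1) ⟨y, hy⟩
      have h4 : ((ι 1 : ↥b) : K) = 1 := by
        change algebraMap O K 1 = 1
        exact map_one _
      rw [h4, mul_one] at h3
      change ((g.hom (ι 1) : ↥ω) : K) * y ∈ ω
      rw [← h3]
      exact (g.hom ⟨y, hy⟩).2
    · intro hf
      rw [Submodule.mem_comap, Submodule.mem_div_iff_forall_mul_mem] at hf
      let g : ↥b →ₗ[O] ↥ω :=
        { toFun := fun y => ⟨(f : K) * (y : K), hf y.1 y.2⟩
          map_add' := fun y z => Subtype.ext (mul_add _ _ _)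
          map_smul' := fun r y => Subtype.ext (by
            change (f : K) * (r • (y : K)) = r • ((f : K) * (y : K))
            rw [Algebra.smul_def, Algebra.smul_def]; ring) }
      refine ⟨cψ S (ModuleCat.of O ↥ω) 0 (Ext.mk₀ (ModuleCat.ofHom g)), ⟨_, rfl⟩, ?_⟩
      have h1 : cψ S (ModuleCat.of O ↥ω) 0 (Ext.mk₀ (ModuleCat.ofHom g)) =
          Ext.mk₀ (ModuleCat.ofHom ι ≫ ModuleCat.ofHom g) := by
        change (Ext.mk₀ S.f).comp (Ext.mk₀ (ModuleCat.ofHom g)) (zero_add 0) = _
        rw [Ext.mk₀_comp_mk₀]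
      have h2 : e (Ext.mk₀ (ModuleCat.ofHom ι ≫ ModuleCat.ofHom g)) = g (ι 1) := by
        change (Groth.Agent.Helper8.LD.ext0Equiv O ↥ω
          (Ext.mk₀ (ModuleCat.ofHom ι ≫ ModuleCat.ofHom g))) 1 = _
        rw [Groth.Agent.Helper8.LD.ext0Equiv_mk₀]
        rfl
      change e (cψ S (ModuleCat.of O ↥ω) 0 (Ext.mk₀ (ModuleCat.ofHom g))) = f
      rw [h1, h2]
      apply Subtype.ext
      change (f : K) * algebraMap O K 1 = f
      rw [map_one, mul_one]
  have e2 := (Submodule.Quotient.equiv _ _ e hmap).length_eq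
  have h5 := length_ext_one hdim ω hωinj _ hQ
  unfold relLen
  rw [← e2, e1]
  exact h5

end Groth.Agent.Helper8.TF
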