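import Groth.Agent.Lib.Helper8.TF2

/-!
# `ℓ(ω/O) + ℓ(Õ/C) = 2 ℓ(Õ/O)` for a canonical ideal `O ⊆ ω ⊆ Õ` (S15008)
-/

set_option autoImplicit false
universe u

namespace Groth.Agent.Helper8.TF

open CategoryTheory Abelian IsLocalRing
open Groth.Agent.Helper8.W4

lemma enat_r_eq_one {A L r : ℕ∞} (hA : A ≠ ⊤) (hL : L ≠ ⊤) (hL0 : L ≠ 0)
    (h : L + A = A + r * L) : r = 1 := by
  lift A to ℕ using hA
  lift L to ℕ using hL
  have hL0' : L ≠ 0 := by exact_mod_cast hL0
  induction r using ENat.recTopCoe with
  | top =>
    exfalso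
    rw [ENat.top_mul (by exact_mod_cast hL0'), add_top] at h
    exact ENat.coe_ne_top (L + A) (by push_cast; exact h)
  | coe r =>
    have h' : L + A = A + r * L := by exact_mod_cast h
    have h2 : r * L = 1 * L := by omega
    have h3 := Nat.eq_of_mul_eq_mul_right (Nat.pos_of_ne_zero hL0') h2
    exact_mod_cast h3

variable {O : Type u} [CommRing O] [IsDomain O] [IsNoetherianRing O] [IsLocalRing O]
  (hdim : ringKrullDim O = 1)
  {K : Type u} [Field K] [Algebra O K] [IsFractionRing O K] (ω : Submodule O K)
  (hωinj : HasInjectiveDimensionLT (ModuleCat.of O ↥ω) 2)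

omit [IsNoetherianRing O] [IsLocalRing O] in
lemma lsmul_injective (x : O) (hx : x ≠ 0) : Function.Injective (LinearMap.lsmul O K x) := by
  intro y z hyz
  have h : x • y = x • z := hyz
  rw [Algebra.smul_def, Algebra.smul_def] at h
  refine mul_left_cancel₀ ?_ h
  rw [Ne, map_eq_zero_iff _ (IsFractionRing.injective O K)]
  exact hx

include hdim hωinj in
/-- the canonical ideal has type one. -/
theorem length_ext_one_residue (hω1 : (1 : Submodule O K) ≤ ω) (hωfg : ω.FG) :
    Module.length O (Ext (ModuleCat.of O (O ⧸ maximalIdeal O)) (ModuleCat.of O ↥ω) 1) = 1 := by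
  obtain ⟨x, hxm, hx0⟩ := exists_mem_maximalIdeal_ne_zero hdim
  let m : K →ₗ[O] K := LinearMap.lsmul O K x
  have hm : Function.Injective m := lsmul_injective x hx0
  have hxK : algebraMap O K x ≠ 0 := by
    rw [Ne, map_eq_zero_iff _ (IsFractionRing.injective O K)]
    exact hx0
  let b : Submodule O K := Submodule.span O {(algebraMap O K x)⁻¹}
  have hbfg : b.FG := Submodule.fg_span_singleton _
  have hbmap : b.map m = 1 := by
    rw [Submodule.map_span, Set.image_singleton, Submodule.one_eq_span]
    have h1 : m (algebraMap O K x)⁻¹ = 1 := by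
      change x • (algebraMap O K x)⁻¹ = 1
      rw [Algebra.smul_def, mul_inv_cancel₀ hxK]
    rw [h1]
  have hmle : ∀ a : Submodule O K, a.map m ≤ a := by
    rintro a _ ⟨y, hy, rfl⟩
    exact a.smul_mem x hy
  have h1b : (1 : Submodule O K) ≤ b := by
    rw [← hbmap]
    exact hmle b
  have hdiv : ω / b = ω.map m := by
    ext z
    rw [Submodule.mem_div_iff_forall_mul_mem]
    constructor
    · intro hz
      have h1 := hz _ (Submodule.subset_span (Set.mem_singleton _))
      refine ⟨z * (algebraMap O K x)⁻¹, h1, ?_⟩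
      change x • (z * (algebraMap O K x)⁻¹) = z
      rw [Algebra.smul_def]
      field_simp
    · rintro ⟨w, hw, rfl⟩ y hy
      obtain ⟨c, rfl⟩ := Submodule.mem_span_singleton.mp hy
      have h1 : m w * (c • (algebraMap O K x)⁻¹) = c • w := by
        change (x • w) * (c • (algebraMap O K x)⁻¹) = c • w
        rw [Algebra.smul_def, Algebra.smul_def, Algebra.smul_def]
        field_simp
      rw [h1]
      exact ω.smul_mem c hw
  have hB := relLen_div hdim ω hωinj b hbfg h1b
  rw [hdiv] at hB
  have h2 : relLen (1 : Submodule O K) b = relLen ((1 : Submodule O K).map m) 1 := by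
    rw [← relLen_map m hm 1 b, hbmap]
  have h3 := relLen_add (hmle 1) hω1
  have h4 := relLen_add (Submodule.map_mono hω1 : (1 : Submodule O K).map m ≤ ω.map m) (hmle ω)
  rw [relLen_map m hm 1 ω] at h4
  have hA : relLen (1 : Submodule O K) ω ≠ ⊤ := relLen_one_ne_top hdim K ω hωfg
  have hL : relLen (1 : Submodule O K) b ≠ ⊤ := relLen_one_ne_top hdim K b hbfg
  have hL0 : relLen (1 : Submodule O K) b ≠ 0 := by
    intro h0
    have hle := le_of_relLen_eq_zero h0
    have h5 : (algebraMap O K x)⁻¹ ∈ (1 : Submodule O K) :=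
      hle (Submodule.subset_span (Set.mem_singleton _))
    obtain ⟨s, hs⟩ := Submodule.mem_one.mp h5
    have h6 : algebraMap O K (x * s) = algebraMap O K 1 := by
      rw [map_mul, hs, mul_inv_cancel₀ hxK, map_one]
    have h7 : x * s = 1 := IsFractionRing.injective O K h6
    exact (IsLocalRing.mem_maximalIdeal x).mp hxm (IsUnit.of_mul_eq_one s h7)
  rw [← h2] at h3
  rw [h3, hB] at h4
  exact enat_r_eq_one hA hL hL0 h4

local notation "Õs" => Subalgebra.toSubmodule (integralClosure O K)

include hdim hωinj in
theorem main_S15008 (hfin : Module.Finite O ↥(integralClosure O K))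
    (hω1 : (1 : Submodule O K) ≤ ω) (hω2 : ω ≤ Õs) :
    Module.length O (↥ω ⧸ Submodule.comap ω.subtype (1 : Submodule O K)) +
      Module.length O (↥(integralClosure O K) ⧸
        ((1 : Submodule O K).colon (Õs : Set K)) • (⊤ : Submodule O ↥(integralClosure O K))) =
    2 * Module.length O (↥(integralClosure O K) ⧸
      Submodule.comap (Õs).subtype (1 : Submodule O K)) := by
  have hÕfg : (Õs).FG := Module.Finite.iff_fg.mp hfin
  have hωfg : ω.FG := hÕfg.of_le hω2
  have hr := length_ext_one_residue hdim ω hωinj hω1 hωfg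
  have h1Õ : (1 : Submodule O K) ≤ Õs := hω1.trans hω2
  have hone : (1 : K) ∈ ω := hω1 (Submodule.mem_one.mpr ⟨1, map_one _⟩)
  have hω0 : ω ≠ ⊥ := by
    intro h
    rw [h, Submodule.mem_bot] at hone
    exact one_ne_zero hone
  -- `ω : ω = O`
  have h1le : (1 : Submodule O K) ≤ ω / ω := by
    intro z hz
    obtain ⟨r, rfl⟩ := Submodule.mem_one.mp hz
    rw [Submodule.mem_div_iff_forall_mul_mem]
    intro y hy
    rw [← Algebra.smul_def]
    exact ω.smul_mem r hy
  have hO' : ω / ω ≤ 1 := by
    have hint : ω / ω ≤ Õs := by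
      intro z hz
      rw [Submodule.mem_div_iff_forall_mul_mem] at hz
      change z ∈ integralClosure O K
      apply isIntegral_of_smul_mem_submodule ω hω0 hωfg z
      intro n hn
      rw [smul_eq_mul]
      exact hz n hn
    have hfg' : (ω / ω).FG := hÕfg.of_le hint
    have hB := relLen_div hdim ω hωinj (ω / ω) hfg' h1le
    rw [hr, one_mul] at hB
    have hdd : ω / (ω / ω) = ω := by
      apply le_antisymm
      · intro z hz
        rw [Submodule.mem_div_iff_forall_mul_mem] at hz
        have h2 := hz 1 (h1le (Submodule.mem_one.mpr ⟨1, map_one _⟩))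
        rwa [mul_one] at h2
      · intro w hw
        rw [Submodule.mem_div_iff_forall_mul_mem]
        intro z hz
        rw [Submodule.mem_div_iff_forall_mul_mem] at hz
        rw [mul_comm]
        exact hz w hw
    rw [hdd, relLen_self] at hB
    exact le_of_relLen_eq_zero hB.symm
  -- `ω : Õ = O : Õ`
  have hC : ω / Õs = (1 : Submodule O K) / Õs := by
    apply le_antisymm
    · intro z hz
      rw [Submodule.mem_div_iff_forall_mul_mem] at hz ⊢
      intro s hs
      apply hO'
      rw [Submodule.mem_div_iff_forall_mul_mem]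
      intro w hw
      have h2 : s * w ∈ Õs := (integralClosure O K).mul_mem hs (hω2 hw)
      have h3 := hz (s * w) h2
      rwa [← mul_assoc] at h3
    · intro z hz
      rw [Submodule.mem_div_iff_forall_mul_mem] at hz ⊢
      intro s hs
      exact hω1 (hz s hs)
  have hB2 := relLen_div hdim ω hωinj (Õs) hÕfg h1Õ
  rw [hr, one_mul, hC] at hB2
  have hCK1 : (1 : Submodule O K) / Õs ≤ 1 := by
    intro z hz
    rw [Submodule.mem_div_iff_forall_mul_mem] at hz
    have h2 := hz 1 (one_mem (integralClosure O K))
    rwa [mul_one] at h2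
  have a1 := relLen_add hCK1 hω1
  have a2 := relLen_add hCK1 h1Õ
  have hEq : ((1 : Submodule O K).colon (Õs : Set K)) •
      (⊤ : Submodule O ↥(integralClosure O K)) =
      Submodule.comap (Õs).subtype ((1 : Submodule O K) / Õs) := by
    apply le_antisymm
    · rw [Submodule.smul_le]
      intro c hc s _
      rw [Submodule.mem_comap, Submodule.mem_div_iff_forall_mul_mem]
      intro t ht
      have h1 : ((c • s : ↥(integralClosure O K)) : K) * t = c • ((s : K) * t) := by
        change (c • (s : K)) * t = _
        rw [Algebra.smul_def, Algebra.smul_def]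
        ring
      change ((c • s : ↥(integralClosure O K)) : K) * t ∈ _
      rw [h1]
      exact (Submodule.mem_colon.mp hc) _ ((integralClosure O K).mul_mem s.2 ht)
    · intro s hs
      rw [Submodule.mem_comap, Submodule.mem_div_iff_forall_mul_mem] at hs
      have h1 := hs 1 (one_mem (integralClosure O K))
      rw [mul_one] at h1
      obtain ⟨c, hc⟩ := Submodule.mem_one.mp h1
      have hcC : c ∈ (1 : Submodule O K).colon (Õs : Set K) := by
        rw [Submodule.mem_colon]
        intro t ht
        rw [Algebra.smul_def, hc]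
        exact hs t ht
      have h2 : s = c • (1 : ↥(integralClosure O K)) := by
        apply Subtype.ext
        change (s : K) = c • (1 : K)
        rw [Algebra.smul_def, mul_one]
        exact hc.symm
      rw [h2]
      exact Submodule.smul_mem_smul hcC Submodule.mem_top
  rw [hEq]
  change relLen (1 : Submodule O K) ω + relLen ((1 : Submodule O K) / Õs) (Õs) =
    2 * relLen (1 : Submodule O K) (Õs)
  have h9 : relLen (1 : Submodule O K) (Õs) =
      relLen ((1 : Submodule O K) / Õs) 1 + relLen (1 : Submodule O K) ω := hB2.symm.trans a1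
  rw [a2, two_mul, ← add_assoc, add_comm (relLen (1 : Submodule O K) ω), ← h9]

end Groth.Agent.Helper8.TF
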