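import Groth.Agent.Lib.Helper8.TF3
import Groth.Agent.Lib.Helper8.Refl6

/-!
# One-dimensional local domains: reflexivity with respect to a canonical ideal
-/

set_option autoImplicit false
universe u

namespace Groth.Agent.Helper8.TF

open CategoryTheory Abelian IsLocalRing
open Groth.Agent.Helper8.W4

variable {O : Type u} [CommRing O] [IsDomain O] [IsNoetherianRing O] [IsLocalRing O]
  (hdim : ringKrullDim O = 1)
  {K : Type u} [Field K] [Algebra O K] [IsFractionRing O K] (ω : Submodule O K)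
  (hωinj : HasInjectiveDimensionLT (ModuleCat.of O ↥ω) 2) (hωfg : ω.FG)

section basic

omit [IsNoetherianRing O] [IsLocalRing O] in
lemma noZeroSMulDivisors_hom (X : Type u) [AddCommGroup X] [Module O X] :
    NoZeroSMulDivisors O (X →ₗ[O] ↥ω) := by
  refine ⟨fun {c φ} h => ?_⟩
  by_cases hc : c = 0
  · exact Or.inl hc
  · right
    apply LinearMap.ext
    intro y
    have h1 : c • φ y = 0 := by
      rw [← LinearMap.smul_apply, h]
      rfl
    have h2 : c • ((φ y : ↥ω) : K) = 0 := congrArg Subtype.val h1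
    rw [Algebra.smul_def, mul_eq_zero] at h2
    rcases h2 with h2 | h2
    · exact absurd ((map_eq_zero_iff _ (IsFractionRing.injective O K)).mp h2) hc
    · exact Subtype.ext h2

omit [IsDomain O] [IsNoetherianRing O] [IsLocalRing O] in
lemma noZeroSMulDivisors_of_injective {C T : Type*} [AddCommGroup C] [Module O C]
    [AddCommGroup T] [Module O T] [NoZeroSMulDivisors O T] (j : C →ₗ[O] T)
    (hj : Function.Injective j) : NoZeroSMulDivisors O C :=
  Function.Injective.noZeroSMulDivisors j hj (map_zero j) (fun c x => map_smul j c x)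

include hωfg in
omit [IsDomain O] [IsLocalRing O] [IsFractionRing O K] in
lemma finite_hom (X : Type u) [AddCommGroup X] [Module O X] [Module.Finite O X] :
    Module.Finite O (X →ₗ[O] ↥ω) := by
  haveI : Module.Finite O ↥ω := Module.Finite.iff_fg.mpr hωfg
  obtain ⟨b, s, hs⟩ := Module.Finite.exists_fin (R := O) (M := X)
  let φ : (X →ₗ[O] ↥ω) →ₗ[O] (Fin b → ↥ω) :=
    { toFun := fun f j => f (s j)
      map_add' := fun f g => rfl
      map_smul' := fun r f => rfl }
  have hφ : Function.Injective φ := by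
    intro f g hfg
    apply LinearMap.ext_on_range hs
    intro j
    exact congrFun hfg j
  exact Module.Finite.of_injective φ hφ

omit [IsNoetherianRing O] [IsLocalRing O] in
lemma lsmul_injective' (X : Type u) [AddCommGroup X] [Module O X] [NoZeroSMulDivisors O X]
    (x : O) (hx : x ≠ 0) : Function.Injective (LinearMap.lsmul O X x) := by
  intro a b hab
  have h1 : x • (a - b) = 0 := by
    rw [smul_sub, sub_eq_zero]
    exact hab
  rcases smul_eq_zero.mp h1 with h | h
  · exact absurd h hx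
  · exact sub_eq_zero.mp h

end basic

section vanishing

include hdim hωinj hωfg in
/-- `Ext^1(X, ω) = 0` for a finitely generated torsion-free module `X`. -/
theorem subsingleton_ext_one_of_torsionFree (X : Type u) [AddCommGroup X] [Module O X]
    [Module.Finite O X] [NoZeroSMulDivisors O X] :
    Subsingleton (Ext (ModuleCat.of O X) (ModuleCat.of O ↥ω) 1) := by
  obtain ⟨x, hxm, hx0⟩ := exists_mem_maximalIdeal_ne_zero hdim
  haveI : Module.Finite O ↥ω := Module.Finite.iff_fg.mpr hωfg
  let f : X →ₗ[O] X := LinearMap.lsmul O X x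
  have hf : Function.Injective f := lsmul_injective' X x hx0
  let S := ModuleCat.shortComplexOfCompEqZero f (LinearMap.range f).mkQ
    (LinearMap.exact_map_mkQ_range f).linearMap_comp_eq_zero
  have hS : S.ShortExact := ModuleCat.shortComplex_shortExact S (LinearMap.exact_map_mkQ_range f)
    hf (Submodule.mkQ_surjective _)
  have hsurj : Function.Surjective (cψ S (ModuleCat.of O ↥ω) 1) := by
    intro y
    haveI : Subsingleton (Ext S.X₃ (ModuleCat.of O ↥ω) (1 + 1)) :=
      subsingleton_ext_two ω hωinj _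
    exact (exact_cψ_cδ hS (ModuleCat.of O ↥ω) 1 y).mp (Subsingleton.elim _ _)
  have hψ : ∀ y : Ext (ModuleCat.of O X) (ModuleCat.of O ↥ω) 1,
      cψ S (ModuleCat.of O ↥ω) 1 y = x • y := by
    intro y
    change (Ext.mk₀ S.f).comp y (zero_add 1) = x • y
    have h1 : S.f = x • 𝟙 (ModuleCat.of O X) := by
      apply ModuleCat.hom_ext
      apply LinearMap.ext
      intro z
      rfl
    rw [h1, Ext.mk₀_smul, Ext.smul_comp, Ext.mk₀_id_comp]
  have htop : (⊤ : Submodule O (Ext (ModuleCat.of O X) (ModuleCat.of O ↥ω) 1)) = ⊥ := by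
    apply Submodule.eq_bot_of_le_smul_of_le_jacobson_bot (maximalIdeal O) ⊤ Module.Finite.fg_top
    · intro y _
      obtain ⟨z, hz⟩ := hsurj y
      rw [← hz, hψ]
      exact Submodule.smul_mem_smul hxm Submodule.mem_top
    · exact le_of_eq (IsLocalRing.jacobson_eq_maximalIdeal ⊥ bot_ne_top).symm
  refine subsingleton_of_forall_eq 0 (fun y => ?_)
  have hy : y ∈ (⊤ : Submodule O (Ext (ModuleCat.of O X) (ModuleCat.of O ↥ω) 1)) := trivial
  rw [htop] at hy
  exact hy

end vanishing

section refl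

variable (hω1 : (1 : Submodule O K) ≤ ω)

include hdim hωinj hωfg hω1 in
/-- a torsion-free module without functionals to `ω` vanishes. -/
theorem subsingleton_of_subsingleton_dual (Z : Type u) [AddCommGroup Z] [Module O Z]
    [Module.Finite O Z] [NoZeroSMulDivisors O Z] (h : Subsingleton (Z →ₗ[O] ↥ω)) :
    Subsingleton Z := by
  obtain ⟨x, hxm, hx0⟩ := exists_mem_maximalIdeal_ne_zero hdim
  have hr := length_ext_one_residue hdim ω hωinj hω1 hωfg
  let f : Z →ₗ[O] Z := LinearMap.lsmul O Z x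
  have hf : Function.Injective f := lsmul_injective' Z x hx0
  let S := ModuleCat.shortComplexOfCompEqZero f (LinearMap.range f).mkQ
    (LinearMap.exact_map_mkQ_range f).linearMap_comp_eq_zero
  have hS : S.ShortExact := ModuleCat.shortComplex_shortExact S (LinearMap.exact_map_mkQ_range f)
    hf (Submodule.mkQ_surjective _)
  haveI h0 : Subsingleton (Ext (ModuleCat.of O Z) (ModuleCat.of O ↥ω) 0) :=
    (Groth.Agent.Helper8.LD.ext0Equiv Z ↥ω).toEquiv.subsingleton
  haveI h1 : Subsingleton (Ext (ModuleCat.of O Z) (ModuleCat.of O ↥ω) 1) :=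
    subsingleton_ext_one_of_torsionFree hdim ω hωinj hωfg Z
  have hQ0 : ∀ y : Ext (ModuleCat.of O (Z ⧸ LinearMap.range f)) (ModuleCat.of O ↥ω) 1, y = 0 := by
    intro y
    obtain ⟨z, rfl⟩ := (exact_cδ_cφ hS (ModuleCat.of O ↥ω) 0 y).mp
      (Subsingleton.elim (α := Ext (ModuleCat.of O Z) (ModuleCat.of O ↥ω) 1) _ _)
    have hz0 : z = 0 := Subsingleton.elim (α := Ext (ModuleCat.of O Z) (ModuleCat.of O ↥ω) 0) _ _
    rw [hz0, map_zero]
  haveI : Subsingleton (Ext (ModuleCat.of O (Z ⧸ LinearMap.range f)) (ModuleCat.of O ↥ω) 1) :=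
    subsingleton_of_forall_eq 0 hQ0
  have hfl : IsFiniteLength O (Z ⧸ LinearMap.range f) := by
    apply isFiniteLength_of_smul_eq_zero hdim _ x hx0
    intro t
    obtain ⟨z, rfl⟩ := Submodule.mkQ_surjective _ t
    rw [Submodule.mkQ_apply, ← Submodule.Quotient.mk_smul, Submodule.Quotient.mk_eq_zero]
    exact ⟨z, rfl⟩
  have h2 := length_ext_one hdim ω hωinj _ hfl
  rw [hr, one_mul, Module.length_eq_zero] at h2
  have h3 : Subsingleton (Z ⧸ LinearMap.range f) := Module.length_eq_zero_iff.mp h2.symm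
  have htop : (⊤ : Submodule O Z) = ⊥ := by
    apply Submodule.eq_bot_of_le_smul_of_le_jacobson_bot (maximalIdeal O) ⊤ Module.Finite.fg_top
    · intro y _
      have h4 : (Submodule.Quotient.mk y : Z ⧸ LinearMap.range f) = 0 := Subsingleton.elim _ _
      rw [Submodule.Quotient.mk_eq_zero] at h4
      obtain ⟨z, rfl⟩ := h4
      exact Submodule.smul_mem_smul hxm Submodule.mem_top
    · exact le_of_eq (IsLocalRing.jacobson_eq_maximalIdeal ⊥ bot_ne_top).symm
  refine subsingleton_of_forall_eq 0 (fun y => ?_)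
  have hy : y ∈ (⊤ : Submodule O Z) := trivial
  rw [htop] at hy
  exact hy

include hdim hωinj hωfg hω1 in
/-- the evaluation map `X → X**` is injective for torsion-free `X`. -/
theorem applyₗ_injective (X : Type u) [AddCommGroup X] [Module O X] [Module.Finite O X]
    [NoZeroSMulDivisors O X] :
    Function.Injective (LinearMap.applyₗ : X →ₗ[O] (X →ₗ[O] ↥ω) →ₗ[O] ↥ω) := by
  set η : X →ₗ[O] (X →ₗ[O] ↥ω) →ₗ[O] ↥ω := LinearMap.applyₗ with hη
  haveI : NoZeroSMulDivisors O ((X →ₗ[O] ↥ω) →ₗ[O] ↥ω) := noZeroSMulDivisors_hom ω (X →ₗ[O] ↥ω)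
  let Z : Submodule O X := LinearMap.ker η
  haveI : NoZeroSMulDivisors O (X ⧸ LinearMap.range Z.subtype) := by
    refine ⟨fun {c t} h => ?_⟩
    by_cases hc : c = 0
    · exact Or.inl hc
    · right
      obtain ⟨x, rfl⟩ := Submodule.Quotient.mk_surjective _ t
      rw [← Submodule.Quotient.mk_smul, Submodule.Quotient.mk_eq_zero,
        Submodule.range_subtype] at h
      rw [Submodule.Quotient.mk_eq_zero, Submodule.range_subtype]
      have h1 : c • η x = 0 := by
        rw [← map_smul]
        exact h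
      rcases smul_eq_zero.mp h1 with h2 | h2
      · exact absurd h2 hc
      · exact h2
  have hExt := subsingleton_ext_one_of_torsionFree hdim ω hωinj hωfg
    (X ⧸ LinearMap.range Z.subtype)
  haveI : NoZeroSMulDivisors O ↥Z := noZeroSMulDivisors_of_injective Z.subtype Z.injective_subtype
  have hdual : Subsingleton (↥Z →ₗ[O] ↥ω) := by
    refine subsingleton_of_forall_eq 0 (fun ζ => ?_)
    obtain ⟨ψ, hψ⟩ := Groth.Agent.Helper8.Refl.exists_extension_of_ext_one O Z.subtype
      Z.injective_subtype hExt ζ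
    apply LinearMap.ext
    intro z
    rw [← hψ]
    have hz : η z.1 = 0 := z.2
    exact LinearMap.congr_fun hz ψ
  have hZ := subsingleton_of_subsingleton_dual hdim ω hωinj hωfg hω1 ↥Z hdual
  intro a b hab
  have hmem : a - b ∈ Z := by
    change η (a - b) = 0
    rw [map_sub, sub_eq_zero]
    exact hab
  have h0 : (⟨a - b, hmem⟩ : ↥Z) = 0 := Subsingleton.elim _ _
  exact sub_eq_zero.mp (congrArg Subtype.val h0)

variable (hfin : Module.Finite O ↥(integralClosure O K))

include hdim hωinj hωfg hω1 hfin in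
theorem div_self_le_one : ω / ω ≤ 1 := by
  have hÕfg : (Subalgebra.toSubmodule (integralClosure O K)).FG := Module.Finite.iff_fg.mp hfin
  have hr := length_ext_one_residue hdim ω hωinj hω1 hωfg
  have hone : (1 : K) ∈ ω := hω1 (Submodule.mem_one.mpr ⟨1, map_one _⟩)
  have hω0 : ω ≠ ⊥ := by
    intro h
    rw [h, Submodule.mem_bot] at hone
    exact one_ne_zero hone
  have h1le : (1 : Submodule O K) ≤ ω / ω := by
    intro z hz
    obtain ⟨r, rfl⟩ := Submodule.mem_one.mp hz
    rw [Submodule.mem_div_iff_forall_mul_mem]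
    intro y hy
    rw [← Algebra.smul_def]
    exact ω.smul_mem r hy
  have hint : ω / ω ≤ Subalgebra.toSubmodule (integralClosure O K) := by
    intro z hz
    rw [Submodule.mem_div_iff_forall_mul_mem] at hz
    change z ∈ integralClosure O K
    apply isIntegral_of_smul_mem_submodule ω hω0 hωfg z
    intro n hn
    rw [smul_eq_mul]
    exact hz n hn
  have hfg' : (ω / ω).FG := hÕfg.of_le hint
  have hB := relLen_div hdim ω hωinj (ω / ω) hfg' h1le
  rw [hr, one_mul] at hB
  have hdd : ω / (ω / ω) = ω := by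
    apply le_antisymm
    · intro z hz
      rw [Submodule.mem_div_iff_forall_mul_mem] at hz
      have h2 := hz 1 (h1le (Submodule.mem_one.mpr ⟨1, map_one _⟩))
      rwa [mul_one] at h2
    · intro w hw
      rw [Submodule.mem_div_iff_forall_mul_mem]
      intro z hz
      rw [Submodule.mem_div_iff_forall_mul_mem] at hz
      rw [mul_comm]
      exact hz w hw
  rw [hdd, relLen_self] at hB
  exact le_of_relLen_eq_zero hB.symm

include hdim hωinj hωfg hω1 hfin in
/-- every endomorphism of `ω` is a homothety. -/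
theorem exists_end_eq_smul (g : ↥ω →ₗ[O] ↥ω) : ∃ a : O, ∀ y : ↥ω, g y = a • y := by
  have hone : (1 : K) ∈ ω := hω1 (Submodule.mem_one.mpr ⟨1, map_one _⟩)
  let y₀ : ↥ω := ⟨1, hone⟩
  have key : ∀ y : ↥ω, ((g y : ↥ω) : K) = ((g y₀ : ↥ω) : K) * (y : K) := by
    intro y
    have h1 : ((g y : ↥ω) : K) * (1 : K) = ((g y₀ : ↥ω) : K) * (y : K) :=
      hom_apply_eq_mul ω ω g y₀ y
    rwa [mul_one] at h1
  have hb : ((g y₀ : ↥ω) : K) ∈ ω / ω := by
    rw [Submodule.mem_div_iff_forall_mul_mem]
    intro y hy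
    rw [← key ⟨y, hy⟩]
    exact (g ⟨y, hy⟩).2
  obtain ⟨a, ha⟩ := Submodule.mem_one.mp (div_self_le_one hdim ω hωinj hωfg hω1 hfin hb)
  refine ⟨a, fun y => ?_⟩
  apply Subtype.ext
  change ((g y : ↥ω) : K) = a • (y : K)
  rw [Algebra.smul_def, ha]
  exact key y

omit [IsDomain O] [IsNoetherianRing O] [IsLocalRing O] [IsFractionRing O K] in
lemma sum_smulRight (n : ℕ) (φ : (Fin n → O) →ₗ[O] ↥ω) :
    ∑ k, LinearMap.smulRightₗ (LinearMap.proj k : (Fin n → O) →ₗ[O] O)
      (φ (fun j => if k = j then 1 else 0)) = φ := by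
  apply LinearMap.ext
  intro v
  rw [LinearMap.sum_apply, LinearMap.pi_apply_eq_sum_univ φ v]
  apply Finset.sum_congr rfl
  intro k _
  rfl

include hdim hωinj hωfg hω1 hfin in
/-- free modules are reflexive with respect to `ω`. -/
theorem applyₗ_surjective_free (n : ℕ) :
    Function.Surjective
      (LinearMap.applyₗ : (Fin n → O) →ₗ[O] ((Fin n → O) →ₗ[O] ↥ω) →ₗ[O] ↥ω) := by
  intro Ψ
  have hk : ∀ k : Fin n, ∃ a : O, ∀ y : ↥ω,
      Ψ (LinearMap.smulRightₗ (LinearMap.proj k : (Fin n → O) →ₗ[O] O) y) = a • y := by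
    intro k
    exact exists_end_eq_smul hdim ω hωinj hωfg hω1 hfin
      (Ψ ∘ₗ LinearMap.smulRightₗ (LinearMap.proj k : (Fin n → O) →ₗ[O] O))
  choose a ha using hk
  refine ⟨a, ?_⟩
  apply LinearMap.ext
  intro φ
  change φ a = Ψ φ
  conv_rhs => rw [← sum_smulRight ω n φ]
  rw [map_sum, LinearMap.pi_apply_eq_sum_univ φ a]
  apply Finset.sum_congr rfl
  intro k _
  rw [ha]

omit [IsDomain O] [IsNoetherianRing O] [IsLocalRing O] in
lemma exists_factor {X Y Z : Type*} [AddCommGroup X] [Module O X] [AddCommGroup Y] [Module O Y]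
    [AddCommGroup Z] [Module O Z] (π : X →ₗ[O] Y) (hπ : Function.Surjective π)
    (φ : X →ₗ[O] Z) (h : LinearMap.ker π ≤ LinearMap.ker φ) :
    ∃ φ' : Y →ₗ[O] Z, φ' ∘ₗ π = φ := by
  refine ⟨((LinearMap.ker π).liftQ φ h) ∘ₗ (π.quotKerEquivOfSurjective hπ).symm.toLinearMap, ?_⟩
  apply LinearMap.ext
  intro x
  have h1 : (π.quotKerEquivOfSurjective hπ).symm (π x) = Submodule.Quotient.mk x := by
    rw [LinearEquiv.symm_apply_eq, LinearMap.quotKerEquivOfSurjective_apply_mk]
  rw [LinearMap.comp_apply, LinearMap.comp_apply, LinearEquiv.coe_coe, h1,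
    Submodule.liftQ_apply]

end refl

section abstract

variable {A : Type u} [CommRing A] {W : Type u} [AddCommGroup W] [Module A W]

lemma noZeroSMulDivisors_homW [NoZeroSMulDivisors A W] (X : Type u) [AddCommGroup X]
    [Module A X] : NoZeroSMulDivisors A (X →ₗ[A] W) := by
  refine ⟨fun {c φ} h => ?_⟩
  by_cases hc : c = 0
  · exact Or.inl hc
  · right
    apply LinearMap.ext
    intro y
    have h1 : c • φ y = 0 := by
      rw [← LinearMap.smul_apply, h]
      rfl
    rcases NoZeroSMulDivisors.eq_zero_or_eq_zero_of_smul_eq_zero h1 with h2 | h2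
    · exact absurd h2 hc
    · exact h2

lemma finite_homW [IsNoetherianRing A] [Module.Finite A W] (X : Type u) [AddCommGroup X]
    [Module A X] [Module.Finite A X] : Module.Finite A (X →ₗ[A] W) := by
  obtain ⟨b, s, hs⟩ := Module.Finite.exists_fin (R := A) (M := X)
  let φ : (X →ₗ[A] W) →ₗ[A] (Fin b → W) :=
    { toFun := fun f j => f (s j)
      map_add' := fun f g => rfl
      map_smul' := fun r f => rfl }
  have hφ : Function.Injective φ := by
    intro f g hfg
    apply LinearMap.ext_on_range hs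
    intro j
    exact congrFun hfg j
  exact Module.Finite.of_injective φ hφ

/-- reflexivity of free modules implies surjectivity of the evaluation map for all finitely
generated modules, provided `Ext¹(C, W) = 0` for finitely generated torsion-free `C`. -/
theorem applyₗ_surjective_of_free [IsNoetherianRing A] [NoZeroSMulDivisors A W]
    [Module.Finite A W]
    (hExt : ∀ (C : Type u) [AddCommGroup C] [Module A C] [Module.Finite A C]
      [NoZeroSMulDivisors A C], Subsingleton (Ext (ModuleCat.of A C) (ModuleCat.of A W) 1))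
    (hfree : ∀ n : ℕ, Function.Surjective
      (LinearMap.applyₗ : (Fin n → A) →ₗ[A] ((Fin n → A) →ₗ[A] W) →ₗ[A] W))
    (X : Type u) [AddCommGroup X] [Module A X] [Module.Finite A X] :
    Function.Surjective (LinearMap.applyₗ : X →ₗ[A] (X →ₗ[A] W) →ₗ[A] W) := by
  intro ψ
  obtain ⟨n, π, hπ⟩ := Module.Finite.exists_fin' A X
  let Dπ : (X →ₗ[A] W) →ₗ[A] ((Fin n → A) →ₗ[A] W) := LinearMap.lcomp A W π
  have hDπ : Function.Injective Dπ := by
    intro φ₁ φ₂ h
    apply LinearMap.ext
    intro x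
    obtain ⟨v, rfl⟩ := hπ x
    exact LinearMap.congr_fun h v
  haveI : Module.Finite A ((Fin n → A) →ₗ[A] W) := finite_homW (Fin n → A)
  haveI : NoZeroSMulDivisors A (((Fin n → A) →ₗ[A] W) ⧸ LinearMap.range Dπ) := by
    refine ⟨fun {c t} h => ?_⟩
    by_cases hc : c = 0
    · exact Or.inl hc
    · right
      obtain ⟨φ, rfl⟩ := Submodule.Quotient.mk_surjective _ t
      rw [← Submodule.Quotient.mk_smul, Submodule.Quotient.mk_eq_zero] at h
      rw [Submodule.Quotient.mk_eq_zero]
      obtain ⟨φ', hφ'⟩ := h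
      have hker : LinearMap.ker π ≤ LinearMap.ker φ := by
        intro v hv
        have h2 : φ' (π v) = c • φ v := LinearMap.congr_fun hφ' v
        rw [LinearMap.mem_ker.mp hv, map_zero] at h2
        rcases NoZeroSMulDivisors.eq_zero_or_eq_zero_of_smul_eq_zero h2.symm with h4 | h4
        · exact absurd h4 hc
        · exact LinearMap.mem_ker.mpr h4
      obtain ⟨φ'', hφ''⟩ := exists_factor π hπ φ hker
      exact ⟨φ'', hφ''⟩
  have hExt' := hExt (((Fin n → A) →ₗ[A] W) ⧸ LinearMap.range Dπ)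
  obtain ⟨Ψ, hΨ⟩ := Groth.Agent.Helper8.Refl.exists_extension_of_ext_one A Dπ hDπ hExt' ψ
  obtain ⟨v, hv⟩ := hfree n Ψ
  refine ⟨π v, ?_⟩
  apply LinearMap.ext
  intro φ
  rw [← hΨ, ← hv]
  rfl

/-- reflexivity is invariant under isomorphisms of the dualizing module. -/
theorem applyₗ_bijective_of_linearEquiv {W' : Type u} [AddCommGroup W'] [Module A W']
    (e : W ≃ₗ[A] W') (X : Type u) [AddCommGroup X] [Module A X]
    (h : Function.Bijective (LinearMap.applyₗ : X →ₗ[A] (X →ₗ[A] W') →ₗ[A] W')) :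
    Function.Bijective (LinearMap.applyₗ : X →ₗ[A] (X →ₗ[A] W) →ₗ[A] W) := by
  constructor
  · intro x y hxy
    apply h.1
    apply LinearMap.ext
    intro φ'
    have h1 : e.symm (φ' x) = e.symm (φ' y) :=
      LinearMap.congr_fun hxy (e.symm.toLinearMap ∘ₗ φ')
    exact e.symm.injective h1
  · intro Φ
    let Φ' : (X →ₗ[A] W') →ₗ[A] W' :=
      e.toLinearMap ∘ₗ Φ ∘ₗ (LinearMap.llcomp A X W' W e.symm.toLinearMap)
    obtain ⟨x, hx⟩ := h.2 Φ'
    refine ⟨x, ?_⟩
    apply LinearMap.ext
    intro φ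
    have h1 : e (φ x) =
        e (Φ (LinearMap.llcomp A X W' W e.symm.toLinearMap (e.toLinearMap ∘ₗ φ))) :=
      LinearMap.congr_fun hx (e.toLinearMap ∘ₗ φ)
    have h2 : LinearMap.llcomp A X W' W e.symm.toLinearMap (e.toLinearMap ∘ₗ φ) = φ := by
      apply LinearMap.ext
      intro z
      simp
    rw [h2] at h1
    exact e.injective h1

end abstract

section refl2

variable (hω1 : (1 : Submodule O K) ≤ ω) (hfin : Module.Finite O ↥(integralClosure O K))

omit [IsNoetherianRing O] [IsLocalRing O] in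
lemma noZeroSMulDivisors_ω : NoZeroSMulDivisors O ↥ω := by
  refine ⟨fun {c y} h => ?_⟩
  by_cases hc : c = 0
  · exact Or.inl hc
  · right
    have h2 : c • ((y : ↥ω) : K) = 0 := congrArg Subtype.val h
    rw [Algebra.smul_def, mul_eq_zero] at h2
    rcases h2 with h2 | h2
    · exact absurd ((map_eq_zero_iff _ (IsFractionRing.injective O K)).mp h2) hc
    · exact Subtype.ext h2

include hdim hωinj hωfg hω1 hfin in
/-- finitely generated torsion-free modules are reflexive with respect to `ω ∋ 1`. -/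
theorem applyₗ_bijective (X : Type u) [AddCommGroup X] [Module O X] [Module.Finite O X]
    [NoZeroSMulDivisors O X] :
    Function.Bijective (LinearMap.applyₗ : X →ₗ[O] (X →ₗ[O] ↥ω) →ₗ[O] ↥ω) := by
  haveI := noZeroSMulDivisors_ω ω
  haveI : Module.Finite O ↥ω := Module.Finite.iff_fg.mpr hωfg
  refine ⟨applyₗ_injective hdim ω hωinj hωfg hω1 X, ?_⟩
  exact applyₗ_surjective_of_free (W := ↥ω)
    (fun C _ _ _ _ => subsingleton_ext_one_of_torsionFree hdim ω hωinj hωfg C)
    (fun n => applyₗ_surjective_free hdim ω hωinj hωfg hω1 hfin n) X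

include hdim hωinj hωfg hfin in
/-- finitely generated torsion-free modules are reflexive with respect to any canonical
ideal `ω ≠ 0`. -/
theorem applyₗ_bijective_general (hω0 : ω ≠ ⊥) (X : Type u) [AddCommGroup X] [Module O X]
    [Module.Finite O X] [NoZeroSMulDivisors O X] :
    Function.Bijective (LinearMap.applyₗ : X →ₗ[O] (X →ₗ[O] ↥ω) →ₗ[O] ↥ω) := by
  obtain ⟨c, hcω, hc0⟩ := (Submodule.ne_bot_iff ω).mp hω0
  let m : K →ₗ[O] K := LinearMap.mulLeft O c⁻¹
  have hm : Function.Injective m := by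
    intro a b hab
    exact mul_left_cancel₀ (inv_ne_zero hc0) hab
  let ω' : Submodule O K := ω.map m
  let e : ↥ω ≃ₗ[O] ↥ω' := Submodule.equivMapOfInjective m hm ω
  have hω'1 : (1 : Submodule O K) ≤ ω' := by
    rw [Submodule.one_le]
    exact Submodule.mem_map.mpr ⟨c, hcω, (inv_mul_cancel₀ hc0 : m c = 1)⟩
  have hω'fg : ω'.FG := hωfg.map m
  haveI : HasInjectiveDimensionLT (ModuleCat.of O ↥ω) 2 := hωinj
  have hω'inj : HasInjectiveDimensionLT (ModuleCat.of O ↥ω') 2 :=
    hasInjectiveDimensionLT_of_iso e.toModuleIso 2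
  exact applyₗ_bijective_of_linearEquiv e X
    (applyₗ_bijective hdim ω' hω'inj hω'fg hω'1 hfin X)

end refl2

end Groth.Agent.Helper8.TF
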