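import Groth.Agent.Lib.Helper8.TF4

/-!
# Duality on `Ext` for maximal Cohen–Macaulay modules over a one-dimensional domain

Abstract form: `W` is a finitely generated torsion-free module such that `Ext^j(C, W) = 0` for
`j ≥ 1` and all finitely generated torsion-free `C`, and such that all those `C` are
`W`-reflexive.  Then `Ext^i(M, N) ≃+ Ext^i(Hom(N, W), Hom(M, W))`.
-/

set_option autoImplicit false
universe u

namespace Groth.Agent.Helper8.TF

open CategoryTheory Abelian
open Groth.Agent.Helper8.W4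

section general

variable {R : Type u} [CommRing R]

/-- `Ext` only depends on the isomorphism class of the second variable. -/
noncomputable def extCongrRight (X : ModuleCat.{u} R) {N N' : ModuleCat.{u} R} (e : N ≅ N')
    (j : ℕ) : Ext X N j ≃+ Ext X N' j :=
  { (Ext.mk₀ e.hom).postcomp X (add_zero j) with
    invFun := fun y => y.comp (Ext.mk₀ e.inv) (add_zero j)
    left_inv := fun x => by
      change (x.comp (Ext.mk₀ e.hom) (add_zero j)).comp (Ext.mk₀ e.inv) (add_zero j) = x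
      rw [Ext.comp_assoc_of_third_deg_zero, Ext.mk₀_comp_mk₀, e.hom_inv_id, Ext.comp_mk₀_id]
    right_inv := fun y => by
      change (y.comp (Ext.mk₀ e.inv) (add_zero j)).comp (Ext.mk₀ e.hom) (add_zero j) = y
      rw [Ext.comp_assoc_of_third_deg_zero, Ext.mk₀_comp_mk₀, e.inv_hom_id, Ext.comp_mk₀_id] }

variable {S : ShortComplex (ModuleCat.{u} R)} (hS : S.ShortExact)

theorem bijective_cδ (N : ModuleCat.{u} R) (i : ℕ) (h1 : Subsingleton (Ext S.X₂ N i))
    (h2 : Subsingleton (Ext S.X₂ N (i + 1))) : Function.Bijective (cδ hS N i) := by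
  constructor
  · rw [injective_iff_map_eq_zero]
    intro x hx
    obtain ⟨z, rfl⟩ := (exact_cψ_cδ hS N i x).mp hx
    rw [Subsingleton.elim z 0, map_zero]
  · intro y
    exact (exact_cδ_cφ hS N i y).mp (Subsingleton.elim _ _)

theorem bijective_postcomp_extClass (A : ModuleCat.{u} R) (i : ℕ)
    (h1 : Subsingleton (Ext A S.X₂ i)) (h2 : Subsingleton (Ext A S.X₂ (i + 1))) :
    Function.Bijective (hS.extClass.postcomp A (rfl : i + 1 = i + 1)) := by
  constructor
  · rw [injective_iff_map_eq_zero]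
    intro x₃ hx₃
    obtain ⟨x₂, rfl⟩ := Ext.covariant_sequence_exact₃ A hS x₃ rfl hx₃
    rw [Subsingleton.elim x₂ 0, Ext.zero_comp]
  · intro x₁
    exact Ext.covariant_sequence_exact₁ A hS x₁ (Subsingleton.elim _ _) rfl

theorem cδ_mk₀_eq_zero_iff (N : ModuleCat.{u} R) (h : S.X₁ ⟶ N) :
    cδ hS N 0 (Ext.mk₀ h) = 0 ↔ ∃ f : S.X₂ ⟶ N, S.f ≫ f = h := by
  constructor
  · intro h0
    obtain ⟨x₂, hx₂⟩ := (exact_cψ_cδ hS N 0 (Ext.mk₀ h)).mp h0
    obtain ⟨f, rfl⟩ := (Ext.mk₀_bijective _ _).2 x₂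
    refine ⟨f, ?_⟩
    apply (Ext.mk₀_bijective _ _).1
    rw [← hx₂]
    change _ = (Ext.mk₀ S.f).comp (Ext.mk₀ f) (zero_add 0)
    rw [Ext.mk₀_comp_mk₀]
  · rintro ⟨f, rfl⟩
    have h1 : Ext.mk₀ (S.f ≫ f) = cψ S N 0 (Ext.mk₀ f) := by
      change _ = (Ext.mk₀ S.f).comp (Ext.mk₀ f) (zero_add 0)
      rw [Ext.mk₀_comp_mk₀]
    rw [h1]
    exact (exact_cψ_cδ hS N 0 _).mpr ⟨_, rfl⟩

theorem mk₀_comp_extClass_eq_zero_iff (A : ModuleCat.{u} R) (h : A ⟶ S.X₃) :
    (Ext.mk₀ h).comp hS.extClass (zero_add 1) = 0 ↔ ∃ f : A ⟶ S.X₂, f ≫ S.g = h := by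
  constructor
  · intro h0
    obtain ⟨x₂, hx₂⟩ := Ext.covariant_sequence_exact₃ A hS (Ext.mk₀ h) (zero_add 1) h0
    obtain ⟨f, rfl⟩ := (Ext.mk₀_bijective _ _).2 x₂
    refine ⟨f, ?_⟩
    apply (Ext.mk₀_bijective _ _).1
    rw [← hx₂, Ext.mk₀_comp_mk₀]
  · rintro ⟨f, rfl⟩
    rw [← Ext.mk₀_comp_mk₀, Ext.comp_assoc (Ext.mk₀ f) (Ext.mk₀ S.g) hS.extClass (zero_add 0)
      (zero_add 1) (by omega), hS.comp_extClass, Ext.comp_zero]

theorem nonempty_addEquiv_of_surjective {B C B' C' : Type*} [AddCommGroup B] [AddCommGroup C]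
    [AddCommGroup B'] [AddCommGroup C']
    (g : B →+ C) (hg : Function.Surjective g) (g' : B' →+ C') (hg' : Function.Surjective g')
    (β : B ≃+ B') (hβ : ∀ b, g b = 0 ↔ g' (β b) = 0) : Nonempty (C ≃+ C') := by
  have he : AddSubgroup.map (β : B →+ B') g.ker = g'.ker := by
    ext b'
    rw [AddSubgroup.mem_map, AddMonoidHom.mem_ker]
    constructor
    · rintro ⟨b, hb, rfl⟩
      exact (hβ b).mp (AddMonoidHom.mem_ker.mp hb)
    · intro hb'
      refine ⟨β.symm b', ?_, β.apply_symm_apply b'⟩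
      rw [AddMonoidHom.mem_ker, hβ, β.apply_symm_apply]
      exact hb'
  exact ⟨(QuotientAddGroup.quotientKerEquivOfSurjective g hg).symm.trans
    ((QuotientAddGroup.congr g.ker g'.ker β he).trans
      (QuotientAddGroup.quotientKerEquivOfSurjective g' hg'))⟩

end general

section duality

variable {O : Type u} [CommRing O] (W : Type u) [AddCommGroup W] [Module O W]

section dualseq

variable {X₁ X₂ X₃ : Type u} [AddCommGroup X₁] [Module O X₁] [AddCommGroup X₂] [Module O X₂]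
  [AddCommGroup X₃] [Module O X₃] (f : X₁ →ₗ[O] X₂) (g : X₂ →ₗ[O] X₃)

lemma lcomp_injective (hg : Function.Surjective g) :
    Function.Injective (LinearMap.lcomp O W g) := by
  intro φ₁ φ₂ h
  apply LinearMap.ext
  intro x
  obtain ⟨v, rfl⟩ := hg x
  exact LinearMap.congr_fun h v

lemma lcomp_exact (hfg : Function.Exact f g) (hg : Function.Surjective g) :
    Function.Exact (LinearMap.lcomp O W g) (LinearMap.lcomp O W f) := by
  intro φ
  constructor
  · intro hφ
    have hker : LinearMap.ker g ≤ LinearMap.ker φ := by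
      intro v hv
      obtain ⟨u, rfl⟩ := (hfg v).mp hv
      exact LinearMap.congr_fun hφ u
    obtain ⟨φ', hφ'⟩ := exists_factor g hg φ hker
    exact ⟨φ', hφ'⟩
  · rintro ⟨φ', rfl⟩
    apply LinearMap.ext
    intro u
    change φ' (g (f u)) = 0
    rw [hfg.apply_apply_eq_zero, map_zero]

lemma lcomp_surjective (hf : Function.Injective f) (hfg : Function.Exact f g)
    (hg : Function.Surjective g)
    (hExt : Subsingleton (Ext (ModuleCat.of O X₃) (ModuleCat.of O W) 1)) :
    Function.Surjective (LinearMap.lcomp O W f) := by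
  intro ζ
  let T : ShortComplex (ModuleCat.{u} O) :=
    ModuleCat.shortComplexOfCompEqZero f g hfg.linearMap_comp_eq_zero
  have hT : T.ShortExact := ModuleCat.shortComplex_shortExact T hfg hf hg
  have : Subsingleton (Ext T.X₃ (ModuleCat.of O W) 1) := hExt
  obtain ⟨x₂, hx₂⟩ := Ext.contravariant_sequence_exact₁ hT (ModuleCat.of O W)
    (Ext.mk₀ (ModuleCat.ofHom ζ)) (by norm_num : 1 + 0 = 1) (Subsingleton.elim _ _)
  obtain ⟨ψ, rfl⟩ := (Ext.mk₀_bijective _ _).2 x₂
  rw [Ext.mk₀_comp_mk₀, (Ext.mk₀_bijective _ _).1.eq_iff] at hx₂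
  refine ⟨ψ.hom, ?_⟩
  apply LinearMap.ext
  intro x
  have h1 := congrArg (fun t => t.hom x) hx₂
  exact h1

end dualseq

section dmap

variable (M N : Type u) [AddCommGroup M] [Module O M] [AddCommGroup N] [Module O N]

/-- the functor `Hom(-, W)` on morphisms is bijective onto a reflexive target. -/
theorem dmap_bijective
    (hN : Function.Bijective (LinearMap.applyₗ : N →ₗ[O] (N →ₗ[O] W) →ₗ[O] W)) :
    Function.Bijective ((LinearMap.llcomp O M N W).flip :
      (M →ₗ[O] N) →ₗ[O] (N →ₗ[O] W) →ₗ[O] (M →ₗ[O] W)) := by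
  constructor
  · intro f₁ f₂ h
    apply LinearMap.ext
    intro m
    apply hN.1
    apply LinearMap.ext
    intro φ
    have h1 : φ (f₁ m) = φ (f₂ m) := LinearMap.congr_fun (LinearMap.congr_fun h φ) m
    exact h1
  · intro γ
    let E := LinearEquiv.ofBijective (LinearMap.applyₗ : N →ₗ[O] (N →ₗ[O] W) →ₗ[O] W) hN
    refine ⟨E.symm.toLinearMap ∘ₗ γ.flip, ?_⟩
    apply LinearMap.ext
    intro φ
    apply LinearMap.ext
    intro m
    change φ (E.symm (γ.flip m)) = γ φ m
    have h1 : E (E.symm (γ.flip m)) = γ.flip m := E.apply_symm_apply _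
    have h2 : φ (E.symm (γ.flip m)) = γ φ m := LinearMap.congr_fun h1 φ
    exact h2

/-- the degree-zero duality isomorphism. -/
noncomputable def β₀
    (hN : Function.Bijective (LinearMap.applyₗ : N →ₗ[O] (N →ₗ[O] W) →ₗ[O] W)) :
    Ext (ModuleCat.of O M) (ModuleCat.of O N) 0 ≃+
      Ext (ModuleCat.of O (N →ₗ[O] W)) (ModuleCat.of O (M →ₗ[O] W)) 0 :=
  (Groth.Agent.Helper8.LD.ext0Equiv M N).toAddEquiv.trans
    ((AddEquiv.ofBijective ((LinearMap.llcomp O M N W).flip.toAddMonoidHom)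
      (dmap_bijective W M N hN)).trans
      (Groth.Agent.Helper8.LD.ext0Equiv (N →ₗ[O] W) (M →ₗ[O] W)).symm.toAddEquiv)

lemma β₀_mk₀ (hN : Function.Bijective (LinearMap.applyₗ : N →ₗ[O] (N →ₗ[O] W) →ₗ[O] W))
    (h : M →ₗ[O] N) :
    β₀ W M N hN (Ext.mk₀ (ModuleCat.ofHom h)) =
      Ext.mk₀ (ModuleCat.ofHom ((LinearMap.llcomp O M N W).flip h)) := by
  have h1 : Groth.Agent.Helper8.LD.ext0Equiv M N (Ext.mk₀ (ModuleCat.ofHom h)) = h :=
    Groth.Agent.Helper8.LD.ext0Equiv_mk₀ _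
  have h2 : Groth.Agent.Helper8.LD.ext0Equiv (N →ₗ[O] W) (M →ₗ[O] W)
      (Ext.mk₀ (ModuleCat.ofHom ((LinearMap.llcomp O M N W).flip h))) =
      (LinearMap.llcomp O M N W).flip h := Groth.Agent.Helper8.LD.ext0Equiv_mk₀ _
  change (Groth.Agent.Helper8.LD.ext0Equiv (N →ₗ[O] W) (M →ₗ[O] W)).symm
    ((LinearMap.llcomp O M N W).flip
      (Groth.Agent.Helper8.LD.ext0Equiv M N (Ext.mk₀ (ModuleCat.ofHom h)))) = _
  rw [h1, LinearEquiv.symm_apply_eq, h2]

end dmap

section vanish

/-- `Ext^j(C, Hom(A^n, W)) = 0` as soon as `Ext^j(C, W) = 0`. -/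
theorem subsingleton_ext_dualFree (C : ModuleCat.{u} O) (n j : ℕ)
    (h : Subsingleton (Ext C (ModuleCat.of O W) j)) :
    Subsingleton (Ext C (ModuleCat.of O ((Fin n → O) →ₗ[O] W)) j) := by
  refine subsingleton_of_forall_eq 0 (fun x => ?_)
  have hid : 𝟙 (ModuleCat.of O ((Fin n → O) →ₗ[O] W)) =
      ∑ k : Fin n, ModuleCat.ofHom
          (LinearMap.applyₗ (fun j => if k = j then (1 : O) else 0) :
            ((Fin n → O) →ₗ[O] W) →ₗ[O] W) ≫
        ModuleCat.ofHom (LinearMap.smulRightₗ (LinearMap.proj k : (Fin n → O) →ₗ[O] O) :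
          W →ₗ[O] ((Fin n → O) →ₗ[O] W)) := by
    apply ModuleCat.hom_ext
    apply LinearMap.ext
    intro φ
    apply LinearMap.ext
    intro v
    rw [ModuleCat.hom_sum, LinearMap.sum_apply, LinearMap.sum_apply]
    change φ v = _
    rw [LinearMap.pi_apply_eq_sum_univ φ v]
    apply Finset.sum_congr rfl
    intro k _
    rfl
  rw [← Ext.comp_mk₀_id x, hid, Ext.mk₀_sum, Ext.comp_sum]
  apply Finset.sum_eq_zero
  intro k _
  rw [← Ext.mk₀_comp_mk₀, ← Ext.comp_assoc_of_third_deg_zero,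
    Subsingleton.elim (x.comp (Ext.mk₀ _) (add_zero j)) 0, Ext.zero_comp]

end vanish

section pres

variable {M : Type u} [AddCommGroup M] [Module O M] {n : ℕ} (π : (Fin n → O) →ₗ[O] M)

/-- the presentation sequence `0 → ker π → O^n → M → 0`. -/
noncomputable abbrev presSC : ShortComplex (ModuleCat.{u} O) :=
  ModuleCat.shortComplexOfCompEqZero (LinearMap.ker π).subtype π
    (LinearMap.exact_subtype_ker_map π).linearMap_comp_eq_zero

lemma presSC_shortExact (hπ : Function.Surjective π) : (presSC π).ShortExact :=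
  ModuleCat.shortComplex_shortExact _ (LinearMap.exact_subtype_ker_map π)
    (Submodule.injective_subtype _) hπ

/-- the dual sequence `0 → M* → (O^n)* → (ker π)* → 0`. -/
noncomputable abbrev dualPresSC (hπ : Function.Surjective π) : ShortComplex (ModuleCat.{u} O) :=
  ModuleCat.shortComplexOfCompEqZero (LinearMap.lcomp O W π)
    (LinearMap.lcomp O W (LinearMap.ker π).subtype)
    (lcomp_exact W _ _ (LinearMap.exact_subtype_ker_map π) hπ).linearMap_comp_eq_zero

lemma dualPresSC_shortExact (hπ : Function.Surjective π)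
    (hExt : Subsingleton (Ext (ModuleCat.of O M) (ModuleCat.of O W) 1)) :
    (dualPresSC W π hπ).ShortExact :=
  ModuleCat.shortComplex_shortExact _
    (lcomp_exact W _ _ (LinearMap.exact_subtype_ker_map π) hπ)
    (lcomp_injective W π hπ)
    (lcomp_surjective W _ _ (Submodule.injective_subtype _)
      (LinearMap.exact_subtype_ker_map π) hπ hExt)

end pres

section main

variable [IsDomain O] [IsNoetherianRing O] [NoZeroSMulDivisors O W] [Module.Finite O W]
  (hW2 : ∀ (j : ℕ), 1 ≤ j → ∀ (C : Type u) [AddCommGroup C] [Module O C] [Module.Finite O C]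
    [NoZeroSMulDivisors O C], Subsingleton (Ext (ModuleCat.of O C) (ModuleCat.of O W) j))

include hW2 in
theorem subsingleton_ext_dual_dualFree (N : Type u) [AddCommGroup N] [Module O N]
    [Module.Finite O N] (n j : ℕ) (hj : 1 ≤ j) :
    Subsingleton (Ext (ModuleCat.of O (N →ₗ[O] W))
      (ModuleCat.of O ((Fin n → O) →ₗ[O] W)) j) := by
  haveI : Module.Finite O (N →ₗ[O] W) := finite_homW N
  haveI : NoZeroSMulDivisors O (N →ₗ[O] W) := noZeroSMulDivisors_homW N
  exact subsingleton_ext_dualFree W _ n j (hW2 j hj (N →ₗ[O] W))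

variable {M : Type u} [AddCommGroup M] [Module O M] [Module.Finite O M]
  [NoZeroSMulDivisors O M] {n : ℕ} (π : (Fin n → O) →ₗ[O] M) (hπ : Function.Surjective π)
  (N : Type u) [AddCommGroup N] [Module O N] [Module.Finite O N] [NoZeroSMulDivisors O N]

include hW2 hπ in
theorem step_succ (i : ℕ) (hi : 1 ≤ i)
    (ih : Nonempty (Ext (ModuleCat.of O ↥(LinearMap.ker π)) (ModuleCat.of O N) i ≃+
      Ext (ModuleCat.of O (N →ₗ[O] W)) (ModuleCat.of O (↥(LinearMap.ker π) →ₗ[O] W)) i)) :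
    Nonempty (Ext (ModuleCat.of O M) (ModuleCat.of O N) (i + 1) ≃+
      Ext (ModuleCat.of O (N →ₗ[O] W)) (ModuleCat.of O (M →ₗ[O] W)) (i + 1)) := by
  obtain ⟨e⟩ := ih
  have hS := presSC_shortExact π hπ
  have hDS := dualPresSC_shortExact W π hπ (hW2 1 le_rfl M)
  have hproj : ∀ j, Subsingleton (Ext (ModuleCat.of O (Fin n → O)) (ModuleCat.of O N) (j + 1)) :=
    fun j => Ext.subsingleton_of_projective _ _ j
  obtain ⟨k, rfl⟩ : ∃ k, i = k + 1 := ⟨i - 1, by omega⟩
  have c1 : Function.Bijective (cδ hS (ModuleCat.of O N) (k + 1)) :=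
    bijective_cδ hS (ModuleCat.of O N) (k + 1) (hproj k) (hproj (k + 1))
  have c2 : Function.Bijective
      (hDS.extClass.postcomp (ModuleCat.of O (N →ₗ[O] W)) (rfl : k + 1 + 1 = k + 1 + 1)) :=
    bijective_postcomp_extClass hDS _ (k + 1)
      (subsingleton_ext_dual_dualFree W hW2 N n (k + 1) (by omega))
      (subsingleton_ext_dual_dualFree W hW2 N n (k + 1 + 1) (by omega))
  exact ⟨(AddEquiv.ofBijective (cδ hS (ModuleCat.of O N) (k + 1)).toAddMonoidHom c1).symm.trans
    (e.trans (AddEquiv.ofBijective _ c2))⟩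

include hW2 hπ in
theorem step_one
    (hN : Function.Bijective (LinearMap.applyₗ : N →ₗ[O] (N →ₗ[O] W) →ₗ[O] W)) :
    Nonempty (Ext (ModuleCat.of O M) (ModuleCat.of O N) 1 ≃+
      Ext (ModuleCat.of O (N →ₗ[O] W)) (ModuleCat.of O (M →ₗ[O] W)) 1) := by
  have hS := presSC_shortExact π hπ
  have hDS := dualPresSC_shortExact W π hπ (hW2 1 le_rfl M)
  let g : Ext (ModuleCat.of O ↥(LinearMap.ker π)) (ModuleCat.of O N) 0 →+
      Ext (ModuleCat.of O M) (ModuleCat.of O N) 1 := (cδ hS (ModuleCat.of O N) 0).toAddMonoidHom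
  let g' : Ext (ModuleCat.of O (N →ₗ[O] W)) (ModuleCat.of O (↥(LinearMap.ker π) →ₗ[O] W)) 0 →+
      Ext (ModuleCat.of O (N →ₗ[O] W)) (ModuleCat.of O (M →ₗ[O] W)) 1 :=
    hDS.extClass.postcomp (ModuleCat.of O (N →ₗ[O] W)) (zero_add 1)
  have hg : Function.Surjective g := by
    intro y
    haveI : Subsingleton (Ext (ModuleCat.of O (Fin n → O)) (ModuleCat.of O N) (0 + 1)) :=
      Ext.subsingleton_of_projective _ _ 0
    exact (exact_cδ_cφ hS (ModuleCat.of O N) 0 y).mp (Subsingleton.elim _ _)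
  have hg' : Function.Surjective g' := by
    intro x₁
    haveI : Subsingleton (Ext (ModuleCat.of O (N →ₗ[O] W))
        (ModuleCat.of O ((Fin n → O) →ₗ[O] W)) 1) :=
      subsingleton_ext_dual_dualFree W hW2 N n 1 le_rfl
    exact Ext.covariant_sequence_exact₁ _ hDS x₁ (Subsingleton.elim _ _) (zero_add 1)
  refine nonempty_addEquiv_of_surjective g hg g' hg' (β₀ W ↥(LinearMap.ker π) N hN) ?_
  intro b
  obtain ⟨h, rfl⟩ : ∃ h : ↥(LinearMap.ker π) →ₗ[O] N, b = Ext.mk₀ (ModuleCat.ofHom h) := by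
    obtain ⟨h', rfl⟩ := (Ext.mk₀_bijective _ _).2 b
    exact ⟨h'.hom, rfl⟩
  rw [β₀_mk₀]
  have k1 := cδ_mk₀_eq_zero_iff hS (ModuleCat.of O N) (ModuleCat.ofHom h)
  have k2 := mk₀_comp_extClass_eq_zero_iff hDS (ModuleCat.of O (N →ₗ[O] W))
    (ModuleCat.ofHom ((LinearMap.llcomp O ↥(LinearMap.ker π) N W).flip h))
  refine k1.trans (Iff.trans ?_ k2.symm)
  constructor
  · rintro ⟨f, hf⟩
    refine ⟨ModuleCat.ofHom ((LinearMap.llcomp O (Fin n → O) N W).flip f.hom), ?_⟩
    apply ModuleCat.hom_ext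
    apply LinearMap.ext
    intro φ
    apply LinearMap.ext
    intro m
    change φ (f.hom ((LinearMap.ker π).subtype m)) = φ (h m)
    have h1 : f.hom ((LinearMap.ker π).subtype m) = h m := congrArg (fun t => t.hom m) hf
    rw [h1]
  · rintro ⟨γ, hγ⟩
    obtain ⟨f, hf⟩ := (dmap_bijective W (Fin n → O) N hN).2 γ.hom
    refine ⟨ModuleCat.ofHom f, ?_⟩
    have h3 : f ∘ₗ (LinearMap.ker π).subtype = h := by
      apply (dmap_bijective W ↥(LinearMap.ker π) N hN).1
      apply LinearMap.ext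
      intro φ
      apply LinearMap.ext
      intro m
      change φ (f ((LinearMap.ker π).subtype m)) = φ (h m)
      have h1 : (γ.hom φ) ((LinearMap.ker π).subtype m) = φ (h m) :=
        congrArg (fun t => (t.hom φ) m) hγ
      have h2 : γ.hom φ = (LinearMap.llcomp O (Fin n → O) N W).flip f φ := by rw [hf]
      rw [h2] at h1
      exact h1
    rw [← h3]
    rfl

end main

/-- **Duality on `Ext`.** -/
theorem nonempty_ext_addEquiv [IsDomain O] [IsNoetherianRing O] [NoZeroSMulDivisors O W]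
    [Module.Finite O W]
    (hW2 : ∀ (j : ℕ), 1 ≤ j → ∀ (C : Type u) [AddCommGroup C] [Module O C] [Module.Finite O C]
      [NoZeroSMulDivisors O C], Subsingleton (Ext (ModuleCat.of O C) (ModuleCat.of O W) j))
    (hW3 : ∀ (X : Type u) [AddCommGroup X] [Module O X] [Module.Finite O X]
      [NoZeroSMulDivisors O X],
      Function.Bijective (LinearMap.applyₗ : X →ₗ[O] (X →ₗ[O] W) →ₗ[O] W)) :
    ∀ (i : ℕ) (M N : Type u) [AddCommGroup M] [Module O M] [Module.Finite O M]
      [NoZeroSMulDivisors O M] [AddCommGroup N] [Module O N] [Module.Finite O N]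
      [NoZeroSMulDivisors O N],
      Nonempty (Ext (ModuleCat.of O M) (ModuleCat.of O N) i ≃+
        Ext (ModuleCat.of O (N →ₗ[O] W)) (ModuleCat.of O (M →ₗ[O] W)) i) := by
  intro i
  induction i with
  | zero =>
    intro M N _ _ _ _ _ _ _ _
    exact ⟨β₀ W M N (hW3 N)⟩
  | succ i ih =>
    intro M N _ _ _ _ _ _ _ _
    obtain ⟨n, π, hπ⟩ := Module.Finite.exists_fin' O M
    haveI : NoZeroSMulDivisors O (Fin n → O) := by
      refine ⟨fun {c v} h => ?_⟩
      by_cases hc : c = 0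
      · exact Or.inl hc
      · right
        funext k
        have h1 : c * v k = 0 := congrFun h k
        rcases mul_eq_zero.mp h1 with h2 | h2
        · exact absurd h2 hc
        · exact h2
    haveI : NoZeroSMulDivisors O ↥(LinearMap.ker π) :=
      noZeroSMulDivisors_of_injective (LinearMap.ker π).subtype (Submodule.injective_subtype _)
    by_cases hi : i = 0
    · subst hi
      exact step_one W hW2 π hπ N (hW3 N)
    · exact step_succ W hW2 π hπ N i (by omega) (ih ↥(LinearMap.ker π) N)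

end duality

end Groth.Agent.Helper8.TF
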