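import Groth.Agent.Lib.Helper8.TF5

/-!
# `Ext^i(M, M) ≃+ Ext^i(M*, M*)` for torsion-free modules over a one-dimensional local domain
-/

set_option autoImplicit false
universe u

namespace Groth.Agent.Helper8.TF

open CategoryTheory Abelian IsLocalRing

variable {O : Type u} [CommRing O] [IsDomain O] [IsNoetherianRing O] [IsLocalRing O]
  (hdim : ringKrullDim O = 1)
  {K : Type u} [Field K] [Algebra O K] [IsFractionRing O K] (ω : Submodule O K)
  (hωinj : HasInjectiveDimensionLT (ModuleCat.of O ↥ω) 2) (hωfg : ω.FG)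

include hdim hωinj hωfg in
theorem subsingleton_ext_of_torsionFree (j : ℕ) (hj : 1 ≤ j) (C : Type u) [AddCommGroup C]
    [Module O C] [Module.Finite O C] [NoZeroSMulDivisors O C] :
    Subsingleton (Ext (ModuleCat.of O C) (ModuleCat.of O ↥ω) j) := by
  by_cases h1 : j = 1
  · subst h1
    exact subsingleton_ext_one_of_torsionFree hdim ω hωinj hωfg C
  · haveI := hωinj
    exact HasInjectiveDimensionLT.subsingleton (ModuleCat.of O ↥ω) 2 j (by omega) _

include hdim hωinj hωfg in
theorem nonempty_ext_addEquiv_dual (hfin : Module.Finite O ↥(integralClosure O K)) (hω0 : ω ≠ ⊥)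
    (i : ℕ) (M N : Type u) [AddCommGroup M] [Module O M] [Module.Finite O M]
    [NoZeroSMulDivisors O M] [AddCommGroup N] [Module O N] [Module.Finite O N]
    [NoZeroSMulDivisors O N] :
    Nonempty (Ext (ModuleCat.of O M) (ModuleCat.of O N) i ≃+
      Ext (ModuleCat.of O (N →ₗ[O] ↥ω)) (ModuleCat.of O (M →ₗ[O] ↥ω)) i) := by
  haveI := noZeroSMulDivisors_ω ω
  haveI : Module.Finite O ↥ω := Module.Finite.iff_fg.mpr hωfg
  exact nonempty_ext_addEquiv ↥ω
    (fun j hj C _ _ _ _ => subsingleton_ext_of_torsionFree hdim ω hωinj hωfg j hj C)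
    (fun X _ _ _ _ => applyₗ_bijective_general hdim ω hωinj hωfg hfin hω0 X) i M N

end Groth.Agent.Helper8.TF
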