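import Groth.Agent.Lib.Helper8.TF6
import Groth.Agent.Lib.Helper8.Goren5

/-!
# Overrings of a one-dimensional Gorenstein local domain: `Ext¹(M, M) ≃+ Hom(M⁻¹, O / M⁻¹)`
-/

set_option autoImplicit false
universe u

namespace Groth.Agent.Helper8.TF

open CategoryTheory Abelian IsLocalRing LocCoh

section transfer

variable {R : Type u} [CommRing R]

/-- transfer `Ext` along an isomorphism in both variables. -/
theorem nonempty_ext_addEquiv_of_linearEquiv (P Q : Type u) [AddCommGroup P] [Module R P]
    [AddCommGroup Q] [Module R Q] (e : P ≃ₗ[R] Q) (j : ℕ) :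
    Nonempty (Ext (ModuleCat.of R P) (ModuleCat.of R P) j ≃+
      Ext (ModuleCat.of R Q) (ModuleCat.of R Q) j) :=
  ⟨(extCongrRight (ModuleCat.of R P) e.toModuleIso j).trans
    (Groth.Agent.Helper8.W4.extCongrLeft e.toModuleIso (ModuleCat.of R Q) j).symm.toAddEquiv⟩

/-- `Ext¹(F, I) ≃ Hom(F, R/I)` when `Ext¹(F, R) = 0` and all maps `F → R` land in `I`. -/
theorem nonempty_ext_one_addEquiv_hom_quot (F : Type u) [AddCommGroup F] [Module R F]
    (I : Submodule R R)
    (ha : Subsingleton (Ext (ModuleCat.of R F) (ModuleCat.of R R) 1))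
    (hb : ∀ (γ : F →ₗ[R] R) (x : F), γ x ∈ I) :
    Nonempty (Ext (ModuleCat.of R F) (ModuleCat.of R ↥I) 1 ≃+ (F →ₗ[R] R ⧸ I)) := by
  let T : ShortComplex (ModuleCat.{u} R) :=
    ModuleCat.shortComplexOfCompEqZero I.subtype I.mkQ
      (LinearMap.exact_subtype_mkQ I).linearMap_comp_eq_zero
  have hT : T.ShortExact := ModuleCat.shortComplex_shortExact T (LinearMap.exact_subtype_mkQ I)
    (Submodule.injective_subtype _) (Submodule.mkQ_surjective _)
  have hbij : Function.Bijective (hT.extClass.postcomp (ModuleCat.of R F) (zero_add 1)) := by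
    constructor
    · rw [injective_iff_map_eq_zero]
      intro x₃ hx₃
      obtain ⟨x₂, rfl⟩ := Ext.covariant_sequence_exact₃ _ hT x₃ (zero_add 1) hx₃
      obtain ⟨γ, rfl⟩ := (Ext.mk₀_bijective _ _).2 x₂
      rw [Ext.mk₀_comp_mk₀]
      have h0 : γ ≫ T.g = 0 := by
        apply ModuleCat.hom_ext
        apply LinearMap.ext
        intro x
        change I.mkQ (γ.hom x) = 0
        rw [Submodule.mkQ_apply, Submodule.Quotient.mk_eq_zero]
        exact hb γ.hom x
      rw [h0, Ext.mk₀_zero]
    · intro x₁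
      haveI : Subsingleton (Ext (ModuleCat.of R F) T.X₂ 1) := ha
      exact Ext.covariant_sequence_exact₁ _ hT x₁ (Subsingleton.elim _ _) (zero_add 1)
  exact ⟨(AddEquiv.ofBijective _ hbij).symm.trans
    (Groth.Agent.Helper8.LD.ext0Equiv F (R ⧸ I)).toAddEquiv⟩

end transfer

section overring

variable {O : Type u} [CommRing O] [IsDomain O]
  {K : Type u} [Field K] [Algebra O K] [IsFractionRing O K]

/-- `O ≃ (1 : Submodule O K)`. -/
noncomputable def oneEquiv : O ≃ₗ[O] ↥(1 : Submodule O K) :=
  (LinearEquiv.ofInjective (Algebra.linearMap O K)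
    (fun a b h => IsFractionRing.injective O K h)).trans
    (LinearEquiv.ofEq _ _ Submodule.one_eq_range.symm)

lemma oneEquiv_apply (a : O) :
    ((oneEquiv (O := O) (K := K) a : ↥(1 : Submodule O K)) : K) = algebraMap O K a := rfl

variable (M : Subalgebra O K)

lemma noZeroSMulDivisors_overring : NoZeroSMulDivisors O ↥M := by
  refine ⟨fun {c y} h => ?_⟩
  by_cases hc : c = 0
  · exact Or.inl hc
  · right
    have h2 : c • ((y : ↥M) : K) = 0 := congrArg Subtype.val h
    rw [Algebra.smul_def, mul_eq_zero] at h2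
    rcases h2 with h2 | h2
    · exact absurd ((map_eq_zero_iff _ (IsFractionRing.injective O K)).mp h2) hc
    · exact Subtype.ext h2

omit [IsDomain O] [IsFractionRing O K] in
lemma f_le_one : (1 : Submodule O K) / Subalgebra.toSubmodule M ≤ 1 := by
  intro x hx
  rw [Submodule.mem_div_iff_forall_mul_mem] at hx
  have h := hx 1 (show (1 : K) ∈ Subalgebra.toSubmodule M from M.one_mem)
  rwa [mul_one] at h

omit [IsDomain O] [IsFractionRing O K] in
lemma mul_mem_f {x m : K} (hx : x ∈ (1 : Submodule O K) / Subalgebra.toSubmodule M)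
    (hm : m ∈ M) : x * m ∈ (1 : Submodule O K) / Subalgebra.toSubmodule M := by
  rw [Submodule.mem_div_iff_forall_mul_mem] at hx ⊢
  intro m' hm'
  rw [mul_assoc]
  exact hx (m * m') (show m * m' ∈ Subalgebra.toSubmodule M from M.mul_mem hm hm')

/-- `M⁻¹ → Hom(M, O)`, `x ↦ (m ↦ x m)`. -/
noncomputable def fToDual : ↥((1 : Submodule O K) / Subalgebra.toSubmodule M) →ₗ[O]
    (↥M →ₗ[O] ↥(1 : Submodule O K)) where
  toFun x :=
    { toFun := fun m => ⟨(x : K) * (m : K),
        (Submodule.mem_div_iff_forall_mul_mem.mp x.2) m (show (m : K) ∈ Subalgebra.toSubmodule M from m.2)⟩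
      map_add' := fun m m' => Subtype.ext (mul_add _ _ _)
      map_smul' := fun c m => Subtype.ext (mul_smul_comm c _ _) }
  map_add' x y := by
    apply LinearMap.ext
    intro m
    exact Subtype.ext (add_mul _ _ _)
  map_smul' c x := by
    apply LinearMap.ext
    intro m
    exact Subtype.ext (smul_mul_assoc c _ _)

omit [IsDomain O] [IsFractionRing O K] in
lemma fToDual_apply (x : ↥((1 : Submodule O K) / Subalgebra.toSubmodule M)) (m : ↥M) :
    ((fToDual M x m : ↥(1 : Submodule O K)) : K) = (x : K) * (m : K) := rfl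

lemma fToDual_bijective : Function.Bijective (fToDual M) := by
  constructor
  · intro x y hxy
    have h1 := congrArg (fun t => ((t ⟨1, M.one_mem⟩ : ↥(1 : Submodule O K)) : K)) hxy
    have h2 : (x : K) * 1 = (y : K) * 1 := h1
    rw [mul_one, mul_one] at h2
    exact Subtype.ext h2
  · intro φ
    let e := Subalgebra.toSubmoduleEquiv M
    let g : ↥(Subalgebra.toSubmodule M) →ₗ[O] ↥(1 : Submodule O K) := φ ∘ₗ e.toLinearMap
    let one' : ↥M := ⟨1, M.one_mem⟩
    have key : ∀ m : ↥M, ((φ m : ↥(1 : Submodule O K)) : K) =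
        ((φ one' : ↥(1 : Submodule O K)) : K) * (m : K) := by
      intro m
      have h := hom_apply_eq_mul (1 : Submodule O K) (Subalgebra.toSubmodule M) g
        (e.symm one') (e.symm m)
      have h1 : g (e.symm m) = φ m := by
        change φ (e (e.symm m)) = φ m
        rw [LinearEquiv.apply_symm_apply]
      have h2 : g (e.symm one') = φ one' := by
        change φ (e (e.symm one')) = φ one'
        rw [LinearEquiv.apply_symm_apply]
      have h3 : ((e.symm one' : ↥(Subalgebra.toSubmodule M)) : K) = 1 := rfl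
      have h4 : ((e.symm m : ↥(Subalgebra.toSubmodule M)) : K) = (m : K) := rfl
      rw [h1, h2, h3, h4, mul_one] at h
      exact h
    have hb : ((φ one' : ↥(1 : Submodule O K)) : K) ∈
        (1 : Submodule O K) / Subalgebra.toSubmodule M := by
      rw [Submodule.mem_div_iff_forall_mul_mem]
      intro m hm
      have h5 := key ⟨m, hm⟩
      have h6 : ((φ one' : ↥(1 : Submodule O K)) : K) * m =
          ((φ ⟨m, hm⟩ : ↥(1 : Submodule O K)) : K) := h5.symm
      rw [h6]
      exact (φ ⟨m, hm⟩).2
    refine ⟨⟨_, hb⟩, ?_⟩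
    apply LinearMap.ext
    intro m
    apply Subtype.ext
    exact (key m).symm

/-- `M⁻¹ ∩ O ≃ M⁻¹`. -/
noncomputable def comapEquiv :
    ↥(Submodule.comap (Algebra.linearMap O K) ((1 : Submodule O K) / Subalgebra.toSubmodule M))
      ≃ₗ[O] ↥((1 : Submodule O K) / Subalgebra.toSubmodule M) :=
  LinearEquiv.ofBijective
    ((Algebra.linearMap O K).restrict (p := Submodule.comap (Algebra.linearMap O K)
      ((1 : Submodule O K) / Subalgebra.toSubmodule M))
      (q := (1 : Submodule O K) / Subalgebra.toSubmodule M) (fun a ha => ha))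
    (by
      constructor
      · intro a b hab
        have h1 : algebraMap O K (a : O) = algebraMap O K (b : O) := congrArg Subtype.val hab
        exact Subtype.ext (IsFractionRing.injective O K h1)
      · intro x
        obtain ⟨a, ha⟩ := Submodule.mem_one.mp (f_le_one M x.2)
        refine ⟨⟨a, ?_⟩, Subtype.ext ha⟩
        change algebraMap O K a ∈ (1 : Submodule O K) / Subalgebra.toSubmodule M
        rw [ha]
        exact x.2)

section gor

variable [IsGorensteinLocalRing O] (hdim : ringKrullDim O = 1)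

include hdim in
lemma hasInjectiveDimensionLT_one :
    HasInjectiveDimensionLT (ModuleCat.of O ↥(1 : Submodule O K)) 2 := by
  have h := (Groth.Agent.Helper8.Goren.exists_injectiveDimension_eq_dim O 1
    (by rw [hdim, Nat.cast_one])).1
  haveI : HasInjectiveDimensionLT (ModuleCat.of O O) 2 := h
  exact hasInjectiveDimensionLT_of_iso (oneEquiv (O := O) (K := K)).toModuleIso 2

variable (hfin : Module.Finite O ↥(integralClosure O K)) (hM : M ≤ integralClosure O K)

include hfin hM in
lemma finite_overring : Module.Finite O ↥M := by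
  haveI := hfin
  exact Module.Finite.of_injective (Subalgebra.inclusion hM).toLinearMap
    (Subalgebra.inclusion_injective hM)

omit [IsGorensteinLocalRing O] in
/-- every map `M⁻¹ → O` has image in `M⁻¹ ∩ O`. -/
lemma hom_f_mem (γ : ↥((1 : Submodule O K) / Subalgebra.toSubmodule M) →ₗ[O] O)
    (x : ↥((1 : Submodule O K) / Subalgebra.toSubmodule M)) :
    γ x ∈ Submodule.comap (Algebra.linearMap O K)
      ((1 : Submodule O K) / Subalgebra.toSubmodule M) := by
  change algebraMap O K (γ x) ∈ (1 : Submodule O K) / Subalgebra.toSubmodule M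
  rw [Submodule.mem_div_iff_forall_mul_mem]
  intro m hm
  have hm' : m ∈ M := hm
  by_cases hx0 : (x : K) = 0
  · have hx : x = 0 := Subtype.ext hx0
    rw [hx, map_zero, map_zero, zero_mul]
    exact Submodule.zero_mem _
  · let γ' : ↥((1 : Submodule O K) / Subalgebra.toSubmodule M) →ₗ[O] ↥(1 : Submodule O K) :=
      (oneEquiv (O := O) (K := K)).toLinearMap ∘ₗ γ
    let xm : ↥((1 : Submodule O K) / Subalgebra.toSubmodule M) :=
      ⟨(x : K) * m, mul_mem_f M x.2 hm'⟩
    have h := hom_apply_eq_mul (1 : Submodule O K)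
      ((1 : Submodule O K) / Subalgebra.toSubmodule M) γ' x xm
    -- `(γ' xm) * x = (γ' x) * (x * m)`
    have h1 : ((γ' xm : ↥(1 : Submodule O K)) : K) * (x : K) =
        algebraMap O K (γ x) * ((x : K) * m) := h
    have h2 : algebraMap O K (γ x) * m = ((γ' xm : ↥(1 : Submodule O K)) : K) := by
      apply mul_right_cancel₀ hx0
      rw [h1]
      ring
    rw [h2]
    exact (γ' xm).2

include hdim hfin hM in
theorem main_S15040 :
    Nonempty (Ext (ModuleCat.of O ↥M) (ModuleCat.of O ↥M) 1 ≃+
      (↥((1 : Submodule O K) / Subalgebra.toSubmodule M) →ₗ[O]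
        (O ⧸ Submodule.comap (Algebra.linearMap O K)
          ((1 : Submodule O K) / Subalgebra.toSubmodule M)))) := by
  haveI := finite_overring M hfin hM
  haveI := noZeroSMulDivisors_overring M
  have hω₁fg : (1 : Submodule O K).FG := by
    rw [Submodule.one_eq_span]
    exact Submodule.fg_span_singleton _
  have hω₁inj := hasInjectiveDimensionLT_one (O := O) (K := K) hdim
  have hω₁0 : (1 : Submodule O K) ≠ ⊥ := by
    intro h
    have h1 : (1 : K) ∈ (1 : Submodule O K) := Submodule.one_le.mp le_rfl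
    rw [h, Submodule.mem_bot] at h1
    exact one_ne_zero h1
  obtain ⟨e1⟩ := nonempty_ext_addEquiv_dual hdim (1 : Submodule O K) hω₁inj hω₁fg hfin hω₁0 1
    ↥M ↥M
  obtain ⟨e2⟩ := nonempty_ext_addEquiv_of_linearEquiv (↥M →ₗ[O] ↥(1 : Submodule O K))
    ↥((1 : Submodule O K) / Subalgebra.toSubmodule M)
    (LinearEquiv.ofBijective (fToDual M) (fToDual_bijective M)).symm 1
  let e3 := extCongrRight (ModuleCat.of O ↥((1 : Submodule O K) / Subalgebra.toSubmodule M))
    (comapEquiv M).symm.toModuleIso 1
  have hffg : ((1 : Submodule O K) / Subalgebra.toSubmodule M).FG := hω₁fg.of_le (f_le_one M)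
  haveI : Module.Finite O ↥((1 : Submodule O K) / Subalgebra.toSubmodule M) :=
    Module.Finite.iff_fg.mpr hffg
  haveI := noZeroSMulDivisors_ω ((1 : Submodule O K) / Subalgebra.toSubmodule M)
  have ha : Subsingleton (Ext (ModuleCat.of O ↥((1 : Submodule O K) / Subalgebra.toSubmodule M))
      (ModuleCat.of O O) 1) := by
    haveI := subsingleton_ext_one_of_torsionFree hdim (1 : Submodule O K) hω₁inj hω₁fg
      ↥((1 : Submodule O K) / Subalgebra.toSubmodule M)
    exact (extCongrRight (ModuleCat.of O ↥((1 : Submodule O K) / Subalgebra.toSubmodule M))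
      (oneEquiv (O := O) (K := K)).toModuleIso 1).toEquiv.subsingleton
  obtain ⟨e4⟩ := nonempty_ext_one_addEquiv_hom_quot
    ↥((1 : Submodule O K) / Subalgebra.toSubmodule M)
    (Submodule.comap (Algebra.linearMap O K) ((1 : Submodule O K) / Subalgebra.toSubmodule M))
    ha (hom_f_mem M)
  exact ⟨e1.trans (e2.trans (e3.trans e4))⟩

end gor

end overring

end Groth.Agent.Helper8.TF
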