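import Mathlib
import Groth.Agent.Lib.Helper8.TF7
import Groth.Agent.Lib.Helper8.HLV4
import Groth.Agent.Lib.Helper5.PSAlg.Basic

/-!
# Subalgebras of `k⟦X⟧` containing a power of `X`: structure (towards S19528, S15022)

`A ⊆ k⟦X⟧` is a `k`-subalgebra over which `k⟦X⟧` is finite and which contains all series of
order `≥ c`.  Then `A` is a one-dimensional Noetherian local domain whose fraction field is the
fraction field of `k⟦X⟧`.
-/

set_option autoImplicit false
set_option linter.style.haveILetI false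
universe u

namespace Groth.Agent.Helper8.TFV

open PowerSeries

variable {k : Type u} [Field k] (A : Subalgebra k (PowerSeries k))

/-- power series divisible by `X ^ j`, as an `A`-submodule of `k⟦X⟧`. -/
def Ord (j : ℕ) : Submodule ↥A (PowerSeries k) where
  carrier := {f | (X : PowerSeries k) ^ j ∣ f}
  add_mem' := fun ha hb => dvd_add ha hb
  zero_mem' := dvd_zero _
  smul_mem' := fun a f hf => by
    change (X : PowerSeries k) ^ j ∣ a • f
    rw [Subalgebra.smul_def, smul_eq_mul]
    exact Dvd.dvd.mul_left hf _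

lemma mem_Ord {j : ℕ} {f : PowerSeries k} : f ∈ Ord A j ↔ (X : PowerSeries k) ^ j ∣ f := Iff.rfl

lemma mem_Ord_iff_coeff {j : ℕ} {f : PowerSeries k} :
    f ∈ Ord A j ↔ ∀ m < j, coeff m f = 0 := X_pow_dvd_iff

lemma mem_Ord_iff_order {j : ℕ} {f : PowerSeries k} :
    f ∈ Ord A j ↔ (j : ℕ∞) ≤ order f := by
  rw [mem_Ord_iff_coeff]
  constructor
  · intro h
    exact nat_le_order f j h
  · intro h m hm
    exact coeff_of_lt_order m (lt_of_lt_of_le (by exact_mod_cast hm) h)

lemma Ord_succ_le (j : ℕ) : Ord A (j + 1) ≤ Ord A j := by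
  intro f hf
  rw [mem_Ord_iff_coeff] at hf ⊢
  intro m hm
  exact hf m (by omega)

lemma Ord_zero : Ord A 0 = ⊤ := by
  ext f
  simp [mem_Ord]

variable (c : ℕ) (hC : ∀ f : PowerSeries k, (X : PowerSeries k) ^ c ∣ f → f ∈ A)

section noeth

variable (hA : Module.Finite ↥A (PowerSeries k))

/-- the `k`-linear coercion of polynomials to power series. -/
noncomputable def polyToPS : Polynomial k →ₗ[k] PowerSeries k where
  toFun p := (p : PowerSeries k)
  map_add' := Polynomial.coe_add
  map_smul' := fun a p => by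
    simp only [RingHom.id_apply]
    ext n
    simp [Polynomial.coeff_coe]

include hA in
lemma finite_quot_Ord (n : ℕ) : Module.Finite k (PowerSeries k ⧸ Ord A n) := by
  let φ : ↥(Polynomial.degreeLT k n) →ₗ[k] (PowerSeries k ⧸ Ord A n) :=
    ((Ord A n).mkQ.restrictScalars k) ∘ₗ polyToPS ∘ₗ (Polynomial.degreeLT k n).subtype
  have hφ : Function.Surjective φ := by
    intro q
    obtain ⟨g, rfl⟩ := Submodule.mkQ_surjective _ q
    refine ⟨⟨trunc n g, Polynomial.mem_degreeLT.mpr (degree_trunc_lt g n)⟩, ?_⟩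
    change Submodule.Quotient.mk ((trunc n g : Polynomial k) : PowerSeries k) =
      Submodule.Quotient.mk g
    rw [Submodule.Quotient.eq, mem_Ord_iff_coeff]
    intro m hm
    rw [map_sub, Polynomial.coeff_coe, coeff_trunc, if_pos hm, sub_self]
  haveI : Module.Finite k ↥(Polynomial.degreeLT k n) :=
    Module.Finite.equiv (Polynomial.degreeLTEquiv k n).symm
  exact Module.Finite.of_surjective φ hφ

include hA hC in
/-- `k⟦X⟧` is a Noetherian `A`-module. -/
theorem isNoetherian_powerSeries : IsNoetherian ↥A (PowerSeries k) := by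
  rw [isNoetherian_def]
  intro I
  by_cases hI : I = ⊥
  · rw [hI]; exact Submodule.fg_bot
  obtain ⟨f, hfI, hf0⟩ := Submodule.exists_mem_ne_zero_of_ne_bot hI
  obtain ⟨d, hd⟩ : ∃ d : ℕ, d = f.order.toNat := ⟨_, rfl⟩
  have hfu : (X : PowerSeries k) ^ d * divXPowOrder f = f := by
    rw [hd]; exact X_pow_order_mul_divXPowOrder
  have hu : IsUnit (divXPowOrder f) := by
    rw [isUnit_iff_constantCoeff, isUnit_iff_ne_zero, Ne, constantCoeff_divXPowOrder_eq_zero_iff]
    exact hf0
  obtain ⟨u, hu'⟩ := hu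
  have hPI : Ord A (c + d) ≤ I := by
    rintro g ⟨g', rfl⟩
    have hhA : (X : PowerSeries k) ^ c * g' * ((u⁻¹ : (PowerSeries k)ˣ) : PowerSeries k) ∈ A :=
      hC _ ⟨g' * ((u⁻¹ : (PowerSeries k)ˣ) : PowerSeries k), by ring⟩
    have e1 : ((u⁻¹ : (PowerSeries k)ˣ) : PowerSeries k) * (u : PowerSeries k) = 1 :=
      Units.inv_mul u
    have h2 : (X : PowerSeries k) ^ (c + d) * g' =
        (⟨_, hhA⟩ : ↥A) • f := by
      rw [Subalgebra.smul_def, smul_eq_mul]
      change _ = (X : PowerSeries k) ^ c * g' * ((u⁻¹ : (PowerSeries k)ˣ) : PowerSeries k) * f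
      rw [← hfu, ← hu']
      calc (X : PowerSeries k) ^ (c + d) * g'
          = X ^ c * g' * X ^ d * (((u⁻¹ : (PowerSeries k)ˣ) : PowerSeries k) * (u : PowerSeries k)) := by
            rw [e1, pow_add]; ring
        _ = _ := by ring
    rw [h2]
    exact I.smul_mem _ hfI
  have hPfg : (Ord A (c + d)).FG := by
    have h1 : Ord A (c + d) =
        Submodule.map (LinearMap.mulLeft ↥A ((X : PowerSeries k) ^ (c + d))) ⊤ := by
      ext g
      constructor
      · rintro ⟨g', rfl⟩
        exact ⟨g', Submodule.mem_top, rfl⟩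
      · rintro ⟨g', -, rfl⟩
        exact ⟨g', rfl⟩
    rw [h1]
    exact Submodule.FG.map _ hA.fg_top
  haveI := finite_quot_Ord A hA (c + d)
  haveI : IsNoetherian ↥A (PowerSeries k ⧸ Ord A (c + d)) :=
    isNoetherian_of_tower k inferInstance
  apply Submodule.fg_of_fg_map_of_fg_inf_ker (Ord A (c + d)).mkQ
  · exact IsNoetherian.noetherian _
  · rw [Submodule.ker_mkQ, inf_eq_right.mpr hPI]
    exact hPfg

include hA hC in
theorem isNoetherianRing : IsNoetherianRing ↥A := by
  haveI := isNoetherian_powerSeries A c hC hA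
  exact isNoetherian_of_injective (Algebra.linearMap ↥A (PowerSeries k))
    (FaithfulSMul.algebraMap_injective ↥A (PowerSeries k))

include hA in
theorem isLocalRing : IsLocalRing ↥A := by
  haveI := hA
  haveI : Algebra.IsIntegral ↥A (PowerSeries k) := Algebra.IsIntegral.of_finite _ _
  haveI : IsLocalHom (algebraMap ↥A (PowerSeries k)) := inferInstance
  exact (algebraMap ↥A (PowerSeries k)).domain_isLocalRing

include hA in
theorem ringKrullDim_eq_one : ringKrullDim ↥A = 1 := by
  haveI := hA
  haveI : Algebra.IsIntegral ↥A (PowerSeries k) := Algebra.IsIntegral.of_finite _ _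
  rw [Groth.Agent.Helper8.HLV.ringKrullDim_eq_of_injective_of_isIntegral ↥A (PowerSeries k)
    (FaithfulSMul.algebraMap_injective ↥A (PowerSeries k))]
  exact IsDiscreteValuationRing.ringKrullDim_eq_one _

end noeth

include hC in
theorem isFractionRing : IsFractionRing ↥A (FractionRing (PowerSeries k)) := by
  haveI : FaithfulSMul ↥A (FractionRing (PowerSeries k)) := by
    rw [faithfulSMul_iff_algebraMap_injective]
    rw [IsScalarTower.algebraMap_eq ↥A (PowerSeries k) (FractionRing (PowerSeries k))]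
    exact (IsFractionRing.injective (PowerSeries k) (FractionRing (PowerSeries k))).comp
      (FaithfulSMul.algebraMap_injective ↥A (PowerSeries k))
  apply IsFractionRing.of_field
  intro z
  obtain ⟨r, s, hs, rfl⟩ := IsFractionRing.div_surjective (A := PowerSeries k) z
  have hr' : (X : PowerSeries k) ^ c * r ∈ A := hC _ ⟨r, rfl⟩
  have hs' : (X : PowerSeries k) ^ c * s ∈ A := hC _ ⟨s, rfl⟩
  refine ⟨⟨_, hr'⟩, ⟨_, hs'⟩, ?_⟩
  rw [IsScalarTower.algebraMap_apply ↥A (PowerSeries k) (FractionRing (PowerSeries k)),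
    IsScalarTower.algebraMap_apply ↥A (PowerSeries k) (FractionRing (PowerSeries k))]
  change _ = algebraMap (PowerSeries k) _ (X ^ c * r) / algebraMap (PowerSeries k) _ (X ^ c * s)
  rw [map_mul, map_mul]
  have hX : algebraMap (PowerSeries k) (FractionRing (PowerSeries k)) (X ^ c) ≠ 0 := by
    rw [Ne, map_eq_zero_iff _ (IsFractionRing.injective _ _)]
    exact pow_ne_zero _ X_ne_zero
  have hs0 : algebraMap (PowerSeries k) (FractionRing (PowerSeries k)) s ≠ 0 := by
    rw [Ne, map_eq_zero_iff _ (IsFractionRing.injective _ _)]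
    exact nonZeroDivisors.ne_zero hs
  field_simp

end Groth.Agent.Helper8.TFV
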