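import Groth.Agent.Lib.Helper8.TFV9

/-!
# `Ext¹` between the rank-one modules of the `A_{2δ}` singularity
-/

set_option autoImplicit false
set_option linter.style.haveILetI false
universe u

namespace Groth.Agent.Helper8.TFV

open PowerSeries CategoryTheory Abelian IsLocalRing
open Groth.Agent.Helper8.TF Groth.Agent.Helper8.W4

section Aeven

variable (δ : ℕ)

lemma mem_closure_two_iff (n : ℕ) :
    n ∈ AddSubmonoid.closure ({2, 2 * δ + 1} : Set ℕ) ↔ n % 2 = 0 ∨ 2 * δ + 1 ≤ n := by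
  constructor
  · intro h
    refine AddSubmonoid.closure_induction
      (motive := fun n _ => n % 2 = 0 ∨ 2 * δ + 1 ≤ n) ?_ ?_ ?_ h
    · intro x hx
      simp only [Set.mem_insert_iff, Set.mem_singleton_iff] at hx
      rcases hx with rfl | rfl
      · left
        rfl
      · right
        exact le_rfl
    · left
      rfl
    · intro x y _ _ hx hy
      omega
  · intro h
    have h2mem : (2 : ℕ) ∈ AddSubmonoid.closure ({2, 2 * δ + 1} : Set ℕ) :=
      AddSubmonoid.subset_closure (Set.mem_insert _ _)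
    have h3mem : (2 * δ + 1 : ℕ) ∈ AddSubmonoid.closure ({2, 2 * δ + 1} : Set ℕ) :=
      AddSubmonoid.subset_closure (Set.mem_insert_of_mem _ (Set.mem_singleton _))
    by_cases hn : n % 2 = 0
    · have h1 : (n / 2) • 2 ∈ AddSubmonoid.closure ({2, 2 * δ + 1} : Set ℕ) :=
        nsmul_mem h2mem _
      have h2 : (n / 2) • 2 = n := by
        rw [smul_eq_mul]
        omega
      rwa [h2] at h1
    · have h1 : (2 * δ + 1) + ((n - (2 * δ + 1)) / 2) • 2 ∈
          AddSubmonoid.closure ({2, 2 * δ + 1} : Set ℕ) :=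
        add_mem h3mem
          (nsmul_mem h2mem _)
      have h2 : (2 * δ + 1) + ((n - (2 * δ + 1)) / 2) • 2 = n := by
        rw [smul_eq_mul]
        omega
      rwa [h2] at h1

/-- the semigroup `⟨2, 2δ+1⟩`. -/
def ΓA : Set ℕ := {n | n % 2 = 0 ∨ 2 * δ + 1 ≤ n}

/-- the exponents of `M_i = A + A t^{2δ+1-2i}`. -/
def ΔA (i : ℕ) : Set ℕ := {v | v % 2 = 0 ∨ 2 * δ + 1 ≤ v + 2 * i}

lemma ΔA_closed (i : ℕ) : ∀ γ ∈ ΓA δ, ∀ v ∈ ΔA δ i, γ + v ∈ ΔA δ i := by
  intro γ hγ v hv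
  simp only [ΓA, ΔA, Set.mem_ofPred_eq] at *
  omega

variable {k : Type u} [Field k] (A : Subalgebra k (PowerSeries k))
  (hmono' : ∀ f : PowerSeries k, f ∈ A ↔
    ∀ n : ℕ, coeff n f ≠ 0 → n ∈ AddSubmonoid.closure ({2, 2 * δ + 1} : Set ℕ))

include hmono' in
lemma hmonoA : ∀ f : PowerSeries k, f ∈ A ↔ ∀ n : ℕ, coeff n f ≠ 0 → n ∈ ΓA δ := by
  intro f
  rw [hmono']
  constructor
  · intro h n hne
    exact (mem_closure_two_iff δ n).mp (h n hne)
  · intro h n hne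
    exact (mem_closure_two_iff δ n).mpr (h n hne)

include hmono' in
theorem main_S15030 (i j : ℕ) (hi : i ≤ δ) (hj : j ≤ δ) :
    Module.length ↥A (Ext
      (ModuleCat.of ↥A ↥(Submodule.span ↥A
        ({1, (X : PowerSeries k) ^ (2 * δ + 1 - 2 * i)} : Set (PowerSeries k))))
      (ModuleCat.of ↥A ↥(Submodule.span ↥A
        ({1, (X : PowerSeries k) ^ (2 * δ + 1 - 2 * j)} : Set (PowerSeries k)))) 1) =
      ((2 * min i j : ℕ) : ℕ∞) := by
  have hm := hmonoA δ A hmono'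
  have hc : ∀ n, 2 * δ ≤ n → n ∈ ΓA δ := by
    intro n hn
    simp only [ΓA, Set.mem_ofPred_eq]
    omega
  have h0 : ∀ i, (0 : ℕ) ∈ ΔA δ i := fun _ => Or.inl rfl
  have he : ∀ i, i ≤ δ → (2 * δ + 1 - 2 * i) ∈ ΔA δ i := by
    intro i hi
    simp only [ΔA, Set.mem_ofPred_eq]
    omega
  have hspan : ∀ i, i ≤ δ → Submodule.span ↥A
      ({1, (X : PowerSeries k) ^ (2 * δ + 1 - 2 * i)} : Set (PowerSeries k)) =
      gMod A (ΓA δ) hm (ΔA δ i) (ΔA_closed δ i) := by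
    intro i hi
    apply span_pair_eq_gMod A (ΓA δ) hm (ΔA δ i) (ΔA_closed δ i) (2 * δ + 1 - 2 * i) (2 * δ) hc
      (h0 i) (he i hi)
    intro v hv hvc
    simp only [ΔA, ΓA, Set.mem_ofPred_eq] at *
    omega
  rw [hspan i hi, hspan j hj]
  have hPin : ∀ p ∈ gMod A (ΓA δ) hm (ΔA δ i) (ΔA_closed δ i),
      (X : PowerSeries k) ^ (2 * i) * p ∈ A := by
    intro p hp
    rw [hm]
    intro n hne
    obtain ⟨h1, h2⟩ := coeff_X_pow_mul_ne_zero p (2 * i) n hne
    have h3 := hp _ h2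
    simp only [ΔA, ΓA, Set.mem_ofPred_eq] at *
    omega
  have hP : ∀ a ∈ A, a * (X : PowerSeries k) ^ (2 * δ + 1 - 2 * i) ∈ A ↔
      ∃ p ∈ gMod A (ΓA δ) hm (ΔA δ i) (ΔA_closed δ i), a = (X : PowerSeries k) ^ (2 * i) * p := by
    intro a ha
    constructor
    · intro hau
      apply exists_eq_X_pow_mul A (ΓA δ) hm (ΔA δ i) (ΔA_closed δ i) a (2 * i)
      intro n hne
      have h1 := (hm a).mp ha n hne
      have h2 := (hm _).mp hau (n + (2 * δ + 1 - 2 * i)) (by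
        rw [coeff_mul_X_pow', if_pos (Nat.le_add_left _ _), Nat.add_sub_cancel]
        exact hne)
      simp only [ΔA, ΓA, Set.mem_ofPred_eq] at *
      omega
    · rintro ⟨p, hp, rfl⟩
      rw [hm]
      intro n hne
      have h1 : (X : PowerSeries k) ^ (2 * i) * p * X ^ (2 * δ + 1 - 2 * i) =
          X ^ (2 * δ + 1) * p := by
        have h2 : 2 * i + (2 * δ + 1 - 2 * i) = 2 * δ + 1 := by omega
        have h3 : (X : PowerSeries k) ^ (2 * δ + 1) = X ^ (2 * i) * X ^ (2 * δ + 1 - 2 * i) := by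
          rw [← pow_add, h2]
        rw [h3]
        ring
      rw [h1] at hne
      have h3 := (coeff_X_pow_mul_ne_zero p (2 * δ + 1) n hne).1
      simp only [ΓA, Set.mem_ofPred_eq]
      omega
  have hfin := GT2_final A (2 * δ) (mem_A_of_order A (ΓA δ) hm (2 * δ) hc)
    (gMod A (ΓA δ) hm (ΔA δ i) (ΔA_closed δ i)) (gMod A (ΓA δ) hm (ΔA δ j) (ΔA_closed δ j))
    (gMod A (ΓA δ) hm (ΔA δ i) (ΔA_closed δ i))
    (one_mem_gMod A (ΓA δ) hm _ _ (h0 i)) (X ^ (2 * δ + 1 - 2 * i))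
    (X_pow_mem_gMod A (ΓA δ) hm _ _ _ (he i hi))
    (hgen_of_span_pair A _ _ (hspan i hi)) (one_mem_gMod A (ΓA δ) hm _ _ (h0 i)) (2 * i)
    hPin hP (2 * δ) (Ord_le_gMod A (ΓA δ) hm _ _ (2 * δ) (by
      intro n hn
      simp only [ΔA, Set.mem_ofPred_eq]
      omega))
  rw [gMod_div A (ΓA δ) hm (ΔA δ j) (ΔA_closed δ j) (ΔA δ i) (ΔA_closed δ i)] at hfin
  have hrl : relLen (gMod A (ΓA δ) hm {v : ℕ | ∀ w ∈ ΔA δ i, v + w ∈ ΔA δ j}
      (div_closed (ΓA δ) (ΔA δ j) (ΔA_closed δ j) (ΔA δ i)))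
      (gMod A (ΓA δ) hm (ΔA δ j) (ΔA_closed δ j)) =
      (((Finset.range (i - j)).image (fun m => 2 * m)).card : ℕ∞) := by
    apply relLen_gMod_diff A (ΓA δ) hm _ _ (ΔA δ j) (ΔA_closed δ j) ?_ (2 * δ) ?_
    · intro v
      rw [Finset.mem_image]
      constructor
      · rintro ⟨m, hm', rfl⟩
        rw [Finset.mem_range] at hm'
        refine ⟨by simp only [ΔA, Set.mem_ofPred_eq]; omega, ?_⟩
        intro h
        have h1 := h (2 * δ + 1 - 2 * i) (he i hi)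
        simp only [ΔA, Set.mem_ofPred_eq] at h1
        omega
      · rintro ⟨h1, h2⟩
        simp only [Set.mem_ofPred_eq, not_forall] at h2
        obtain ⟨w, hw, hvw⟩ := h2
        simp only [ΔA, Set.mem_ofPred_eq] at h1 hw hvw
        exact ⟨v / 2, by rw [Finset.mem_range]; omega, by omega⟩
    · intro v hv
      have := hv 0 (h0 i)
      rwa [add_zero] at this
    · intro n hn w hw
      simp only [ΔA, Set.mem_ofPred_eq]
      omega
  rw [hrl, Finset.card_image_of_injective _ (mul_right_injective₀ two_ne_zero),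
    Finset.card_range] at hfin
  have h5 : ((i - j : ℕ) : ℕ∞) + ((i - j : ℕ) : ℕ∞) +
      Module.length ↥A (Ext (ModuleCat.of ↥A ↥(gMod A (ΓA δ) hm (ΔA δ i) (ΔA_closed δ i)))
        (ModuleCat.of ↥A ↥(gMod A (ΓA δ) hm (ΔA δ j) (ΔA_closed δ j))) 1) =
      ((2 * i : ℕ) : ℕ∞) := by
    rw [← hfin]
    ring
  rw [← Nat.cast_add] at h5
  rw [enat_of_add h5]
  congr 1
  omega

end Aeven

end Groth.Agent.Helper8.TFV
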