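import Groth.Agent.Lib.Helper8.TFV10

/-!
# `Ext¹(M, x N)` for a module `M = R + R u + R v` generated by three elements
-/

set_option autoImplicit false
set_option linter.style.haveILetI false
universe u

namespace Groth.Agent.Helper8.TFV

open PowerSeries CategoryTheory Abelian IsLocalRing
open Groth.Agent.Helper8.TF Groth.Agent.Helper8.W4

section general

variable {R : Type*} [CommRing R]

lemma relLen_of_surjOn {Y'' Y' : Type*} [AddCommGroup Y''] [Module R Y''] [AddCommGroup Y']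
    [Module R Y'] (π : Y'' →ₗ[R] Y') (A₀ B : Submodule R Y'') (a' b' : Submodule R Y')
    (h1 : ∀ z ∈ B, π z ∈ b') (h2 : ∀ y ∈ b', ∃ z ∈ B, π z = y)
    (h3 : ∀ z ∈ B, z ∈ A₀ ↔ π z ∈ a') : relLen A₀ B = relLen a' b' := by
  unfold relLen
  let θ : ↥B →ₗ[R] (↥b' ⧸ Submodule.comap b'.subtype a') :=
    (Submodule.comap b'.subtype a').mkQ ∘ₗ (π.restrict h1)
  have hsurj : Function.Surjective θ := by
    intro t
    obtain ⟨y, rfl⟩ := Submodule.mkQ_surjective _ t
    obtain ⟨z, hz, hzy⟩ := h2 y y.2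
    refine ⟨⟨z, hz⟩, ?_⟩
    change (Submodule.comap b'.subtype a').mkQ (π.restrict h1 ⟨z, hz⟩) = _
    congr 1
    exact Subtype.ext hzy
  have hker : LinearMap.ker θ = Submodule.comap B.subtype A₀ := by
    ext z
    rw [LinearMap.mem_ker, Submodule.mem_comap]
    change Submodule.Quotient.mk (π.restrict h1 z) = 0 ↔ _
    rw [Submodule.Quotient.mk_eq_zero, Submodule.mem_comap]
    exact (h3 z z.2).symm
  exact ((Submodule.quotEquivOfEq _ _ hker).symm.trans
    (θ.quotKerEquivOfSurjective hsurj)).length_eq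

lemma relLen_prod {Y₁ Y₂ : Type*} [AddCommGroup Y₁] [Module R Y₁] [AddCommGroup Y₂]
    [Module R Y₂] (a b : Submodule R Y₁) (a' b' : Submodule R Y₂) (hab : a ≤ b)
    (hab' : a' ≤ b') :
    relLen (a.prod a') (b.prod b') = relLen a b + relLen a' b' := by
  have h1 : a.prod a' ≤ b.prod a' := Submodule.prod_mono hab le_rfl
  have h2 : b.prod a' ≤ b.prod b' := Submodule.prod_mono le_rfl hab'
  rw [relLen_add h1 h2]
  congr 1
  · apply relLen_of_surjOn (LinearMap.fst R Y₁ Y₂)
    · intro z hz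
      exact hz.1
    · intro y hy
      exact ⟨(y, 0), ⟨hy, a'.zero_mem⟩, rfl⟩
    · intro z hz
      constructor
      · intro h
        exact h.1
      · intro h
        exact ⟨h, hz.2⟩
  · apply relLen_of_surjOn (LinearMap.snd R Y₁ Y₂)
    · intro z hz
      exact hz.2
    · intro y hy
      exact ⟨(0, y), ⟨b.zero_mem, hy⟩, rfl⟩
    · intro z hz
      constructor
      · intro h
        exact h.2
      · intro h
        exact ⟨hz.1, h⟩

end general

section abs4

variable {R Y : Type u} [CommRing R] [CommRing Y] [Algebra R Y]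

/-- `D₁ b + D₂ c`. -/
def ev (D : Y × Y) (q : R × R) : Y := D.1 * algebraMap R Y q.1 + D.2 * algebraMap R Y q.2

lemma ev_add_right (D : Y × Y) (q q' : R × R) : ev D (q + q') = ev D q + ev D q' := by
  unfold ev
  rw [Prod.fst_add, Prod.snd_add, map_add, map_add]
  ring

lemma ev_smul_right (D : Y × Y) (r : R) (q : R × R) : ev D (r • q) = r • ev D q := by
  unfold ev
  rw [Prod.smul_fst, Prod.smul_snd, smul_eq_mul, smul_eq_mul, map_mul, map_mul,
    Algebra.smul_def]
  ring

lemma ev_add_left (D D' : Y × Y) (q : R × R) : ev (D + D') q = ev D q + ev D' q := by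
  unfold ev
  rw [Prod.fst_add, Prod.snd_add]
  ring

lemma ev_smul_left (r : R) (D : Y × Y) (q : R × R) : ev (r • D) q = r • ev D q := by
  unfold ev
  rw [Prod.smul_fst, Prod.smul_snd, Algebra.smul_def, Algebra.smul_def, Algebra.smul_def]
  ring

variable (x : Y) (hx : ∀ y y' : Y, x * y = x * y' → y = y')
  (hinj : Function.Injective (algebraMap R Y))
  (hC : ∀ y : Y, ∃ a : R, algebraMap R Y a = x * y)
  (M N' : Submodule R Y) (hM1 : (1 : Y) ∈ M)
  (u v : Y) (hu : u ∈ M) (hv : v ∈ M)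
  (hgen : ∀ m ∈ M, ∃ a b c : R,
    m = algebraMap R Y a + algebraMap R Y b * u + algebraMap R Y c * v)

/-- `(b, c) ↦ [b u + c v]` as a map `R² → M / R`. -/
noncomputable def absg₄ :
    (R × R) →ₗ[R] (↥M ⧸ Submodule.comap M.subtype (1 : Submodule R Y)) :=
  (Submodule.comap M.subtype (1 : Submodule R Y)).mkQ ∘ₗ
    ((LinearMap.toSpanSingleton R ↥M ⟨u, hu⟩).coprod (LinearMap.toSpanSingleton R ↥M ⟨v, hv⟩))

lemma mem_ker_absg₄ (q : R × R) : q ∈ LinearMap.ker (absg₄ M u v hu hv) ↔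
    algebraMap R Y q.1 * u + algebraMap R Y q.2 * v ∈ (1 : Submodule R Y) := by
  rw [LinearMap.mem_ker]
  change (Submodule.comap M.subtype (1 : Submodule R Y)).mkQ
    (q.1 • (⟨u, hu⟩ : ↥M) + q.2 • (⟨v, hv⟩ : ↥M)) = 0 ↔ _
  rw [Submodule.mkQ_apply, Submodule.Quotient.mk_eq_zero, Submodule.mem_comap]
  change q.1 • u + q.2 • v ∈ (1 : Submodule R Y) ↔ _
  rw [Algebra.smul_def, Algebra.smul_def]

include hgen in
lemma absg₄_surjective : Function.Surjective (absg₄ M u v hu hv) := by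
  intro t
  obtain ⟨m, rfl⟩ := Submodule.mkQ_surjective _ t
  obtain ⟨a, b, c, habc⟩ := hgen m m.2
  refine ⟨(b, c), ?_⟩
  change (Submodule.comap M.subtype (1 : Submodule R Y)).mkQ
    (b • (⟨u, hu⟩ : ↥M) + c • (⟨v, hv⟩ : ↥M)) = _
  rw [Submodule.mkQ_apply, Submodule.mkQ_apply, Submodule.Quotient.eq, Submodule.mem_comap,
    Submodule.mem_one]
  refine ⟨-a, ?_⟩
  change algebraMap R Y (-a) = (b • u + c • v) - (m : Y)
  rw [habc, Algebra.smul_def, Algebra.smul_def, map_neg]
  ring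

/-- pairs `(D₁, D₂)` with `D₁ b + D₂ c ∈ N'` for all relations `(b, c)`. -/
def absB₄ : Submodule R (Y × Y) where
  carrier := {D | ∀ q : R × R,
    algebraMap R Y q.1 * u + algebraMap R Y q.2 * v ∈ (1 : Submodule R Y) → ev D q ∈ N'}
  add_mem' := by
    intro D D' hD hD' q hq
    rw [ev_add_left]
    exact Submodule.add_mem _ (hD q hq) (hD' q hq)
  zero_mem' := by
    intro q _
    have h0 : ev (0 : Y × Y) q = 0 := by
      unfold ev
      rw [Prod.fst_zero, Prod.snd_zero, zero_mul, zero_mul, add_zero]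
    rw [h0]
    exact Submodule.zero_mem _
  smul_mem' := by
    intro r D hD q hq
    rw [ev_smul_left]
    exact Submodule.smul_mem _ r (hD q hq)

lemma mem_absB₄ (D : Y × Y) : D ∈ absB₄ N' u v ↔ ∀ q : R × R,
    algebraMap R Y q.1 * u + algebraMap R Y q.2 * v ∈ (1 : Submodule R Y) → ev D q ∈ N' :=
  Iff.rfl

/-- `D ↦ (q ↦ D₁ q₁ + D₂ q₂)`. -/
noncomputable def absΘ₄ :
    ↥(absB₄ N' u v) →ₗ[R] (↥(LinearMap.ker (absg₄ M u v hu hv)) →ₗ[R] ↥N') where
  toFun D :=
    { toFun := fun q => ⟨ev (D : Y × Y) (q : R × R),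
        D.2 q ((mem_ker_absg₄ M u v hu hv q).mp q.2)⟩
      map_add' := fun q q' => Subtype.ext (ev_add_right (D : Y × Y) (q : R × R) (q' : R × R))
      map_smul' := fun r q => Subtype.ext (ev_smul_right (D : Y × Y) r (q : R × R)) }
  map_add' D D' := by
    apply LinearMap.ext
    intro q
    exact Subtype.ext (ev_add_left (D : Y × Y) (D' : Y × Y) (q : R × R))
  map_smul' r D := by
    apply LinearMap.ext
    intro q
    exact Subtype.ext (ev_smul_left r (D : Y × Y) (q : R × R))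

lemma absΘ₄_apply (D : ↥(absB₄ N' u v)) (q : ↥(LinearMap.ker (absg₄ M u v hu hv))) :
    ((absΘ₄ M N' u v hu hv D q : ↥N') : Y) = ev (D : Y × Y) (q : R × R) := rfl

include hC in
lemma exists_ax : ∃ a : R, algebraMap R Y a = x := by
  obtain ⟨a, ha⟩ := hC 1
  exact ⟨a, by rw [ha, mul_one]⟩

include hC in
lemma q₁_mem (a : R) (ha : algebraMap R Y a = x) :
    ((a, 0) : R × R) ∈ LinearMap.ker (absg₄ M u v hu hv) := by
  rw [mem_ker_absg₄]
  obtain ⟨b, hb⟩ := hC u
  rw [Submodule.mem_one]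
  refine ⟨b, ?_⟩
  change _ = algebraMap R Y a * u + algebraMap R Y 0 * v
  rw [hb, ha, map_zero, zero_mul, add_zero]

include hC in
lemma q₂_mem (a : R) (ha : algebraMap R Y a = x) :
    ((0, a) : R × R) ∈ LinearMap.ker (absg₄ M u v hu hv) := by
  rw [mem_ker_absg₄]
  obtain ⟨b, hb⟩ := hC v
  rw [Submodule.mem_one]
  refine ⟨b, ?_⟩
  change _ = algebraMap R Y 0 * u + algebraMap R Y a * v
  rw [hb, ha, map_zero, zero_mul, zero_add]

include hx hC in
lemma abs_ha₄ (D : ↥(absB₄ N' u v)) : (D : Y × Y) ∈ N'.prod N' ↔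
    ∃ ψ : (R × R) →ₗ[R] ↥N', ψ ∘ₗ (LinearMap.ker (absg₄ M u v hu hv)).subtype =
      absΘ₄ M N' u v hu hv D := by
  constructor
  · rintro ⟨h1, h2⟩
    refine ⟨(LinearMap.toSpanSingleton R ↥N' ⟨(D : Y × Y).1, h1⟩).coprod
      (LinearMap.toSpanSingleton R ↥N' ⟨(D : Y × Y).2, h2⟩), ?_⟩
    apply LinearMap.ext
    intro q
    apply Subtype.ext
    rw [absΘ₄_apply]
    change (q : R × R).1 • (D : Y × Y).1 + (q : R × R).2 • (D : Y × Y).2 = _
    unfold ev
    rw [Algebra.smul_def, Algebra.smul_def]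
    ring
  · rintro ⟨ψ, hψ⟩
    obtain ⟨a, ha⟩ := exists_ax x hC
    have e1 := congrArg (fun w : ↥N' => (w : Y))
      (LinearMap.congr_fun hψ ⟨(a, 0), q₁_mem x hC M u v hu hv a ha⟩)
    have e2 := congrArg (fun w : ↥N' => (w : Y))
      (LinearMap.congr_fun hψ ⟨(0, a), q₂_mem x hC M u v hu hv a ha⟩)
    simp only [LinearMap.comp_apply, Submodule.subtype_apply] at e1 e2
    rw [absΘ₄_apply] at e1 e2
    have f1 : ψ (a, 0) = a • ψ (1, 0) := by
      rw [← map_smul]
      congr 1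
      ext
      · change a = a * 1
        rw [mul_one]
      · change (0 : R) = a * 0
        rw [mul_zero]
    have f2 : ψ (0, a) = a • ψ (0, 1) := by
      rw [← map_smul]
      congr 1
      ext
      · change (0 : R) = a * 0
        rw [mul_zero]
      · change a = a * 1
        rw [mul_one]
    rw [f1] at e1
    rw [f2] at e2
    change a • ((ψ (1, 0) : ↥N') : Y) = ev (D : Y × Y) (a, 0) at e1
    change a • ((ψ (0, 1) : ↥N') : Y) = ev (D : Y × Y) (0, a) at e2
    unfold ev at e1 e2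
    rw [Algebra.smul_def, ha] at e1 e2
    simp only [map_zero, mul_zero, add_zero, zero_add, ha] at e1 e2
    have g1 : (D : Y × Y).1 = ((ψ (1, 0) : ↥N') : Y) := by
      apply hx
      rw [e1]
      ring
    have g2 : (D : Y × Y).2 = ((ψ (0, 1) : ↥N') : Y) := by
      apply hx
      rw [e2]
      ring
    exact ⟨g1 ▸ (ψ (1, 0)).2, g2 ▸ (ψ (0, 1)).2⟩

include hx hC in
lemma absΘ₄_surjective (N : Submodule R Y) :
    Function.Surjective (absΘ₄ M (N.map (LinearMap.mulLeft R x)) u v hu hv) := by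
  intro φ
  obtain ⟨a, ha⟩ := exists_ax x hC
  obtain ⟨n₁, hn₁, hn₁'⟩ := (φ ⟨(a, 0), q₁_mem x hC M u v hu hv a ha⟩).2
  obtain ⟨n₂, hn₂, hn₂'⟩ := (φ ⟨(0, a), q₂_mem x hC M u v hu hv a ha⟩).2
  have hn₁'' : x * n₁ = ((φ ⟨(a, 0), q₁_mem x hC M u v hu hv a ha⟩ :
      ↥(N.map (LinearMap.mulLeft R x))) : Y) := hn₁'
  have hn₂'' : x * n₂ = ((φ ⟨(0, a), q₂_mem x hC M u v hu hv a ha⟩ :
      ↥(N.map (LinearMap.mulLeft R x))) : Y) := hn₂'
  have key : ∀ q : ↥(LinearMap.ker (absg₄ M u v hu hv)),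
      ((φ q : ↥(N.map (LinearMap.mulLeft R x))) : Y) = ev ((n₁, n₂) : Y × Y) (q : R × R) := by
    intro q
    have h1 : a • q = (q : R × R).1 • (⟨(a, 0), q₁_mem x hC M u v hu hv a ha⟩ :
        ↥(LinearMap.ker (absg₄ M u v hu hv))) +
        (q : R × R).2 • (⟨(0, a), q₂_mem x hC M u v hu hv a ha⟩ :
          ↥(LinearMap.ker (absg₄ M u v hu hv))) := by
      apply Subtype.ext
      ext
      · change a * (q : R × R).1 = (q : R × R).1 * a + (q : R × R).2 * 0
        ring
      · change a * (q : R × R).2 = (q : R × R).1 * 0 + (q : R × R).2 * a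
        ring
    have h2 := congrArg (fun w => ((φ w : ↥(N.map (LinearMap.mulLeft R x))) : Y)) h1
    simp only [map_add, map_smul] at h2
    change a • ((φ q : ↥(N.map (LinearMap.mulLeft R x))) : Y) =
      (q : R × R).1 • ((φ ⟨(a, 0), q₁_mem x hC M u v hu hv a ha⟩ :
        ↥(N.map (LinearMap.mulLeft R x))) : Y) +
      (q : R × R).2 • ((φ ⟨(0, a), q₂_mem x hC M u v hu hv a ha⟩ :
        ↥(N.map (LinearMap.mulLeft R x))) : Y) at h2
    rw [← hn₁'', ← hn₂'', Algebra.smul_def, Algebra.smul_def, Algebra.smul_def, ha] at h2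
    apply hx
    rw [h2]
    unfold ev
    ring
  have hD : ((n₁, n₂) : Y × Y) ∈ absB₄ (N.map (LinearMap.mulLeft R x)) u v := by
    intro q hq
    have := key ⟨q, (mem_ker_absg₄ M u v hu hv q).mpr hq⟩
    rw [← this]
    exact (φ _).2
  refine ⟨⟨_, hD⟩, ?_⟩
  apply LinearMap.ext
  intro q
  apply Subtype.ext
  rw [absΘ₄_apply]
  exact (key q).symm

include hx hinj hC hM1 hu hv hgen in
/-- the three-generator formula. -/
theorem absGT3 (N : Submodule R Y) :
    relLen ((N.map (LinearMap.mulLeft R x)).prod (N.map (LinearMap.mulLeft R x)))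
        (absB₄ (N.map (LinearMap.mulLeft R x)) u v) =
      relLen ((N.map (LinearMap.mulLeft R x)) / M) (N.map (LinearMap.mulLeft R x)) +
        Module.length R (Ext (ModuleCat.of R ↥M)
          (ModuleCat.of R ↥(N.map (LinearMap.mulLeft R x))) 1) := by
  have hS1 := sesSC_shortExact (absι₁ M hM1)
    (Submodule.comap M.subtype (1 : Submodule R Y)).mkQ (abs_exact_ι₁ M hM1)
    (absι₁_injective hinj M hM1) (Submodule.mkQ_surjective _)
  have h_a := length_range_cδ_zero (absι₁ M hM1)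
    (Submodule.comap M.subtype (1 : Submodule R Y)).mkQ (abs_exact_ι₁ M hM1)
    (absι₁_injective hinj M hM1) (Submodule.mkQ_surjective _)
    ((N.map (LinearMap.mulLeft R x)) / M) (N.map (LinearMap.mulLeft R x))
    (LinearMap.ringLmapEquivSelf R R ↥(N.map (LinearMap.mulLeft R x))).symm.toLinearMap
    (LinearMap.ringLmapEquivSelf R R ↥(N.map (LinearMap.mulLeft R x))).symm.surjective
    (abs_ha₁' x hx hC M (N.map (LinearMap.mulLeft R x)) hM1)
  have hproj : Subsingleton (Ext (ModuleCat.of R R)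
      (ModuleCat.of R ↥(N.map (LinearMap.mulLeft R x))) 1) :=
    Ext.subsingleton_of_projective _ _ 0
  have hproj2 : Subsingleton (Ext (ModuleCat.of R (R × R))
      (ModuleCat.of R ↥(N.map (LinearMap.mulLeft R x))) 1) :=
    Ext.subsingleton_of_projective _ _ 0
  have h_b := length_eq_range_add_range
    (cδ hS1 (ModuleCat.of R ↥(N.map (LinearMap.mulLeft R x))) 0)
    (cφ _ (ModuleCat.of R ↥(N.map (LinearMap.mulLeft R x))) (0 + 1))
    (exact_cδ_cφ hS1 (ModuleCat.of R ↥(N.map (LinearMap.mulLeft R x))) 0)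
  have h_c : Function.Surjective (cφ (sesSC (absι₁ M hM1)
      (Submodule.comap M.subtype (1 : Submodule R Y)).mkQ (abs_exact_ι₁ M hM1))
      (ModuleCat.of R ↥(N.map (LinearMap.mulLeft R x))) (0 + 1)) := by
    intro z
    exact (exact_cφ_cψ hS1 (ModuleCat.of R ↥(N.map (LinearMap.mulLeft R x))) (0 + 1) z).mp
      (Subsingleton.elim (α := Ext (ModuleCat.of R R)
        (ModuleCat.of R ↥(N.map (LinearMap.mulLeft R x))) 1) _ _)
  rw [length_range_of_surjective _ h_c, h_a] at h_b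
  have h_b' : Module.length R (Ext (ModuleCat.of R
      (↥M ⧸ Submodule.comap M.subtype (1 : Submodule R Y)))
      (ModuleCat.of R ↥(N.map (LinearMap.mulLeft R x))) 1) =
      relLen ((N.map (LinearMap.mulLeft R x)) / M) (N.map (LinearMap.mulLeft R x)) +
        Module.length R (Ext (ModuleCat.of R ↥M)
          (ModuleCat.of R ↥(N.map (LinearMap.mulLeft R x))) 1) := h_b
  have hS2 := sesSC_shortExact (LinearMap.ker (absg₄ M u v hu hv)).subtype (absg₄ M u v hu hv)
    (LinearMap.exact_subtype_ker_map _) (Submodule.injective_subtype _)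
    (absg₄_surjective M u v hu hv hgen)
  have h_e := length_range_cδ_zero (LinearMap.ker (absg₄ M u v hu hv)).subtype
    (absg₄ M u v hu hv) (LinearMap.exact_subtype_ker_map _) (Submodule.injective_subtype _)
    (absg₄_surjective M u v hu hv hgen)
    ((N.map (LinearMap.mulLeft R x)).prod (N.map (LinearMap.mulLeft R x)))
    (absB₄ (N.map (LinearMap.mulLeft R x)) u v)
    (absΘ₄ M (N.map (LinearMap.mulLeft R x)) u v hu hv)
    (absΘ₄_surjective x hx hC M u v hu hv N)
    (abs_ha₄ x hx hC M (N.map (LinearMap.mulLeft R x)) u v hu hv)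
  have h_f : Function.Surjective
      (cδ hS2 (ModuleCat.of R ↥(N.map (LinearMap.mulLeft R x))) 0) := by
    intro z
    exact (exact_cδ_cφ hS2 (ModuleCat.of R ↥(N.map (LinearMap.mulLeft R x))) 0 z).mp
      (Subsingleton.elim (α := Ext (ModuleCat.of R (R × R))
        (ModuleCat.of R ↥(N.map (LinearMap.mulLeft R x))) 1) _ _)
  rw [length_range_of_surjective _ h_f] at h_e
  have h_e' : Module.length R (Ext (ModuleCat.of R
      (↥M ⧸ Submodule.comap M.subtype (1 : Submodule R Y)))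
      (ModuleCat.of R ↥(N.map (LinearMap.mulLeft R x))) 1) =
      relLen ((N.map (LinearMap.mulLeft R x)).prod (N.map (LinearMap.mulLeft R x)))
        (absB₄ (N.map (LinearMap.mulLeft R x)) u v) := h_e
  rw [← h_e', h_b']

end abs4

section conc3

variable {k : Type u} [Field k] (A : Subalgebra k (PowerSeries k))
  (c : ℕ) (hC : ∀ f : PowerSeries k, (X : PowerSeries k) ^ c ∣ f → f ∈ A)

include hC in
/-- the three-generator formula for subalgebras of `k⟦X⟧`. -/
theorem GT3 (M N : Submodule ↥A (PowerSeries k)) (hM1 : (1 : PowerSeries k) ∈ M)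
    (u v : PowerSeries k) (hu : u ∈ M) (hv : v ∈ M)
    (hgen : ∀ m ∈ M, ∃ a b c' : ↥A,
      m = (a : PowerSeries k) + (b : PowerSeries k) * u + (c' : PowerSeries k) * v) :
    relLen ((N.map (LinearMap.mulLeft ↥A ((X : PowerSeries k) ^ c))).prod
        (N.map (LinearMap.mulLeft ↥A ((X : PowerSeries k) ^ c))))
        (absB₄ (N.map (LinearMap.mulLeft ↥A ((X : PowerSeries k) ^ c))) u v) =
      relLen ((N.map (LinearMap.mulLeft ↥A ((X : PowerSeries k) ^ c))) / M)
        (N.map (LinearMap.mulLeft ↥A ((X : PowerSeries k) ^ c))) +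
        Module.length ↥A (Ext (ModuleCat.of ↥A ↥M)
          (ModuleCat.of ↥A ↥(N.map (LinearMap.mulLeft ↥A ((X : PowerSeries k) ^ c)))) 1) :=
  absGT3 ((X : PowerSeries k) ^ c) (hx_cancel c) (hinj_A A) (hC' A c hC) M hM1 u v hu hv hgen N

end conc3

end Groth.Agent.Helper8.TFV
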