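import Groth.Agent.Lib.Helper8.TFV11

/-!
# `Ext¹(M, M)` for the rank-one modules of the `E₆` singularity `k⟦t³, t⁴⟧`
-/

set_option autoImplicit false
set_option linter.style.haveILetI false
universe u

namespace Groth.Agent.Helper8.TFV

open PowerSeries CategoryTheory Abelian IsLocalRing
open Groth.Agent.Helper8.TF Groth.Agent.Helper8.W4

section gen

variable {k : Type u} [Field k] (A : Subalgebra k (PowerSeries k)) (Γ : Set ℕ)
  (hmono : ∀ f : PowerSeries k, f ∈ A ↔ ∀ n : ℕ, coeff n f ≠ 0 → n ∈ Γ)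

/-- the two-generator formula for monomial modules, in combinatorial form. -/
theorem gen_two (c : ℕ) (hc : ∀ n, c ≤ n → n ∈ Γ)
    (ΔM ΔN ΔP : Set ℕ) (hΔM : ∀ γ ∈ Γ, ∀ v ∈ ΔM, γ + v ∈ ΔM)
    (hΔN : ∀ γ ∈ Γ, ∀ v ∈ ΔN, γ + v ∈ ΔN) (hΔP : ∀ γ ∈ Γ, ∀ v ∈ ΔP, γ + v ∈ ΔP) (e s : ℕ)
    (h0M : 0 ∈ ΔM) (heM : e ∈ ΔM)
    (hgenM : ∀ v ∈ ΔM, v < c → v ∈ Γ ∨ (e ≤ v ∧ v - e ∈ Γ))
    (h0P : 0 ∈ ΔP) (hPin' : ∀ n, s ≤ n → n - s ∈ ΔP → n ∈ Γ)
    (hP1' : ∀ n ∈ Γ, n + e ∈ Γ → s ≤ n ∧ n - s ∈ ΔP)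
    (hP2' : ∀ n, s ≤ n → n - s ∈ ΔP → n + e ∈ Γ)
    (hcN : ∀ n, c ≤ n → n ∈ ΔN)
    (T₁ T₂ : Finset ℕ) (hT₁ : ∀ j, j ∈ T₁ ↔ j ∈ ΔN ∧ ¬ ∀ w ∈ ΔP, j + w ∈ ΔN)
    (hT₂ : ∀ j, j ∈ T₂ ↔ j ∈ ΔN ∧ ¬ ∀ w ∈ ΔM, j + w ∈ ΔN) :
    Module.length ↥A (Ext (ModuleCat.of ↥A ↥(gMod A Γ hmono ΔM hΔM))
      (ModuleCat.of ↥A ↥(gMod A Γ hmono ΔN hΔN)) 1) + (T₁.card : ℕ∞) + (T₂.card : ℕ∞) =
      (s : ℕ∞) := by
  have hspan := span_pair_eq_gMod A Γ hmono ΔM hΔM e c hc h0M heM hgenM
  have hPin : ∀ p ∈ gMod A Γ hmono ΔP hΔP, (X : PowerSeries k) ^ s * p ∈ A := by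
    intro p hp
    rw [hmono]
    intro n hne
    obtain ⟨h1, h2⟩ := coeff_X_pow_mul_ne_zero p s n hne
    exact hPin' n h1 (hp _ h2)
  have hP : ∀ a ∈ A, a * (X : PowerSeries k) ^ e ∈ A ↔
      ∃ p ∈ gMod A Γ hmono ΔP hΔP, a = (X : PowerSeries k) ^ s * p := by
    intro a ha
    constructor
    · intro hau
      apply exists_eq_X_pow_mul A Γ hmono ΔP hΔP a s
      intro n hne
      exact hP1' n ((hmono a).mp ha n hne) ((hmono _).mp hau (n + e) (by
        rw [coeff_mul_X_pow', if_pos (Nat.le_add_left _ _), Nat.add_sub_cancel]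
        exact hne))
    · rintro ⟨p, hp, rfl⟩
      rw [hmono]
      intro m hne
      have h1 : (X : PowerSeries k) ^ s * p * X ^ e = X ^ (s + e) * p := by
        rw [pow_add]
        ring
      rw [h1] at hne
      obtain ⟨h2, h3⟩ := coeff_X_pow_mul_ne_zero p (s + e) m hne
      have h4 := hP2' (m - e) (by omega) (by
        have h5 : m - e - s = m - (s + e) := by omega
        rw [h5]
        exact hp _ h3)
      have h6 : m - e + e = m := by omega
      rwa [h6] at h4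
  have hfin := GT2_final A c (mem_A_of_order A Γ hmono c hc)
    (gMod A Γ hmono ΔM hΔM) (gMod A Γ hmono ΔN hΔN) (gMod A Γ hmono ΔP hΔP)
    (one_mem_gMod A Γ hmono ΔM hΔM h0M) (X ^ e) (X_pow_mem_gMod A Γ hmono ΔM hΔM e heM)
    (hgen_of_span_pair A _ _ hspan) (one_mem_gMod A Γ hmono ΔP hΔP h0P) s hPin hP c
    (Ord_le_gMod A Γ hmono ΔN hΔN c hcN)
  rw [gMod_div A Γ hmono ΔN hΔN ΔP hΔP, gMod_div A Γ hmono ΔN hΔN ΔM hΔM] at hfin
  rw [relLen_gMod_diff A Γ hmono _ (div_closed Γ ΔN hΔN ΔP) ΔN hΔN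
      (fun v hv => by have := hv 0 h0P; rwa [add_zero] at this) c
      (fun n hn w _ => hcN _ (by omega)) T₁ hT₁,
    relLen_gMod_diff A Γ hmono _ (div_closed Γ ΔN hΔN ΔM) ΔN hΔN
      (fun v hv => by have := hv 0 h0M; rwa [add_zero] at this) c
      (fun n hn w _ => hcN _ (by omega)) T₂ hT₂] at hfin
  exact hfin

end gen

section absmap

variable {R Y : Type u} [CommRing R] [CommRing Y] [Algebra R Y]

lemma abs_length_ext_map (X' : ModuleCat.{u} R) (N : Submodule R Y) (x : Y)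
    (hx : ∀ y y' : Y, x * y = x * y' → y = y') :
    Module.length R (Ext X' (ModuleCat.of R ↥N) 1) =
      Module.length R (Ext X' (ModuleCat.of R ↥(N.map (LinearMap.mulLeft R x))) 1) := by
  have e := Groth.Agent.Helper8.LD.mu_congr_linearEquiv X'
    (Submodule.equivMapOfInjective (LinearMap.mulLeft R x) (fun y y' h => hx y y' h) N) 1
  unfold Groth.Agent.Helper8.LD.mu at e
  exact e

end absmap

section E6

lemma mem_closure_34_iff (n : ℕ) :
    n ∈ AddSubmonoid.closure ({3, 4} : Set ℕ) ↔ (n ≠ 1 ∧ n ≠ 2 ∧ n ≠ 5) := by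
  constructor
  · intro h
    refine AddSubmonoid.closure_induction
      (motive := fun n _ => n ≠ 1 ∧ n ≠ 2 ∧ n ≠ 5) ?_ ?_ ?_ h
    · intro x hx
      simp only [Set.mem_insert_iff, Set.mem_singleton_iff] at hx
      rcases hx with rfl | rfl
      · exact ⟨by omega, by omega, by omega⟩
      · exact ⟨by omega, by omega, by omega⟩
    · exact ⟨by omega, by omega, by omega⟩
    · intro x y _ _ hx hy
      omega
  · rintro ⟨h1, h2, h5⟩
    have h3mem : (3 : ℕ) ∈ AddSubmonoid.closure ({3, 4} : Set ℕ) :=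
      AddSubmonoid.subset_closure (Set.mem_insert _ _)
    have h4mem : (4 : ℕ) ∈ AddSubmonoid.closure ({3, 4} : Set ℕ) :=
      AddSubmonoid.subset_closure (Set.mem_insert_of_mem _ (Set.mem_singleton _))
    rcases (by omega : n % 3 = 0 ∨ n % 3 = 1 ∨ n % 3 = 2) with h | h | h
    · have h6 := nsmul_mem h3mem (n / 3)
      have e : (n / 3) • 3 = n := by
        rw [smul_eq_mul]
        omega
      rwa [e] at h6
    · have h6 := add_mem h4mem (nsmul_mem h3mem ((n - 4) / 3))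
      have e : 4 + ((n - 4) / 3) • 3 = n := by
        rw [smul_eq_mul]
        omega
      rwa [e] at h6
    · have h6 := add_mem (add_mem h4mem h4mem) (nsmul_mem h3mem ((n - 8) / 3))
      have e : 4 + 4 + ((n - 8) / 3) • 3 = n := by
        rw [smul_eq_mul]
        omega
      rwa [e] at h6

/-- the semigroup `⟨3, 4⟩`. -/
def ΓE : Set ℕ := {n | n ≠ 1 ∧ n ≠ 2 ∧ n ≠ 5}

variable {k : Type u} [Field k] (A : Subalgebra k (PowerSeries k))
  (hmono' : ∀ f : PowerSeries k, f ∈ A ↔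
    ∀ n : ℕ, coeff n f ≠ 0 → n ∈ AddSubmonoid.closure ({3, 4} : Set ℕ))

include hmono' in
lemma hmonoE : ∀ f : PowerSeries k, f ∈ A ↔ ∀ n : ℕ, coeff n f ≠ 0 → n ∈ ΓE := by
  intro f
  rw [hmono']
  constructor
  · intro h n hne
    exact (mem_closure_34_iff n).mp (h n hne)
  · intro h n hne
    exact (mem_closure_34_iff n).mpr (h n hne)

lemma hcE : ∀ n, 6 ≤ n → n ∈ ΓE := by
  intro n hn
  simp only [ΓE, Set.mem_ofPred_eq]
  omega

include hmono' in
theorem E6_part1 :
    Module.length ↥A (Ext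
      (ModuleCat.of ↥A ↥(Submodule.span ↥A
        ({1, (X : PowerSeries k) ^ 5} : Set (PowerSeries k))))
      (ModuleCat.of ↥A ↥(Submodule.span ↥A
        ({1, (X : PowerSeries k) ^ 5} : Set (PowerSeries k)))) 1) = 2 := by
  have hm := hmonoE A hmono'
  have hΔ : ∀ γ ∈ ΓE, ∀ v ∈ {n : ℕ | n ≠ 1 ∧ n ≠ 2}, γ + v ∈ {n : ℕ | n ≠ 1 ∧ n ≠ 2} := by
    intro γ hγ v hv
    simp only [ΓE, Set.mem_ofPred_eq] at *
    omega
  have hΔP : ∀ γ ∈ ΓE, ∀ v ∈ {n : ℕ | n ≠ 2}, γ + v ∈ {n : ℕ | n ≠ 2} := by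
    intro γ hγ v hv
    simp only [ΓE, Set.mem_ofPred_eq] at *
    omega
  have hgenM : ∀ v ∈ {n : ℕ | n ≠ 1 ∧ n ≠ 2}, v < 6 → v ∈ ΓE ∨ (5 ≤ v ∧ v - 5 ∈ ΓE) := by
    intro v hv hvc
    simp only [ΓE, Set.mem_ofPred_eq] at *
    omega
  rw [span_pair_eq_gMod A ΓE hm {n : ℕ | n ≠ 1 ∧ n ≠ 2} hΔ 5 6 hcE (by decide) (by decide)
    hgenM]
  have h := gen_two A ΓE hm 6 hcE {n : ℕ | n ≠ 1 ∧ n ≠ 2} {n : ℕ | n ≠ 1 ∧ n ≠ 2}
    {n : ℕ | n ≠ 2} hΔ hΔ hΔP 5 3 (by decide) (by decide) hgenM (by decide)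
    (by
      intro n h1 h2
      simp only [ΓE, Set.mem_ofPred_eq] at *
      omega)
    (by
      intro n h1 h2
      simp only [ΓE, Set.mem_ofPred_eq] at *
      omega)
    (by
      intro n h1 h2
      simp only [ΓE, Set.mem_ofPred_eq] at *
      omega)
    (by
      intro n hn
      simp only [Set.mem_ofPred_eq]
      omega)
    {0} ∅
    (by
      intro j
      rw [Finset.mem_singleton]
      constructor
      · rintro rfl
        refine ⟨by decide, ?_⟩
        intro h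
        exact absurd (h 1 (by decide)) (by decide)
      · rintro ⟨h1, h2⟩
        by_contra hj
        apply h2
        intro w hw
        simp only [Set.mem_ofPred_eq] at *
        omega)
    (by
      intro j
      constructor
      · intro h
        exact absurd h (Finset.notMem_empty j)
      · rintro ⟨h1, h2⟩
        exfalso
        apply h2
        intro w hw
        simp only [Set.mem_ofPred_eq] at *
        omega)
  rw [Finset.card_singleton, Finset.card_empty, Nat.cast_one, Nat.cast_zero, add_zero] at h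
  have h' : ((1 : ℕ) : ℕ∞) + Module.length ↥A (Ext
      (ModuleCat.of ↥A ↥(gMod A ΓE hm {n : ℕ | n ≠ 1 ∧ n ≠ 2} hΔ))
      (ModuleCat.of ↥A ↥(gMod A ΓE hm {n : ℕ | n ≠ 1 ∧ n ≠ 2} hΔ)) 1) = ((3 : ℕ) : ℕ∞) := by
    rw [Nat.cast_one, add_comm]
    exact h
  rw [enat_of_add h']
  rfl

include hmono' in
theorem E6_part2 :
    Module.length ↥A (Ext
      (ModuleCat.of ↥A ↥(Submodule.span ↥A
        ({1, (X : PowerSeries k)} : Set (PowerSeries k))))
      (ModuleCat.of ↥A ↥(Submodule.span ↥A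
        ({1, (X : PowerSeries k)} : Set (PowerSeries k)))) 1) = 2 := by
  have hm := hmonoE A hmono'
  have hΔP : ∀ γ ∈ ΓE, ∀ v ∈ {n : ℕ | n ≠ 1 ∧ n ≠ 2}, γ + v ∈ {n : ℕ | n ≠ 1 ∧ n ≠ 2} := by
    intro γ hγ v hv
    simp only [ΓE, Set.mem_ofPred_eq] at *
    omega
  have hΔ : ∀ γ ∈ ΓE, ∀ v ∈ {n : ℕ | n ≠ 2}, γ + v ∈ {n : ℕ | n ≠ 2} := by
    intro γ hγ v hv
    simp only [ΓE, Set.mem_ofPred_eq] at *
    omega
  have hgenM : ∀ v ∈ {n : ℕ | n ≠ 2}, v < 6 → v ∈ ΓE ∨ (1 ≤ v ∧ v - 1 ∈ ΓE) := by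
    intro v hv hvc
    simp only [ΓE, Set.mem_ofPred_eq] at *
    omega
  have hsp := span_pair_eq_gMod A ΓE hm {n : ℕ | n ≠ 2} hΔ 1 6 hcE (by decide) (by decide)
    hgenM
  rw [pow_one] at hsp
  rw [hsp]
  have h := gen_two A ΓE hm 6 hcE {n : ℕ | n ≠ 2} {n : ℕ | n ≠ 2}
    {n : ℕ | n ≠ 1 ∧ n ≠ 2} hΔ hΔ hΔP 1 3 (by decide) (by decide) hgenM (by decide)
    (by
      intro n h1 h2
      simp only [ΓE, Set.mem_ofPred_eq] at *
      omega)
    (by
      intro n h1 h2
      simp only [ΓE, Set.mem_ofPred_eq] at *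
      omega)
    (by
      intro n h1 h2
      simp only [ΓE, Set.mem_ofPred_eq] at *
      omega)
    (by
      intro n hn
      simp only [Set.mem_ofPred_eq]
      omega)
    ∅ {1}
    (by
      intro j
      constructor
      · intro h
        exact absurd h (Finset.notMem_empty j)
      · rintro ⟨h1, h2⟩
        exfalso
        apply h2
        intro w hw
        simp only [Set.mem_ofPred_eq] at *
        omega)
    (by
      intro j
      rw [Finset.mem_singleton]
      constructor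
      · rintro rfl
        refine ⟨by decide, ?_⟩
        intro h
        exact absurd (h 1 (by decide)) (by decide)
      · rintro ⟨h1, h2⟩
        by_contra hj
        apply h2
        intro w hw
        simp only [Set.mem_ofPred_eq] at *
        omega)
  rw [Finset.card_singleton, Finset.card_empty, Nat.cast_one, Nat.cast_zero, add_zero] at h
  have h' : ((1 : ℕ) : ℕ∞) + Module.length ↥A (Ext
      (ModuleCat.of ↥A ↥(gMod A ΓE hm {n : ℕ | n ≠ 2} hΔ))
      (ModuleCat.of ↥A ↥(gMod A ΓE hm {n : ℕ | n ≠ 2} hΔ)) 1) = ((3 : ℕ) : ℕ∞) := by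
    rw [Nat.cast_one, add_comm]
    exact h
  rw [enat_of_add h']
  rfl

include hmono' in
theorem E6_part3 :
    Module.length ↥A (Ext
      (ModuleCat.of ↥A ↥(Submodule.span ↥A
        ({1, (X : PowerSeries k) ^ 2} : Set (PowerSeries k))))
      (ModuleCat.of ↥A ↥(Submodule.span ↥A
        ({1, (X : PowerSeries k) ^ 2} : Set (PowerSeries k)))) 1) = 4 := by
  have hm := hmonoE A hmono'
  have hΔ : ∀ γ ∈ ΓE, ∀ v ∈ {n : ℕ | n ≠ 1}, γ + v ∈ {n : ℕ | n ≠ 1} := by
    intro γ hγ v hv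
    simp only [ΓE, Set.mem_ofPred_eq] at *
    omega
  have hgenM : ∀ v ∈ {n : ℕ | n ≠ 1}, v < 6 → v ∈ ΓE ∨ (2 ≤ v ∧ v - 2 ∈ ΓE) := by
    intro v hv hvc
    simp only [ΓE, Set.mem_ofPred_eq] at *
    omega
  rw [span_pair_eq_gMod A ΓE hm {n : ℕ | n ≠ 1} hΔ 2 6 hcE (by decide) (by decide) hgenM]
  have h := gen_two A ΓE hm 6 hcE {n : ℕ | n ≠ 1} {n : ℕ | n ≠ 1}
    {n : ℕ | n ≠ 1} hΔ hΔ hΔ 2 4 (by decide) (by decide) hgenM (by decide)
    (by
      intro n h1 h2
      simp only [ΓE, Set.mem_ofPred_eq] at *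
      omega)
    (by
      intro n h1 h2
      simp only [ΓE, Set.mem_ofPred_eq] at *
      omega)
    (by
      intro n h1 h2
      simp only [ΓE, Set.mem_ofPred_eq] at *
      omega)
    (by
      intro n hn
      simp only [Set.mem_ofPred_eq]
      omega)
    ∅ ∅
    (by
      intro j
      constructor
      · intro h
        exact absurd h (Finset.notMem_empty j)
      · rintro ⟨h1, h2⟩
        exfalso
        apply h2
        intro w hw
        simp only [Set.mem_ofPred_eq] at *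
        omega)
    (by
      intro j
      constructor
      · intro h
        exact absurd h (Finset.notMem_empty j)
      · rintro ⟨h1, h2⟩
        exfalso
        apply h2
        intro w hw
        simp only [Set.mem_ofPred_eq] at *
        omega)
  rw [Finset.card_empty, Nat.cast_zero, add_zero, add_zero] at h
  rw [h]
  rfl

include hmono' in
theorem E6_part4 :
    Module.length ↥A (Ext
      (ModuleCat.of ↥A ↥(Submodule.span ↥A
        ({1, (X : PowerSeries k), (X : PowerSeries k) ^ 2} : Set (PowerSeries k))))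
      (ModuleCat.of ↥A ↥(Submodule.span ↥A
        ({1, (X : PowerSeries k), (X : PowerSeries k) ^ 2} : Set (PowerSeries k)))) 1) = 6 := by
  have hm := hmonoE A hmono'
  have hCA := mem_A_of_order A ΓE hm 6 hcE
  have hA3 : (X : PowerSeries k) ^ 3 ∈ A := X_pow_mem_A A ΓE hm 3
    (show (3 : ℕ) ≠ 1 ∧ (3 : ℕ) ≠ 2 ∧ (3 : ℕ) ≠ 5 from ⟨by omega, by omega, by omega⟩)
  have hA4 : (X : PowerSeries k) ^ 4 ∈ A := X_pow_mem_A A ΓE hm 4
    (show (4 : ℕ) ≠ 1 ∧ (4 : ℕ) ≠ 2 ∧ (4 : ℕ) ≠ 5 from ⟨by omega, by omega, by omega⟩)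
  have hA3n : -(X : PowerSeries k) ^ 3 ∈ A := A.neg_mem hA3
  have htop : Submodule.span ↥A
      ({1, (X : PowerSeries k), (X : PowerSeries k) ^ 2} : Set (PowerSeries k)) = ⊤ := by
    have h1m : (1 : PowerSeries k) ∈ Submodule.span ↥A
        ({1, (X : PowerSeries k), (X : PowerSeries k) ^ 2} : Set (PowerSeries k)) :=
      Submodule.subset_span (Set.mem_insert _ _)
    have hX1 : (X : PowerSeries k) ∈ Submodule.span ↥A
        ({1, (X : PowerSeries k), (X : PowerSeries k) ^ 2} : Set (PowerSeries k)) :=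
      Submodule.subset_span (Set.mem_insert_of_mem _ (Set.mem_insert _ _))
    have hX2 : (X : PowerSeries k) ^ 2 ∈ Submodule.span ↥A
        ({1, (X : PowerSeries k), (X : PowerSeries k) ^ 2} : Set (PowerSeries k)) :=
      Submodule.subset_span
        (Set.mem_insert_of_mem _ (Set.mem_insert_of_mem _ (Set.mem_singleton _)))
    apply eq_of_values A 6 _ ⊤ le_top
    · intro f hf
      have hfA := hCA f hf
      have h1 : f = (⟨f, hfA⟩ : ↥A) • (1 : PowerSeries k) := by
        change f = f * 1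
        rw [mul_one]
      rw [h1]
      exact Submodule.smul_mem _ _ h1m
    · intro j hj _
      refine ⟨X ^ j, ?_, order_X_pow j⟩
      have hcases : j = 0 ∨ j = 1 ∨ j = 2 ∨ j = 3 ∨ j = 4 ∨ j = 5 := by omega
      rcases hcases with rfl | rfl | rfl | rfl | rfl | rfl
      · rw [pow_zero]
        exact h1m
      · rw [pow_one]
        exact hX1
      · exact hX2
      · have h1 : (X : PowerSeries k) ^ 3 = (⟨X ^ 3, hA3⟩ : ↥A) • (1 : PowerSeries k) := by
          change (X : PowerSeries k) ^ 3 = X ^ 3 * 1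
          rw [mul_one]
        rw [h1]
        exact Submodule.smul_mem _ _ h1m
      · have h1 : (X : PowerSeries k) ^ 4 = (⟨X ^ 4, hA4⟩ : ↥A) • (1 : PowerSeries k) := by
          change (X : PowerSeries k) ^ 4 = X ^ 4 * 1
          rw [mul_one]
        rw [h1]
        exact Submodule.smul_mem _ _ h1m
      · have h1 : (X : PowerSeries k) ^ 5 = (⟨X ^ 4, hA4⟩ : ↥A) • (X : PowerSeries k) := by
          change (X : PowerSeries k) ^ 5 = X ^ 4 * X
          ring
        rw [h1]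
        exact Submodule.smul_mem _ _ hX1
  have hgen : ∀ m ∈ (⊤ : Submodule ↥A (PowerSeries k)), ∃ a b c' : ↥A,
      m = (a : PowerSeries k) + (b : PowerSeries k) * X + (c' : PowerSeries k) * X ^ 2 := by
    intro m _
    have hm' : m ∈ Submodule.span ↥A
        ({1, (X : PowerSeries k), (X : PowerSeries k) ^ 2} : Set (PowerSeries k)) := by
      rw [htop]
      exact Submodule.mem_top
    obtain ⟨a, b, c', h⟩ := Submodule.mem_span_triple.mp hm'
    refine ⟨a, b, c', ?_⟩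
    rw [← h]
    change (a : PowerSeries k) * 1 + (b : PowerSeries k) * X + (c' : PowerSeries k) * X ^ 2 = _
    rw [mul_one]
  rw [htop]
  have h3 := GT3 A 6 hCA ⊤ ⊤ Submodule.mem_top X (X ^ 2) Submodule.mem_top Submodule.mem_top hgen
  have e := abs_length_ext_map (ModuleCat.of ↥A ↥(⊤ : Submodule ↥A (PowerSeries k)))
    (⊤ : Submodule ↥A (PowerSeries k)) ((X : PowerSeries k) ^ 6) (hx_cancel 6)
  rw [← e] at h3
  rw [map_top_eq] at h3
  have hB : absB₄ (Ord A 6) (X : PowerSeries k) ((X : PowerSeries k) ^ 2) =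
      (Ord A 3).prod (Ord A 3) := by
    have e6 : (X : PowerSeries k) ^ 3 * X ^ 3 = X ^ 6 := by ring
    ext D
    constructor
    · intro hD
      rw [mem_absB₄] at hD
      have h1 := hD (⟨X ^ 3, hA3⟩, 0) (by
        rw [Submodule.mem_one]
        refine ⟨⟨X ^ 4, hA4⟩, ?_⟩
        change (X : PowerSeries k) ^ 4 = X ^ 3 * X + 0 * X ^ 2
        ring)
      have h2 := hD (⟨X ^ 4, hA4⟩, ⟨-X ^ 3, hA3n⟩) (by
        rw [Submodule.mem_one]
        refine ⟨0, ?_⟩
        change (0 : PowerSeries k) = X ^ 4 * X + (-X ^ 3) * X ^ 2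
        ring)
      have h1' : (X : PowerSeries k) ^ 6 ∣ D.1 * X ^ 3 + D.2 * 0 := h1
      have h2' : (X : PowerSeries k) ^ 6 ∣ D.1 * X ^ 4 + D.2 * (-X ^ 3) := h2
      rw [mul_zero, add_zero] at h1'
      have d1 : (X : PowerSeries k) ^ 3 ∣ D.1 := by
        have h4 : (X : PowerSeries k) ^ 3 * X ^ 3 ∣ D.1 * X ^ 3 := by
          rw [e6]
          exact h1'
        exact (mul_dvd_mul_iff_right (pow_ne_zero 3 X_ne_zero)).mp h4
      have d2 : (X : PowerSeries k) ^ 3 ∣ D.2 := by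
        obtain ⟨g, hg⟩ := d1
        have h4 : (X : PowerSeries k) ^ 3 * X ^ 3 ∣ D.2 * X ^ 3 := by
          rw [e6]
          have h5 : D.2 * (X : PowerSeries k) ^ 3 =
              D.1 * X ^ 4 - (D.1 * X ^ 4 + D.2 * (-X ^ 3)) := by ring
          rw [h5]
          apply dvd_sub _ h2'
          rw [hg]
          exact ⟨X * g, by ring⟩
        exact (mul_dvd_mul_iff_right (pow_ne_zero 3 X_ne_zero)).mp h4
      exact ⟨d1, d2⟩
    · rintro ⟨d1, d2⟩
      rw [mem_absB₄]
      intro q hq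
      rw [Submodule.mem_one] at hq
      obtain ⟨a, ha⟩ := hq
      have ha' : (a : PowerSeries k) =
          (q.1 : PowerSeries k) * X ^ 1 + (q.2 : PowerSeries k) * X ^ 2 := by
        rw [pow_one]
        exact ha
      have hzero : ∀ (b : ↥A) (m : ℕ), m = 1 ∨ m = 2 → coeff m (b : PowerSeries k) = 0 := by
        intro b m hm12
        by_contra h
        have h6 := (hm _).mp b.2 m h
        simp only [ΓE, Set.mem_ofPred_eq] at h6
        omega
      have c1 := hzero a 1 (Or.inl rfl)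
      have c2 := hzero a 2 (Or.inr rfl)
      rw [ha', map_add, coeff_mul_X_pow', coeff_mul_X_pow'] at c1 c2
      rw [if_pos le_rfl, if_neg (by norm_num), add_zero, Nat.sub_self] at c1
      rw [if_pos (by norm_num), if_pos le_rfl, Nat.sub_self] at c2
      have c2' : coeff 0 (q.2 : PowerSeries k) = 0 := by
        have h7 : coeff (2 - 1) (q.1 : PowerSeries k) = 0 := hzero q.1 1 (Or.inl rfl)
        rw [h7, zero_add] at c2
        exact c2
      have hb : (X : PowerSeries k) ^ 3 ∣ (q.1 : PowerSeries k) := by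
        rw [X_pow_dvd_iff]
        intro m hm3
        have hcases : m = 0 ∨ m = 1 ∨ m = 2 := by omega
        rcases hcases with rfl | h8 | h8
        · exact c1
        · exact hzero q.1 m (Or.inl h8)
        · exact hzero q.1 m (Or.inr h8)
      have hc' : (X : PowerSeries k) ^ 3 ∣ (q.2 : PowerSeries k) := by
        rw [X_pow_dvd_iff]
        intro m hm3
        have hcases : m = 0 ∨ m = 1 ∨ m = 2 := by omega
        rcases hcases with rfl | h8 | h8
        · exact c2'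
        · exact hzero q.2 m (Or.inl h8)
        · exact hzero q.2 m (Or.inr h8)
      change (X : PowerSeries k) ^ 6 ∣ D.1 * (q.1 : PowerSeries k) + D.2 * (q.2 : PowerSeries k)
      rw [← e6]
      exact dvd_add (mul_dvd_mul d1 hb) (mul_dvd_mul d2 hc')
  have hdiv : Ord A 6 / (⊤ : Submodule ↥A (PowerSeries k)) = Ord A 6 := by
    apply le_antisymm
    · intro d hd
      rw [Submodule.mem_div_iff_forall_mul_mem] at hd
      have := hd 1 Submodule.mem_top
      rwa [mul_one] at this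
    · intro d hd
      rw [Submodule.mem_div_iff_forall_mul_mem]
      intro y _
      exact Dvd.dvd.mul_right hd y
  rw [hB, hdiv, relLen_self, zero_add,
    relLen_prod _ _ _ _ (Ord_mono A (by norm_num)) (Ord_mono A (by norm_num)),
    relLen_Ord_Ord A 6 3 (by norm_num)] at h3
  rw [← h3]
  norm_num

include hmono' in
theorem main_S15041 :
    Module.length ↥A (Ext
      (ModuleCat.of ↥A ↥(Submodule.span ↥A
        ({1, (X : PowerSeries k) ^ 5} : Set (PowerSeries k))))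
      (ModuleCat.of ↥A ↥(Submodule.span ↥A
        ({1, (X : PowerSeries k) ^ 5} : Set (PowerSeries k)))) 1) = 2 ∧
    Module.length ↥A (Ext
      (ModuleCat.of ↥A ↥(Submodule.span ↥A
        ({1, (X : PowerSeries k)} : Set (PowerSeries k))))
      (ModuleCat.of ↥A ↥(Submodule.span ↥A
        ({1, (X : PowerSeries k)} : Set (PowerSeries k)))) 1) = 2 ∧
    Module.length ↥A (Ext
      (ModuleCat.of ↥A ↥(Submodule.span ↥A
        ({1, (X : PowerSeries k) ^ 2} : Set (PowerSeries k))))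
      (ModuleCat.of ↥A ↥(Submodule.span ↥A
        ({1, (X : PowerSeries k) ^ 2} : Set (PowerSeries k)))) 1) = 4 ∧
    Module.length ↥A (Ext
      (ModuleCat.of ↥A ↥(Submodule.span ↥A
        ({1, (X : PowerSeries k), (X : PowerSeries k) ^ 2} : Set (PowerSeries k))))
      (ModuleCat.of ↥A ↥(Submodule.span ↥A
        ({1, (X : PowerSeries k), (X : PowerSeries k) ^ 2} : Set (PowerSeries k)))) 1) = 6 :=
  ⟨E6_part1 A hmono', E6_part2 A hmono', E6_part3 A hmono', E6_part4 A hmono'⟩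

end E6

end Groth.Agent.Helper8.TFV
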