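import Groth.Agent.Lib.Helper8.TFV12

/-!
# `Ext¹` between the rank-one modules of the two-branch singularity `A_{2δ-1}`
-/

set_option autoImplicit false
set_option linter.style.haveILetI false
universe u

namespace Groth.Agent.Helper8.TFV

open PowerSeries CategoryTheory Abelian IsLocalRing
open Groth.Agent.Helper8.TF Groth.Agent.Helper8.W4

section absmap2

variable {R Y : Type u} [CommRing R] [CommRing Y] [Algebra R Y]

lemma abs_length_ext_map₂ (M N : Submodule R Y) (x₁ x₂ : Y)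
    (h₁ : ∀ y y' : Y, x₁ * y = x₁ * y' → y = y') (h₂ : ∀ y y' : Y, x₂ * y = x₂ * y' → y = y') :
    Module.length R (Ext (ModuleCat.of R ↥(M.map (LinearMap.mulLeft R x₁)))
      (ModuleCat.of R ↥(N.map (LinearMap.mulLeft R x₂))) 1) =
    Module.length R (Ext (ModuleCat.of R ↥M) (ModuleCat.of R ↥N) 1) := by
  have e1 := (extCongrLeft (Submodule.equivMapOfInjective (LinearMap.mulLeft R x₁)
    (fun y y' h => h₁ y y' h) M).toModuleIso
    (ModuleCat.of R ↥(N.map (LinearMap.mulLeft R x₂))) 1).length_eq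
  rw [e1, ← abs_length_ext_map (ModuleCat.of R ↥M) N x₂ h₂]

end absmap2

section twobranch

variable {k : Type u} [Field k]

lemma X_pow_dvd_iff_order (f : PowerSeries k) (n : ℕ) :
    (X : PowerSeries k) ^ n ∣ f ↔ (n : ℕ∞) ≤ order f := by
  rw [X_pow_dvd_iff]
  constructor
  · intro h
    exact nat_le_order f n h
  · intro h m hm
    exact coeff_of_lt_order m (lt_of_lt_of_le (by exact_mod_cast hm) h)

variable (δ : ℕ) (O : Subalgebra k (PowerSeries k × PowerSeries k))
  (hO : ∀ f : PowerSeries k × PowerSeries k, f ∈ O ↔ (δ : ℕ∞) ≤ order (f.1 - f.2))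

include hO in
lemma mem_O_iff (f : PowerSeries k × PowerSeries k) :
    f ∈ O ↔ (X : PowerSeries k) ^ δ ∣ f.1 - f.2 := by
  rw [hO, X_pow_dvd_iff_order]

/-- pairs `(f, g)` with `X^m ∣ f` and `X^e ∣ f - g`. -/
def V (m e : ℕ) : Submodule ↥O (PowerSeries k × PowerSeries k) where
  carrier := {p | (X : PowerSeries k) ^ m ∣ p.1 ∧ (X : PowerSeries k) ^ (min e (δ + m)) ∣ p.1 - p.2}
  add_mem' := by
    rintro p q ⟨h1, h2⟩ ⟨h3, h4⟩
    refine ⟨dvd_add h1 h3, ?_⟩
    have e1 : (p + q).1 - (p + q).2 = (p.1 - p.2) + (q.1 - q.2) := by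
      change (p.1 + q.1) - (p.2 + q.2) = _
      ring
    rw [e1]
    exact dvd_add h2 h4
  zero_mem' := by
    refine ⟨dvd_zero _, ?_⟩
    change (X : PowerSeries k) ^ (min e (δ + m)) ∣ (0 : PowerSeries k) - 0
    rw [sub_zero]
    exact dvd_zero _
  smul_mem' := by
    rintro a p ⟨h1, h2⟩
    have ha : (X : PowerSeries k) ^ δ ∣
        (a : PowerSeries k × PowerSeries k).1 - (a : PowerSeries k × PowerSeries k).2 :=
      (mem_O_iff δ O hO _).mp a.2
    change (X : PowerSeries k) ^ m ∣ (a : PowerSeries k × PowerSeries k).1 * p.1 ∧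
      (X : PowerSeries k) ^ (min e (δ + m)) ∣
        (a : PowerSeries k × PowerSeries k).1 * p.1 - (a : PowerSeries k × PowerSeries k).2 * p.2
    refine ⟨Dvd.dvd.mul_left h1 _, ?_⟩
    have e1 : (a : PowerSeries k × PowerSeries k).1 * p.1 -
        (a : PowerSeries k × PowerSeries k).2 * p.2 =
        (a : PowerSeries k × PowerSeries k).1 * (p.1 - p.2) +
        ((a : PowerSeries k × PowerSeries k).1 - (a : PowerSeries k × PowerSeries k).2) * p.2 := by
      ring
    rw [e1]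
    apply dvd_add (Dvd.dvd.mul_left h2 _)
    have h5 : p.2 = p.1 - (p.1 - p.2) := by ring
    by_cases hem : min e (δ + m) ≤ m
    · have h6 : (X : PowerSeries k) ^ (min e (δ + m)) ∣ p.2 := by
        rw [h5]
        exact dvd_sub (dvd_trans (pow_dvd_pow X hem) h1) h2
      exact Dvd.dvd.mul_left h6 _
    · have hme : m ≤ min e (δ + m) := by omega
      have h6 : (X : PowerSeries k) ^ m ∣ p.2 := by
        rw [h5]
        exact dvd_sub h1 (dvd_trans (pow_dvd_pow X hme) h2)
      have h7 : (X : PowerSeries k) ^ (δ + m) ∣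
          ((a : PowerSeries k × PowerSeries k).1 - (a : PowerSeries k × PowerSeries k).2) * p.2 := by
        rw [pow_add]
        exact mul_dvd_mul ha h6
      exact dvd_trans (pow_dvd_pow X (min_le_right _ _)) h7

lemma mem_V {m e : ℕ} (h : e ≤ δ + m) {p : PowerSeries k × PowerSeries k} :
    p ∈ V δ O hO m e ↔ (X : PowerSeries k) ^ m ∣ p.1 ∧ (X : PowerSeries k) ^ e ∣ p.1 - p.2 := by
  change ((X : PowerSeries k) ^ m ∣ p.1 ∧ (X : PowerSeries k) ^ (min e (δ + m)) ∣ p.1 - p.2) ↔ _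
  rw [min_eq_left h]

lemma V_mono {m m' e e' : ℕ} (hm : m ≤ m') (he : e ≤ e') (h : e ≤ δ + m) (h' : e' ≤ δ + m') :
    V δ O hO m' e' ≤ V δ O hO m e := by
  intro p hp
  rw [mem_V δ O hO h'] at hp
  rw [mem_V δ O hO h]
  exact ⟨dvd_trans (pow_dvd_pow X hm) hp.1, dvd_trans (pow_dvd_pow X he) hp.2⟩

lemma one_mem_V (e : ℕ) (h : e ≤ δ + 0) : (1 : PowerSeries k × PowerSeries k) ∈ V δ O hO 0 e := by
  rw [mem_V δ O hO h]
  refine ⟨by rw [pow_zero]; exact one_dvd _, ?_⟩
  change (X : PowerSeries k) ^ e ∣ (1 : PowerSeries k) - 1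
  rw [sub_self]
  exact dvd_zero _

/-- the constant `(c, c)` as an element of `O`. -/
noncomputable def cst (c : k) : ↥O :=
  ⟨(C c, C c), (mem_O_iff δ O hO _).mpr (by
    change (X : PowerSeries k) ^ δ ∣ (C c : PowerSeries k) - C c
    rw [sub_self]
    exact dvd_zero _)⟩

lemma cst_smul_sub (c : k) (y z : PowerSeries k × PowerSeries k) :
    cst δ O hO c • y - z = (C c * y.1 - z.1, C c * y.2 - z.2) := rfl

lemma step1 (m e : ℕ) (h : e ≤ δ + m) :
    relLen (V δ O hO (m + 1) e) (V δ O hO m e) = 1 := by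
  have h' : e ≤ δ + (m + 1) := by omega
  apply relLen_eq_one_of _ _ (((X : PowerSeries k) ^ m, (X : PowerSeries k) ^ m) :
    PowerSeries k × PowerSeries k)
  · rw [mem_V δ O hO h]
    refine ⟨dvd_rfl, ?_⟩
    change (X : PowerSeries k) ^ e ∣ (X : PowerSeries k) ^ m - X ^ m
    rw [sub_self]
    exact dvd_zero _
  · rw [mem_V δ O hO h']
    rintro ⟨h1, _⟩
    have h2 := (X_pow_dvd_iff.mp h1) m (Nat.lt_succ_self m)
    change coeff m ((X : PowerSeries k) ^ m) = 0 at h2
    rw [coeff_X_pow_self] at h2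
    exact one_ne_zero h2
  · intro y hy hya z hz
    rw [mem_V δ O hO h] at hy hz
    rw [mem_V δ O hO h'] at hya
    have hc : coeff m y.1 ≠ 0 := by
      intro h0
      apply hya
      refine ⟨?_, hy.2⟩
      rw [X_pow_dvd_iff]
      intro l hl
      rcases Nat.lt_succ_iff_lt_or_eq.mp hl with hl' | rfl
      · exact (X_pow_dvd_iff.mp hy.1) l hl'
      · exact h0
    obtain ⟨c, hcdef⟩ : ∃ c : k, c * coeff m y.1 = coeff m z.1 := ⟨_, div_mul_cancel₀ _ hc⟩
    refine ⟨cst δ O hO c, ?_⟩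
    rw [cst_smul_sub, mem_V δ O hO h']
    change (X : PowerSeries k) ^ (m + 1) ∣ C c * y.1 - z.1 ∧
      (X : PowerSeries k) ^ e ∣ (C c * y.1 - z.1) - (C c * y.2 - z.2)
    constructor
    · rw [X_pow_dvd_iff]
      intro l hl
      rw [map_sub, coeff_C_mul]
      rcases Nat.lt_succ_iff_lt_or_eq.mp hl with hl' | rfl
      · rw [(X_pow_dvd_iff.mp hy.1) l hl', (X_pow_dvd_iff.mp hz.1) l hl', mul_zero, sub_zero]
      · rw [hcdef, sub_self]
    · have e1 : (C c * y.1 - z.1) - (C c * y.2 - z.2) =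
          C c * (y.1 - y.2) - (z.1 - z.2) := by ring
      rw [e1]
      exact dvd_sub (Dvd.dvd.mul_left hy.2 _) hz.2

lemma step2 (m e : ℕ) (h : e + 1 ≤ δ + m) :
    relLen (V δ O hO m (e + 1)) (V δ O hO m e) = 1 := by
  have h0 : e ≤ δ + m := by omega
  apply relLen_eq_one_of _ _ (((0 : PowerSeries k), (X : PowerSeries k) ^ e) :
    PowerSeries k × PowerSeries k)
  · rw [mem_V δ O hO h0]
    refine ⟨dvd_zero _, ?_⟩
    change (X : PowerSeries k) ^ e ∣ (0 : PowerSeries k) - X ^ e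
    rw [zero_sub, dvd_neg]
  · rw [mem_V δ O hO h]
    rintro ⟨_, h2⟩
    have h3 : (X : PowerSeries k) ^ (e + 1) ∣ (0 : PowerSeries k) - X ^ e := h2
    rw [zero_sub, dvd_neg] at h3
    have h4 := (X_pow_dvd_iff.mp h3) e (Nat.lt_succ_self e)
    rw [coeff_X_pow_self] at h4
    exact one_ne_zero h4
  · intro y hy hya z hz
    rw [mem_V δ O hO h0] at hy hz
    rw [mem_V δ O hO h] at hya
    have hc : coeff e (y.1 - y.2) ≠ 0 := by
      intro h0'
      apply hya
      refine ⟨hy.1, ?_⟩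
      rw [X_pow_dvd_iff]
      intro l hl
      rcases Nat.lt_succ_iff_lt_or_eq.mp hl with hl' | rfl
      · exact (X_pow_dvd_iff.mp hy.2) l hl'
      · exact h0'
    obtain ⟨c, hcdef⟩ : ∃ c : k, c * coeff e (y.1 - y.2) = coeff e (z.1 - z.2) :=
      ⟨_, div_mul_cancel₀ _ hc⟩
    refine ⟨cst δ O hO c, ?_⟩
    rw [cst_smul_sub, mem_V δ O hO h]
    change (X : PowerSeries k) ^ m ∣ C c * y.1 - z.1 ∧
      (X : PowerSeries k) ^ (e + 1) ∣ (C c * y.1 - z.1) - (C c * y.2 - z.2)
    constructor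
    · exact dvd_sub (Dvd.dvd.mul_left hy.1 _) hz.1
    · have e1 : (C c * y.1 - z.1) - (C c * y.2 - z.2) =
          C c * (y.1 - y.2) - (z.1 - z.2) := by ring
      rw [e1, X_pow_dvd_iff]
      intro l hl
      rw [map_sub, coeff_C_mul]
      rcases Nat.lt_succ_iff_lt_or_eq.mp hl with hl' | rfl
      · rw [(X_pow_dvd_iff.mp hy.2) l hl', (X_pow_dvd_iff.mp hz.2) l hl', mul_zero, sub_zero]
      · rw [hcdef, sub_self]

lemma chain1 (m e : ℕ) (h : e ≤ δ + m) (n : ℕ) :
    relLen (V δ O hO (m + n) e) (V δ O hO m e) = (n : ℕ∞) := by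
  induction n with
  | zero =>
    rw [Nat.cast_zero]
    exact relLen_self _
  | succ n ih =>
    have h1 : V δ O hO (m + (n + 1)) e ≤ V δ O hO (m + n) e :=
      V_mono δ O hO (by omega) le_rfl (by omega) (by omega)
    have h2 : V δ O hO (m + n) e ≤ V δ O hO m e :=
      V_mono δ O hO (by omega) le_rfl h (by omega)
    rw [relLen_add h1 h2, ih]
    have h3 := step1 δ O hO (m + n) e (by omega)
    change relLen (V δ O hO (m + (n + 1)) e) (V δ O hO (m + n) e) = 1 at h3
    rw [h3, Nat.cast_add, Nat.cast_one, add_comm]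

lemma chain2 (m e : ℕ) (n : ℕ) (h : e + n ≤ δ + m) :
    relLen (V δ O hO m (e + n)) (V δ O hO m e) = (n : ℕ∞) := by
  induction n with
  | zero =>
    rw [Nat.cast_zero]
    exact relLen_self _
  | succ n ih =>
    have h1 : V δ O hO m (e + (n + 1)) ≤ V δ O hO m (e + n) :=
      V_mono δ O hO le_rfl (by omega) (by omega) (by omega)
    have h2 : V δ O hO m (e + n) ≤ V δ O hO m e :=
      V_mono δ O hO le_rfl (by omega) (by omega) (by omega)
    rw [relLen_add h1 h2, ih (by omega)]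
    have h3 := step2 δ O hO m (e + n) (by omega)
    change relLen (V δ O hO m (e + (n + 1))) (V δ O hO m (e + n)) = 1 at h3
    rw [h3, Nat.cast_add, Nat.cast_one, add_comm]

lemma V_div (i j : ℕ) (hi : i ≤ δ) (hj : j ≤ δ) :
    V δ O hO 0 (δ - j) / V δ O hO 0 (δ - i) = V δ O hO (i - j) (δ - j) := by
  have hv1 : δ - j ≤ δ + 0 := by omega
  have hv2 : δ - i ≤ δ + 0 := by omega
  have hv3 : δ - j ≤ δ + (i - j) := by omega
  apply le_antisymm
  · intro d hd
    rw [Submodule.mem_div_iff_forall_mul_mem] at hd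
    rw [mem_V δ O hO hv3]
    have h1 := hd 1 (one_mem_V δ O hO _ hv2)
    rw [mul_one, mem_V δ O hO hv1] at h1
    have h2 := hd (((X : PowerSeries k) ^ (δ - i), 0) : PowerSeries k × PowerSeries k)
      ((mem_V δ O hO hv2).mpr ⟨by rw [pow_zero]; exact one_dvd _, by
        change (X : PowerSeries k) ^ (δ - i) ∣ (X : PowerSeries k) ^ (δ - i) - 0
        rw [sub_zero]⟩)
    rw [mem_V δ O hO hv1] at h2
    refine ⟨?_, h1.2⟩
    by_cases hij : i ≤ j
    · rw [Nat.sub_eq_zero_of_le hij, pow_zero]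
      exact one_dvd _
    · have h3 : (X : PowerSeries k) ^ (δ - j) ∣ d.1 * (X : PowerSeries k) ^ (δ - i) := by
        have h4 := h2.2
        change (X : PowerSeries k) ^ (δ - j) ∣ d.1 * (X : PowerSeries k) ^ (δ - i) - d.2 * 0 at h4
        rwa [mul_zero, sub_zero] at h4
      have h4 : δ - j = (i - j) + (δ - i) := by omega
      rw [h4, pow_add] at h3
      exact (mul_dvd_mul_iff_right (pow_ne_zero _ X_ne_zero)).mp h3
  · intro d hd
    rw [mem_V δ O hO hv3] at hd
    rw [Submodule.mem_div_iff_forall_mul_mem]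
    intro p hp
    rw [mem_V δ O hO hv2] at hp
    rw [mem_V δ O hO hv1]
    refine ⟨by rw [pow_zero]; exact one_dvd _, ?_⟩
    change (X : PowerSeries k) ^ (δ - j) ∣ d.1 * p.1 - d.2 * p.2
    have e1 : d.1 * p.1 - d.2 * p.2 = d.1 * (p.1 - p.2) + (d.1 - d.2) * p.2 := by ring
    rw [e1]
    apply dvd_add _ (Dvd.dvd.mul_right hd.2 _)
    have h5 : (X : PowerSeries k) ^ ((i - j) + (δ - i)) ∣ d.1 * (p.1 - p.2) := by
      rw [pow_add]
      exact mul_dvd_mul hd.1 hp.2
    exact dvd_trans (pow_dvd_pow X (by omega)) h5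

lemma map_V_eq (i e : ℕ) (he : e ≤ δ) :
    (V δ O hO 0 e).map (LinearMap.mulLeft ↥O
      (((X : PowerSeries k) ^ i, (X : PowerSeries k) ^ i) : PowerSeries k × PowerSeries k)) =
      V δ O hO i (e + i) := by
  have hv1 : e ≤ δ + 0 := by omega
  have hv2 : e + i ≤ δ + i := by omega
  ext q
  rw [mem_V δ O hO hv2]
  constructor
  · rintro ⟨p, hp, rfl⟩
    have hp' := (mem_V δ O hO hv1).mp hp
    change (X : PowerSeries k) ^ i ∣ X ^ i * p.1 ∧
      (X : PowerSeries k) ^ (e + i) ∣ X ^ i * p.1 - X ^ i * p.2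
    refine ⟨Dvd.intro _ rfl, ?_⟩
    rw [← mul_sub, pow_add, mul_comm ((X : PowerSeries k) ^ e)]
    exact mul_dvd_mul_left _ hp'.2
  · rintro ⟨⟨a, ha⟩, h2⟩
    have h3 : (X : PowerSeries k) ^ i ∣ q.2 := by
      have h4 : q.2 = q.1 - (q.1 - q.2) := by ring
      rw [h4]
      exact dvd_sub ⟨a, ha⟩ (dvd_trans (pow_dvd_pow X (Nat.le_add_left i e)) h2)
    obtain ⟨b, hb⟩ := h3
    refine ⟨(a, b), (mem_V δ O hO hv1).mpr ⟨by rw [pow_zero]; exact one_dvd _, ?_⟩, ?_⟩
    · change (X : PowerSeries k) ^ e ∣ a - b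
      have h4 : (X : PowerSeries k) ^ i * X ^ e ∣ X ^ i * (a - b) := by
        rw [mul_sub, ← ha, ← hb, ← pow_add, add_comm]
        exact h2
      exact (mul_dvd_mul_iff_left (pow_ne_zero _ X_ne_zero)).mp h4
    · change (((X : PowerSeries k) ^ i * a, (X : PowerSeries k) ^ i * b) :
        PowerSeries k × PowerSeries k) = q
      rw [← ha, ← hb]

lemma map_V_eq' (i : ℕ) (hi : i ≤ δ) :
    (V δ O hO 0 (δ - i)).map (LinearMap.mulLeft ↥O
      (((X : PowerSeries k) ^ i, (X : PowerSeries k) ^ i) : PowerSeries k × PowerSeries k)) =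
      V δ O hO i δ := by
  have h := map_V_eq δ O hO i (δ - i) (by omega)
  rwa [Nat.sub_add_cancel hi] at h

lemma span_eq_V (i : ℕ) (hi : i ≤ δ) :
    Submodule.span ↥O ({((X : PowerSeries k) ^ i, (X : PowerSeries k) ^ i),
      ((X : PowerSeries k) ^ δ, 0)} : Set (PowerSeries k × PowerSeries k)) = V δ O hO i δ := by
  have hv : δ ≤ δ + i := by omega
  apply le_antisymm
  · rw [Submodule.span_le]
    rintro p (rfl | rfl)
    · rw [SetLike.mem_coe, mem_V δ O hO hv]
      refine ⟨dvd_rfl, ?_⟩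
      change (X : PowerSeries k) ^ δ ∣ (X : PowerSeries k) ^ i - X ^ i
      rw [sub_self]
      exact dvd_zero _
    · rw [SetLike.mem_coe, mem_V δ O hO hv]
      refine ⟨pow_dvd_pow X hi, ?_⟩
      change (X : PowerSeries k) ^ δ ∣ (X : PowerSeries k) ^ δ - 0
      rw [sub_zero]
  · intro p hp
    rw [mem_V δ O hO hv] at hp
    obtain ⟨⟨a, ha⟩, ⟨h, hh⟩⟩ := hp
    have h3 : (X : PowerSeries k) ^ i ∣ p.2 := by
      have h4 : p.2 = p.1 - (p.1 - p.2) := by ring
      rw [h4]
      exact dvd_sub ⟨a, ha⟩ (dvd_trans (pow_dvd_pow X hi) ⟨h, hh⟩)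
    obtain ⟨b, hb⟩ := h3
    rw [Submodule.mem_span_pair]
    have hbO : ((b, b) : PowerSeries k × PowerSeries k) ∈ O := (mem_O_iff δ O hO _).mpr (by
      change (X : PowerSeries k) ^ δ ∣ b - b
      rw [sub_self]
      exact dvd_zero _)
    have hhO : ((h, h) : PowerSeries k × PowerSeries k) ∈ O := (mem_O_iff δ O hO _).mpr (by
      change (X : PowerSeries k) ^ δ ∣ h - h
      rw [sub_self]
      exact dvd_zero _)
    refine ⟨⟨(b, b), hbO⟩, ⟨(h, h), hhO⟩, ?_⟩
    change ((b * (X : PowerSeries k) ^ i + h * (X : PowerSeries k) ^ δ,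
      b * (X : PowerSeries k) ^ i + h * 0) : PowerSeries k × PowerSeries k) = p
    have h5 : p.1 = p.2 + (p.1 - p.2) := by ring
    ext1
    · change b * (X : PowerSeries k) ^ i + h * (X : PowerSeries k) ^ δ = p.1
      rw [h5, hh, hb]
      ring
    · change b * (X : PowerSeries k) ^ i + h * 0 = p.2
      rw [hb]
      ring

include hO in
theorem main_S19532 (i j : ℕ) (hi : i ≤ δ) (hj : j ≤ δ) :
    Module.length ↥O (Ext
      (ModuleCat.of ↥O ↥(Submodule.span ↥O ({((X : PowerSeries k) ^ i, (X : PowerSeries k) ^ i),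
        ((X : PowerSeries k) ^ δ, 0)} : Set (PowerSeries k × PowerSeries k))))
      (ModuleCat.of ↥O ↥(Submodule.span ↥O ({((X : PowerSeries k) ^ j, (X : PowerSeries k) ^ j),
        ((X : PowerSeries k) ^ δ, 0)} : Set (PowerSeries k × PowerSeries k)))) 1) =
      ((2 * min i j : ℕ) : ℕ∞) := by
  rw [span_eq_V δ O hO i hi, span_eq_V δ O hO j hj]
  have hcan : ∀ n : ℕ, ∀ y y' : PowerSeries k × PowerSeries k,
      (((X : PowerSeries k) ^ n, (X : PowerSeries k) ^ n) : PowerSeries k × PowerSeries k) * y =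
        ((X : PowerSeries k) ^ n, (X : PowerSeries k) ^ n) * y' → y = y' := by
    intro n y y' h
    have h1 : (X : PowerSeries k) ^ n * y.1 = X ^ n * y'.1 := congrArg Prod.fst h
    have h2 : (X : PowerSeries k) ^ n * y.2 = X ^ n * y'.2 := congrArg Prod.snd h
    exact Prod.ext (mul_left_cancel₀ (pow_ne_zero _ X_ne_zero) h1)
      (mul_left_cancel₀ (pow_ne_zero _ X_ne_zero) h2)
  have etr := abs_length_ext_map₂ (V δ O hO 0 (δ - i)) (V δ O hO 0 (δ - j))
    (((X : PowerSeries k) ^ i, (X : PowerSeries k) ^ i) : PowerSeries k × PowerSeries k)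
    (((X : PowerSeries k) ^ j, (X : PowerSeries k) ^ j) : PowerSeries k × PowerSeries k)
    (hcan i) (hcan j)
  rw [map_V_eq' δ O hO i hi, map_V_eq' δ O hO j hj] at etr
  rw [etr]
  have hv1 : δ - j ≤ δ + 0 := by omega
  have hv2 : δ - i ≤ δ + 0 := by omega
  have hC : ∀ y : PowerSeries k × PowerSeries k, ∃ a : ↥O,
      algebraMap ↥O (PowerSeries k × PowerSeries k) a =
        (((X : PowerSeries k) ^ δ, (X : PowerSeries k) ^ δ) : PowerSeries k × PowerSeries k) * y := by
    intro y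
    refine ⟨⟨((X : PowerSeries k) ^ δ, (X : PowerSeries k) ^ δ) * y,
      (mem_O_iff δ O hO _).mpr ?_⟩, rfl⟩
    change (X : PowerSeries k) ^ δ ∣ X ^ δ * y.1 - X ^ δ * y.2
    rw [← mul_sub]
    exact Dvd.intro _ rfl
  have hu : (((X : PowerSeries k) ^ (δ - i), 0) : PowerSeries k × PowerSeries k) ∈
      V δ O hO 0 (δ - i) := (mem_V δ O hO hv2).mpr ⟨by rw [pow_zero]; exact one_dvd _, by
        change (X : PowerSeries k) ^ (δ - i) ∣ (X : PowerSeries k) ^ (δ - i) - 0
        rw [sub_zero]⟩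
  have hgen : ∀ m ∈ V δ O hO 0 (δ - i), ∃ a b : ↥O, m =
      algebraMap ↥O (PowerSeries k × PowerSeries k) a +
        algebraMap ↥O (PowerSeries k × PowerSeries k) b *
          (((X : PowerSeries k) ^ (δ - i), 0) : PowerSeries k × PowerSeries k) := by
    intro m hm
    rw [mem_V δ O hO hv2] at hm
    obtain ⟨h, hh⟩ := hm.2
    have hgO : ((m.2, m.2) : PowerSeries k × PowerSeries k) ∈ O := (mem_O_iff δ O hO _).mpr (by
      change (X : PowerSeries k) ^ δ ∣ m.2 - m.2
      rw [sub_self]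
      exact dvd_zero _)
    have hhO : ((h, h) : PowerSeries k × PowerSeries k) ∈ O := (mem_O_iff δ O hO _).mpr (by
      change (X : PowerSeries k) ^ δ ∣ h - h
      rw [sub_self]
      exact dvd_zero _)
    refine ⟨⟨(m.2, m.2), hgO⟩, ⟨(h, h), hhO⟩, ?_⟩
    change m = ((m.2 + h * (X : PowerSeries k) ^ (δ - i), m.2 + h * 0) :
      PowerSeries k × PowerSeries k)
    have h5 : m.1 = m.2 + (m.1 - m.2) := by ring
    ext1
    · change m.1 = m.2 + h * (X : PowerSeries k) ^ (δ - i)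
      rw [h5, hh]
      ring
    · change m.2 = m.2 + h * 0
      ring
  have hPin : ∀ p ∈ V δ O hO 0 (δ - i), ∃ a : ↥O,
      algebraMap ↥O (PowerSeries k × PowerSeries k) a =
        (((X : PowerSeries k) ^ i, (X : PowerSeries k) ^ i) : PowerSeries k × PowerSeries k) * p := by
    intro p hp
    rw [mem_V δ O hO hv2] at hp
    refine ⟨⟨((X : PowerSeries k) ^ i, (X : PowerSeries k) ^ i) * p,
      (mem_O_iff δ O hO _).mpr ?_⟩, rfl⟩
    change (X : PowerSeries k) ^ δ ∣ X ^ i * p.1 - X ^ i * p.2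
    have h6 : δ = i + (δ - i) := by omega
    rw [← mul_sub, h6, pow_add]
    exact mul_dvd_mul_left _ hp.2
  have hP : ∀ a : ↥O, algebraMap ↥O (PowerSeries k × PowerSeries k) a *
      (((X : PowerSeries k) ^ (δ - i), 0) : PowerSeries k × PowerSeries k) ∈
        (1 : Submodule ↥O (PowerSeries k × PowerSeries k)) ↔
      ∃ p ∈ V δ O hO 0 (δ - i), algebraMap ↥O (PowerSeries k × PowerSeries k) a =
        (((X : PowerSeries k) ^ i, (X : PowerSeries k) ^ i) : PowerSeries k × PowerSeries k) * p := by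
    intro a
    rw [Submodule.mem_one]
    have haO := (mem_O_iff δ O hO _).mp a.2
    constructor
    · rintro ⟨b, hb⟩
      have hbO := (mem_O_iff δ O hO _).mp b.2
      have hb' : (b : PowerSeries k × PowerSeries k) =
          (a : PowerSeries k × PowerSeries k) * (((X : PowerSeries k) ^ (δ - i), 0) :
            PowerSeries k × PowerSeries k) := hb
      rw [hb'] at hbO
      change (X : PowerSeries k) ^ δ ∣ (a : PowerSeries k × PowerSeries k).1 * X ^ (δ - i) -
        (a : PowerSeries k × PowerSeries k).2 * 0 at hbO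
      rw [mul_zero, sub_zero] at hbO
      have h6 : δ = i + (δ - i) := by omega
      have h7 : (X : PowerSeries k) ^ i * X ^ (δ - i) ∣
          (a : PowerSeries k × PowerSeries k).1 * X ^ (δ - i) := by
        rw [← pow_add, ← h6]
        exact hbO
      have h8 : (X : PowerSeries k) ^ i ∣ (a : PowerSeries k × PowerSeries k).1 :=
        (mul_dvd_mul_iff_right (pow_ne_zero _ X_ne_zero)).mp h7
      have h9 : (a : PowerSeries k × PowerSeries k) ∈ V δ O hO i δ :=
        (mem_V δ O hO (by omega)).mpr ⟨h8, haO⟩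
      rw [← map_V_eq' δ O hO i hi] at h9
      obtain ⟨p, hp, hpa⟩ := h9
      exact ⟨p, hp, hpa.symm⟩
    · rintro ⟨p, hp, hpa⟩
      have hpa' : (a : PowerSeries k × PowerSeries k) =
          (((X : PowerSeries k) ^ i, (X : PowerSeries k) ^ i) : PowerSeries k × PowerSeries k) * p :=
        hpa
      refine ⟨⟨(a : PowerSeries k × PowerSeries k) * (((X : PowerSeries k) ^ (δ - i), 0) :
        PowerSeries k × PowerSeries k), (mem_O_iff δ O hO _).mpr ?_⟩, rfl⟩
      rw [hpa']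
      change (X : PowerSeries k) ^ δ ∣ X ^ i * p.1 * X ^ (δ - i) - X ^ i * p.2 * 0
      rw [mul_zero, sub_zero]
      have h6 : δ = i + (δ - i) := by omega
      refine ⟨p.1, ?_⟩
      have h7 : (X : PowerSeries k) ^ δ = X ^ i * X ^ (δ - i) := by
        rw [← pow_add, ← h6]
      rw [h7]
      ring
  have hGT := absGT2 (((X : PowerSeries k) ^ δ, (X : PowerSeries k) ^ δ) :
    PowerSeries k × PowerSeries k) (hcan δ) (fun a b h => Subtype.ext h) hC
    (V δ O hO 0 (δ - i)) (V δ O hO 0 (δ - j)) (V δ O hO 0 (δ - i)) (one_mem_V δ O hO _ hv2)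
    (((X : PowerSeries k) ^ (δ - i), 0) : PowerSeries k × PowerSeries k) hu hgen
    (one_mem_V δ O hO _ hv2)
    (((X : PowerSeries k) ^ i, (X : PowerSeries k) ^ i) : PowerSeries k × PowerSeries k)
    (hcan i) hPin hP
  rw [map_V_eq δ O hO i (δ - j) (by omega), V_div δ O hO i j hi hj] at hGT
  have c1 := chain1 δ O hO 0 (δ - j) hv1 (i - j)
  have c2 := chain1 δ O hO 0 (δ - j) hv1 i
  have c3 := chain2 δ O hO i (δ - j) i (by omega)
  rw [Nat.zero_add] at c1 c2
  have l1 : V δ O hO i (δ - j + i) ≤ V δ O hO i (δ - j) :=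
    V_mono δ O hO le_rfl (by omega) (by omega) (by omega)
  have l2 : V δ O hO i (δ - j) ≤ V δ O hO 0 (δ - j) :=
    V_mono δ O hO (by omega) le_rfl (by omega) (by omega)
  have l3 : V δ O hO i (δ - j + i) ≤ V δ O hO (i - j) (δ - j) :=
    V_mono δ O hO (by omega) (by omega) (by omega) (by omega)
  have l4 : V δ O hO (i - j) (δ - j) ≤ V δ O hO 0 (δ - j) :=
    V_mono δ O hO (by omega) le_rfl (by omega) (by omega)
  have a1 := relLen_add l1 l2
  have a2 := relLen_add l3 l4
  rw [c3, c2] at a1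
  rw [a1, hGT, c1] at a2
  have h5 : ((i - j : ℕ) : ℕ∞) + ((i - j : ℕ) : ℕ∞) +
      Module.length ↥O (Ext (ModuleCat.of ↥O ↥(V δ O hO 0 (δ - i)))
        (ModuleCat.of ↥O ↥(V δ O hO 0 (δ - j))) 1) = ((i + i : ℕ) : ℕ∞) := by
    rw [Nat.cast_add, a2]
    ring
  rw [← Nat.cast_add] at h5
  rw [enat_of_add h5]
  congr 1
  omega

end twobranch

end Groth.Agent.Helper8.TFV
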