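import Groth.Agent.Lib.Helper8.TFV1

/-!
# Counting lengths of `A`-submodules of `k⟦X⟧` by value sets (towards S19528, S15022)
-/

set_option autoImplicit false
set_option linter.style.haveILetI false
universe u

namespace Groth.Agent.Helper8.TFV

open PowerSeries
open Groth.Agent.Helper8.TF

section general

variable {R : Type*} [CommRing R] {Y Y' : Type*} [AddCommGroup Y] [Module R Y]
  [AddCommGroup Y'] [Module R Y']

/-- an injective linear map preserves relative lengths. -/
lemma relLen_map' (m : Y →ₗ[R] Y') (hm : Function.Injective m) (a b : Submodule R Y) :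
    relLen (a.map m) (b.map m) = relLen a b := by
  unfold relLen
  symm
  refine (Submodule.Quotient.equiv _ _ (Submodule.equivMapOfInjective m hm b) ?_).length_eq
  ext z
  constructor
  · rintro ⟨y, hy, rfl⟩
    exact ⟨y.1, hy, rfl⟩
  · intro hz
    obtain ⟨y', hy', hyz⟩ := hz
    obtain ⟨y'', hy'', hyz'⟩ := z.2
    have h1 : y' = y'' := hm (hyz.trans hyz'.symm)
    refine ⟨⟨y', h1 ▸ hy''⟩, hy', ?_⟩
    exact Subtype.ext hyz

/-- a criterion for a quotient `b / (a ∩ b)` to be simple. -/
lemma relLen_eq_one_of (a b : Submodule R Y) (x : Y) (hxb : x ∈ b) (hxa : x ∉ a)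
    (h : ∀ y ∈ b, y ∉ a → ∀ z ∈ b, ∃ r : R, r • y - z ∈ a) : relLen a b = 1 := by
  unfold relLen
  rw [Module.length_eq_one_iff, isSimpleModule_iff_toSpanSingleton_surjective]
  constructor
  · refine ⟨⟨Submodule.Quotient.mk ⟨x, hxb⟩, 0, ?_⟩⟩
    intro h0
    rw [Submodule.Quotient.mk_eq_zero] at h0
    exact hxa h0
  · intro q hq q'
    obtain ⟨y, rfl⟩ := Submodule.mkQ_surjective _ q
    obtain ⟨z, rfl⟩ := Submodule.mkQ_surjective _ q'
    have hya : (y : Y) ∉ a := by
      intro hya
      apply hq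
      rw [Submodule.mkQ_apply, Submodule.Quotient.mk_eq_zero]
      exact hya
    obtain ⟨r, hr⟩ := h y y.2 hya z z.2
    refine ⟨r, ?_⟩
    rw [LinearMap.toSpanSingleton_apply, Submodule.mkQ_apply, Submodule.mkQ_apply,
      ← Submodule.Quotient.mk_smul, Submodule.Quotient.eq]
    exact hr

end general

variable {k : Type u} [Field k] (A : Subalgebra k (PowerSeries k))

open Classical in
/-- one step of the order filtration has length `1` or `0`. -/
lemma relLen_step (N : Submodule ↥A (PowerSeries k)) (j : ℕ) :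
    relLen (N ⊓ Ord A (j + 1)) (N ⊓ Ord A j) =
      if ∃ f ∈ N, order f = (j : ℕ∞) then 1 else 0 := by
  split_ifs with h
  · obtain ⟨x, hxN, hxo⟩ := h
    rw [order_eq_nat] at hxo
    obtain ⟨hxj, hxlow⟩ := hxo
    have hxb : x ∈ N ⊓ Ord A j := Submodule.mem_inf.mpr ⟨hxN, (mem_Ord_iff_coeff A).mpr hxlow⟩
    have hxa : x ∉ N ⊓ Ord A (j + 1) := by
      intro hx
      have h1 := (mem_Ord_iff_coeff A).mp (Submodule.mem_inf.mp hx).2
      exact hxj (h1 j (Nat.lt_succ_self j))
    refine relLen_eq_one_of _ _ x hxb hxa ?_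
    intro y hyb hya z hzb
    obtain ⟨hyN, hyj⟩ := Submodule.mem_inf.mp hyb
    obtain ⟨hzN, hzj⟩ := Submodule.mem_inf.mp hzb
    rw [mem_Ord_iff_coeff] at hyj hzj
    have hyc : coeff j y ≠ 0 := by
      intro h0
      apply hya
      refine Submodule.mem_inf.mpr ⟨hyN, ?_⟩
      rw [mem_Ord_iff_coeff]
      intro m hm
      rcases Nat.lt_succ_iff_lt_or_eq.mp hm with hm' | rfl
      · exact hyj m hm'
      · exact h0
    refine ⟨algebraMap k ↥A (coeff j z / coeff j y), ?_⟩
    refine Submodule.mem_inf.mpr ⟨N.sub_mem (N.smul_mem _ hyN) hzN, ?_⟩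
    rw [algebraMap_smul, mem_Ord_iff_coeff]
    intro m hm
    rw [map_sub, PowerSeries.coeff_smul, smul_eq_mul]
    rcases Nat.lt_succ_iff_lt_or_eq.mp hm with hm' | rfl
    · rw [hyj m hm', hzj m hm']
      simp
    · rw [div_mul_cancel₀ _ hyc, sub_self]
  · have heq : N ⊓ Ord A j = N ⊓ Ord A (j + 1) := by
      apply le_antisymm
      · intro f hf
        obtain ⟨hfN, hfj⟩ := Submodule.mem_inf.mp hf
        refine Submodule.mem_inf.mpr ⟨hfN, ?_⟩
        rw [mem_Ord_iff_coeff] at hfj ⊢
        intro m hm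
        rcases Nat.lt_succ_iff_lt_or_eq.mp hm with hm' | rfl
        · exact hfj m hm'
        · by_contra hne
          exact h ⟨f, hfN, order_eq_nat.mpr ⟨hne, hfj⟩⟩
      · exact inf_le_inf_left N (Ord_succ_le A j)
    rw [heq]
    exact relLen_self _

open Classical in
/-- the length of `N / (N ∩ X^j k⟦X⟧)` is the number of orders `< j` of elements of `N`. -/
lemma relLen_inf_Ord (N : Submodule ↥A (PowerSeries k)) (j : ℕ) :
    relLen (N ⊓ Ord A j) N =
      (((Finset.range j).filter (fun n : ℕ => ∃ f ∈ N, order f = (n : ℕ∞))).card : ℕ∞) := by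
  induction j with
  | zero =>
    rw [Ord_zero, inf_top_eq, relLen_self]
    simp
  | succ j ih =>
    rw [relLen_add (inf_le_inf_left N (Ord_succ_le A j)) inf_le_left, ih, relLen_step,
      Finset.range_add_one, Finset.filter_insert]
    split_ifs with h
    · rw [Finset.card_insert_of_notMem (by simp), Nat.cast_add, Nat.cast_one, add_comm]
    · rw [zero_add]

open Classical in
lemma relLen_Ord (N : Submodule ↥A (PowerSeries k)) (c : ℕ) (hN : Ord A c ≤ N) :
    relLen (Ord A c) N =
      (((Finset.range c).filter (fun n : ℕ => ∃ f ∈ N, order f = (n : ℕ∞))).card : ℕ∞) := by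
  rw [← relLen_inf_Ord A N c, inf_eq_right.mpr hN]

lemma relLen_Ord_top (c : ℕ) : relLen (Ord A c) (⊤ : Submodule ↥A (PowerSeries k)) = c := by
  classical
  rw [relLen_Ord A ⊤ c le_top, Finset.filter_true_of_mem, Finset.card_range]
  intro n _
  exact ⟨X ^ n, Submodule.mem_top, order_X_pow n⟩

end Groth.Agent.Helper8.TFV
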