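import Groth.Agent.Lib.Helper8.TFV2

/-!
# Value sets of `(ω : M)` for a canonical ideal `ω` of `A ⊆ k⟦X⟧` (S19528, S15022)
-/

set_option autoImplicit false
set_option linter.style.haveILetI false
universe u

namespace Groth.Agent.Helper8.TFV

open PowerSeries CategoryTheory Abelian IsLocalRing
open Groth.Agent.Helper8.TF

lemma enat_zero_of_add {x y : ℕ∞} (hx : x ≠ ⊤) (h : x = y + x) : y = 0 := by
  lift x to ℕ using hx
  induction y using ENat.recTopCoe with
  | top => rw [top_add] at h; exact absurd h (ENat.coe_ne_top x)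
  | coe y =>
    have h' : x = y + x := by exact_mod_cast h
    have : y = 0 := by omega
    rw [this]; rfl

lemma enat_cancel {a b x : ℕ∞} (hx : x ≠ ⊤) (h : a + x = x + b) : a = b := by
  lift x to ℕ using hx
  induction a using ENat.recTopCoe with
  | top =>
    rw [top_add] at h
    induction b using ENat.recTopCoe with
    | top => rfl
    | coe b => exact absurd h.symm (by exact_mod_cast ENat.coe_ne_top (x + b))
  | coe a =>
    induction b using ENat.recTopCoe with
    | top => rw [add_top] at h; exact absurd h (by exact_mod_cast ENat.coe_ne_top (a + x))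
    | coe b =>
      have h' : a + x = x + b := by exact_mod_cast h
      have : a = b := by omega
      rw [this]

lemma hasInjDim_map {O : Type u} [CommRing O] {Y Y' : Type u} [AddCommGroup Y] [Module O Y]
    [AddCommGroup Y'] [Module O Y'] (ι : Y →ₗ[O] Y') (hι : Function.Injective ι)
    (ω : Submodule O Y) (n : ℕ) (h : HasInjectiveDimensionLT (ModuleCat.of O ↥ω) n) :
    HasInjectiveDimensionLT (ModuleCat.of O ↥(ω.map ι)) n :=
  hasInjectiveDimensionLT_of_iso (Submodule.equivMapOfInjective ι hι ω).toModuleIso n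

variable {k : Type u} [Field k] (A : Subalgebra k (PowerSeries k))

/-- the inclusion of `k⟦X⟧` in its fraction field, as an `A`-algebra map. -/
noncomputable def ιa : PowerSeries k →ₐ[↥A] FractionRing (PowerSeries k) :=
  IsScalarTower.toAlgHom ↥A (PowerSeries k) (FractionRing (PowerSeries k))

lemma ιa_injective : Function.Injective (ιa A) :=
  fun _ _ h => IsFractionRing.injective (PowerSeries k) (FractionRing (PowerSeries k)) h

lemma ιl_injective : Function.Injective (ιa A).toLinearMap := ιa_injective A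

lemma map_div (ω M : Submodule ↥A (PowerSeries k)) (hM1 : (1 : PowerSeries k) ∈ M) :
    (ω.map (ιa A).toLinearMap) / (M.map (ιa A).toLinearMap) =
      (ω / M).map (ιa A).toLinearMap := by
  ext z
  rw [Submodule.mem_div_iff_forall_mul_mem]
  constructor
  · intro hz
    have h1 := hz 1 ⟨1, hM1, map_one (ιa A)⟩
    rw [mul_one] at h1
    obtain ⟨u, hu, rfl⟩ := h1
    refine ⟨u, ?_, rfl⟩
    change u ∈ ω / M
    rw [Submodule.mem_div_iff_forall_mul_mem]
    intro m hm
    obtain ⟨w, hw, hwe⟩ := hz _ ⟨m, hm, rfl⟩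
    have hwe' : ιa A w = ιa A (u * m) := by
      rw [map_mul]; exact hwe
    rw [← ιa_injective A hwe']
    exact hw
  · rintro ⟨u, hu, rfl⟩ y ⟨m, hm, rfl⟩
    have hu' : u ∈ ω / M := hu
    rw [Submodule.mem_div_iff_forall_mul_mem] at hu'
    exact ⟨u * m, hu' m hm, map_mul (ιa A) u m⟩

section main

variable (hA : Module.Finite ↥A (PowerSeries k))
  (hcl : ∀ f : PowerSeries k, (∀ n : ℕ, ∃ g ∈ A, (n : ℕ∞) ≤ PowerSeries.order (f - g)) → f ∈ A)
  (Γ : Set ℕ) (hΓ : ∀ n : ℕ, n ∈ Γ ↔ ∃ f ∈ A, PowerSeries.order f = n) (c : ℕ)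
  (hc : ∀ n : ℕ, c ≤ n → n ∈ Γ) (hc0 : c ≠ 0) (hc1 : c - 1 ∉ Γ)
  (ω : Submodule ↥A (PowerSeries k)) (hω1 : (1 : PowerSeries k) ∈ ω) (hωfg : ω.FG)
  (hωinj : HasInjectiveDimensionLT (ModuleCat.of ↥A ↥ω) 2)

include hcl hΓ hc in
lemma mem_of_dvd (f : PowerSeries k) (hf : (X : PowerSeries k) ^ c ∣ f) : f ∈ A :=
  Helper5.PSAlg.mem_of_order_ge A hcl c (fun n hn => (hΓ n).1 (hc n hn)) f
    ((mem_Ord_iff_order A).mp hf)

include hcl hΓ hc in
lemma Ord_le_of_one_mem (N : Submodule ↥A (PowerSeries k)) (h1 : (1 : PowerSeries k) ∈ N) :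
    Ord A c ≤ N := by
  intro u hu
  have huA : u ∈ A := mem_of_dvd A hcl Γ hΓ c hc u hu
  have : u = (⟨u, huA⟩ : ↥A) • (1 : PowerSeries k) := by
    rw [Subalgebra.smul_def, smul_eq_mul, mul_one]
  rw [this]
  exact N.smul_mem _ h1

include hA hcl hΓ hc hω1 hωfg hωinj in
/-- duality for the canonical ideal, transported to `k⟦X⟧`. -/
theorem key (b : Submodule ↥A (PowerSeries k)) (hbfg : b.FG) (hb1 : (1 : PowerSeries k) ∈ b) :
    relLen (ω / b) ω = relLen (1 : Submodule ↥A (PowerSeries k)) b ∧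
      relLen (1 : Submodule ↥A (PowerSeries k)) b ≠ ⊤ := by
  have hC := mem_of_dvd A hcl Γ hΓ c hc
  haveI : IsNoetherianRing ↥A := isNoetherianRing A c hC hA
  haveI : IsLocalRing ↥A := isLocalRing A hA
  haveI : IsFractionRing ↥A (FractionRing (PowerSeries k)) := isFractionRing A c hC
  have hdim : ringKrullDim ↥A = 1 := ringKrullDim_eq_one A hA
  set ι := (ιa A).toLinearMap with hι
  have hιinj : Function.Injective ι := ιl_injective A
  have hone : (1 : Submodule ↥A (PowerSeries k)).map ι = 1 := Submodule.map_one (ιa A)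
  have hωinj' : HasInjectiveDimensionLT (ModuleCat.of ↥A ↥(ω.map ι)) 2 :=
    hasInjDim_map ι hιinj ω 2 hωinj
  have hω1' : (1 : Submodule ↥A (FractionRing (PowerSeries k))) ≤ ω.map ι := by
    rw [← hone]
    exact Submodule.map_mono (Submodule.one_le.mpr hω1)
  have hb1' : (1 : Submodule ↥A (FractionRing (PowerSeries k))) ≤ b.map ι := by
    rw [← hone]
    exact Submodule.map_mono (Submodule.one_le.mpr hb1)
  have hr := length_ext_one_residue hdim (ω.map ι) hωinj' hω1' (hωfg.map ι)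
  have hd := relLen_div hdim (ω.map ι) hωinj' (b.map ι) (hbfg.map ι) hb1'
  rw [hr, one_mul, map_div A ω b hb1, relLen_map' ι hιinj, ← hone, relLen_map' ι hιinj] at hd
  refine ⟨hd, ?_⟩
  have hfin := relLen_one_ne_top hdim (FractionRing (PowerSeries k)) (b.map ι) (hbfg.map ι)
  rw [← hone, relLen_map' ι hιinj] at hfin
  exact hfin

include hA hcl hΓ hc hω1 hωfg hωinj in
theorem div_self_le_one : ω / ω ≤ (1 : Submodule ↥A (PowerSeries k)) := by
  obtain ⟨h1, h2⟩ := key A hA hcl Γ hΓ c hc ω hω1 hωfg hωinj ω hωfg hω1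
  have hle1 : (1 : Submodule ↥A (PowerSeries k)) ≤ ω / ω := by
    rw [Submodule.one_le, Submodule.mem_div_iff_forall_mul_mem]
    intro y hy
    rwa [one_mul]
  have hle2 : ω / ω ≤ ω := by
    intro x hx
    rw [Submodule.mem_div_iff_forall_mul_mem] at hx
    have := hx 1 hω1
    rwa [mul_one] at this
  have h3 := relLen_add hle1 hle2
  rw [h1] at h3
  exact le_of_relLen_eq_zero (enat_zero_of_add h2 h3)

include hA hcl hΓ hc hc0 hc1 hω1 hωfg hωinj in
theorem div_top_eq : ω / (⊤ : Submodule ↥A (PowerSeries k)) = Ord A c := by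
  apply le_antisymm
  · intro u hu
    rw [Submodule.mem_div_iff_forall_mul_mem] at hu
    rw [mem_Ord_iff_order, ← Helper5.PSAlg.conductor_iff A hcl Γ hΓ c hc hc0 hc1 u]
    intro g
    have h1 : g * u ∈ ω / ω := by
      rw [Submodule.mem_div_iff_forall_mul_mem]
      intro w _
      have : g * u * w = u * (g * w) := by ring
      rw [this]
      exact hu _ Submodule.mem_top
    have h2 := div_self_le_one A hA hcl Γ hΓ c hc ω hω1 hωfg hωinj h1
    obtain ⟨a, ha⟩ := Submodule.mem_one.mp h2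
    rw [← ha]
    exact a.2
  · intro u hu
    rw [Submodule.mem_div_iff_forall_mul_mem]
    intro y _
    exact Ord_le_of_one_mem A hcl Γ hΓ c hc ω hω1 (Dvd.dvd.mul_right hu y)


include hA hcl hΓ hc hc0 hc1 hω1 hωfg hωinj in
/-- `ℓ((ω : M) / C) = ℓ(k⟦X⟧ / M)`. -/
theorem relLen_Ord_div (M : Submodule ↥A (PowerSeries k)) (hMfg : M.FG)
    (hM1 : (1 : PowerSeries k) ∈ M) :
    relLen (Ord A c) (ω / M) = relLen M (⊤ : Submodule ↥A (PowerSeries k)) := by
  obtain ⟨h1, h1f⟩ := key A hA hcl Γ hΓ c hc ω hω1 hωfg hωinj M hMfg hM1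
  obtain ⟨h2, -⟩ := key A hA hcl Γ hΓ c hc ω hω1 hωfg hωinj ⊤ hA.fg_top Submodule.mem_top
  have hle1 : ω / (⊤ : Submodule ↥A (PowerSeries k)) ≤ ω / M := by
    intro x hx
    rw [Submodule.mem_div_iff_forall_mul_mem] at hx ⊢
    intro y _
    exact hx y Submodule.mem_top
  have hle2 : ω / M ≤ ω := by
    intro x hx
    rw [Submodule.mem_div_iff_forall_mul_mem] at hx
    have := hx 1 hM1
    rwa [mul_one] at this
  have h3 := relLen_add hle1 hle2
  have h4 := relLen_add (Submodule.one_le.mpr hM1) (le_top : M ≤ ⊤)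
  rw [h2, h4, h1] at h3
  rw [← div_top_eq A hA hcl Γ hΓ c hc hc0 hc1 ω hω1 hωfg hωinj]
  exact (enat_cancel h1f h3.symm)

include hA hcl hΓ hc hc0 hc1 hω1 hωfg hωinj in
/-- no element of `ω` has order `c - 1`. -/
theorem order_ne_pred (z : PowerSeries k) (hz : z ∈ ω) :
    order z ≠ ((c - 1 : ℕ) : ℕ∞) := by
  intro ho
  have hOω : Ord A c ≤ ω := Ord_le_of_one_mem A hcl Γ hΓ c hc ω hω1
  have hzd : (X : PowerSeries k) ^ (c - 1) ∣ z := (mem_Ord_iff_order A).mpr (le_of_eq ho.symm)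
  obtain ⟨z', rfl⟩ := hzd
  have h1 : (X : PowerSeries k) ^ (c - 1) * z' ∈ ω / (⊤ : Submodule ↥A (PowerSeries k)) := by
    rw [Submodule.mem_div_iff_forall_mul_mem]
    intro y _
    have hy := PowerSeries.eq_X_mul_shift_add_const y
    rw [hy, mul_add]
    apply ω.add_mem
    · apply hOω
      refine ⟨z' * PowerSeries.mk fun p => coeff (p + 1) y, ?_⟩
      have hcc : c = (c - 1) + 1 := by omega
      conv_rhs => rw [hcc, pow_succ]
      ring
    · have h2 : (X : PowerSeries k) ^ (c - 1) * z' * C (constantCoeff y) =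
          (algebraMap k ↥A (constantCoeff y)) • ((X : PowerSeries k) ^ (c - 1) * z') := by
        rw [algebraMap_smul, PowerSeries.smul_eq_C_mul, mul_comm]
      rw [h2]
      exact ω.smul_mem _ hz
  rw [div_top_eq A hA hcl Γ hΓ c hc hc0 hc1 ω hω1 hωfg hωinj, mem_Ord_iff_order, ho] at h1
  have : c ≤ c - 1 := by exact_mod_cast h1
  omega

include hA hcl hΓ hc hc0 hc1 hω1 hωfg hωinj in
theorem main_S19528 (M : Submodule ↥A (PowerSeries k)) (hMfg : M.FG)
    (hM1 : (1 : PowerSeries k) ∈ M) (n : ℕ) :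
    (∃ u : PowerSeries k, PowerSeries.order u = n ∧ ∀ m ∈ M, u * m ∈ ω) ↔
      (c ≤ n ∨ ¬ ∃ m ∈ M, PowerSeries.order m = ((c - 1 - n : ℕ) : ℕ∞)) := by
  classical
  have hOω : Ord A c ≤ ω := Ord_le_of_one_mem A hcl Γ hΓ c hc ω hω1
  have hOM : Ord A c ≤ M := Ord_le_of_one_mem A hcl Γ hΓ c hc M hM1
  by_cases hn : c ≤ n
  · simp only [hn, true_or, iff_true]
    refine ⟨X ^ n, order_X_pow n, fun m _ => hOω ?_⟩
    exact Dvd.dvd.mul_right (pow_dvd_pow X hn) m
  simp only [hn, false_or]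
  have hn' : n < c := Nat.lt_of_not_le hn
  set S := (Finset.range c).filter (fun n : ℕ => ∃ f ∈ ω / M, order f = (n : ℕ∞)) with hS
  set V := (Finset.range c).filter (fun n : ℕ => ∃ m ∈ M, order m = (n : ℕ∞)) with hV
  set V' := (Finset.range c).filter (fun n : ℕ => ¬ ∃ m ∈ M, order m = (n : ℕ∞)) with hV'
  set T := (Finset.range c).filter
    (fun n : ℕ => ¬ ∃ m ∈ M, order m = ((c - 1 - n : ℕ) : ℕ∞)) with hT
  -- counting
  have hOdiv : Ord A c ≤ ω / M := by
    intro u hu
    rw [Submodule.mem_div_iff_forall_mul_mem]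
    intro y _
    exact hOω (Dvd.dvd.mul_right hu y)
  have hcS : relLen (Ord A c) (ω / M) = (S.card : ℕ∞) := relLen_Ord A (ω / M) c hOdiv
  have hcV : relLen (Ord A c) M = (V.card : ℕ∞) := relLen_Ord A M c hOM
  have hctop := relLen_Ord_top A c
  have h5 := relLen_add hOM (le_top : M ≤ ⊤)
  rw [hctop, hcV, ← relLen_Ord_div A hA hcl Γ hΓ c hc hc0 hc1 ω hω1 hωfg hωinj M hMfg hM1,
    hcS] at h5
  have hSV : c = V.card + S.card := by exact_mod_cast h5
  have hVV' : V.card + V'.card = c := by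
    rw [hV, hV', Finset.card_filter_add_card_filter_not, Finset.card_range]
  have hTV' : T.card = V'.card := by
    rw [hT, hV', Finset.card_filter, Finset.card_filter]
    exact Finset.sum_range_reflect
      (fun j => if ¬ ∃ m ∈ M, order m = ((j : ℕ) : ℕ∞) then 1 else 0) c
  have hST : S ⊆ T := by
    intro j hj
    rw [hS, Finset.mem_filter] at hj
    obtain ⟨hjc, u, hu, huo⟩ := hj
    rw [hT, Finset.mem_filter]
    refine ⟨hjc, ?_⟩
    rintro ⟨m, hm, hmo⟩
    rw [Submodule.mem_div_iff_forall_mul_mem] at hu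
    have hjc' := Finset.mem_range.mp hjc
    apply order_ne_pred A hA hcl Γ hΓ c hc hc0 hc1 ω hω1 hωfg hωinj (u * m) (hu m hm)
    rw [order_mul, huo, hmo]
    have : j + (c - 1 - j) = c - 1 := by omega
    exact_mod_cast this
  have hSTeq : S = T := Finset.eq_of_subset_of_card_le hST (by omega)
  have hnS : n ∈ S ↔ ∃ u : PowerSeries k, PowerSeries.order u = n ∧ ∀ m ∈ M, u * m ∈ ω := by
    rw [hS, Finset.mem_filter]
    constructor
    · rintro ⟨-, u, hu, huo⟩
      exact ⟨u, huo, Submodule.mem_div_iff_forall_mul_mem.mp hu⟩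
    · rintro ⟨u, huo, hu⟩
      exact ⟨Finset.mem_range.mpr hn', u, Submodule.mem_div_iff_forall_mul_mem.mpr hu, huo⟩
  have hnT : n ∈ T ↔ ¬ ∃ m ∈ M, PowerSeries.order m = ((c - 1 - n : ℕ) : ℕ∞) := by
    rw [hT, Finset.mem_filter]
    exact ⟨fun h => h.2, fun h => ⟨Finset.mem_range.mpr hn', h⟩⟩
  rw [← hnS, ← hnT, hSTeq]

end main

end Groth.Agent.Helper8.TFV
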