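import Groth.Agent.Lib.Helper8.TFV3

/-!
# Homological lemmas: Ext of modules killed by the maximal ideal; ranges of connecting maps
-/

set_option autoImplicit false
set_option linter.style.haveILetI false
universe u

namespace Groth.Agent.Helper8.TFV

open CategoryTheory Abelian IsLocalRing
open Groth.Agent.Helper8.TF Groth.Agent.Helper8.W4

section split

variable {R : Type u} [CommRing R] [IsLocalRing R]

lemma isSemisimple_of_killed (T : Type u) [AddCommGroup T] [Module R T]
    (hkill : ∀ a ∈ maximalIdeal R, ∀ t : T, a • t = 0) : IsSemisimpleModule R T := by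
  have h : Module.IsTorsionBySet R T (maximalIdeal R : Set R) := fun t a => hkill a.1 a.2 t
  letI := h.module
  letI : Field (R ⧸ maximalIdeal R) := Ideal.Quotient.field _
  exact h.isSemisimpleModule_iff.mp inferInstance

/-- `ℓ(Ext^i(T, N)) = ℓ(T) · ℓ(Ext^i(k, N))` for `T` of finite length killed by `𝔪`. -/
theorem length_ext_of_killed (N : ModuleCat.{u} R) (i : ℕ)
    (T : Type u) [AddCommGroup T] [Module R T] (hT : IsFiniteLength R T)
    (hkill : ∀ a ∈ maximalIdeal R, ∀ t : T, a • t = 0) :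
    Module.length R (Ext (ModuleCat.of R T) N i) =
      Module.length R T * Module.length R (Ext (ModuleCat.of R (R ⧸ maximalIdeal R)) N i) := by
  induction hT with
  | @of_subsingleton M _ _ _ =>
    have hz : Limits.IsZero (ModuleCat.of R M) := ModuleCat.isZero_of_subsingleton _
    have := hz.hasProjectiveDimensionLT_zero
    haveI : Subsingleton (Ext (ModuleCat.of R M) N i) :=
      HasProjectiveDimensionLT.subsingleton (ModuleCat.of R M) 0 i (Nat.zero_le _) _
    have h1 : Module.length R (Ext (ModuleCat.of R M) N i) = 0 := Module.length_eq_zero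
    have h2 : Module.length R M = 0 := Module.length_eq_zero
    rw [h1, h2, zero_mul]
  | @of_simple_quotient M _ _ N₀ hsimple hN ih =>
    obtain ⟨I, hImax, ⟨e⟩⟩ := isSimpleModule_iff_quot_maximal.mp hsimple
    obtain rfl : I = maximalIdeal R := IsLocalRing.eq_maximalIdeal hImax
    haveI := isSemisimple_of_killed M hkill
    obtain ⟨W, hW⟩ := exists_isCompl N₀
    let S := ModuleCat.shortComplexOfCompEqZero N₀.subtype N₀.mkQ
      (LinearMap.exact_subtype_mkQ N₀).linearMap_comp_eq_zero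
    have hS : S.ShortExact := ModuleCat.shortComplex_shortExact S (LinearMap.exact_subtype_mkQ N₀)
      N₀.injective_subtype N₀.mkQ_surjective
    let r : M →ₗ[R] ↥N₀ := N₀.projectionOnto W hW
    let s : (M ⧸ N₀) →ₗ[R] M :=
      W.subtype ∘ₗ (Submodule.quotientEquivOfIsCompl N₀ W hW).toLinearMap
    have hr : S.f ≫ ModuleCat.ofHom r = 𝟙 _ := by
      apply ModuleCat.hom_ext
      apply LinearMap.ext
      intro x
      exact Submodule.projectionOnto_apply_left hW x
    have hs : ModuleCat.ofHom s ≫ S.g = 𝟙 _ := by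
      apply ModuleCat.hom_ext
      apply LinearMap.ext
      intro q
      exact Submodule.mk_quotientEquivOfIsCompl_apply hW q
    have hinj : Function.Injective (cφ S N i) := by
      intro x y hxy
      have h : (Ext.mk₀ (ModuleCat.ofHom s)).comp ((Ext.mk₀ S.g).comp x (zero_add i)) (zero_add i) =
          (Ext.mk₀ (ModuleCat.ofHom s)).comp ((Ext.mk₀ S.g).comp y (zero_add i)) (zero_add i) :=
        congrArg (fun z => (Ext.mk₀ (ModuleCat.ofHom s)).comp z (zero_add i)) hxy
      rw [Ext.mk₀_comp_mk₀_assoc, Ext.mk₀_comp_mk₀_assoc, hs, Ext.mk₀_id_comp,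
        Ext.mk₀_id_comp] at h
      exact h
    have hsurj : Function.Surjective (cψ S N i) := by
      intro x
      refine ⟨(Ext.mk₀ (ModuleCat.ofHom r)).comp x (zero_add i), ?_⟩
      change (Ext.mk₀ S.f).comp ((Ext.mk₀ (ModuleCat.ofHom r)).comp x (zero_add i))
        (zero_add i) = x
      rw [Ext.mk₀_comp_mk₀_assoc, hr, Ext.mk₀_id_comp]
    have h1 : Module.length R (Ext (ModuleCat.of R M) N i) =
        Module.length R (Ext (ModuleCat.of R (M ⧸ N₀)) N i) +
          Module.length R (Ext (ModuleCat.of R ↥N₀) N i) :=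
      Module.length_eq_add_of_exact (cφ S N i) (cψ S N i) hinj hsurj (exact_cφ_cψ hS N i)
    have h2 := Module.length_eq_add_of_exact N₀.subtype N₀.mkQ N₀.injective_subtype
      N₀.mkQ_surjective (LinearMap.exact_subtype_mkQ N₀)
    have h3 : Module.length R (M ⧸ N₀) = 1 := Module.length_eq_one R _
    have h4 := (extCongrLeft e.toModuleIso N i).length_eq
    have ih' := ih (fun a ha t => Subtype.ext (hkill a ha (t : M)))
    rw [h1, h2, h3, ← h4, ih', add_mul, one_mul, add_comm]

end split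

section coker

variable {R : Type u} [CommRing R] {M₁ M₂ M₃ N : Type u} [AddCommGroup M₁] [Module R M₁]
  [AddCommGroup M₂] [Module R M₂] [AddCommGroup M₃] [Module R M₃] [AddCommGroup N] [Module R N]
  (f : M₁ →ₗ[R] M₂) (g : M₂ →ₗ[R] M₃) (hex : Function.Exact f g)
  (hf : Function.Injective f) (hg : Function.Surjective g)

/-- the short complex of a short exact sequence of modules. -/
noncomputable abbrev sesSC : ShortComplex (ModuleCat.{u} R) :=
  ModuleCat.shortComplexOfCompEqZero f g hex.linearMap_comp_eq_zero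

include hf hg in
lemma sesSC_shortExact : (sesSC f g hex).ShortExact :=
  ModuleCat.shortComplex_shortExact _ hex hf hg

lemma cψ_mk₀ (ψ : ModuleCat.of R M₂ ⟶ ModuleCat.of R N) :
    cψ (sesSC f g hex) (ModuleCat.of R N) 0 (Ext.mk₀ ψ) = Ext.mk₀ (ModuleCat.ofHom f ≫ ψ) := by
  change (Ext.mk₀ (sesSC f g hex).f).comp (Ext.mk₀ ψ) (zero_add 0) = _
  rw [Ext.mk₀_comp_mk₀]

/-- the length of the image of `Hom(M₁, N) → Ext¹(M₃, N)` as a relative length. -/
theorem length_range_cδ_zero {Y : Type*} [AddCommGroup Y] [Module R Y] (a b : Submodule R Y)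
    (Θ : ↥b →ₗ[R] (M₁ →ₗ[R] N)) (hΘ : Function.Surjective Θ)
    (ha : ∀ y : ↥b, (y : Y) ∈ a ↔ ∃ ψ : M₂ →ₗ[R] N, ψ ∘ₗ f = Θ y) :
    Module.length R (LinearMap.range
      (cδ (sesSC_shortExact f g hex hf hg) (ModuleCat.of R N) 0)) = relLen a b := by
  have hS := sesSC_shortExact f g hex hf hg
  let θ : ↥b →ₗ[R] Ext (ModuleCat.of R M₃) (ModuleCat.of R N) 1 :=
    (cδ hS (ModuleCat.of R N) 0) ∘ₗ
      ((Groth.Agent.Helper8.LD.ext0Equiv M₁ N).symm.toLinearMap ∘ₗ Θ)
  have hθ : ∀ y, θ y = cδ hS (ModuleCat.of R N) 0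
      ((Groth.Agent.Helper8.LD.ext0Equiv M₁ N).symm (Θ y)) := fun y => rfl
  have hrange : LinearMap.range θ = LinearMap.range (cδ hS (ModuleCat.of R N) 0) := by
    apply le_antisymm
    · rintro _ ⟨y, rfl⟩
      exact ⟨_, rfl⟩
    · rintro _ ⟨x, rfl⟩
      obtain ⟨y, hy⟩ := hΘ (Groth.Agent.Helper8.LD.ext0Equiv M₁ N x)
      refine ⟨y, ?_⟩
      rw [hθ, hy, LinearEquiv.symm_apply_apply]
  have hker : LinearMap.ker θ = Submodule.comap b.subtype a := by
    ext y
    rw [LinearMap.mem_ker, Submodule.mem_comap, Submodule.subtype_apply, ha y, hθ]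
    refine (exact_cψ_cδ hS (ModuleCat.of R N) 0 _).trans ?_
    constructor
    · rintro ⟨x₂, hx₂⟩
      obtain ⟨ψ, rfl⟩ := (Ext.mk₀_bijective _ _).2 x₂
      refine ⟨ψ.hom, ?_⟩
      have h1 : cψ (sesSC f g hex) (ModuleCat.of R N) 0 (Ext.mk₀ ψ) =
          Ext.mk₀ (ModuleCat.ofHom f ≫ ψ) := cψ_mk₀ f g hex ψ
      have h2 := congrArg (Groth.Agent.Helper8.LD.ext0Equiv M₁ N) hx₂
      rw [LinearEquiv.apply_symm_apply] at h2
      rw [← h2]
      change _ = Groth.Agent.Helper8.LD.ext0Equiv M₁ N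
        (cψ (sesSC f g hex) (ModuleCat.of R N) 0 (Ext.mk₀ ψ))
      rw [h1, Groth.Agent.Helper8.LD.ext0Equiv_mk₀]
      rfl
    · rintro ⟨ψ, hψ⟩
      refine ⟨Ext.mk₀ (ModuleCat.ofHom ψ), ?_⟩
      rw [cψ_mk₀ f g hex, ← hψ]
      apply (Groth.Agent.Helper8.LD.ext0Equiv M₁ N).injective
      rw [LinearEquiv.apply_symm_apply, Groth.Agent.Helper8.LD.ext0Equiv_mk₀]
      rfl
  have e1 := (LinearMap.quotKerEquivRange θ).length_eq
  have e2 := (Submodule.quotEquivOfEq _ _ hker).length_eq
  have e3 := (LinearEquiv.ofEq _ _ hrange).length_eq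
  unfold relLen
  exact e3.symm.trans (e1.symm.trans e2)

end coker

end Groth.Agent.Helper8.TFV
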