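import Groth.Agent.Lib.Helper8.TFV4

/-!
# `Ext¹(M, M)` for `R ⊆ M ⊆ Y` when the maximal ideal of `R` is `x Y`

Abstract version: `R` a local ring, `Y` an `R`-algebra containing `R`, `x ∈ Y` a non-zero-divisor
with `x Y ⊆ R` equal to the maximal ideal of `R`.
-/

set_option autoImplicit false
set_option linter.style.haveILetI false
universe u

namespace Groth.Agent.Helper8.TFV

open CategoryTheory Abelian IsLocalRing
open Groth.Agent.Helper8.TF Groth.Agent.Helper8.W4

section abs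

variable {R Y : Type u} [CommRing R] [CommRing Y] [Algebra R Y]
  (x : Y) (hx : ∀ y y' : Y, x * y = x * y' → y = y')
  (hinj : Function.Injective (algebraMap R Y))
  (hC : ∀ y : Y, ∃ a : R, algebraMap R Y a = x * y)

include hx hC in
/-- homomorphisms between `R`-submodules of `Y` are multiplications. -/
lemma abs_hom_mul (M M' : Submodule R Y) (φ : ↥M →ₗ[R] ↥M') (y₀ z : ↥M) :
    ((φ z : ↥M') : Y) * (y₀ : Y) = ((φ y₀ : ↥M') : Y) * (z : Y) := by
  obtain ⟨a, ha⟩ := hC (y₀ : Y)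
  obtain ⟨b, hb⟩ := hC (z : Y)
  have h1 : a • z = b • y₀ := by
    apply Subtype.ext
    change a • (z : Y) = b • (y₀ : Y)
    rw [Algebra.smul_def, Algebra.smul_def, ha, hb]
    ring
  have h2 := congrArg (fun w => ((φ w : ↥M') : Y)) h1
  simp only [map_smul] at h2
  change a • ((φ z : ↥M') : Y) = b • ((φ y₀ : ↥M') : Y) at h2
  rw [Algebra.smul_def, Algebra.smul_def, ha, hb] at h2
  apply hx
  calc x * (((φ z : ↥M') : Y) * (y₀ : Y)) = x * (y₀ : Y) * ((φ z : ↥M') : Y) := by ring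
    _ = x * (z : Y) * ((φ y₀ : ↥M') : Y) := h2
    _ = _ := by ring

/-- `y ↦ x * y`, as a map `Y → R`. -/
noncomputable def absf₂ : Y →ₗ[R] R where
  toFun y := Classical.choose (hC y)
  map_add' y y' := hinj (by
    rw [map_add, Classical.choose_spec (hC (y + y')), Classical.choose_spec (hC y),
      Classical.choose_spec (hC y'), mul_add])
  map_smul' a y := hinj (by
    rw [RingHom.id_apply, smul_eq_mul, map_mul, Classical.choose_spec (hC (a • y)),
      Classical.choose_spec (hC y), Algebra.smul_def]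
    ring)

lemma absf₂_spec (y : Y) : algebraMap R Y (absf₂ x hinj hC y) = x * y :=
  Classical.choose_spec (hC y)

include hx in
lemma absf₂_injective : Function.Injective (absf₂ x hinj hC) := by
  intro y y' h
  apply hx
  rw [← absf₂_spec x hinj hC y, ← absf₂_spec x hinj hC y', h]

/-- `d ↦ (y ↦ d * y)`. -/
noncomputable def absΘ₂ (M : Submodule R Y) :
    ↥(M / (⊤ : Submodule R Y)) →ₗ[R] (Y →ₗ[R] ↥M) where
  toFun d :=
    { toFun := fun y => ⟨(d : Y) * y,
        Submodule.mem_div_iff_forall_mul_mem.mp d.2 y Submodule.mem_top⟩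
      map_add' := fun y y' => Subtype.ext (mul_add _ _ _)
      map_smul' := fun a y => Subtype.ext (mul_smul_comm a (d : Y) y) }
  map_add' d d' := by
    apply LinearMap.ext
    intro y
    apply Subtype.ext
    exact add_mul (d : Y) (d' : Y) y
  map_smul' a d := by
    apply LinearMap.ext
    intro y
    apply Subtype.ext
    exact smul_mul_assoc a (d : Y) y

lemma absΘ₂_apply (M : Submodule R Y) (d : ↥(M / (⊤ : Submodule R Y))) (y : Y) :
    ((absΘ₂ M d y : ↥M) : Y) = (d : Y) * y := rfl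

include hx hC in
lemma absΘ₂_surjective (M : Submodule R Y) : Function.Surjective (absΘ₂ M) := by
  intro φ
  have key : ∀ y : Y, ((φ y : ↥M) : Y) = ((φ 1 : ↥M) : Y) * y := by
    intro y
    obtain ⟨a, ha⟩ := hC y
    obtain ⟨b, hb⟩ := hC 1
    have h1 : a • (1 : Y) = b • y := by
      rw [Algebra.smul_def, Algebra.smul_def, ha, hb]
      ring
    have h2 := congrArg (fun w => ((φ w : ↥M) : Y)) h1
    simp only [map_smul] at h2
    change a • ((φ 1 : ↥M) : Y) = b • ((φ y : ↥M) : Y) at h2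
    rw [Algebra.smul_def, Algebra.smul_def, ha, hb] at h2
    apply hx
    calc x * ((φ y : ↥M) : Y) = x * 1 * ((φ y : ↥M) : Y) := by ring
      _ = x * y * ((φ 1 : ↥M) : Y) := h2.symm
      _ = _ := by ring
  have hd : ((φ 1 : ↥M) : Y) ∈ M / (⊤ : Submodule R Y) := by
    rw [Submodule.mem_div_iff_forall_mul_mem]
    intro y _
    rw [← key y]
    exact (φ y).2
  refine ⟨⟨_, hd⟩, ?_⟩
  apply LinearMap.ext
  intro y
  apply Subtype.ext
  rw [absΘ₂_apply]
  exact (key y).symm

lemma abs_ha₂ (M : Submodule R Y) (d : ↥(M / (⊤ : Submodule R Y))) :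
    (d : Y) ∈ M.map (LinearMap.mulLeft R x) ↔
      ∃ ψ : R →ₗ[R] ↥M, ψ ∘ₗ absf₂ x hinj hC = absΘ₂ M d := by
  constructor
  · rintro ⟨y₁, hy₁, hyd⟩
    refine ⟨LinearMap.toSpanSingleton R ↥M ⟨y₁, hy₁⟩, ?_⟩
    apply LinearMap.ext
    intro y
    apply Subtype.ext
    rw [absΘ₂_apply, ← hyd]
    change (absf₂ x hinj hC y) • y₁ = x * y₁ * y
    rw [Algebra.smul_def, absf₂_spec]
    ring
  · rintro ⟨ψ, hψ⟩
    have h1 := congrArg (fun w : ↥M => (w : Y)) (LinearMap.congr_fun hψ 1)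
    simp only [LinearMap.comp_apply] at h1
    rw [absΘ₂_apply, mul_one] at h1
    have h3 : ψ (absf₂ x hinj hC 1) = (absf₂ x hinj hC 1) • ψ 1 := by
      rw [← map_smul, smul_eq_mul, mul_one]
    rw [h3] at h1
    refine ⟨((ψ 1 : ↥M) : Y), (ψ 1).2, ?_⟩
    rw [← h1]
    change x * ((ψ 1 : ↥M) : Y) = (absf₂ x hinj hC 1) • ((ψ 1 : ↥M) : Y)
    rw [Algebra.smul_def, absf₂_spec, mul_one]

variable (M : Submodule R Y) (hM1 : (1 : Y) ∈ M)

/-- the inclusion `R → M`. -/
noncomputable def absι₁ : R →ₗ[R] ↥M := LinearMap.toSpanSingleton R ↥M ⟨1, hM1⟩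

lemma absι₁_apply (a : R) : ((absι₁ M hM1 a : ↥M) : Y) = algebraMap R Y a := by
  change a • (1 : Y) = _
  rw [Algebra.algebraMap_eq_smul_one]

lemma abs_exact_ι₁ : Function.Exact (absι₁ M hM1)
    (Submodule.comap M.subtype (1 : Submodule R Y)).mkQ := by
  intro y
  rw [Submodule.mkQ_apply, Submodule.Quotient.mk_eq_zero, Submodule.mem_comap,
    Submodule.mem_one]
  constructor
  · rintro ⟨r, hr⟩
    exact ⟨r, Subtype.ext ((absι₁_apply M hM1 r).trans hr)⟩
  · rintro ⟨r, rfl⟩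
    exact ⟨r, (absι₁_apply M hM1 r).symm⟩

include hinj in
lemma absι₁_injective : Function.Injective (absι₁ M hM1) := by
  intro a b h
  apply hinj
  rw [← absι₁_apply M hM1 a, ← absι₁_apply M hM1 b, h]

include hx hC in
lemma abs_ha₁ (y : ↥M) : (y : Y) ∈ M / M ↔
    ∃ ψ : ↥M →ₗ[R] ↥M, ψ ∘ₗ absι₁ M hM1 =
      (LinearMap.ringLmapEquivSelf R R ↥M).symm.toLinearMap y := by
  constructor
  · intro hy
    rw [Submodule.mem_div_iff_forall_mul_mem] at hy
    refine ⟨{ toFun := fun z => ⟨(y : Y) * z, hy z z.2⟩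
              map_add' := fun z z' => Subtype.ext (mul_add _ _ _)
              map_smul' := fun a z => Subtype.ext (mul_smul_comm a (y : Y) (z : Y)) }, ?_⟩
    apply LinearMap.ext
    intro a
    apply Subtype.ext
    change (y : Y) * (a • (1 : Y)) = a • (y : Y)
    rw [mul_smul_comm, mul_one]
  · rintro ⟨ψ, hψ⟩
    rw [Submodule.mem_div_iff_forall_mul_mem]
    intro z hz
    have h1 := abs_hom_mul x hx hC M M ψ ⟨1, hM1⟩ ⟨z, hz⟩
    have h4 : absι₁ M hM1 1 = ⟨1, hM1⟩ := one_smul R _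
    have h2 : ψ ⟨1, hM1⟩ = y := by
      have h3 := LinearMap.congr_fun hψ 1
      change ψ (absι₁ M hM1 1) = (1 : R) • y at h3
      rw [one_smul, h4] at h3
      exact h3
    rw [h2] at h1
    change ((ψ ⟨z, hz⟩ : ↥M) : Y) * 1 = (y : Y) * z at h1
    rw [mul_one] at h1
    rw [← h1]
    exact (ψ ⟨z, hz⟩).2

variable [IsLocalRing R]
  (hm : ∀ a : R, a ∈ maximalIdeal R ↔ ∃ y : Y, algebraMap R Y a = x * y)

include hm in
lemma abs_exact_f₂ : Function.Exact (absf₂ x hinj hC)
    ((maximalIdeal R).mkQ : R →ₗ[R] (R ⧸ maximalIdeal R)) := by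
  intro a
  rw [Submodule.mkQ_apply, Submodule.Quotient.mk_eq_zero, hm a]
  constructor
  · rintro ⟨y, hy⟩
    exact ⟨y, hinj ((absf₂_spec x hinj hC y).trans hy.symm)⟩
  · rintro ⟨y, rfl⟩
    exact ⟨y, absf₂_spec x hinj hC y⟩

include hx hinj hC hm hM1 in
/-- the main identity. -/
theorem absGT (hfin : relLen (1 : Submodule R Y) M ≠ ⊤) :
    relLen (1 : Submodule R Y) M *
        relLen (M.map (LinearMap.mulLeft R x)) (M / (⊤ : Submodule R Y)) =
      relLen (M / M) M +
        Module.length R (Ext (ModuleCat.of R ↥M) (ModuleCat.of R ↥M) 1) := by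
  -- first sequence `0 → R → M → M/R → 0`
  have hS1 := sesSC_shortExact (absι₁ M hM1)
    (Submodule.comap M.subtype (1 : Submodule R Y)).mkQ (abs_exact_ι₁ M hM1)
    (absι₁_injective hinj M hM1) (Submodule.mkQ_surjective _)
  have h_a := length_range_cδ_zero (absι₁ M hM1)
    (Submodule.comap M.subtype (1 : Submodule R Y)).mkQ (abs_exact_ι₁ M hM1)
    (absι₁_injective hinj M hM1) (Submodule.mkQ_surjective _) (M / M) M
    (LinearMap.ringLmapEquivSelf R R ↥M).symm.toLinearMap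
    (LinearMap.ringLmapEquivSelf R R ↥M).symm.surjective (abs_ha₁ x hx hC M hM1)
  have hproj : Subsingleton (Ext (ModuleCat.of R R) (ModuleCat.of R ↥M) 1) :=
    Ext.subsingleton_of_projective _ _ 0
  have h_b := length_eq_range_add_range (cδ hS1 (ModuleCat.of R ↥M) 0)
    (cφ _ (ModuleCat.of R ↥M) (0 + 1)) (exact_cδ_cφ hS1 (ModuleCat.of R ↥M) 0)
  have h_c : Function.Surjective (cφ (sesSC (absι₁ M hM1)
      (Submodule.comap M.subtype (1 : Submodule R Y)).mkQ (abs_exact_ι₁ M hM1))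
      (ModuleCat.of R ↥M) (0 + 1)) := by
    intro z
    exact (exact_cφ_cψ hS1 (ModuleCat.of R ↥M) (0 + 1) z).mp
      (Subsingleton.elim (α := Ext (ModuleCat.of R R) (ModuleCat.of R ↥M) 1) _ _)
  rw [length_range_of_surjective _ h_c, h_a] at h_b
  have h_b' : Module.length R (Ext (ModuleCat.of R
      (↥M ⧸ Submodule.comap M.subtype (1 : Submodule R Y))) (ModuleCat.of R ↥M) 1) =
      relLen (M / M) M +
        Module.length R (Ext (ModuleCat.of R ↥M) (ModuleCat.of R ↥M) 1) := h_b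
  -- the quotient `M/R` is killed by the maximal ideal and has finite length
  have hT : IsFiniteLength R (↥M ⧸ Submodule.comap M.subtype (1 : Submodule R Y)) :=
    Module.length_ne_top_iff.mp hfin
  have hkill : ∀ a ∈ maximalIdeal R,
      ∀ t : ↥M ⧸ Submodule.comap M.subtype (1 : Submodule R Y), a • t = 0 := by
    intro a ha t
    obtain ⟨y, rfl⟩ := Submodule.mkQ_surjective _ t
    rw [Submodule.mkQ_apply, ← Submodule.Quotient.mk_smul, Submodule.Quotient.mk_eq_zero,
      Submodule.mem_comap, Submodule.mem_one]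
    obtain ⟨y', hy'⟩ := (hm a).mp ha
    obtain ⟨b, hb⟩ := hC (y' * (y : Y))
    refine ⟨b, ?_⟩
    rw [hb]
    change _ = a • (y : Y)
    rw [Algebra.smul_def, hy']
    ring
  have h_d := length_ext_of_killed (ModuleCat.of R ↥M) 1 _ hT hkill
  -- second sequence `0 → Y → R → R/m → 0`
  have hS2 := sesSC_shortExact (absf₂ x hinj hC)
    ((maximalIdeal R).mkQ : R →ₗ[R] (R ⧸ maximalIdeal R)) (abs_exact_f₂ x hinj hC hm)
    (absf₂_injective x hx hinj hC) (Submodule.mkQ_surjective _)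
  have h_e := length_range_cδ_zero (absf₂ x hinj hC)
    ((maximalIdeal R).mkQ : R →ₗ[R] (R ⧸ maximalIdeal R)) (abs_exact_f₂ x hinj hC hm)
    (absf₂_injective x hx hinj hC) (Submodule.mkQ_surjective _)
    (M.map (LinearMap.mulLeft R x)) (M / (⊤ : Submodule R Y)) (absΘ₂ M)
    (absΘ₂_surjective x hx hC M) (abs_ha₂ x hinj hC M)
  have h_f : Function.Surjective (cδ hS2 (ModuleCat.of R ↥M) 0) := by
    intro z
    exact (exact_cδ_cφ hS2 (ModuleCat.of R ↥M) 0 z).mp
      (Subsingleton.elim (α := Ext (ModuleCat.of R R) (ModuleCat.of R ↥M) 1) _ _)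
  rw [length_range_of_surjective _ h_f] at h_e
  have h_e' : Module.length R (Ext (ModuleCat.of R (R ⧸ maximalIdeal R))
      (ModuleCat.of R ↥M) 1) =
      relLen (M.map (LinearMap.mulLeft R x)) (M / (⊤ : Submodule R Y)) := h_e
  rw [h_e'] at h_d
  rw [← h_b', h_d]
  rfl

end abs

end Groth.Agent.Helper8.TFV
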