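import Groth.Agent.Lib.Helper8.TFV5

/-!
# `Ext¹(M, M)` for monomial modules over the cubical monomial ring
-/

set_option autoImplicit false
set_option linter.style.haveILetI false
universe u

namespace Groth.Agent.Helper8.TFV

open PowerSeries CategoryTheory Abelian IsLocalRing
open Groth.Agent.Helper8.TF Groth.Agent.Helper8.W4

section general

variable {R : Type*} [CommRing R] {Y' : Type*} [AddCommGroup Y'] [Module R Y']

lemma relLen_top_eq (a : Submodule R Y') :
    relLen a (⊤ : Submodule R Y') = Module.length R (Y' ⧸ a) := by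
  unfold relLen
  refine (Submodule.Quotient.equiv _ _ (Submodule.topEquiv) ?_).length_eq
  ext y
  constructor
  · rintro ⟨z, hz, rfl⟩
    exact hz
  · intro hy
    exact ⟨⟨y, Submodule.mem_top⟩, hy, rfl⟩

lemma relLen_eq_zero_of_le {a b : Submodule R Y'} (h : b ≤ a) : relLen a b = 0 := by
  unfold relLen
  rw [Module.length_eq_zero_iff]
  refine ⟨fun p q => ?_⟩
  obtain ⟨y, rfl⟩ := Submodule.mkQ_surjective _ p
  obtain ⟨z, rfl⟩ := Submodule.mkQ_surjective _ q
  rw [Submodule.mkQ_apply, Submodule.mkQ_apply, Submodule.Quotient.eq]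
  exact h (y - z).2

lemma enat_of_add {a b : ℕ} {x : ℕ∞} (h : (a : ℕ∞) + x = b) : x = ((b - a : ℕ) : ℕ∞) := by
  induction x using ENat.recTopCoe with
  | top =>
    rw [add_top] at h
    exact absurd h.symm (ENat.coe_ne_top b)
  | coe y =>
    have h' : a + y = b := by exact_mod_cast h
    have : y = b - a := by omega
    rw [this]

lemma card_filter_eq (n : ℕ) (p : ℕ → Prop) [DecidablePred p] (T : Finset ℕ)
    (h : ∀ j, j ∈ T ↔ j < n ∧ p j) : ((Finset.range n).filter p).card = T.card := by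
  congr 1
  ext j
  rw [Finset.mem_filter, Finset.mem_range]
  exact (h j).symm

end general

section abs2

variable {R Y : Type u} [CommRing R] [CommRing Y] [Algebra R Y]
  (x : Y) (hx : ∀ y y' : Y, x * y = x * y' → y = y')
  (hinj : Function.Injective (algebraMap R Y))
  (hC : ∀ y : Y, ∃ a : R, algebraMap R Y a = x * y)

include hx hC in
lemma abs_end_mul (φ : Y →ₗ[R] Y) (y : Y) : φ y = φ 1 * y := by
  obtain ⟨a, ha⟩ := hC y
  obtain ⟨b, hb⟩ := hC 1
  have h1 : a • (1 : Y) = b • y := by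
    rw [Algebra.smul_def, Algebra.smul_def, ha, hb]
    ring
  have h2 := congrArg φ h1
  rw [map_smul, map_smul, Algebra.smul_def, Algebra.smul_def, ha, hb] at h2
  apply hx
  calc x * φ y = x * 1 * φ y := by ring
    _ = x * y * φ 1 := h2.symm
    _ = _ := by ring

/-- `End_R(Y) ≃ Y`. -/
noncomputable def absEndEquiv : (Y →ₗ[R] Y) ≃ₗ[R] Y where
  toFun φ := φ 1
  map_add' _ _ := rfl
  map_smul' _ _ := rfl
  invFun y := LinearMap.mulLeft R y
  left_inv φ := by
    apply LinearMap.ext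
    intro y
    exact (abs_end_mul x hx hC φ y).symm
  right_inv y := mul_one y

include hx hC in
lemma abs_length_end :
    Module.length R ((Y →ₗ[R] Y) ⧸ LinearMap.range
      (Algebra.lsmul R R Y : R →ₐ[R] Module.End R Y).toLinearMap) =
      relLen (1 : Submodule R Y) ⊤ := by
  rw [relLen_top_eq]
  refine (Submodule.Quotient.equiv _ _ (absEndEquiv x hx hC) ?_).length_eq
  ext y
  rw [Submodule.mem_one]
  constructor
  · rintro ⟨φ, ⟨a, rfl⟩, rfl⟩
    refine ⟨a, ?_⟩
    change _ = a • (1 : Y)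
    rw [Algebra.algebraMap_eq_smul_one]
  · rintro ⟨a, rfl⟩
    refine ⟨_, ⟨a, rfl⟩, ?_⟩
    change a • (1 : Y) = _
    rw [Algebra.algebraMap_eq_smul_one]

variable [IsLocalRing R]
  (hm : ∀ a : R, a ∈ maximalIdeal R ↔ ∃ y : Y, algebraMap R Y a = x * y)

include hx hinj hC hm in
theorem absGT_top (hfin : relLen (1 : Submodule R Y) ⊤ ≠ ⊤) :
    relLen (1 : Submodule R Y) ⊤ *
        relLen ((⊤ : Submodule R Y).map (LinearMap.mulLeft R x)) ⊤ =
      Module.length R (Ext (ModuleCat.of R Y) (ModuleCat.of R Y) 1) := by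
  have h := absGT x hx hinj hC ⊤ Submodule.mem_top hm hfin
  have h1 : (⊤ : Submodule R Y) / ⊤ = ⊤ := by
    apply top_unique
    intro d _
    rw [Submodule.mem_div_iff_forall_mul_mem]
    intro y _
    exact Submodule.mem_top
  rw [h1, relLen_self, zero_add] at h
  rw [h]
  have e1 := (extCongrLeft (Submodule.topEquiv (R := R) (M := Y)).toModuleIso
    (ModuleCat.of R ↥(⊤ : Submodule R Y)) 1).length_eq
  have e2 := Groth.Agent.Helper8.LD.mu_congr_linearEquiv (ModuleCat.of R Y)
    (Submodule.topEquiv (R := R) (M := Y)) 1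
  unfold Groth.Agent.Helper8.LD.mu at e2
  rw [← e2, e1]

end abs2

section conc

variable {k : Type u} [Field k] (A : Subalgebra k (PowerSeries k))

/-- two nested submodules containing `X^c k⟦X⟧` with the same orders `< c` are equal. -/
lemma eq_of_values (c : ℕ) (N₁ N₂ : Submodule ↥A (PowerSeries k)) (h12 : N₁ ≤ N₂)
    (hO : Ord A c ≤ N₁)
    (hv : ∀ j < c, (∃ f ∈ N₂, order f = (j : ℕ∞)) → ∃ f ∈ N₁, order f = (j : ℕ∞)) :
    N₁ = N₂ := by
  classical
  apply le_antisymm h12
  apply le_of_relLen_eq_zero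
  have h1 := relLen_add hO h12
  rw [relLen_Ord A N₁ c hO, relLen_Ord A N₂ c (hO.trans h12)] at h1
  have h2 : (Finset.range c).filter (fun n : ℕ => ∃ f ∈ N₂, order f = (n : ℕ∞)) =
      (Finset.range c).filter (fun n : ℕ => ∃ f ∈ N₁, order f = (n : ℕ∞)) := by
    apply Finset.filter_congr
    intro j hj
    rw [Finset.mem_range] at hj
    constructor
    · exact hv j hj
    · rintro ⟨f, hf, hfo⟩
      exact ⟨f, h12 hf, hfo⟩
  rw [h2, add_comm] at h1
  exact enat_zero_of_add (ENat.coe_ne_top _) h1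

lemma Ord_mono {q n : ℕ} (h : q ≤ n) : Ord A n ≤ Ord A q := by
  intro f hf
  exact dvd_trans (pow_dvd_pow X h) hf

lemma mulLeft_injective (n : ℕ) :
    Function.Injective (LinearMap.mulLeft ↥A ((X : PowerSeries k) ^ n)) :=
  fun _ _ h => mul_left_cancel₀ (pow_ne_zero _ X_ne_zero) h

lemma map_top_eq (n : ℕ) :
    (⊤ : Submodule ↥A (PowerSeries k)).map (LinearMap.mulLeft ↥A ((X : PowerSeries k) ^ n)) =
      Ord A n := by
  ext f
  constructor
  · rintro ⟨y, _, rfl⟩
    exact ⟨y, rfl⟩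
  · rintro ⟨y, rfl⟩
    exact ⟨y, Submodule.mem_top, rfl⟩

open Classical in
lemma relLen_Ord_Ord (n q : ℕ) (hq : q ≤ n) :
    relLen (Ord A n) (Ord A q) = ((n - q : ℕ) : ℕ∞) := by
  rw [relLen_Ord A (Ord A q) n (Ord_mono A hq)]
  have : (Finset.range n).filter (fun j : ℕ => ∃ f ∈ Ord A q, order f = (j : ℕ∞)) =
      Finset.Ico q n := by
    ext j
    rw [Finset.mem_filter, Finset.mem_range, Finset.mem_Ico]
    constructor
    · rintro ⟨hj, f, hf, hfo⟩
      refine ⟨?_, hj⟩
      rw [mem_Ord_iff_order, hfo] at hf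
      exact_mod_cast hf
    · rintro ⟨hqj, hj⟩
      exact ⟨hj, X ^ j, (mem_Ord A).mpr (pow_dvd_pow X hqj), order_X_pow j⟩
  rw [this, Nat.card_Ico]

lemma relLen_map_Ord (n : ℕ) (M : Submodule ↥A (PowerSeries k)) (q : ℕ) (hq : q ≤ n) :
    relLen (M.map (LinearMap.mulLeft ↥A ((X : PowerSeries k) ^ n))) (Ord A q) =
      relLen M ⊤ + ((n - q : ℕ) : ℕ∞) := by
  have hle : M.map (LinearMap.mulLeft ↥A ((X : PowerSeries k) ^ n)) ≤ Ord A n := by
    rw [← map_top_eq A n]
    exact Submodule.map_mono le_top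
  rw [relLen_add hle (Ord_mono A hq), relLen_Ord_Ord A n q hq, ← map_top_eq A n,
    relLen_map' _ (mulLeft_injective A n) M ⊤]

section GT

variable (c : ℕ) (hC : ∀ f : PowerSeries k, (X : PowerSeries k) ^ c ∣ f → f ∈ A)
  (hm : ∀ a ∈ A, constantCoeff a = 0 → (X : PowerSeries k) ^ c ∣ a) (hc0 : c ≠ 0)
  (hA : Module.Finite ↥A (PowerSeries k))

include hA in
lemma mem_maximalIdeal_iff (a : ↥A) :
    haveI := isLocalRing A hA
    a ∈ maximalIdeal ↥A ↔ constantCoeff (a : PowerSeries k) = 0 := by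
  haveI := isLocalRing A hA
  haveI := hA
  haveI : Algebra.IsIntegral ↥A (PowerSeries k) := Algebra.IsIntegral.of_finite _ _
  haveI : IsLocalHom (algebraMap ↥A (PowerSeries k)) := inferInstance
  rw [IsLocalRing.mem_maximalIdeal, mem_nonunits_iff]
  constructor
  · intro h
    by_contra h0
    apply h
    have hu : IsUnit (algebraMap ↥A (PowerSeries k) a) := by
      change IsUnit (a : PowerSeries k)
      rw [isUnit_iff_constantCoeff, isUnit_iff_ne_zero]
      exact h0
    exact isUnit_of_map_unit (algebraMap ↥A (PowerSeries k)) a hu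
  · intro h hu
    have hu' : IsUnit (algebraMap ↥A (PowerSeries k) a) := hu.map _
    change IsUnit (a : PowerSeries k) at hu'
    rw [isUnit_iff_constantCoeff, isUnit_iff_ne_zero] at hu'
    exact hu' h

include hc0 in
lemma constantCoeff_eq_zero_of_dvd (f : PowerSeries k) (hf : (X : PowerSeries k) ^ c ∣ f) :
    constantCoeff f = 0 := by
  obtain ⟨g, rfl⟩ := hf
  rw [map_mul, map_pow, constantCoeff_X, zero_pow hc0, zero_mul]

lemma hx_cancel : ∀ y y' : PowerSeries k, (X : PowerSeries k) ^ c * y = X ^ c * y' → y = y' :=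
  fun _ _ h => mul_left_cancel₀ (pow_ne_zero _ X_ne_zero) h

lemma hinj_A : Function.Injective (algebraMap ↥A (PowerSeries k)) :=
  fun _ _ h => Subtype.ext h

include hC in
lemma hC' : ∀ y : PowerSeries k, ∃ a : ↥A, algebraMap ↥A (PowerSeries k) a = X ^ c * y :=
  fun y => ⟨⟨X ^ c * y, hC _ ⟨y, rfl⟩⟩, rfl⟩

include hm hc0 hA in
lemma hm' :
    haveI := isLocalRing A hA
    ∀ a : ↥A, a ∈ maximalIdeal ↥A ↔
      ∃ y : PowerSeries k, algebraMap ↥A (PowerSeries k) a = X ^ c * y := by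
  haveI := isLocalRing A hA
  intro a
  rw [mem_maximalIdeal_iff A hA]
  constructor
  · intro h
    obtain ⟨y, hy⟩ := hm a a.2 h
    exact ⟨y, hy⟩
  · rintro ⟨y, hy⟩
    exact constantCoeff_eq_zero_of_dvd c hc0 _ ⟨y, hy⟩

include hC hm hc0 hA in
theorem GT (M : Submodule ↥A (PowerSeries k)) (hM1 : (1 : PowerSeries k) ∈ M)
    (hfin : relLen (1 : Submodule ↥A (PowerSeries k)) M ≠ ⊤) :
    relLen (1 : Submodule ↥A (PowerSeries k)) M *
        relLen (M.map (LinearMap.mulLeft ↥A ((X : PowerSeries k) ^ c)))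
          (M / (⊤ : Submodule ↥A (PowerSeries k))) =
      relLen (M / M) M +
        Module.length ↥A (Ext (ModuleCat.of ↥A ↥M) (ModuleCat.of ↥A ↥M) 1) := by
  haveI := isLocalRing A hA
  exact absGT ((X : PowerSeries k) ^ c) (hx_cancel c) (hinj_A A) (hC' A c hC) M hM1
    (hm' A c hm hc0 hA) hfin

include hC hm hc0 hA in
theorem GT_top (hfin : relLen (1 : Submodule ↥A (PowerSeries k)) ⊤ ≠ ⊤) :
    relLen (1 : Submodule ↥A (PowerSeries k)) ⊤ *
        relLen ((⊤ : Submodule ↥A (PowerSeries k)).map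
          (LinearMap.mulLeft ↥A ((X : PowerSeries k) ^ c))) ⊤ =
      Module.length ↥A (Ext (ModuleCat.of ↥A (PowerSeries k))
        (ModuleCat.of ↥A (PowerSeries k)) 1) := by
  haveI := isLocalRing A hA
  exact absGT_top ((X : PowerSeries k) ^ c) (hx_cancel c) (hinj_A A) (hC' A c hC)
    (hm' A c hm hc0 hA) hfin

include hC in
theorem length_end :
    Module.length ↥A ((PowerSeries k →ₗ[↥A] PowerSeries k) ⧸ LinearMap.range
      (Algebra.lsmul ↥A ↥A (PowerSeries k) :
        ↥A →ₐ[↥A] Module.End ↥A (PowerSeries k)).toLinearMap) =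
      relLen (1 : Submodule ↥A (PowerSeries k)) ⊤ :=
  abs_length_end ((X : PowerSeries k) ^ c) (hx_cancel c) (hC' A c hC)

end GT

end conc

end Groth.Agent.Helper8.TFV
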