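import Groth.Agent.Lib.Helper8.TFV6

/-!
# The cubical monomial ring `k + X^n k⟦X⟧` and its monomial modules
-/

set_option autoImplicit false
set_option linter.style.haveILetI false
universe u

namespace Groth.Agent.Helper8.TFV

open PowerSeries CategoryTheory Abelian IsLocalRing
open Groth.Agent.Helper8.TF Groth.Agent.Helper8.W4

variable {k : Type u} [Field k] (A : Subalgebra k (PowerSeries k)) (n : ℕ)
  (hmono : ∀ f : PowerSeries k, f ∈ A ↔ ∀ m : ℕ, coeff m f ≠ 0 → (m = 0 ∨ n ≤ m))

include hmono in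
lemma cub_hC (f : PowerSeries k) (hf : (X : PowerSeries k) ^ n ∣ f) : f ∈ A := by
  rw [hmono]
  intro m hm
  right
  by_contra hlt
  exact hm ((X_pow_dvd_iff.mp hf) m (not_le.mp hlt))

include hmono in
lemma cub_hm (a : PowerSeries k) (ha : a ∈ A) (h0 : constantCoeff a = 0) :
    (X : PowerSeries k) ^ n ∣ a := by
  rw [X_pow_dvd_iff]
  intro m hm
  by_contra hne
  rcases (hmono a).mp ha m hne with rfl | h
  · exact hne ((coeff_zero_eq_constantCoeff_apply a).trans h0)
  · omega

include hmono in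
lemma Ord_le_span (S : Set ℕ) (h0 : 0 ∈ S) :
    Ord A n ≤ Submodule.span ↥A ((fun a : ℕ => (X : PowerSeries k) ^ a) '' S) := by
  intro f hf
  have hfA := cub_hC A n hmono f hf
  have h1 : f = (⟨f, hfA⟩ : ↥A) • (X : PowerSeries k) ^ 0 := by
    rw [pow_zero]
    change f = f * 1
    rw [mul_one]
  rw [h1]
  exact Submodule.smul_mem _ _ (Submodule.subset_span ⟨0, h0, rfl⟩)

include hmono in
lemma cub_finite : Module.Finite ↥A (PowerSeries k) := by
  have h : Submodule.span ↥A ((fun a : ℕ => (X : PowerSeries k) ^ a) '' (Set.Iio n ∪ {0})) =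
      ⊤ := by
    apply eq_of_values A n _ ⊤ le_top
    · exact Ord_le_span A n hmono _ (Or.inr rfl)
    · intro j hj _
      exact ⟨X ^ j, Submodule.subset_span ⟨j, Or.inl hj, rfl⟩, order_X_pow j⟩
  rw [Module.finite_def, ← h]
  exact Submodule.fg_span (((Set.finite_Iio n).union (Set.finite_singleton 0)).image _)

include hmono in
lemma cub_coeff_mul (a : PowerSeries k) (ha : a ∈ A) (f : PowerSeries k) (j : ℕ) (hj : j < n) :
    coeff j (a * f) = constantCoeff a * coeff j f := by
  rw [coeff_mul, Finset.sum_eq_single (0, j)]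
  · change coeff 0 a * coeff j f = _
    rw [coeff_zero_eq_constantCoeff_apply]
  · intro p hp hne
    rw [Finset.HasAntidiagonal.mem_antidiagonal] at hp
    have hp1 : p.1 ≠ 0 := by
      intro h0
      apply hne
      refine Prod.ext h0 ?_
      change p.2 = j
      omega
    have h2 : coeff p.1 a = 0 := by
      by_contra hc
      rcases (hmono a).mp ha p.1 hc with h | h
      · exact hp1 h
      · omega
    rw [h2, zero_mul]
  · intro h
    exact absurd (Finset.HasAntidiagonal.mem_antidiagonal.mpr (zero_add j)) h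

/-- the monomial module of a set `S` of exponents: power series whose terms of degree `< n`
have exponents in `S`. -/
def monoMod (S : Set ℕ) : Submodule ↥A (PowerSeries k) where
  carrier := {f | ∀ j, j < n → coeff j f ≠ 0 → j ∈ S}
  add_mem' := by
    intro f g hf hg j hj hne
    by_cases h : coeff j f = 0
    · apply hg j hj
      intro h'
      apply hne
      rw [map_add, h, h', add_zero]
    · exact hf j hj h
  zero_mem' := by
    intro j hj hne
    exact absurd (map_zero _) hne
  smul_mem' := by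
    intro a f hf j hj hne
    apply hf j hj
    intro h'
    apply hne
    change coeff j ((a : PowerSeries k) * f) = 0
    rw [cub_coeff_mul A n hmono a a.2 f j hj, h', mul_zero]

lemma mem_monoMod {S : Set ℕ} {f : PowerSeries k} :
    f ∈ monoMod A n hmono S ↔ ∀ j, j < n → coeff j f ≠ 0 → j ∈ S := Iff.rfl

lemma Ord_le_monoMod (S : Set ℕ) : Ord A n ≤ monoMod A n hmono S := by
  intro f hf j hj hne
  exact absurd ((X_pow_dvd_iff.mp hf) j hj) hne

lemma X_pow_mem_monoMod (S : Set ℕ) (a : ℕ) (ha : a ∈ S) :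
    (X : PowerSeries k) ^ a ∈ monoMod A n hmono S := by
  intro j hj hne
  rw [coeff_X_pow] at hne
  split_ifs at hne with h
  · exact h ▸ ha
  · exact absurd rfl hne

lemma one_mem_monoMod (S : Set ℕ) (h0 : 0 ∈ S) : (1 : PowerSeries k) ∈ monoMod A n hmono S := by
  have := X_pow_mem_monoMod A n hmono S 0 h0
  rwa [pow_zero] at this

lemma monoMod_values (S : Set ℕ) (j : ℕ) (hj : j < n) :
    (∃ f ∈ monoMod A n hmono S, order f = (j : ℕ∞)) ↔ j ∈ S := by
  constructor
  · rintro ⟨f, hf, hfo⟩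
    exact hf j hj (order_eq_nat.mp hfo).1
  · intro hjS
    exact ⟨X ^ j, X_pow_mem_monoMod A n hmono S j hjS, order_X_pow j⟩

open Classical in
lemma relLen_Ord_monoMod (S : Set ℕ) :
    relLen (Ord A n) (monoMod A n hmono S) =
      (((Finset.range n).filter (fun j => j ∈ S)).card : ℕ∞) := by
  rw [relLen_Ord A _ n (Ord_le_monoMod A n hmono S)]
  congr 2
  apply Finset.filter_congr
  intro j hj
  exact monoMod_values A n hmono S j (Finset.mem_range.mp hj)

lemma relLen_Ord_monoMod' (S : Set ℕ) (T : Finset ℕ) (h : ∀ j, j ∈ T ↔ j < n ∧ j ∈ S) :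
    relLen (Ord A n) (monoMod A n hmono S) = (T.card : ℕ∞) := by
  classical
  rw [relLen_Ord_monoMod, card_filter_eq n _ T h]

lemma span_eq_monoMod (S : Set ℕ) (h0 : 0 ∈ S) :
    Submodule.span ↥A ((fun a : ℕ => (X : PowerSeries k) ^ a) '' S) = monoMod A n hmono S := by
  apply eq_of_values A n
  · rw [Submodule.span_le]
    rintro _ ⟨a, ha, rfl⟩
    exact X_pow_mem_monoMod A n hmono S a ha
  · exact Ord_le_span A n hmono S h0
  · intro j hj hex
    have := (monoMod_values A n hmono S j hj).mp hex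
    exact ⟨X ^ j, Submodule.subset_span ⟨j, this, rfl⟩, order_X_pow j⟩

lemma one_eq_monoMod : (1 : Submodule ↥A (PowerSeries k)) = monoMod A n hmono {0} := by
  ext f
  rw [Submodule.mem_one]
  constructor
  · rintro ⟨a, rfl⟩
    intro j hj hne
    rcases (hmono _).mp a.2 j hne with h | h
    · exact h
    · omega
  · intro hf
    have hfA : f ∈ A := by
      rw [hmono]
      intro m hne
      by_cases hm : m < n
      · left
        exact hf m hm hne
      · right
        omega
    exact ⟨⟨f, hfA⟩, rfl⟩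

lemma top_eq_monoMod : (⊤ : Submodule ↥A (PowerSeries k)) = monoMod A n hmono Set.univ := by
  ext f
  constructor
  · intro _ j _ _
    exact Set.mem_univ j
  · intro _
    exact Submodule.mem_top

/-- `M_S : k⟦X⟧ = X^q k⟦X⟧` when `[q, n) ⊆ S` and `q - 1 ∉ S`. -/
lemma monoMod_div_top (S : Set ℕ) (q : ℕ) (hq1 : 1 ≤ q) (hqn : q ≤ n)
    (hS : ∀ j, q ≤ j → j < n → j ∈ S) (hq : q - 1 ∉ S) :
    monoMod A n hmono S / (⊤ : Submodule ↥A (PowerSeries k)) = Ord A q := by
  apply le_antisymm
  · intro d hd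
    rw [Submodule.mem_div_iff_forall_mul_mem] at hd
    rw [mem_Ord_iff_order]
    by_contra hlt
    rw [not_le] at hlt
    obtain ⟨m, hm⟩ : ∃ m : ℕ, order d = m := by
      have hne : order d ≠ ⊤ := ne_top_of_lt hlt
      exact ⟨(order d).toNat, (ENat.coe_toNat hne).symm⟩
    rw [hm] at hlt
    have hmq : m < q := by exact_mod_cast hlt
    have h1 := hd (X ^ (q - 1 - m)) Submodule.mem_top
    have h2 : coeff (q - 1) (d * X ^ (q - 1 - m)) ≠ 0 := by
      rw [coeff_mul_X_pow', if_pos (by omega)]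
      have h3 : q - 1 - (q - 1 - m) = m := by omega
      rw [h3]
      exact (order_eq_nat.mp hm).1
    exact hq (h1 (q - 1) (by omega) h2)
  · intro d hd
    rw [Submodule.mem_div_iff_forall_mul_mem]
    intro y _ j hj hne
    apply hS j _ hj
    by_contra hlt
    apply hne
    have h1 : (X : PowerSeries k) ^ q ∣ d * y := Dvd.dvd.mul_right hd y
    exact (X_pow_dvd_iff.mp h1) j (not_le.mp hlt)

lemma one_le_div_self (M : Submodule ↥A (PowerSeries k)) :
    (1 : Submodule ↥A (PowerSeries k)) ≤ M / M := by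
  intro f hf
  rw [Submodule.mem_one] at hf
  obtain ⟨a, rfl⟩ := hf
  rw [Submodule.mem_div_iff_forall_mul_mem]
  intro z hz
  rw [← Algebra.smul_def]
  exact Submodule.smul_mem _ a hz

lemma monoMod_Iic_div_self (i : ℕ) (hi : i + 2 ≤ n) :
    monoMod A n hmono (Set.Iic i) / monoMod A n hmono (Set.Iic i) = 1 := by
  apply le_antisymm
  · intro d hd
    rw [Submodule.mem_div_iff_forall_mul_mem] at hd
    rw [one_eq_monoMod A n hmono]
    intro j hj hne
    by_contra hj0
    have hj0' : j ≠ 0 := hj0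
    by_cases hji : j ≤ i
    · have h1 := hd (X ^ (i + 1 - j)) (X_pow_mem_monoMod A n hmono _ (i + 1 - j)
        (by change i + 1 - j ≤ i; omega))
      have h2 : coeff (i + 1) (d * X ^ (i + 1 - j)) ≠ 0 := by
        rw [coeff_mul_X_pow', if_pos (by omega)]
        have h3 : i + 1 - (i + 1 - j) = j := by omega
        rw [h3]
        exact hne
      have h4 : i + 1 ≤ i := h1 (i + 1) (by omega) h2
      omega
    · have h1 := hd 1 (one_mem_monoMod A n hmono _ (by change 0 ≤ i; omega))
      rw [mul_one] at h1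
      have h4 : j ≤ i := h1 j hj hne
      exact hji h4
  · exact one_le_div_self A _

lemma monoMod_ring_le_div (q : ℕ) :
    monoMod A n hmono ({0} ∪ Set.Icc q (n - 1)) ≤
      monoMod A n hmono ({0} ∪ Set.Icc q (n - 1)) /
        monoMod A n hmono ({0} ∪ Set.Icc q (n - 1)) := by
  intro d hd
  rw [Submodule.mem_div_iff_forall_mul_mem]
  intro z hz j hj hne
  by_contra hjS
  apply hne
  rw [coeff_mul]
  apply Finset.sum_eq_zero
  intro p hp
  rw [Finset.HasAntidiagonal.mem_antidiagonal] at hp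
  by_cases h1 : coeff p.1 d = 0
  · rw [h1, zero_mul]
  by_cases h2 : coeff p.2 z = 0
  · rw [h2, mul_zero]
  exfalso
  have a1 := hd p.1 (by omega) h1
  have a2 := hz p.2 (by omega) h2
  apply hjS
  rcases a1 with a1 | a1
  · rcases a2 with a2 | a2
    · left
      have e1 : p.1 = 0 := a1
      have e2 : p.2 = 0 := a2
      change j = 0
      omega
    · right
      have := a2.1
      exact ⟨by omega, by omega⟩
  · right
    have := a1.1
    exact ⟨by omega, by omega⟩

section main

variable (hn : 2 ≤ n)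

include hmono hn in
theorem relLen_Ord_one : relLen (Ord A n) (1 : Submodule ↥A (PowerSeries k)) = 1 := by
  rw [one_eq_monoMod A n hmono, relLen_Ord_monoMod' A n hmono {0} {0}]
  · rw [Finset.card_singleton, Nat.cast_one]
  · intro j
    rw [Finset.mem_singleton, Set.mem_singleton_iff]
    constructor
    · rintro rfl
      exact ⟨by omega, rfl⟩
    · rintro ⟨_, h⟩
      exact h

include hmono hn in
/-- the lengths `ℓ(M/A)` and `ℓ(k⟦X⟧/M)` for a monomial module with `s` exponents `< n`. -/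
theorem relLen_one_monoMod (S : Set ℕ) (h0 : 0 ∈ S) (s : ℕ)
    (hs : relLen (Ord A n) (monoMod A n hmono S) = (s : ℕ∞)) :
    relLen (1 : Submodule ↥A (PowerSeries k)) (monoMod A n hmono S) = ((s - 1 : ℕ) : ℕ∞) ∧
      relLen (monoMod A n hmono S) (⊤ : Submodule ↥A (PowerSeries k)) = ((n - s : ℕ) : ℕ∞) := by
  have hO1 : Ord A n ≤ (1 : Submodule ↥A (PowerSeries k)) := by
    rw [one_eq_monoMod A n hmono]
    exact Ord_le_monoMod A n hmono _
  have h1M : (1 : Submodule ↥A (PowerSeries k)) ≤ monoMod A n hmono S :=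
    Submodule.one_le.mpr (one_mem_monoMod A n hmono S h0)
  have a1 := relLen_add hO1 h1M
  have a2 := relLen_add (Ord_le_monoMod A n hmono S) (le_top : monoMod A n hmono S ≤ ⊤)
  rw [relLen_Ord_one A n hmono hn, hs] at a1
  rw [relLen_Ord_top, hs] at a2
  constructor
  · exact enat_of_add (a := 1) (by rw [Nat.cast_one]; exact a1.symm)
  · exact enat_of_add a2.symm

include hmono hn in
theorem main_S15031 (i : ℕ) (hi : i + 2 ≤ n) :
    Module.length ↥A (Ext
      (ModuleCat.of ↥A ↥(Submodule.span ↥A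
        ((fun a : ℕ => (X : PowerSeries k) ^ a) '' Set.Iic i)))
      (ModuleCat.of ↥A ↥(Submodule.span ↥A
        ((fun a : ℕ => (X : PowerSeries k) ^ a) '' Set.Iic i))) 1) =
      ((i * (n - 2 - i) : ℕ) : ℕ∞) := by
  have h0 : (0 : ℕ) ∈ Set.Iic i := Set.mem_Iic.mpr (Nat.zero_le i)
  rw [span_eq_monoMod A n hmono (Set.Iic i) h0]
  have hs : relLen (Ord A n) (monoMod A n hmono (Set.Iic i)) = ((i + 1 : ℕ) : ℕ∞) := by
    rw [relLen_Ord_monoMod' A n hmono (Set.Iic i) (Finset.range (i + 1)), Finset.card_range]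
    intro j
    rw [Finset.mem_range, Set.mem_Iic]
    omega
  obtain ⟨r1, r2⟩ := relLen_one_monoMod A n hmono hn (Set.Iic i) h0 (i + 1) hs
  rw [Nat.add_sub_cancel] at r1
  have hdiv : monoMod A n hmono (Set.Iic i) / (⊤ : Submodule ↥A (PowerSeries k)) = Ord A n :=
    monoMod_div_top A n hmono (Set.Iic i) n (by omega) le_rfl (fun j h1 h2 => by omega)
      (by rw [Set.mem_Iic]; omega)
  have hGT := GT A n (cub_hC A n hmono) (cub_hm A n hmono) (by omega) (cub_finite A n hmono)
    (monoMod A n hmono (Set.Iic i)) (one_mem_monoMod A n hmono _ h0)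
    (by rw [r1]; exact ENat.coe_ne_top _)
  rw [hdiv, relLen_map_Ord A n _ n le_rfl, monoMod_Iic_div_self A n hmono i hi, r1, r2,
    Nat.sub_self, Nat.cast_zero, add_zero, ← Nat.cast_mul] at hGT
  have hfinal := enat_of_add hGT.symm
  rw [hfinal]
  congr 1
  have h3 : n - (i + 1) = (n - 2 - i) + 1 := by omega
  rw [h3, Nat.mul_add, Nat.mul_one, Nat.add_sub_cancel]

include hmono hn in
theorem main_S15033 (i : ℕ) (hi : i + 2 ≤ n) :
    Module.length ↥A (Ext
      (ModuleCat.of ↥A ↥(Submodule.span ↥A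
        ((fun a : ℕ => (X : PowerSeries k) ^ a) '' ({0} ∪ Set.Icc (n - i) (n - 1)))))
      (ModuleCat.of ↥A ↥(Submodule.span ↥A
        ((fun a : ℕ => (X : PowerSeries k) ^ a) '' ({0} ∪ Set.Icc (n - i) (n - 1))))) 1) =
      ((i * (n - 1) : ℕ) : ℕ∞) := by
  have h0 : (0 : ℕ) ∈ ({0} ∪ Set.Icc (n - i) (n - 1) : Set ℕ) := Or.inl rfl
  rw [span_eq_monoMod A n hmono _ h0]
  have hs : relLen (Ord A n) (monoMod A n hmono ({0} ∪ Set.Icc (n - i) (n - 1))) =
      ((i + 1 : ℕ) : ℕ∞) := by
    rw [relLen_Ord_monoMod' A n hmono _ (insert 0 (Finset.Ico (n - i) n)),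
      Finset.card_insert_of_notMem, Nat.card_Ico]
    · congr 1
      omega
    · rw [Finset.mem_Ico]
      omega
    · intro j
      rw [Finset.mem_insert, Finset.mem_Ico, Set.mem_union, Set.mem_singleton_iff, Set.mem_Icc]
      omega
  obtain ⟨r1, r2⟩ := relLen_one_monoMod A n hmono hn _ h0 (i + 1) hs
  rw [Nat.add_sub_cancel] at r1
  have hdiv : monoMod A n hmono ({0} ∪ Set.Icc (n - i) (n - 1)) /
      (⊤ : Submodule ↥A (PowerSeries k)) = Ord A (n - i) :=
    monoMod_div_top A n hmono _ (n - i) (by omega) (by omega)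
      (fun j h1 h2 => Or.inr ⟨h1, by omega⟩)
      (by
        rw [Set.mem_union, Set.mem_singleton_iff, Set.mem_Icc]
        omega)
  have hGT := GT A n (cub_hC A n hmono) (cub_hm A n hmono) (by omega) (cub_finite A n hmono)
    (monoMod A n hmono ({0} ∪ Set.Icc (n - i) (n - 1))) (one_mem_monoMod A n hmono _ h0)
    (by rw [r1]; exact ENat.coe_ne_top _)
  rw [hdiv, relLen_map_Ord A n _ (n - i) (by omega),
    relLen_eq_zero_of_le (monoMod_ring_le_div A n hmono (n - i)), r1, r2, zero_add,
    ← Nat.cast_add, ← Nat.cast_mul] at hGT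
  rw [← hGT]
  congr 2
  omega

include hmono hn in
theorem main_S15032 :
    Module.length ↥A (Ext (ModuleCat.of ↥A (PowerSeries k))
      (ModuleCat.of ↥A (PowerSeries k)) 1) =
      (((n - 1) ^ 2 : ℕ) : ℕ∞) + Module.length ↥A ((PowerSeries k →ₗ[↥A] PowerSeries k) ⧸
        LinearMap.range (Algebra.lsmul ↥A ↥A (PowerSeries k) :
          ↥A →ₐ[↥A] Module.End ↥A (PowerSeries k)).toLinearMap) := by
  have hO1 : Ord A n ≤ (1 : Submodule ↥A (PowerSeries k)) := by
    rw [one_eq_monoMod A n hmono]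
    exact Ord_le_monoMod A n hmono _
  have a1 := relLen_add hO1 (le_top : (1 : Submodule ↥A (PowerSeries k)) ≤ ⊤)
  rw [relLen_Ord_one A n hmono hn, relLen_Ord_top] at a1
  have r1 : relLen (1 : Submodule ↥A (PowerSeries k)) ⊤ = ((n - 1 : ℕ) : ℕ∞) :=
    enat_of_add (a := 1) (by rw [Nat.cast_one]; exact a1.symm)
  have hGT := GT_top A n (cub_hC A n hmono) (cub_hm A n hmono) (by omega)
    (cub_finite A n hmono) (by rw [r1]; exact ENat.coe_ne_top _)
  rw [map_top_eq, relLen_Ord_top, r1] at hGT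
  rw [length_end A n (cub_hC A n hmono), r1, ← hGT, ← Nat.cast_mul, ← Nat.cast_add]
  congr 1
  obtain ⟨m, rfl⟩ : ∃ m, n = m + 1 := ⟨n - 1, by omega⟩
  rw [Nat.add_sub_cancel]
  ring

end main

end Groth.Agent.Helper8.TFV
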