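import Groth.Agent.Lib.Helper8.TFV7

/-!
# `Ext¹(M, N)` for a module `M = R + R u` generated by two elements

Abstract version: `R ⊆ Y`, `x Y ⊆ R` for a non-zero-divisor `x`, `M, N, P ⊆ Y` submodules with
`1 ∈ M`, `M = R + R u`, `1 ∈ P`, `{a ∈ R | a u ∈ R} = x₀ P`.  Then
`ℓ((N : P) / x₀ N) = ℓ(N / (N : M)) + ℓ Ext¹(M, N)`.
-/

set_option autoImplicit false
set_option linter.style.haveILetI false
universe u

namespace Groth.Agent.Helper8.TFV

open PowerSeries CategoryTheory Abelian IsLocalRing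
open Groth.Agent.Helper8.TF Groth.Agent.Helper8.W4

section abs3

variable {R Y : Type u} [CommRing R] [CommRing Y] [Algebra R Y]
  (x : Y) (hx : ∀ y y' : Y, x * y = x * y' → y = y')
  (hinj : Function.Injective (algebraMap R Y))
  (hC : ∀ y : Y, ∃ a : R, algebraMap R Y a = x * y)
  (M N P : Submodule R Y) (hM1 : (1 : Y) ∈ M)

include hx hC in
lemma abs_ha₁' (y : ↥N) : (y : Y) ∈ N / M ↔
    ∃ ψ : ↥M →ₗ[R] ↥N, ψ ∘ₗ absι₁ M hM1 =
      (LinearMap.ringLmapEquivSelf R R ↥N).symm.toLinearMap y := by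
  constructor
  · intro hy
    rw [Submodule.mem_div_iff_forall_mul_mem] at hy
    refine ⟨{ toFun := fun z => ⟨(y : Y) * z, hy z z.2⟩
              map_add' := fun z z' => Subtype.ext (mul_add _ _ _)
              map_smul' := fun a z => Subtype.ext (mul_smul_comm a (y : Y) (z : Y)) }, ?_⟩
    apply LinearMap.ext
    intro a
    apply Subtype.ext
    change (y : Y) * (a • (1 : Y)) = a • (y : Y)
    rw [mul_smul_comm, mul_one]
  · rintro ⟨ψ, hψ⟩
    rw [Submodule.mem_div_iff_forall_mul_mem]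
    intro z hz
    have h1 := abs_hom_mul x hx hC M N ψ ⟨1, hM1⟩ ⟨z, hz⟩
    have h4 : absι₁ M hM1 1 = ⟨1, hM1⟩ := one_smul R _
    have h2 : ψ ⟨1, hM1⟩ = y := by
      have h3 := LinearMap.congr_fun hψ 1
      change ψ (absι₁ M hM1 1) = (1 : R) • y at h3
      rw [one_smul, h4] at h3
      exact h3
    rw [h2] at h1
    change ((ψ ⟨z, hz⟩ : ↥N) : Y) * 1 = (y : Y) * z at h1
    rw [mul_one] at h1
    rw [← h1]
    exact (ψ ⟨z, hz⟩).2

variable (u : Y) (hu : u ∈ M)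
  (hgen : ∀ m ∈ M, ∃ a b : R, m = algebraMap R Y a + algebraMap R Y b * u)
  (hP1 : (1 : Y) ∈ P) (x₀ : Y) (hx₀ : ∀ y y' : Y, x₀ * y = x₀ * y' → y = y')
  (hPin : ∀ p ∈ P, ∃ a : R, algebraMap R Y a = x₀ * p)
  (hP : ∀ a : R, algebraMap R Y a * u ∈ (1 : Submodule R Y) ↔
    ∃ p ∈ P, algebraMap R Y a = x₀ * p)

/-- `p ↦ x₀ p`, as a map `P → R`. -/
noncomputable def absf₃ : ↥P →ₗ[R] R where
  toFun p := Classical.choose (hPin p p.2)
  map_add' p p' := hinj (by
    rw [map_add, Classical.choose_spec (hPin _ (p + p').2), Classical.choose_spec (hPin _ p.2),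
      Classical.choose_spec (hPin _ p'.2)]
    change x₀ * ((p : Y) + (p' : Y)) = _
    rw [mul_add])
  map_smul' a p := hinj (by
    rw [RingHom.id_apply, smul_eq_mul, map_mul, Classical.choose_spec (hPin _ (a • p).2),
      Classical.choose_spec (hPin _ p.2)]
    change x₀ * (a • (p : Y)) = _
    rw [Algebra.smul_def]
    ring)

lemma absf₃_spec (p : ↥P) : algebraMap R Y (absf₃ hinj P x₀ hPin p) = x₀ * (p : Y) :=
  Classical.choose_spec (hPin p p.2)

include hx₀ in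
lemma absf₃_injective : Function.Injective (absf₃ hinj P x₀ hPin) := by
  intro p p' h
  apply Subtype.ext
  apply hx₀
  rw [← absf₃_spec hinj P x₀ hPin p, ← absf₃_spec hinj P x₀ hPin p', h]

/-- `a ↦ [a u]`, as a map `R → M / R`. -/
noncomputable def absg₃ : R →ₗ[R] (↥M ⧸ Submodule.comap M.subtype (1 : Submodule R Y)) :=
  (Submodule.comap M.subtype (1 : Submodule R Y)).mkQ ∘ₗ
    LinearMap.toSpanSingleton R ↥M ⟨u, hu⟩

include hP in
lemma abs_exact_f₃ : Function.Exact (absf₃ hinj P x₀ hPin) (absg₃ M u hu) := by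
  intro a
  change (Submodule.comap M.subtype (1 : Submodule R Y)).mkQ (a • (⟨u, hu⟩ : ↥M)) = 0 ↔ _
  rw [Submodule.mkQ_apply, Submodule.Quotient.mk_eq_zero, Submodule.mem_comap]
  change a • u ∈ (1 : Submodule R Y) ↔ _
  rw [Algebra.smul_def, hP a]
  constructor
  · rintro ⟨p, hp, hap⟩
    exact ⟨⟨p, hp⟩, hinj ((absf₃_spec hinj P x₀ hPin ⟨p, hp⟩).trans hap.symm)⟩
  · rintro ⟨p, rfl⟩
    exact ⟨p, p.2, absf₃_spec hinj P x₀ hPin p⟩

include hgen in
lemma absg₃_surjective : Function.Surjective (absg₃ M u hu) := by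
  intro t
  obtain ⟨m, rfl⟩ := Submodule.mkQ_surjective _ t
  obtain ⟨a, b, hab⟩ := hgen m m.2
  refine ⟨b, ?_⟩
  change (Submodule.comap M.subtype (1 : Submodule R Y)).mkQ (b • (⟨u, hu⟩ : ↥M)) = _
  rw [Submodule.mkQ_apply, Submodule.mkQ_apply, Submodule.Quotient.eq, Submodule.mem_comap,
    Submodule.mem_one]
  refine ⟨-a, ?_⟩
  change algebraMap R Y (-a) = b • u - (m : Y)
  rw [hab, Algebra.smul_def, map_neg]
  ring

/-- `d ↦ (p ↦ d p)`. -/
noncomputable def absΘ₃ : ↥(N / P) →ₗ[R] (↥P →ₗ[R] ↥N) where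
  toFun d :=
    { toFun := fun p => ⟨(d : Y) * p, Submodule.mem_div_iff_forall_mul_mem.mp d.2 p p.2⟩
      map_add' := fun p p' => Subtype.ext (mul_add _ _ _)
      map_smul' := fun a p => Subtype.ext (mul_smul_comm a (d : Y) (p : Y)) }
  map_add' d d' := by
    apply LinearMap.ext
    intro p
    apply Subtype.ext
    exact add_mul (d : Y) (d' : Y) (p : Y)
  map_smul' a d := by
    apply LinearMap.ext
    intro p
    apply Subtype.ext
    exact smul_mul_assoc a (d : Y) (p : Y)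

lemma absΘ₃_apply (d : ↥(N / P)) (p : ↥P) :
    ((absΘ₃ N P d p : ↥N) : Y) = (d : Y) * (p : Y) := rfl

include hx hC hP1 in
lemma absΘ₃_surjective : Function.Surjective (absΘ₃ N P) := by
  intro φ
  have key : ∀ p : ↥P, ((φ p : ↥N) : Y) = ((φ ⟨1, hP1⟩ : ↥N) : Y) * (p : Y) := by
    intro p
    have h := abs_hom_mul x hx hC P N φ ⟨1, hP1⟩ p
    change ((φ p : ↥N) : Y) * 1 = _ at h
    rw [mul_one] at h
    exact h
  have hd : ((φ ⟨1, hP1⟩ : ↥N) : Y) ∈ N / P := by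
    rw [Submodule.mem_div_iff_forall_mul_mem]
    intro p hp
    have h2 : ((φ ⟨1, hP1⟩ : ↥N) : Y) * p = ((φ ⟨p, hp⟩ : ↥N) : Y) := (key ⟨p, hp⟩).symm
    rw [h2]
    exact (φ ⟨p, hp⟩).2
  refine ⟨⟨_, hd⟩, ?_⟩
  apply LinearMap.ext
  intro p
  apply Subtype.ext
  rw [absΘ₃_apply]
  exact (key p).symm

include hP1 in
lemma abs_ha₃ (d : ↥(N / P)) : (d : Y) ∈ N.map (LinearMap.mulLeft R x₀) ↔
    ∃ ψ : R →ₗ[R] ↥N, ψ ∘ₗ absf₃ hinj P x₀ hPin = absΘ₃ N P d := by
  constructor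
  · rintro ⟨n, hn, hnd⟩
    refine ⟨LinearMap.toSpanSingleton R ↥N ⟨n, hn⟩, ?_⟩
    apply LinearMap.ext
    intro p
    apply Subtype.ext
    change (absf₃ hinj P x₀ hPin p) • n = (d : Y) * (p : Y)
    rw [Algebra.smul_def, absf₃_spec, ← hnd]
    change x₀ * (p : Y) * n = x₀ * n * (p : Y)
    ring
  · rintro ⟨ψ, hψ⟩
    have h1 := congrArg (fun w : ↥N => (w : Y)) (LinearMap.congr_fun hψ ⟨1, hP1⟩)
    simp only [LinearMap.comp_apply] at h1
    change _ = (d : Y) * 1 at h1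
    rw [mul_one] at h1
    have h3 : ψ (absf₃ hinj P x₀ hPin ⟨1, hP1⟩) =
        (absf₃ hinj P x₀ hPin ⟨1, hP1⟩) • ψ 1 := by
      rw [← map_smul, smul_eq_mul, mul_one]
    rw [h3] at h1
    refine ⟨((ψ 1 : ↥N) : Y), (ψ 1).2, ?_⟩
    rw [← h1]
    change x₀ * ((ψ 1 : ↥N) : Y) = (absf₃ hinj P x₀ hPin ⟨1, hP1⟩) • ((ψ 1 : ↥N) : Y)
    rw [Algebra.smul_def, absf₃_spec]
    change _ = x₀ * 1 * _
    rw [mul_one]

include hx hinj hC hM1 hu hgen hP1 hx₀ hPin hP in
/-- the two-generator formula. -/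
theorem absGT2 :
    relLen (N.map (LinearMap.mulLeft R x₀)) (N / P) =
      relLen (N / M) N +
        Module.length R (Ext (ModuleCat.of R ↥M) (ModuleCat.of R ↥N) 1) := by
  have hS1 := sesSC_shortExact (absι₁ M hM1)
    (Submodule.comap M.subtype (1 : Submodule R Y)).mkQ (abs_exact_ι₁ M hM1)
    (absι₁_injective hinj M hM1) (Submodule.mkQ_surjective _)
  have h_a := length_range_cδ_zero (absι₁ M hM1)
    (Submodule.comap M.subtype (1 : Submodule R Y)).mkQ (abs_exact_ι₁ M hM1)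
    (absι₁_injective hinj M hM1) (Submodule.mkQ_surjective _) (N / M) N
    (LinearMap.ringLmapEquivSelf R R ↥N).symm.toLinearMap
    (LinearMap.ringLmapEquivSelf R R ↥N).symm.surjective (abs_ha₁' x hx hC M N hM1)
  have hproj : Subsingleton (Ext (ModuleCat.of R R) (ModuleCat.of R ↥N) 1) :=
    Ext.subsingleton_of_projective _ _ 0
  have h_b := length_eq_range_add_range (cδ hS1 (ModuleCat.of R ↥N) 0)
    (cφ _ (ModuleCat.of R ↥N) (0 + 1)) (exact_cδ_cφ hS1 (ModuleCat.of R ↥N) 0)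
  have h_c : Function.Surjective (cφ (sesSC (absι₁ M hM1)
      (Submodule.comap M.subtype (1 : Submodule R Y)).mkQ (abs_exact_ι₁ M hM1))
      (ModuleCat.of R ↥N) (0 + 1)) := by
    intro z
    exact (exact_cφ_cψ hS1 (ModuleCat.of R ↥N) (0 + 1) z).mp
      (Subsingleton.elim (α := Ext (ModuleCat.of R R) (ModuleCat.of R ↥N) 1) _ _)
  rw [length_range_of_surjective _ h_c, h_a] at h_b
  have h_b' : Module.length R (Ext (ModuleCat.of R
      (↥M ⧸ Submodule.comap M.subtype (1 : Submodule R Y))) (ModuleCat.of R ↥N) 1) =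
      relLen (N / M) N +
        Module.length R (Ext (ModuleCat.of R ↥M) (ModuleCat.of R ↥N) 1) := h_b
  have hS2 := sesSC_shortExact (absf₃ hinj P x₀ hPin) (absg₃ M u hu)
    (abs_exact_f₃ hinj M P u hu x₀ hPin hP) (absf₃_injective hinj P x₀ hx₀ hPin)
    (absg₃_surjective M u hu hgen)
  have h_e := length_range_cδ_zero (absf₃ hinj P x₀ hPin) (absg₃ M u hu)
    (abs_exact_f₃ hinj M P u hu x₀ hPin hP) (absf₃_injective hinj P x₀ hx₀ hPin)
    (absg₃_surjective M u hu hgen) (N.map (LinearMap.mulLeft R x₀)) (N / P) (absΘ₃ N P)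
    (absΘ₃_surjective x hx hC N P hP1) (abs_ha₃ hinj N P hP1 x₀ hPin)
  have h_f : Function.Surjective (cδ hS2 (ModuleCat.of R ↥N) 0) := by
    intro z
    exact (exact_cδ_cφ hS2 (ModuleCat.of R ↥N) 0 z).mp
      (Subsingleton.elim (α := Ext (ModuleCat.of R R) (ModuleCat.of R ↥N) 1) _ _)
  rw [length_range_of_surjective _ h_f] at h_e
  have h_e' : Module.length R (Ext (ModuleCat.of R
      (↥M ⧸ Submodule.comap M.subtype (1 : Submodule R Y))) (ModuleCat.of R ↥N) 1) =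
      relLen (N.map (LinearMap.mulLeft R x₀)) (N / P) := h_e
  rw [← h_e', h_b']

end abs3

section conc2

variable {k : Type u} [Field k] (A : Subalgebra k (PowerSeries k))

lemma map_Ord_eq (c s : ℕ) :
    (Ord A c).map (LinearMap.mulLeft ↥A ((X : PowerSeries k) ^ s)) = Ord A (c + s) := by
  ext f
  constructor
  · rintro ⟨g, ⟨h, rfl⟩, rfl⟩
    refine ⟨h, ?_⟩
    change (X : PowerSeries k) ^ s * (X ^ c * h) = X ^ (c + s) * h
    rw [pow_add]
    ring
  · rintro ⟨h, rfl⟩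
    refine ⟨X ^ c * h, ⟨h, rfl⟩, ?_⟩
    change (X : PowerSeries k) ^ s * (X ^ c * h) = X ^ (c + s) * h
    rw [pow_add]
    ring

/-- `ℓ(N / t^s N) = s`. -/
lemma relLen_map_self (N : Submodule ↥A (PowerSeries k)) (c : ℕ) (hN : Ord A c ≤ N) (s : ℕ)
    (hle : N.map (LinearMap.mulLeft ↥A ((X : PowerSeries k) ^ s)) ≤ N) :
    relLen (N.map (LinearMap.mulLeft ↥A ((X : PowerSeries k) ^ s))) N = (s : ℕ∞) := by
  classical
  have hO : Ord A (c + s) ≤ N.map (LinearMap.mulLeft ↥A ((X : PowerSeries k) ^ s)) := by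
    rw [← map_Ord_eq A c s]
    exact Submodule.map_mono hN
  have e1 := relLen_add (Ord_mono A (Nat.le_add_right c s)) hN
  have e2 := relLen_add hO hle
  have e3 : relLen (Ord A (c + s))
      (N.map (LinearMap.mulLeft ↥A ((X : PowerSeries k) ^ s))) = relLen (Ord A c) N := by
    rw [← map_Ord_eq A c s]
    exact relLen_map' _ (mulLeft_injective A s) (Ord A c) N
  rw [relLen_Ord_Ord A (c + s) c (Nat.le_add_right c s), Nat.add_sub_cancel_left] at e1
  rw [e3, e1] at e2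
  have hfin : relLen (Ord A c) N ≠ ⊤ := by
    rw [relLen_Ord A N c hN]
    exact ENat.coe_ne_top _
  exact (enat_cancel hfin e2).symm

variable (c : ℕ) (hC : ∀ f : PowerSeries k, (X : PowerSeries k) ^ c ∣ f → f ∈ A)

include hC in
/-- the two-generator formula for subalgebras of `k⟦X⟧`. -/
theorem GT2 (M N P : Submodule ↥A (PowerSeries k)) (hM1 : (1 : PowerSeries k) ∈ M)
    (u : PowerSeries k) (hu : u ∈ M)
    (hgen : ∀ m ∈ M, ∃ a b : ↥A, m = (a : PowerSeries k) + (b : PowerSeries k) * u)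
    (hP1 : (1 : PowerSeries k) ∈ P) (s : ℕ)
    (hPin : ∀ p ∈ P, (X : PowerSeries k) ^ s * p ∈ A)
    (hP : ∀ a ∈ A, a * u ∈ A ↔ ∃ p ∈ P, a = (X : PowerSeries k) ^ s * p) :
    relLen (N.map (LinearMap.mulLeft ↥A ((X : PowerSeries k) ^ s))) (N / P) =
      relLen (N / M) N +
        Module.length ↥A (Ext (ModuleCat.of ↥A ↥M) (ModuleCat.of ↥A ↥N) 1) := by
  refine absGT2 ((X : PowerSeries k) ^ c) (hx_cancel c) (hinj_A A) (hC' A c hC) M N P hM1 u hu
    hgen hP1 ((X : PowerSeries k) ^ s) (hx_cancel s) (fun p hp => ⟨⟨_, hPin p hp⟩, rfl⟩) ?_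
  intro a
  rw [Submodule.mem_one]
  constructor
  · rintro ⟨b, hb⟩
    have h1 : (a : PowerSeries k) * u ∈ A := by
      have h2 : (b : PowerSeries k) = (a : PowerSeries k) * u := hb
      rw [← h2]
      exact b.2
    exact (hP a a.2).mp h1
  · intro h
    have h1 := (hP a a.2).mpr h
    exact ⟨⟨_, h1⟩, rfl⟩

include hC in
/-- `ℓ Ext¹(M, N) + ℓ(N / (N : P)) + ℓ(N / (N : M)) = s`. -/
theorem GT2_final (M N P : Submodule ↥A (PowerSeries k)) (hM1 : (1 : PowerSeries k) ∈ M)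
    (u : PowerSeries k) (hu : u ∈ M)
    (hgen : ∀ m ∈ M, ∃ a b : ↥A, m = (a : PowerSeries k) + (b : PowerSeries k) * u)
    (hP1 : (1 : PowerSeries k) ∈ P) (s : ℕ)
    (hPin : ∀ p ∈ P, (X : PowerSeries k) ^ s * p ∈ A)
    (hP : ∀ a ∈ A, a * u ∈ A ↔ ∃ p ∈ P, a = (X : PowerSeries k) ^ s * p)
    (c' : ℕ) (hN : Ord A c' ≤ N) :
    Module.length ↥A (Ext (ModuleCat.of ↥A ↥M) (ModuleCat.of ↥A ↥N) 1) + relLen (N / P) N +
      relLen (N / M) N = (s : ℕ∞) := by
  have h := GT2 A c hC M N P hM1 u hu hgen hP1 s hPin hP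
  have hle1 : N.map (LinearMap.mulLeft ↥A ((X : PowerSeries k) ^ s)) ≤ N / P := by
    rintro _ ⟨n, hn, rfl⟩
    rw [Submodule.mem_div_iff_forall_mul_mem]
    intro p hp
    have h1 : (LinearMap.mulLeft ↥A ((X : PowerSeries k) ^ s)) n * p =
        (⟨X ^ s * p, hPin p hp⟩ : ↥A) • n := by
      change (X : PowerSeries k) ^ s * n * p = (X ^ s * p) * n
      ring
    rw [h1]
    exact N.smul_mem _ hn
  have hle2 : N / P ≤ N := by
    intro d hd
    rw [Submodule.mem_div_iff_forall_mul_mem] at hd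
    have := hd 1 hP1
    rwa [mul_one] at this
  have h2 := relLen_add hle1 hle2
  rw [relLen_map_self A N c' hN s (hle1.trans hle2), h] at h2
  rw [h2]
  ring

end conc2

end Groth.Agent.Helper8.TFV
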