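import Groth.Agent.Lib.Helper8.TFV8

/-!
# Monomial modules over a monomial subalgebra of `k⟦X⟧`
-/

set_option autoImplicit false
set_option linter.style.haveILetI false
universe u

namespace Groth.Agent.Helper8.TFV

open PowerSeries CategoryTheory Abelian IsLocalRing
open Groth.Agent.Helper8.TF Groth.Agent.Helper8.W4

section mono

variable {k : Type u} [Field k]

lemma exists_of_coeff_mul_ne_zero (f g : PowerSeries k) (n : ℕ) (h : coeff n (f * g) ≠ 0) :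
    ∃ p q, p + q = n ∧ coeff p f ≠ 0 ∧ coeff q g ≠ 0 := by
  rw [coeff_mul] at h
  obtain ⟨pq, hpq, hne⟩ := Finset.exists_ne_zero_of_sum_ne_zero h
  rw [Finset.HasAntidiagonal.mem_antidiagonal] at hpq
  exact ⟨pq.1, pq.2, hpq, left_ne_zero_of_mul hne, right_ne_zero_of_mul hne⟩

lemma coeff_X_pow_mul_ne_zero (p : PowerSeries k) (s n : ℕ)
    (h : coeff n ((X : PowerSeries k) ^ s * p) ≠ 0) : s ≤ n ∧ coeff (n - s) p ≠ 0 := by
  rw [coeff_X_pow_mul'] at h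
  split_ifs at h with hs
  · exact ⟨hs, h⟩
  · exact absurd rfl h

variable (A : Subalgebra k (PowerSeries k)) (Γ : Set ℕ)
  (hmono : ∀ f : PowerSeries k, f ∈ A ↔ ∀ n : ℕ, coeff n f ≠ 0 → n ∈ Γ)

include hmono in
lemma X_pow_mem_A (a : ℕ) (ha : a ∈ Γ) : (X : PowerSeries k) ^ a ∈ A := by
  rw [hmono]
  intro n hne
  rw [coeff_X_pow] at hne
  split_ifs at hne with h
  · exact h ▸ ha
  · exact absurd rfl hne

include hmono in
lemma Γ_add_mem (γ v : ℕ) (hγ : γ ∈ Γ) (hv : v ∈ Γ) : γ + v ∈ Γ := by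
  have h1 := A.mul_mem (X_pow_mem_A A Γ hmono γ hγ) (X_pow_mem_A A Γ hmono v hv)
  rw [← pow_add] at h1
  apply (hmono _).mp h1
  rw [coeff_X_pow, if_pos rfl]
  exact one_ne_zero

/-- the monomial module with exponent set `Δ`. -/
def gMod (Δ : Set ℕ) (hΔ : ∀ γ ∈ Γ, ∀ v ∈ Δ, γ + v ∈ Δ) : Submodule ↥A (PowerSeries k) where
  carrier := {f | ∀ n, coeff n f ≠ 0 → n ∈ Δ}
  add_mem' := by
    intro f g hf hg n hne
    by_cases h : coeff n f = 0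
    · apply hg n
      intro h'
      apply hne
      rw [map_add, h, h', add_zero]
    · exact hf n h
  zero_mem' := by
    intro n hne
    exact absurd (map_zero _) hne
  smul_mem' := by
    intro a f hf n hne
    change coeff n ((a : PowerSeries k) * f) ≠ 0 at hne
    obtain ⟨p, q, hpq, hp, hq⟩ := exists_of_coeff_mul_ne_zero _ _ n hne
    rw [← hpq]
    exact hΔ p ((hmono a).mp a.2 p hp) q (hf q hq)

variable (Δ : Set ℕ) (hΔ : ∀ γ ∈ Γ, ∀ v ∈ Δ, γ + v ∈ Δ)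

lemma mem_gMod {f : PowerSeries k} :
    f ∈ gMod A Γ hmono Δ hΔ ↔ ∀ n, coeff n f ≠ 0 → n ∈ Δ := Iff.rfl

lemma X_pow_mem_gMod (a : ℕ) (ha : a ∈ Δ) : (X : PowerSeries k) ^ a ∈ gMod A Γ hmono Δ hΔ := by
  intro n hne
  rw [coeff_X_pow] at hne
  split_ifs at hne with h
  · exact h ▸ ha
  · exact absurd rfl hne

lemma one_mem_gMod (h0 : 0 ∈ Δ) : (1 : PowerSeries k) ∈ gMod A Γ hmono Δ hΔ := by
  have := X_pow_mem_gMod A Γ hmono Δ hΔ 0 h0
  rwa [pow_zero] at this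

lemma gMod_values (j : ℕ) :
    (∃ f ∈ gMod A Γ hmono Δ hΔ, order f = (j : ℕ∞)) ↔ j ∈ Δ := by
  constructor
  · rintro ⟨f, hf, hfo⟩
    exact hf j (order_eq_nat.mp hfo).1
  · intro hjS
    exact ⟨X ^ j, X_pow_mem_gMod A Γ hmono Δ hΔ j hjS, order_X_pow j⟩

lemma Ord_le_gMod (c : ℕ) (h : ∀ n, c ≤ n → n ∈ Δ) : Ord A c ≤ gMod A Γ hmono Δ hΔ := by
  intro f hf n hne
  apply h
  by_contra hlt
  exact hne ((X_pow_dvd_iff.mp hf) n (not_le.mp hlt))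

lemma gMod_mono (Δ₂ : Set ℕ) (hΔ₂ : ∀ γ ∈ Γ, ∀ v ∈ Δ₂, γ + v ∈ Δ₂) (h : Δ ⊆ Δ₂) :
    gMod A Γ hmono Δ hΔ ≤ gMod A Γ hmono Δ₂ hΔ₂ :=
  fun _ hf n hne => h (hf n hne)

/-- the length of a quotient of monomial modules is the number of missing exponents. -/
lemma relLen_gMod_diff (Δ₂ : Set ℕ) (hΔ₂ : ∀ γ ∈ Γ, ∀ v ∈ Δ₂, γ + v ∈ Δ₂) (hsub : Δ ⊆ Δ₂)
    (c : ℕ) (hc : ∀ n, c ≤ n → n ∈ Δ) (T : Finset ℕ) (hT : ∀ j, j ∈ T ↔ j ∈ Δ₂ ∧ j ∉ Δ) :
    relLen (gMod A Γ hmono Δ hΔ) (gMod A Γ hmono Δ₂ hΔ₂) = (T.card : ℕ∞) := by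
  classical
  have hO1 := Ord_le_gMod A Γ hmono Δ hΔ c hc
  have hle := gMod_mono A Γ hmono Δ hΔ Δ₂ hΔ₂ hsub
  have e := relLen_add hO1 hle
  rw [relLen_Ord A _ c hO1, relLen_Ord A _ c (hO1.trans hle)] at e
  have hf1 : (Finset.range c).filter
      (fun n : ℕ => ∃ f ∈ gMod A Γ hmono Δ hΔ, order f = (n : ℕ∞)) =
      (Finset.range c).filter (fun n => n ∈ Δ) :=
    Finset.filter_congr (fun j _ => gMod_values A Γ hmono Δ hΔ j)
  have hf2 : (Finset.range c).filter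
      (fun n : ℕ => ∃ f ∈ gMod A Γ hmono Δ₂ hΔ₂, order f = (n : ℕ∞)) =
      (Finset.range c).filter (fun n => n ∈ Δ₂) :=
    Finset.filter_congr (fun j _ => gMod_values A Γ hmono Δ₂ hΔ₂ j)
  rw [hf1, hf2] at e
  rw [enat_of_add e.symm]
  congr 1
  have h3 := Finset.card_filter_add_card_filter_not
    (s := (Finset.range c).filter (fun n => n ∈ Δ₂)) (fun n => n ∈ Δ)
  have hA1 : ((Finset.range c).filter (fun n => n ∈ Δ₂)).filter (fun n => n ∈ Δ) =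
      (Finset.range c).filter (fun n => n ∈ Δ) := by
    ext j
    simp only [Finset.mem_filter, Finset.mem_range]
    constructor
    · rintro ⟨⟨hj, _⟩, h1⟩
      exact ⟨hj, h1⟩
    · rintro ⟨hj, h1⟩
      exact ⟨⟨hj, hsub h1⟩, h1⟩
  have hA2 : ((Finset.range c).filter (fun n => n ∈ Δ₂)).filter (fun n => ¬ n ∈ Δ) = T := by
    ext j
    rw [hT]
    simp only [Finset.mem_filter, Finset.mem_range]
    constructor
    · rintro ⟨⟨_, h2⟩, h1⟩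
      exact ⟨h2, h1⟩
    · rintro ⟨h2, h1⟩
      refine ⟨⟨?_, h2⟩, h1⟩
      by_contra hj
      exact h1 (hc j (not_lt.mp hj))
  rw [hA1, hA2] at h3
  omega

include hΔ in
lemma div_closed (Δ' : Set ℕ) :
    ∀ γ ∈ Γ, ∀ v ∈ {v : ℕ | ∀ w ∈ Δ', v + w ∈ Δ}, γ + v ∈ {v : ℕ | ∀ w ∈ Δ', v + w ∈ Δ} := by
  intro γ hγ v hv w hw
  rw [add_assoc]
  exact hΔ γ hγ _ (hv w hw)

lemma gMod_div (Δ' : Set ℕ) (hΔ' : ∀ γ ∈ Γ, ∀ v ∈ Δ', γ + v ∈ Δ') :
    gMod A Γ hmono Δ hΔ / gMod A Γ hmono Δ' hΔ' =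
      gMod A Γ hmono {v : ℕ | ∀ w ∈ Δ', v + w ∈ Δ} (div_closed Γ Δ hΔ Δ') := by
  apply le_antisymm
  · intro f hf n hne w hw
    rw [Submodule.mem_div_iff_forall_mul_mem] at hf
    have h1 := hf (X ^ w) (X_pow_mem_gMod A Γ hmono Δ' hΔ' w hw)
    apply h1 (n + w)
    rw [coeff_mul_X_pow', if_pos (Nat.le_add_left w n), Nat.add_sub_cancel]
    exact hne
  · intro f hf
    rw [Submodule.mem_div_iff_forall_mul_mem]
    intro g hg n hne
    obtain ⟨p, q, hpq, hp, hq⟩ := exists_of_coeff_mul_ne_zero f g n hne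
    rw [← hpq]
    exact hf p hp q (hg q hq)

lemma exists_eq_X_pow_mul (f : PowerSeries k) (s : ℕ)
    (h : ∀ n, coeff n f ≠ 0 → s ≤ n ∧ n - s ∈ Δ) :
    ∃ p ∈ gMod A Γ hmono Δ hΔ, f = (X : PowerSeries k) ^ s * p := by
  have hdvd : (X : PowerSeries k) ^ s ∣ f := by
    rw [X_pow_dvd_iff]
    intro m hm
    by_contra hne
    have := (h m hne).1
    omega
  obtain ⟨p, rfl⟩ := hdvd
  refine ⟨p, ?_, rfl⟩
  intro m hne
  have h1 := h (m + s) (by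
    rw [coeff_X_pow_mul', if_pos (Nat.le_add_left s m), Nat.add_sub_cancel]
    exact hne)
  have h2 := h1.2
  rwa [Nat.add_sub_cancel] at h2

include hmono in
lemma mem_A_of_order (c : ℕ) (hc : ∀ n, c ≤ n → n ∈ Γ) (f : PowerSeries k)
    (hf : (X : PowerSeries k) ^ c ∣ f) : f ∈ A := by
  rw [hmono]
  intro n hne
  apply hc
  by_contra hlt
  exact hne ((X_pow_dvd_iff.mp hf) n (not_le.mp hlt))

/-- a monomial module is generated by the monomials of a generating set of exponents. -/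
lemma span_eq_gMod (G : Set ℕ) (c : ℕ) (hc : ∀ n, c ≤ n → n ∈ Γ) (h0 : 0 ∈ G) (hG : G ⊆ Δ)
    (hgen : ∀ v ∈ Δ, v < c → ∃ g ∈ G, g ≤ v ∧ v - g ∈ Γ) :
    Submodule.span ↥A ((fun a : ℕ => (X : PowerSeries k) ^ a) '' G) = gMod A Γ hmono Δ hΔ := by
  apply eq_of_values A c
  · rw [Submodule.span_le]
    rintro _ ⟨a, ha, rfl⟩
    exact X_pow_mem_gMod A Γ hmono Δ hΔ a (hG ha)
  · intro f hf
    have hfA : f ∈ A := mem_A_of_order A Γ hmono c hc f hf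
    have h1 : f = (⟨f, hfA⟩ : ↥A) • (X : PowerSeries k) ^ 0 := by
      rw [pow_zero]
      change f = f * 1
      rw [mul_one]
    rw [h1]
    exact Submodule.smul_mem _ _ (Submodule.subset_span ⟨0, h0, rfl⟩)
  · intro j hj hex
    have hjΔ := (gMod_values A Γ hmono Δ hΔ j).mp hex
    obtain ⟨g, hg, hgj, hγ⟩ := hgen j hjΔ hj
    have hA : (X : PowerSeries k) ^ (j - g) ∈ A := X_pow_mem_A A Γ hmono _ hγ
    refine ⟨X ^ j, ?_, order_X_pow j⟩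
    have h2 : (X : PowerSeries k) ^ j = (⟨X ^ (j - g), hA⟩ : ↥A) • (X : PowerSeries k) ^ g := by
      change (X : PowerSeries k) ^ j = X ^ (j - g) * X ^ g
      rw [← pow_add, Nat.sub_add_cancel hgj]
    rw [h2]
    exact Submodule.smul_mem _ _ (Submodule.subset_span ⟨g, hg, rfl⟩)

lemma span_pair_eq_gMod (e : ℕ) (c : ℕ) (hc : ∀ n, c ≤ n → n ∈ Γ) (h0 : 0 ∈ Δ) (he : e ∈ Δ)
    (hgen : ∀ v ∈ Δ, v < c → v ∈ Γ ∨ (e ≤ v ∧ v - e ∈ Γ)) :
    Submodule.span ↥A ({1, (X : PowerSeries k) ^ e} : Set (PowerSeries k)) =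
      gMod A Γ hmono Δ hΔ := by
  have h := span_eq_gMod A Γ hmono Δ hΔ {0, e} c hc (Or.inl rfl)
    (by
      rintro g (rfl | rfl)
      · exact h0
      · exact he)
    (by
      intro v hv hvc
      rcases hgen v hv hvc with h1 | ⟨h1, h2⟩
      · exact ⟨0, Or.inl rfl, Nat.zero_le v, by rwa [Nat.sub_zero]⟩
      · exact ⟨e, Or.inr rfl, h1, h2⟩)
  simp only [Set.image_pair, pow_zero] at h
  exact h

lemma hgen_of_span_pair (M : Submodule ↥A (PowerSeries k)) (u : PowerSeries k)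
    (h : Submodule.span ↥A ({1, u} : Set (PowerSeries k)) = M) :
    ∀ m ∈ M, ∃ a b : ↥A, m = (a : PowerSeries k) + (b : PowerSeries k) * u := by
  intro m hm
  rw [← h] at hm
  obtain ⟨a, b, hab⟩ := Submodule.mem_span_pair.mp hm
  refine ⟨a, b, ?_⟩
  rw [← hab]
  change (a : PowerSeries k) * 1 + (b : PowerSeries k) * u = _
  rw [mul_one]

end mono

end Groth.Agent.Helper8.TFV
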