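import Mathlib
import Groth.Agent.Lib.Helper8.LD8

/-!
# The evaluation map `E ⊗ M → Hom(Hom(M, R), E)` is bijective for finite `M` and injective `E`
-/

set_option autoImplicit false
universe u

namespace Groth.Agent.Helper8.TorD

open TensorProduct Groth.Agent.Helper8.LD

variable (R : Type u) [CommRing R] (E : Type u) [AddCommGroup E] [Module R E]

section Tau

variable (M : Type u) [AddCommGroup M] [Module R M]

/-- the evaluation map `e ⊗ m ↦ (φ ↦ φ m • e)`. -/
noncomputable def τ : E ⊗[R] M →ₗ[R] ((M →ₗ[R] R) →ₗ[R] E) :=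
  TensorProduct.lift
    (((LinearMap.llcomp R (M →ₗ[R] R) R E) ∘ₗ (LinearMap.lsmul R E).flip).compl₂
      (LinearMap.applyₗ : M →ₗ[R] (M →ₗ[R] R) →ₗ[R] R))

@[simp]
lemma τ_tmul (e : E) (m : M) (φ : M →ₗ[R] R) : τ R E M (e ⊗ₜ m) φ = φ m • e := by
  simp [τ]

variable {M}

lemma τ_natural {M' : Type u} [AddCommGroup M'] [Module R M'] (g : M →ₗ[R] M') (ξ : E ⊗[R] M) :
    τ R E M' (g.lTensor E ξ) = dmap E g (τ R E M ξ) := by
  induction ξ using TensorProduct.induction_on with
  | zero => simp
  | tmul e m =>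
    ext φ
    simp
  | add x y hx hy => rw [map_add, map_add, hx, hy, map_add, map_add]

/-- `M` satisfies the evaluation duality. -/
def IsTauIso (M : Type u) [AddCommGroup M] [Module R M] : Prop :=
  Function.Bijective (τ R E M)

end Tau

section Basic

theorem isTauIso_self : IsTauIso R E R := by
  constructor
  · rw [injective_iff_map_eq_zero]
    intro ξ hξ
    have h1 : ∀ ξ : E ⊗[R] R, τ R E R ξ LinearMap.id = TensorProduct.rid R E ξ := by
      intro ξ
      induction ξ using TensorProduct.induction_on with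
      | zero => simp
      | tmul e r => simp
      | add x y hx hy => rw [map_add, LinearMap.add_apply, hx, hy, map_add]
    have h2 : TensorProduct.rid R E ξ = 0 := by rw [← h1, hξ, LinearMap.zero_apply]
    exact (TensorProduct.rid R E).injective (by rw [h2, map_zero])
  · intro ψ
    refine ⟨ψ LinearMap.id ⊗ₜ 1, ?_⟩
    ext φ
    rw [τ_tmul, ← map_smul]
    congr 1
    ext
    simp

variable {M M' : Type u} [AddCommGroup M] [Module R M] [AddCommGroup M'] [Module R M']

theorem isTauIso_of_linearEquiv (e : M ≃ₗ[R] M') (h : IsTauIso R E M) : IsTauIso R E M' := by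
  constructor
  · rw [injective_iff_map_eq_zero]
    intro ξ' hξ'
    have h1 : τ R E M (e.symm.toLinearMap.lTensor E ξ') = 0 := by
      rw [τ_natural, hξ', map_zero]
    have h2 := (injective_iff_map_eq_zero _).mp h.1 _ h1
    have h3 : e.toLinearMap.lTensor E (e.symm.toLinearMap.lTensor E ξ') = ξ' := by
      rw [← LinearMap.comp_apply, ← LinearMap.lTensor_comp]
      have : e.toLinearMap ∘ₗ e.symm.toLinearMap = LinearMap.id := by ext; simp
      rw [this, LinearMap.lTensor_id, LinearMap.id_apply]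
    rw [← h3, h2, map_zero]
  · intro ψ'
    obtain ⟨ξ, hξ⟩ := h.2 (dmap E e.symm.toLinearMap ψ')
    refine ⟨e.toLinearMap.lTensor E ξ, ?_⟩
    rw [τ_natural, hξ]
    ext φ'
    rw [dmap_apply, dmap_apply]
    congr 1
    ext x
    simp

theorem isTauIso_of_subsingleton [Subsingleton M] : IsTauIso R E M := by
  constructor
  · intro a b _
    exact Subsingleton.elim _ _
  · intro ψ
    refine ⟨0, ?_⟩
    ext φ
    have : φ = 0 := Subsingleton.elim _ _
    rw [this, map_zero, map_zero]

theorem isTauIso_prod (hM : IsTauIso R E M) (hM' : IsTauIso R E M') : IsTauIso R E (M × M') := by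
  have hsum : (LinearMap.inl R M M') ∘ₗ (LinearMap.fst R M M') +
      (LinearMap.inr R M M') ∘ₗ (LinearMap.snd R M M') = LinearMap.id := by
    ext <;> simp
  constructor
  · rw [injective_iff_map_eq_zero]
    intro ξ hξ
    have h1 : (LinearMap.fst R M M').lTensor E ξ = 0 := by
      apply (injective_iff_map_eq_zero _).mp hM.1
      rw [τ_natural, hξ, map_zero]
    have h2 : (LinearMap.snd R M M').lTensor E ξ = 0 := by
      apply (injective_iff_map_eq_zero _).mp hM'.1
      rw [τ_natural, hξ, map_zero]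
    have h3 : ξ = (LinearMap.id : M × M' →ₗ[R] M × M').lTensor E ξ := by
      rw [LinearMap.lTensor_id, LinearMap.id_apply]
    rw [h3, ← hsum, LinearMap.lTensor_add, LinearMap.add_apply, LinearMap.lTensor_comp,
      LinearMap.lTensor_comp, LinearMap.comp_apply, LinearMap.comp_apply, h1, h2, map_zero,
      map_zero, add_zero]
  · intro ψ
    obtain ⟨ξ₁, hξ₁⟩ := hM.2 (dmap E (LinearMap.fst R M M') ψ)
    obtain ⟨ξ₂, hξ₂⟩ := hM'.2 (dmap E (LinearMap.snd R M M') ψ)
    refine ⟨(LinearMap.inl R M M').lTensor E ξ₁ + (LinearMap.inr R M M').lTensor E ξ₂, ?_⟩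
    rw [map_add, τ_natural, τ_natural, hξ₁, hξ₂]
    ext φ
    rw [LinearMap.add_apply, dmap_apply, dmap_apply, dmap_apply, dmap_apply, ← map_add]
    congr 1
    rw [LinearMap.comp_assoc, LinearMap.comp_assoc, ← LinearMap.comp_add, hsum,
      LinearMap.comp_id]

theorem isTauIso_pi_fin (k : ℕ) : IsTauIso R E (Fin k → R) := by
  induction k with
  | zero => exact isTauIso_of_subsingleton R E
  | succ k ih =>
    exact isTauIso_of_linearEquiv R E (Fin.consLinearEquiv R (fun _ : Fin (k + 1) => R))
      (isTauIso_prod R E (isTauIso_self R E) ih)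

end Basic

section Main

variable [IsNoetherianRing R] [Module.Injective R E]

/-- **Evaluation duality** for finite modules over a Noetherian ring and an injective `E`. -/
theorem isTauIso_of_finite (M : Type u) [AddCommGroup M] [Module R M] [Module.Finite R M] :
    IsTauIso R E M := by
  obtain ⟨a, p, hp⟩ := Module.Finite.exists_fin' R M
  obtain ⟨b, q, hq⟩ := Module.Finite.exists_fin' R (LinearMap.ker p)
  let f : (Fin b → R) →ₗ[R] (Fin a → R) := (LinearMap.ker p).subtype ∘ₗ q
  have hex : Function.Exact f p := by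
    intro x
    constructor
    · intro hx
      obtain ⟨y, hy⟩ := hq ⟨x, hx⟩
      exact ⟨y, by simp [f, hy]⟩
    · rintro ⟨y, rfl⟩
      exact (q y).2
  have hpf : p ∘ₗ f = 0 := by
    ext y
    simp only [LinearMap.comp_apply, LinearMap.zero_apply]
    exact (hex (f _)).mpr ⟨_, rfl⟩
  have hHp : Function.Surjective (p.lTensor E) := LinearMap.lTensor_surjective E hp
  have hHex : Function.Exact (f.lTensor E) (p.lTensor E) := lTensor_exact E hex hp
  have h0 := isTauIso_pi_fin R E a
  have h1 := isTauIso_pi_fin R E b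
  constructor
  · rw [injective_iff_map_eq_zero]
    intro ξ hξ
    obtain ⟨ξ₀, rfl⟩ := hHp ξ
    have hd : dmap E p (τ R E _ ξ₀) = 0 := by
      rw [← τ_natural, hξ]
    obtain ⟨ψ₁, hψ₁⟩ := dmap_exact f p hp hex _ hd
    obtain ⟨ξ₁, rfl⟩ := h1.2 ψ₁
    have h2 : τ R E _ (f.lTensor E ξ₁) = τ R E _ ξ₀ := by
      rw [← hψ₁, τ_natural]
    have h3 := h0.1 h2
    rw [← h3, ← LinearMap.comp_apply, ← LinearMap.lTensor_comp, hpf, LinearMap.lTensor_zero,
      LinearMap.zero_apply]
  · intro ψ
    obtain ⟨ψ₀, hψ₀⟩ := dmap_surjective (E := E) p hp ψ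
    obtain ⟨ξ₀, hξ₀⟩ := h0.2 ψ₀
    refine ⟨p.lTensor E ξ₀, ?_⟩
    rw [τ_natural, hξ₀, hψ₀]

end Main

end Groth.Agent.Helper8.TorD
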