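import Mathlib
import Groth.Agent.Lib.Helper1.TorL
import Groth.Agent.Lib.Helper8.LD9

/-!
# Dimension shifting for `Tor` in the second variable (as abstract isomorphisms)
-/

set_option autoImplicit false
universe u

namespace Groth.Agent.Helper8.TorR

open CategoryTheory Limits MonoidalCategory TensorProduct
open Groth.Agent.Helper1.TorL Groth.Agent.Helper8.LD

variable {R : Type u} [CommRing R]

/-- `Tor₁(X₃, Y)` is the kernel of `X₁ ⊗ Y → X₂ ⊗ Y` when `Tor₁(X₂, Y) = 0`. -/
theorem nonempty_tor_one_equiv_ker (S : ShortComplex (ModuleCat.{u} R)) (hS : S.ShortExact)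
    (Y : ModuleCat.{u} R) (h₂ : IsZero (T 1 S.X₂ Y)) :
    Nonempty (T 1 S.X₃ Y ≃ₗ[R] LinearMap.ker (S.f.hom.rTensor Y)) := by
  have hm : Mono (torδ S hS Y 0) := (tor_exact₃ S hS Y 0).mono_g (h₂.eq_of_src _ _)
  have hinj : Function.Injective (torδ S hS Y 0).hom := (ModuleCat.mono_iff_injective _).mp hm
  have hex : Function.Exact (torδ S hS Y 0).hom
      (((Tor (ModuleCat.{u} R) 0).map S.f).app Y).hom :=
    (ShortComplex.ShortExact.moduleCat_exact_iff_function_exact _).mp (tor_exact₁ S hS Y 0)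
  let e1 : T 1 S.X₃ Y ≃ₗ[R] LinearMap.ker (((Tor (ModuleCat.{u} R) 0).map S.f).app Y).hom :=
    (LinearEquiv.ofInjective _ hinj).trans
      (LinearEquiv.ofEq _ _ (LinearMap.exact_iff.mp hex).symm)
  obtain ⟨e2⟩ := nonempty_ker_equiv (((Tor (ModuleCat.{u} R) 0).map S.f).app Y).hom
    (S.f.hom.rTensor Y) (tor0Iso S.X₁ Y).hom.hom (tor0Iso S.X₂ Y).hom.hom
    (by
      intro x
      have e := tor0Iso_naturality S.f Y
      have := congrArg (fun φ => φ.hom x) e
      exact this)
    (ConcreteCategory.bijective_of_isIso (tor0Iso S.X₁ Y).hom)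
    (ConcreteCategory.bijective_of_isIso (tor0Iso S.X₂ Y).hom).1
  exact ⟨e1.trans e2⟩

section Snake

variable {M₁ M₂ M₃ N₁ N₂ N₃ C₁ C₂ : Type*}
  [AddCommGroup M₁] [Module R M₁] [AddCommGroup M₂] [Module R M₂] [AddCommGroup M₃] [Module R M₃]
  [AddCommGroup N₁] [Module R N₁] [AddCommGroup N₂] [Module R N₂] [AddCommGroup N₃] [Module R N₃]
  [AddCommGroup C₁] [Module R C₁] [AddCommGroup C₂] [Module R C₂]

/-- the part of the snake lemma identifying `ker i₃` with `ker (coker i₁ → coker i₂)` when `i₂`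
is injective. -/
theorem nonempty_ker_equiv_ker_of_snake
    (i₁ : M₁ →ₗ[R] N₁) (i₂ : M₂ →ₗ[R] N₂) (i₃ : M₃ →ₗ[R] N₃)
    (f₁ : M₁ →ₗ[R] M₂) (f₂ : M₂ →ₗ[R] M₃) (hf : Function.Exact f₁ f₂)
    (hf₂ : Function.Surjective f₂)
    (g₁ : N₁ →ₗ[R] N₂) (g₂ : N₂ →ₗ[R] N₃) (hg : Function.Exact g₁ g₂)
    (hg₁ : Function.Injective g₁)
    (h₁ : g₁.comp i₁ = i₂.comp f₁) (h₂ : g₂.comp i₂ = i₃.comp f₂) (hi₂ : Function.Injective i₂)
    (π₁ : N₁ →ₗ[R] C₁) (hπ₁ : Function.Exact i₁ π₁) (hπ₁s : Function.Surjective π₁)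
    (π₂ : N₂ →ₗ[R] C₂) (hπ₂ : Function.Exact i₂ π₂)
    (G : C₁ →ₗ[R] C₂) (hG : G.comp π₁ = π₂.comp g₁) :
    Nonempty (LinearMap.ker i₃ ≃ₗ[R] LinearMap.ker G) := by
  let ι₃ : LinearMap.ker i₃ →ₗ[R] M₃ := (LinearMap.ker i₃).subtype
  have hι₃ : Function.Exact ι₃ i₃ := LinearMap.exact_subtype_ker_map i₃
  let ι₂ : (⊥ : Submodule R M₂) →ₗ[R] M₂ := (⊥ : Submodule R M₂).subtype
  have hι₂ : Function.Exact ι₂ i₂ := by
    intro x
    constructor
    · intro hx
      have : x = 0 := hi₂ (by rw [hx, map_zero])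
      exact ⟨0, by rw [this, map_zero]⟩
    · rintro ⟨y, rfl⟩
      have : (y : M₂) = 0 := (Submodule.mem_bot R).mp y.2
      change i₂ (y : M₂) = 0
      rw [this, map_zero]
  let δ := SnakeLemma.δ' i₁ i₂ i₃ f₁ f₂ hf g₁ g₂ hg h₁ h₂ ι₃ hι₃ π₁ hπ₁ hf₂ hg₁
  have hR : Function.Exact (0 : (⊥ : Submodule R M₂) →ₗ[R] LinearMap.ker i₃) δ :=
    SnakeLemma.exact_δ'_right i₁ i₂ i₃ f₁ f₂ hf g₁ g₂ hg h₁ h₂ ι₂ hι₂ ι₃ hι₃ π₁ hπ₁ hf₂ hg₁
      0 (by
        ext y
        have : (y : M₂) = 0 := (Submodule.mem_bot R).mp y.2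
        change f₂ (y : M₂) = ι₃ 0
        rw [this, map_zero, map_zero]) (Submodule.injective_subtype _)
  have hL : Function.Exact δ G :=
    SnakeLemma.exact_δ'_left i₁ i₂ i₃ f₁ f₂ hf g₁ g₂ hg h₁ h₂ ι₃ hι₃ π₁ hπ₁ π₂ hπ₂ hf₂ hg₁
      G hG hπ₁s
  have hδinj : Function.Injective δ := by
    rw [injective_iff_map_eq_zero]
    intro x hx
    obtain ⟨y, hy⟩ := (hR x).mp hx
    rw [← hy, LinearMap.zero_apply]
  exact ⟨(LinearEquiv.ofInjective δ hδinj).trans
    (LinearEquiv.ofEq _ _ (LinearMap.exact_iff.mp hL).symm)⟩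

end Snake

section SecondVar

variable {K F Y : Type u} [AddCommGroup K] [AddCommGroup F] [AddCommGroup Y] [Module R K]
  [Module R F] [Module R Y] [Module.Flat R F]
  (j : K →ₗ[R] F) (q : F →ₗ[R] Y) (hj : Function.Injective j) (hq : Function.Surjective q)
  (hjq : Function.Exact j q)

/-- the first syzygy of `X` in the standard free presentation -/
abbrev Syz (X : Type u) [AddCommGroup X] [Module R X] : Type u :=
  LinearMap.ker (Finsupp.linearCombination R (id : X → X))

include hj hq hjq in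
/-- the kernels computing `Tor₁` from either variable agree. -/
theorem nonempty_ker_rTensor_equiv_ker_lTensor (X : Type u) [AddCommGroup X] [Module R X] :
    Nonempty (LinearMap.ker ((freePres (R := R) X).f.hom.rTensor Y) ≃ₗ[R]
      LinearMap.ker (j.lTensor X)) := by
  have hS := freePres_shortExact (R := R) X
  set i := (freePres (R := R) X).f.hom with hi
  set p := (freePres (R := R) X).g.hom with hp
  have hiinj : Function.Injective i := hS.injective_f
  have hpsurj : Function.Surjective p := hS.surjective_g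
  have hip : Function.Exact i p :=
    (ShortComplex.ShortExact.moduleCat_exact_iff_function_exact _).mp hS.exact
  exact nonempty_ker_equiv_ker_of_snake (i.rTensor K) (i.rTensor F) (i.rTensor Y)
    (j.lTensor _) (q.lTensor _) (lTensor_exact _ hjq hq) (LinearMap.lTensor_surjective _ hq)
    (j.lTensor _) (q.lTensor _) (lTensor_exact _ hjq hq)
    (Module.Flat.lTensor_preserves_injective_linearMap j hj)
    (by rw [LinearMap.lTensor_comp_rTensor, LinearMap.rTensor_comp_lTensor])
    (by rw [LinearMap.lTensor_comp_rTensor, LinearMap.rTensor_comp_lTensor])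
    (Module.Flat.rTensor_preserves_injective_linearMap i hiinj)
    (p.rTensor K) (rTensor_exact K hip hpsurj) (LinearMap.rTensor_surjective K hpsurj)
    (p.rTensor F) (rTensor_exact F hip hpsurj)
    (j.lTensor X) (by rw [LinearMap.lTensor_comp_rTensor, LinearMap.rTensor_comp_lTensor])

include hj hq hjq in
/-- **`Tor₁` via a flat presentation of the second variable.** -/
theorem nonempty_tor_one_equiv_ker_lTensor (X : Type u) [AddCommGroup X] [Module R X] :
    Nonempty (T 1 (ModuleCat.of R X) (ModuleCat.of R Y) ≃ₗ[R] LinearMap.ker (j.lTensor X)) := by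
  obtain ⟨e1⟩ := nonempty_tor_one_equiv_ker (freePres (R := R) X) (freePres_shortExact X)
    (ModuleCat.of R Y) (isZero_tor_succ_of_flat _ _ 0)
  obtain ⟨e2⟩ := nonempty_ker_rTensor_equiv_ker_lTensor j q hj hq hjq X
  exact ⟨e1.trans e2⟩

include hj hq hjq in
/-- **Dimension shifting in the second variable.** -/
theorem nonempty_tor_succ_succ_equiv (n : ℕ) :
    ∀ (X : Type u) [AddCommGroup X] [Module R X],
      Nonempty (T (n + 2) (ModuleCat.of R X) (ModuleCat.of R Y) ≃ₗ[R]
        T (n + 1) (ModuleCat.of R X) (ModuleCat.of R K)) := by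
  induction n with
  | zero =>
    intro X _ _
    have hS := freePres_shortExact (R := R) X
    let e1 : T (1 + 1) (freePres (R := R) X).X₃ (ModuleCat.of R Y) ≃ₗ[R]
        T 1 (freePres (R := R) X).X₁ (ModuleCat.of R Y) :=
      (torShiftIso (freePres (R := R) X) hS (ModuleCat.of R Y) 1
        (isZero_tor_succ_of_flat _ _ _) (isZero_tor_succ_of_flat _ _ _)).toLinearEquiv
    obtain ⟨e2⟩ := nonempty_tor_one_equiv_ker_lTensor j q hj hq hjq (Syz (R := R) X)
    obtain ⟨e3⟩ := nonempty_tor_one_equiv_ker (freePres (R := R) X) hS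
      (ModuleCat.of R K) (isZero_tor_succ_of_flat _ _ 0)
    set i := (freePres (R := R) X).f.hom with hi
    have hiinj : Function.Injective i := hS.injective_f
    have hkers : LinearMap.ker (j.lTensor (Syz (R := R) X)) = LinearMap.ker (i.rTensor K) := by
      have h1 : Function.Injective (i.rTensor F) :=
        Module.Flat.rTensor_preserves_injective_linearMap i hiinj
      have h2 : Function.Injective (j.lTensor (X →₀ R)) :=
        Module.Flat.lTensor_preserves_injective_linearMap j hj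
      ext x
      rw [LinearMap.mem_ker, LinearMap.mem_ker]
      have hsq : (i.rTensor F) ((j.lTensor (Syz (R := R) X)) x) =
          (j.lTensor (X →₀ R)) ((i.rTensor K) x) := by
        rw [← LinearMap.comp_apply, ← LinearMap.comp_apply, LinearMap.rTensor_comp_lTensor,
          LinearMap.lTensor_comp_rTensor]
      constructor
      · intro h
        apply h2
        rw [← hsq, h, map_zero, map_zero]
      · intro h
        apply h1
        rw [hsq, h, map_zero, map_zero]
    exact ⟨(e1.trans e2).trans ((LinearEquiv.ofEq _ _ hkers).trans e3.symm)⟩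
  | succ n ih =>
    intro X _ _
    have hS := freePres_shortExact (R := R) X
    let e1 : T (n + 2 + 1) (freePres (R := R) X).X₃ (ModuleCat.of R Y) ≃ₗ[R]
        T (n + 2) (freePres (R := R) X).X₁ (ModuleCat.of R Y) :=
      (torShiftIso (freePres (R := R) X) hS (ModuleCat.of R Y) (n + 2)
        (isZero_tor_succ_of_flat _ _ _) (isZero_tor_succ_of_flat _ _ _)).toLinearEquiv
    obtain ⟨e2⟩ := ih (Syz (R := R) X)
    let e3 : T (n + 1 + 1) (freePres (R := R) X).X₃ (ModuleCat.of R K) ≃ₗ[R]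
        T (n + 1) (freePres (R := R) X).X₁ (ModuleCat.of R K) :=
      (torShiftIso (freePres (R := R) X) hS (ModuleCat.of R K) (n + 1)
        (isZero_tor_succ_of_flat _ _ _) (isZero_tor_succ_of_flat _ _ _)).toLinearEquiv
    exact ⟨(e1.trans e2).trans e3.symm⟩

end SecondVar

end Groth.Agent.Helper8.TorR
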