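import Mathlib
import Groth.Agent.Lib.Helper8.TorD1
import Groth.Agent.Lib.Helper8.TorR1
import Groth.Agent.Lib.Helper8.LD10

/-!
# Duality `Tor_i(E, M) ≃ Hom(Ext^i(M, R), E)` for finite `M` and injective `E`
-/

set_option autoImplicit false
universe u

namespace Groth.Agent.Helper8.TorD

open CategoryTheory Abelian TensorProduct
open Groth.Agent.Helper1.TorL Groth.Agent.Helper8.LD Groth.Agent.Helper8.TorR

variable {R : Type u} [CommRing R] [IsNoetherianRing R]
  (E : Type u) [AddCommGroup E] [Module R E] [Module.Injective R E]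

/-- **Tor–Ext duality.** -/
theorem nonempty_tor_equiv_dual_ext :
    ∀ (i : ℕ) (M : Type u) [AddCommGroup M] [Module R M] [Module.Finite R M],
      Nonempty (T i (ModuleCat.of R E) (ModuleCat.of R M) ≃ₗ[R]
        (Ext (ModuleCat.of R M) (ModuleCat.of R R) i →ₗ[R] E)) := by
  intro i
  induction i with
  | zero =>
    intro M _ _ _
    let e0 : T 0 (ModuleCat.of R E) (ModuleCat.of R M) ≃ₗ[R] E ⊗[R] M :=
      (tor0Iso (ModuleCat.of R E) (ModuleCat.of R M)).toLinearEquiv
    have h := isTauIso_of_finite R E M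
    exact ⟨(e0.trans (LinearEquiv.ofBijective (τ R E M) h)).trans
      (LinearEquiv.arrowCongr (ext0Equiv M R).symm (LinearEquiv.refl R _))⟩
  | succ j ih =>
    intro M _ _ _
    obtain ⟨a, p, hp⟩ := Module.Finite.exists_fin' R M
    have hS := LinearMap.shortExact_shortComplexKer hp
    have hproj : ∀ k, Subsingleton (Ext (ModuleCat.of R (Fin a → R)) (ModuleCat.of R R) (k + 1)) :=
      fun k => Ext.subsingleton_of_projective _ _ k
    let ι : LinearMap.ker p →ₗ[R] (Fin a → R) := (LinearMap.ker p).subtype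
    have hι : Function.Injective ι := Submodule.injective_subtype _
    have hιp : Function.Exact ι p := LinearMap.exact_subtype_ker_map p
    cases j with
    | zero =>
      obtain ⟨eA⟩ := nonempty_tor_one_equiv_ker_lTensor ι p hι hp hιp E
      obtain ⟨eB⟩ := nonempty_ker_equiv (ι.lTensor E) (dmap E ι)
        (τ R E (LinearMap.ker p)) (τ R E (Fin a → R))
        (by
          intro ξ
          rw [τ_natural])
        (isTauIso_of_finite R E (LinearMap.ker p))
        (isTauIso_pi_fin R E a).1
      -- the Ext side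
      let u : ((Fin a → R) →ₗ[R] R) →ₗ[R] (LinearMap.ker p →ₗ[R] R) := LinearMap.lcomp R R ι
      let dd : (LinearMap.ker p →ₗ[R] R) →ₗ[R] Ext (ModuleCat.of R M) (ModuleCat.of R R) 1 :=
        (extδ hS (ModuleCat.of R R) 0) ∘ₗ (ext0Equiv (LinearMap.ker p) R).symm.toLinearMap
      have hddsurj : Function.Surjective dd := by
        intro y
        obtain ⟨x, hx⟩ := extδ_surjective hS (ModuleCat.of R R) 0 (hproj 0) y
        exact ⟨ext0Equiv (LinearMap.ker p) R x, by simp [dd, hx]⟩
      have hddex : Function.Exact u dd := by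
        intro b
        constructor
        · intro hb
          obtain ⟨x₂, hx₂⟩ := (extδ_exact hS (ModuleCat.of R R) _).mp hb
          obtain ⟨ψ, rfl⟩ := (Ext.mk₀_bijective _ _).2 x₂
          refine ⟨ψ.hom, ?_⟩
          have h3 : (ext0Equiv (LinearMap.ker p) R).symm b =
              (Ext.mk₀ (p.shortComplexKer).f).comp (Ext.mk₀ ψ) (zero_add 0) := hx₂.symm
          have h2 : b = ext0Equiv (LinearMap.ker p) R
              ((Ext.mk₀ (p.shortComplexKer).f).comp (Ext.mk₀ ψ) (zero_add 0)) := by
            rw [← h3, LinearEquiv.apply_symm_apply]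
          rw [h2, Ext.mk₀_comp_mk₀, ext0Equiv_mk₀]
          rfl
        · rintro ⟨φ, rfl⟩
          apply (extδ_exact hS (ModuleCat.of R R) _).mpr
          refine ⟨Ext.mk₀ (ModuleCat.ofHom φ), ?_⟩
          change (Ext.mk₀ (p.shortComplexKer).f).comp (Ext.mk₀ (ModuleCat.ofHom φ)) (zero_add 0) =
            (ext0Equiv (LinearMap.ker p) R).symm (u φ)
          rw [Ext.mk₀_comp_mk₀, LinearEquiv.eq_symm_apply, ext0Equiv_mk₀]
          rfl
      obtain ⟨eC⟩ := nonempty_hom_coker_equiv (E := E) u dd hddsurj hddex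
      exact ⟨(eA.trans eB).trans eC.symm⟩
    | succ j =>
      obtain ⟨e1⟩ := nonempty_tor_succ_succ_equiv ι p hι hp hιp j E
      obtain ⟨e2⟩ := ih (LinearMap.ker p)
      let e3 : Ext (ModuleCat.of R (LinearMap.ker p)) (ModuleCat.of R R) (j + 1) ≃ₗ[R]
          Ext (ModuleCat.of R M) (ModuleCat.of R R) (j + 1 + 1) :=
        LinearEquiv.ofBijective (extδ hS (ModuleCat.of R R) (j + 1))
          (extδ_bijective hS (ModuleCat.of R R) (j + 1) (hproj j) (hproj (j + 1)))
      exact ⟨(e1.trans e2).trans (LinearEquiv.arrowCongr e3 (LinearEquiv.refl R _))⟩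

end Groth.Agent.Helper8.TorD
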