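import Mathlib
import Groth.Agent.Lib.Helper8.TorD2
import Groth.Agent.Lib.Helper8.LD5
import Groth.Agent.Lib.Helper8.Depth26

/-!
# `Tor_i(E, κ)` over a Gorenstein local ring
-/

set_option autoImplicit false
universe u

namespace Groth.Agent.Helper8.TorD

open CategoryTheory Abelian Limits IsLocalRing LocCoh localCohomology RingTheory.Sequence
open Groth.Agent.Helper1.TorL Groth.Agent.Helper8.LD Groth.Agent.Helper8.LC
  Groth.Agent.Helper8.Depth

/-- the type of a Gorenstein local ring is one. -/
theorem length_ext_residueField_top (R : Type u) [CommRing R] [IsGorensteinLocalRing R] (n : ℕ)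
    (hn : ringKrullDim R = n) :
    Module.length R (Ext (kk R) (ModuleCat.of R R) n) = 1 ∧
      ∀ i, i ≠ n → Subsingleton (Ext (kk R) (ModuleCat.of R R) i) := by
  have hCM : IsCohenMacaulayLocalRing R :=
    Groth.Agent.Helper8.Goren.isCohenMacaulayLocalRing_of_isGorensteinLocalRing R
  have hM : IsCohenMacaulayModule R R := hCM.supportDim_eq_depth
  have hdim : Module.supportDim R R = n := by rw [Module.supportDim_self_eq_ringKrullDim, hn]
  have hmR : maximalIdeal R • (⊤ : Submodule R R) ≠ ⊤ := smul_top_ne_top_of_local R R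
  obtain ⟨xs, hreg, hmem, -, hlen⟩ := exists_maximal_isWeaklyRegular (M := R) hmR
  obtain ⟨n', hn', hdepth⟩ := cm_exists_nat hM
  have hnn : n' = n := by
    rw [hdim] at hn'
    exact_mod_cast hn'.symm
  subst hnn
  have hlen' : xs.length = n' := by
    have : (xs.length : ℕ∞) = (n' : ℕ∞) := hlen.trans hdepth
    exact_mod_cast this
  obtain ⟨hid, -⟩ := Groth.Agent.Helper8.Goren.exists_injectiveDimension_eq_dim R n' hn
  have hkk : ∀ x ∈ xs, ∀ m : kk R, x • m = 0 := fun x hx m => smul_kk (hmem x hx) m
  have hcomp := mu_H_eq_of_regular (kk R) 1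
    (fun a ha m => smul_kk (by rwa [pow_one] at ha) m) xs R hM (by rw [hdim, hlen']) hreg hmem hkk
  rw [hlen'] at hcomp
  constructor
  · obtain ⟨g, hg⟩ := exists_isInjectiveHull_H_of_gorenstein R n' hn
    have h1 := Groth.Agent.Helper1.MatlisL.length_dual_residueField g hg.toIsEssentialInj
    have h2 := hcomp 0
    rw [zero_add, mu_zero_eq_length_hom] at h2
    unfold mu at h2
    rw [← h2]
    exact h1
  · intro i hi
    rcases lt_or_gt_of_ne hi with h | h
    · have hle : ((n' : ℕ) : ℕ∞) ≤ idealDepth (maximalIdeal R) R := hdepth.ge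
      exact (le_idealDepth_iff_ext' (I := maximalIdeal R) (M := R) n').mp hle i h
    · exact HasInjectiveDimensionLT.subsingleton (ModuleCat.of R R) (n' + 1) i (by omega) _

/-- **`Tor_i(E, κ)` over a Gorenstein local ring.** -/
theorem main (A : Type u) [CommRing A] [IsGorensteinLocalRing A] (d : ℕ)
    (hd : ringKrullDim A = d) (E : Type u) [AddCommGroup E] [Module A E]
    (f : ResidueField A →ₗ[A] E) (hf : InjHull.IsInjectiveHull f) :
    (∀ i : ℕ, i ≠ d → IsZero (((Tor (ModuleCat.{u} A) i).obj (ModuleCat.of A E)).obj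
      (ModuleCat.of A (ResidueField A)))) ∧
    Nonempty ((((Tor (ModuleCat.{u} A) d).obj (ModuleCat.of A E)).obj
      (ModuleCat.of A (ResidueField A))) ≅ ModuleCat.of A (ResidueField A)) := by
  haveI := hf.isInjective
  obtain ⟨hlen, hvan⟩ := length_ext_residueField_top A d hd
  constructor
  · intro i hi
    obtain ⟨e⟩ := nonempty_tor_equiv_dual_ext (R := A) E i (ResidueField A)
    have h1 : Subsingleton (Ext (ModuleCat.of A (ResidueField A)) (ModuleCat.of A A) i) :=
      hvan i hi
    have h2 : Subsingleton (Ext (ModuleCat.of A (ResidueField A)) (ModuleCat.of A A) i →ₗ[A] E) :=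
      ⟨fun a b => LinearMap.ext fun x => by rw [Subsingleton.elim x 0, map_zero, map_zero]⟩
    have h3 : Subsingleton (T i (ModuleCat.of A E) (ModuleCat.of A (ResidueField A))) :=
      e.toEquiv.subsingleton
    exact ModuleCat.isZero_of_subsingleton _
  · obtain ⟨e⟩ := nonempty_tor_equiv_dual_ext (R := A) E d (ResidueField A)
    have hlen' : Module.length A
        (Ext (ModuleCat.of A (ResidueField A)) (ModuleCat.of A A) d) = 1 := hlen
    have hfl : IsFiniteLength A (Ext (ModuleCat.of A (ResidueField A)) (ModuleCat.of A A) d) := by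
      rw [← Module.length_ne_top_iff, hlen']
      exact ENat.one_ne_top
    have h1 := Groth.Agent.Helper1.MatlisL.length_dual f hf _ hfl
    rw [hlen', ← e.length_eq] at h1
    have hsimple : IsSimpleModule A
        (T d (ModuleCat.of A E) (ModuleCat.of A (ResidueField A))) :=
      Module.length_eq_one_iff.mp h1
    obtain ⟨m, hm, ⟨e'⟩⟩ := isSimpleModule_iff_quot_maximal.mp hsimple
    rw [eq_maximalIdeal hm] at e'
    have e'' : T d (ModuleCat.of A E) (ModuleCat.of A (ResidueField A)) ≃ₗ[A] ResidueField A := e'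
    exact ⟨e''.toModuleIso⟩

end Groth.Agent.Helper8.TorD
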