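import Mathlib
import Groth.Prelude.Def_AlgSt3
import Groth.Agent.Lib.Helper2.AlgSt.FppfLift
import Groth.Agent.Lib.Helper2.AlgSp.FreeAct
import Groth.Agent.Lib.Helper2.Stk.Yon
import Groth.Agent.Lib.Helper2.Stk.Post
import Groth.Agent.Lib.Helper2.Stk.LocEss
import Groth.Agent.Lib.Helper2.Stk.Refine

/-!
# Descent along a finite free quotient for stacks (helper8), part A

General stack lemmas in helper2's `BasedCategory` formalism (`nat_ext_of_sieve`,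
`exists_nat_of_sieve`, `sep_id`, `sep_obj`), `ZarLE`, `zarLE_fppf`, `zarLE_etale`, and
`exists_nat_of_invariant` (descent of morphisms along a finite free quotient).
-/

set_option backward.isDefEq.respectTransparency false
set_option linter.style.haveILetI false
set_option linter.unusedSectionVars false
set_option backward.isDefEq.respectTransparency.types false
set_option autoImplicit false
set_option synthInstance.maxHeartbeats 400000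
set_option maxHeartbeats 1000000

open CategoryTheory CategoryTheory.Limits AlgebraicGeometry Opposite

namespace Groth.Agent.TorsDescSpec

section General
universe v₂ u₂ v u
variable {C : Type u} [Category.{v} C] {J : GrothendieckTopology C} {𝒵 : BasedCategory.{v₂, u₂} C}

open Groth.Agent.Helper2 Groth.Agent.Helper2.StkLib Groth.Agent.Helper2.FibCatLib

theorem nat_ext_of_sieve (h𝒵 : Stk.IsStack J 𝒵) {U : C} {R : Sieve U} (hR : R ∈ J U)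
    {G H : FibCat.overCat U ⥤ᵇ 𝒵} (α β : G ⟶ H)
    (h : ∀ A : Over U, R A.hom → α.toNatTrans.app A = β.toNatTrans.app A) : α = β := by
  have hE : (Stk.resSieve R 𝒵).IsEquivalence := h𝒵.2 R hR
  haveI := hE.faithful
  apply (Stk.resSieve R 𝒵).map_injective
  apply BasedNatTrans.homCategory.ext
  ext a
  exact h a.obj a.property

theorem exists_nat_of_sieve (h𝒵 : Stk.IsStack J 𝒵) {U : C} {R : Sieve U} (hR : R ∈ J U)
    {G H : FibCat.overCat U ⥤ᵇ 𝒵}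
    (c : ∀ A : Over U, R A.hom → (G.obj A ⟶ H.obj A))
    (hc : ∀ (A : Over U) (hA : R A.hom), 𝒵.p.IsHomLift (𝟙 A.left) (c A hA))
    (hnat : ∀ (A B : Over U) (f : A ⟶ B) (hA : R A.hom) (hB : R B.hom),
      G.map f ≫ c B hB = c A hA ≫ H.map f) :
    ∃ α : G ⟶ H, ∀ (A : Over U) (hA : R A.hom), α.toNatTrans.app A = c A hA := by
  have hE : (Stk.resSieve R 𝒵).IsEquivalence := h𝒵.2 R hR
  haveI := hE.full
  let τ : (Stk.resSieve R 𝒵).obj G ⟶ (Stk.resSieve R 𝒵).obj H :=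
    { toNatTrans :=
        { app := fun a => c a.obj a.property
          naturality := fun a b f => hnat a.obj b.obj f.hom a.property b.property }
      isHomLift' := fun a => hc a.obj a.property }
  obtain ⟨α, hα⟩ := (Stk.resSieve R 𝒵).map_surjective τ
  refine ⟨α, fun A hA => ?_⟩
  have := congrArg (fun σ : (Stk.resSieve R 𝒵).obj G ⟶ (Stk.resSieve R 𝒵).obj H =>
    σ.toNatTrans.app ⟨A, hA⟩) hα
  exact this

theorem sep_id (h𝒵 : Stk.IsStack J 𝒵) {U : C} {R : Sieve U} (hR : R ∈ J U) {a b : 𝒵.obj}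
    (m m' : a ⟶ b) (hm : 𝒵.p.IsHomLift (𝟙 U) m) (hm' : 𝒵.p.IsHomLift (𝟙 U) m')
    (hloc : ∀ ⦃V : C⦄ (f : V ⟶ U), R f →
      ∃ (c : 𝒵.obj) (ψ : c ⟶ a), 𝒵.p.IsHomLift f ψ ∧ ψ ≫ m = ψ ≫ m') : m = m' := by
  have hfg := h𝒵.1
  have ha : 𝒵.p.obj a = U := IsHomLift.domain_eq 𝒵.p (𝟙 U) m
  have hb : 𝒵.p.obj b = U := IsHomLift.codomain_eq 𝒵.p (𝟙 U) m
  obtain ⟨G, eG, heG⟩ := exists_functor_of_obj hfg a ha
  obtain ⟨H, eH, heH⟩ := exists_functor_of_obj hfg b hb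
  have heHi : 𝒵.p.IsHomLift (𝟙 U) eH.inv := inferInstance
  have hn : 𝒵.p.IsHomLift (𝟙 U) (eG.hom ≫ m ≫ eH.inv) := inferInstance
  have hn' : 𝒵.p.IsHomLift (𝟙 U) (eG.hom ≫ m' ≫ eH.inv) := inferInstance
  obtain ⟨α, hα⟩ := exists_nat_of_app_id hfg (eG.hom ≫ m ≫ eH.inv) hn
  obtain ⟨α', hα'⟩ := exists_nat_of_app_id hfg (eG.hom ≫ m' ≫ eH.inv) hn'
  have key : α = α' := by
    apply nat_ext_of_sieve h𝒵 hR
    intro A hA
    obtain ⟨c, ψ, hψ, hψm⟩ := hloc A.hom hA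
    have h1 : 𝒵.p.IsHomLift A.hom (G.map (toId U A) ≫ eG.hom) :=
      isHomLift_map_toId_comp G eG.hom heG A
    obtain ⟨θ, ⟨hθ1, hθ2⟩, -⟩ := IsFibGrpd.existsUnique 𝒵.p hfg (𝟙 A.left) A.hom A.hom
      (Category.id_comp _).symm ψ (G.map (toId U A) ≫ eG.hom)
    have h2 : G.map (toId U A) ≫ (eG.hom ≫ m ≫ eH.inv) =
        G.map (toId U A) ≫ (eG.hom ≫ m' ≫ eH.inv) := by
      calc G.map (toId U A) ≫ (eG.hom ≫ m ≫ eH.inv)
          = (G.map (toId U A) ≫ eG.hom) ≫ m ≫ eH.inv := by simp only [Category.assoc]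
        _ = (θ ≫ ψ) ≫ m ≫ eH.inv := by rw [hθ2]
        _ = θ ≫ (ψ ≫ m) ≫ eH.inv := by simp only [Category.assoc]
        _ = θ ≫ (ψ ≫ m') ≫ eH.inv := by rw [hψm]
        _ = (θ ≫ ψ) ≫ m' ≫ eH.inv := by simp only [Category.assoc]
        _ = G.map (toId U A) ≫ (eG.hom ≫ m' ≫ eH.inv) := by
            rw [hθ2]; simp only [Category.assoc]
    have hA1 : 𝒵.p.IsHomLift (𝟙 A.left) (α.toNatTrans.app A) := isHomLift_app_over U α A
    have hA2 : 𝒵.p.IsHomLift (𝟙 A.left) (α'.toNatTrans.app A) := isHomLift_app_over U α' A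
    apply IsFibGrpd.ext_of_comp 𝒵.p hfg (𝟙 A.left) (H.map (toId U A))
    rw [← α.toNatTrans.naturality, ← α'.toNatTrans.naturality, hα, hα']
    exact h2
  have h3 : eG.hom ≫ m ≫ eH.inv = eG.hom ≫ m' ≫ eH.inv := by rw [← hα, ← hα', key]
  have h4 := (cancel_epi eG.hom).mp h3
  exact (cancel_mono eH.inv).mp h4

theorem sep_obj (h𝒵 : Stk.IsStack J 𝒵) {U W : C} {R : Sieve U} (hR : R ∈ J U) (g : U ⟶ W)
    {a b : 𝒵.obj} (m m' : a ⟶ b) (hm : 𝒵.p.IsHomLift g m) (hm' : 𝒵.p.IsHomLift g m')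
    (hloc : ∀ ⦃V : C⦄ (f : V ⟶ U), R f →
      ∃ (c : 𝒵.obj) (ψ : c ⟶ a), 𝒵.p.IsHomLift f ψ ∧ ψ ≫ m = ψ ≫ m') : m = m' := by
  have hfg := h𝒵.1
  obtain ⟨θ, ⟨hθ1, hθ2⟩, -⟩ := IsFibGrpd.existsUnique 𝒵.p hfg (𝟙 U) g g
    (Category.id_comp _).symm m m'
  have ha : 𝒵.p.obj a = U := IsHomLift.domain_eq 𝒵.p g m
  have hid : 𝒵.p.IsHomLift (𝟙 U) (𝟙 a) := IsHomLift.id ha
  have : θ = 𝟙 a := by
    apply sep_id h𝒵 hR θ (𝟙 a) hθ1 hid
    intro V f hf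
    obtain ⟨c, ψ, hψ, hψm⟩ := hloc f hf
    refine ⟨c, ψ, hψ, ?_⟩
    have h1 : 𝒵.p.IsHomLift f (ψ ≫ θ) := inferInstance
    have h2 : 𝒵.p.IsHomLift f (ψ ≫ 𝟙 a) := inferInstance
    apply IsFibGrpd.ext_of_comp 𝒵.p hfg f m
    rw [Category.assoc, hθ2, Category.assoc, Category.id_comp, hψm]
  rw [← hθ2, this, Category.id_comp]

end General

section MkHom
variable {D : Type*} [Category D] {B : D}

/-- The morphism `Over.mk l₁ ⟶ Over.mk l` of `Over B` given by `g` with `g ≫ l = l₁`. -/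
abbrev mkHom {T' T : D} (g : T' ⟶ T) {l₁ : T' ⟶ B} {l : T ⟶ B} (h : g ≫ l = l₁) :
    Over.mk l₁ ⟶ Over.mk l := Over.homMk g h

@[simp] theorem mkHom_left {T' T : D} (g : T' ⟶ T) {l₁ : T' ⟶ B} {l : T ⟶ B} (h : g ≫ l = l₁) :
    (mkHom g h).left = g := rfl

theorem mkHom_id {T : D} {l : T ⟶ B} (h : 𝟙 T ≫ l = l) : mkHom (𝟙 T) h = 𝟙 (Over.mk l) := by
  apply Over.OverMorphism.ext
  rfl

theorem mkHom_comp {T'' T' T : D} (k : T'' ⟶ T') (g : T' ⟶ T) {l₂ : T'' ⟶ B} {l₁ : T' ⟶ B}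
    {l : T ⟶ B} (h₂ : k ≫ l₁ = l₂) (h₁ : g ≫ l = l₁) :
    mkHom k h₂ ≫ mkHom g h₁ = mkHom (k ≫ g) (by rw [Category.assoc, h₁, h₂]) := by
  apply Over.OverMorphism.ext
  rfl

theorem eqToHom_eq_mkHom {T : D} {l₁ l₂ : T ⟶ B} (h : l₁ = l₂) (h' : Over.mk l₁ = Over.mk l₂) :
    eqToHom h' = mkHom (𝟙 T) (by rw [Category.id_comp, h]) := by
  subst h
  rw [eqToHom_refl]
  exact (mkHom_id _).symm


end MkHom

universe u
variable {S : Scheme.{u}}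

def ZarLE (K : Precoverage Scheme.{u}) (S : Scheme.{u}) : Prop :=
  ∀ (T : Over S) {ι : Type u} (W : ι → Over S) (j : ∀ i, W i ⟶ T),
    (∀ i, IsOpenImmersion (j i).left) → (∀ x : T.left, ∃ i, x ∈ Set.range (j i).left) →
      Sieve.ofArrows W j ∈ QuotSh.J K S T

theorem zarLE_of (K : Precoverage Scheme.{u})
    (hK : ∀ (T : Scheme.{u}) {ι : Type u} (X : ι → Scheme.{u}) (f : ∀ i, X i ⟶ T),
      (∀ i, IsOpenImmersion (f i)) → (∀ x : T, ∃ i, x ∈ Set.range (f i)) →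
        Presieve.ofArrows X f ∈ K T) : ZarLE K S := by
  intro T ι W j hj hcov
  rw [GrothendieckTopology.mem_over_iff, Sieve.overEquiv_ofArrows]
  exact Precoverage.generate_mem_toGrothendieck (hK _ _ _ hj hcov)

theorem zarLE_fppf : ZarLE Scheme.fppfPrecoverage S := by
  apply zarLE_of
  intro T ι X f hf hcov
  show Presieve.ofArrows X f ∈ Scheme.precoverage _ T
  rw [Scheme.ofArrows_mem_precoverage_iff]
  exact ⟨hcov, fun i => by haveI := hf i; exact ⟨inferInstance, inferInstance⟩⟩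

theorem zarLE_etale : ZarLE Scheme.etalePrecoverage S := by
  apply zarLE_of
  intro T ι X f hf hcov
  show Presieve.ofArrows X f ∈ Scheme.precoverage _ T
  rw [Scheme.ofArrows_mem_precoverage_iff]
  exact ⟨hcov, fun i => by haveI := hf i; exact (inferInstance : Etale (f i))⟩


section Desc
open Groth.Agent.Helper2 Groth.Agent.Helper2.StkLib Groth.Agent.Helper2.FibCatLib

variable {𝒵 : AlgSt.Cat S}

theorem map_comm_of_left {B : Over S} (F : FibCat.overCat B ⥤ᵇ 𝒵) {A₁ A₂ A₃ A₄ : Over B}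
    (f : A₁ ⟶ A₂) (g : A₂ ⟶ A₄) (f' : A₁ ⟶ A₃) (g' : A₃ ⟶ A₄)
    (h : f.left ≫ g.left = f'.left ≫ g'.left) : F.map f ≫ F.map g = F.map f' ≫ F.map g' := by
  rw [← CategoryTheory.Functor.map_comp, ← CategoryTheory.Functor.map_comp]
  congr 1
  apply Over.OverMorphism.ext
  exact h

theorem map_comp_of_left {B : Over S} (F : FibCat.overCat B ⥤ᵇ 𝒵) {A₁ A₂ A₃ : Over B}
    (f : A₁ ⟶ A₂) (g : A₂ ⟶ A₃) (k : A₁ ⟶ A₃) (h : f.left ≫ g.left = k.left) :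
    F.map f ≫ F.map g = F.map k := by
  rw [← CategoryTheory.Functor.map_comp]
  congr 1
  apply Over.OverMorphism.ext
  exact h

theorem map_eq_id_of_left {B : Over S} (F : FibCat.overCat B ⥤ᵇ 𝒵) {A : Over B} (f : A ⟶ A)
    (h : f.left = 𝟙 A.left) : F.map f = 𝟙 _ := by
  have : f = 𝟙 A := Over.OverMorphism.ext h
  rw [this, CategoryTheory.Functor.map_id]

theorem isHomLift_map' {B : Over S} (F : FibCat.overCat B ⥤ᵇ 𝒵) {A A' : Over B} (f : A ⟶ A')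
    {g : A.left ⟶ A'.left} (h : f.left = g) : 𝒵.p.IsHomLift g (F.map f) := by
  subst h
  exact isHomLift_map_over B F f

section Thm2
variable {E Y : Over S} (q : E ⟶ Y) {Γ : Type u} [Group Γ] (ρ : Γ →* Aut E)
  (x y : FibCat.overCat Y ⥤ᵇ 𝒵)
  (κ : ∀ {T : Over S} (l : T ⟶ E), x.obj (Over.mk (l ≫ q)) ⟶ y.obj (Over.mk (l ≫ q)))

theorem exists_lift_of_mem {T : Over S} {t : T ⟶ Y}
    (h : (Sieve.generate (Presieve.singleton q)) t) : ∃ l : T ⟶ E, l ≫ q = t := by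
  obtain ⟨_, l, _, ⟨⟩, rfl⟩ := h
  exact ⟨l, rfl⟩

def toMk {A : Over Y} (l : A.left ⟶ E) (h : l ≫ q = A.hom) : A ⟶ Over.mk (l ≫ q) :=
  Over.homMk (𝟙 A.left) (by simp [h])

def ofMk {A : Over Y} (l : A.left ⟶ E) (h : l ≫ q = A.hom) : Over.mk (l ≫ q) ⟶ A :=
  Over.homMk (𝟙 A.left) (by simp [h])

@[simp] theorem toMk_left {A : Over Y} (l : A.left ⟶ E) (h : l ≫ q = A.hom) :
    (toMk q l h).left = 𝟙 A.left := rfl

@[simp] theorem ofMk_left {A : Over Y} (l : A.left ⟶ E) (h : l ≫ q = A.hom) :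
    (ofMk q l h).left = 𝟙 A.left := rfl

/-- The component `κ l` transported to an arbitrary object `A` of `Over Y` with `l ≫ q = A.hom`. -/
def kap {A : Over Y} (l : A.left ⟶ E) (h : l ≫ q = A.hom) : x.obj A ⟶ y.obj A :=
  x.map (toMk q l h) ≫ κ l ≫ y.map (ofMk q l h)

variable {q x y}

theorem kap_congr {A : Over Y} {l₁ l₂ : A.left ⟶ E} (e : l₁ = l₂) (h₁ : l₁ ≫ q = A.hom)
    (h₂ : l₂ ≫ q = A.hom) : kap q x y κ l₁ h₁ = kap q x y κ l₂ h₂ := by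
  subst e
  rfl

theorem kap_self {T : Over S} (l : T ⟶ E) :
    kap q x y κ (A := Over.mk (l ≫ q)) l rfl = κ l := by
  have hx1 : x.map (toMk q (A := Over.mk (l ≫ q)) l rfl) = 𝟙 _ := map_eq_id_of_left x _ rfl
  have hy1 : y.map (ofMk q (A := Over.mk (l ≫ q)) l rfl) = 𝟙 _ := map_eq_id_of_left y _ rfl
  unfold kap
  rw [hx1, hy1, Category.id_comp, Category.comp_id]

theorem kap_lift (hκlift : ∀ {T : Over S} (l : T ⟶ E), 𝒵.p.IsHomLift (𝟙 T) (κ l))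
    {A : Over Y} (l : A.left ⟶ E) (h : l ≫ q = A.hom) :
    𝒵.p.IsHomLift (𝟙 A.left) (kap q x y κ l h) := by
  have h1 := hκlift l
  have h2 : 𝒵.p.IsHomLift (𝟙 A.left) (x.map (toMk q l h)) := isHomLift_map' x (toMk q l h) rfl
  have h3 : 𝒵.p.IsHomLift (𝟙 A.left) (y.map (ofMk q l h)) := isHomLift_map' y (ofMk q l h) rfl
  unfold kap
  infer_instance

theorem kap_nat
    (hκnat : ∀ {T' T : Over S} (g : T' ⟶ T) (l : T ⟶ E),
      x.map (Over.homMk g (Category.assoc _ _ _).symm : Over.mk ((g ≫ l) ≫ q) ⟶ Over.mk (l ≫ q)) ≫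
        κ l = κ (g ≫ l) ≫
          y.map (Over.homMk g (Category.assoc _ _ _).symm :
            Over.mk ((g ≫ l) ≫ q) ⟶ Over.mk (l ≫ q)))
    {A B : Over Y} (f : A ⟶ B) (lB : B.left ⟶ E) (hB : lB ≫ q = B.hom) :
    x.map f ≫ kap q x y κ lB hB =
      kap q x y κ (f.left ≫ lB) (by rw [Category.assoc, hB, Over.w f]) ≫ y.map f := by
  have hA : (f.left ≫ lB) ≫ q = A.hom := by rw [Category.assoc, hB, Over.w f]
  have n1 := hκnat f.left lB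
  have hx : x.map f ≫ x.map (toMk q lB hB) = x.map (toMk q (f.left ≫ lB) hA) ≫
      x.map (mkHom f.left (Category.assoc _ _ _).symm) :=
    map_comm_of_left x _ _ _ _ (by simp)
  have hy : y.map (mkHom f.left (Category.assoc _ _ _).symm) ≫ y.map (ofMk q lB hB) =
      y.map (ofMk q (f.left ≫ lB) hA) ≫ y.map f :=
    map_comm_of_left y _ _ _ _ (by simp)
  unfold kap
  rw [reassoc_of% hx, reassoc_of% n1, hy]
  simp only [Category.assoc]

theorem kap_inv (hρq : ∀ γ, (ρ γ).hom ≫ q = q)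
    (hκinv : ∀ {T : Over S} (l : T ⟶ E) (γ : Γ),
      κ l ≫ y.map (eqToHom (by rw [Category.assoc, hρq]) :
          Over.mk (l ≫ q) ⟶ Over.mk ((l ≫ (ρ γ).hom) ≫ q)) =
        x.map (eqToHom (by rw [Category.assoc, hρq]) :
          Over.mk (l ≫ q) ⟶ Over.mk ((l ≫ (ρ γ).hom) ≫ q)) ≫ κ (l ≫ (ρ γ).hom))
    {A : Over Y} (l : A.left ⟶ E) (h : l ≫ q = A.hom) (γ : Γ) :
    kap q x y κ l h =
      kap q x y κ (l ≫ (ρ γ).hom) (by rw [Category.assoc, hρq, h]) := by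
  have h1 : l ≫ q = (l ≫ (ρ γ).hom) ≫ q := by rw [Category.assoc, hρq]
  have h2 : (l ≫ (ρ γ).hom) ≫ q = A.hom := by rw [Category.assoc, hρq, h]
  have P : 𝟙 A.left ≫ ((l ≫ (ρ γ).hom) ≫ q) = l ≫ q := by rw [Category.id_comp, ← h1]
  have i1 := hκinv l γ
  rw [eqToHom_eq_mkHom h1] at i1
  have hy : y.map (ofMk q l h) = y.map (mkHom (𝟙 A.left) P) ≫ y.map (ofMk q (l ≫ (ρ γ).hom) h2) :=
    (map_comp_of_left y _ _ _ (by simp)).symm
  have hx : x.map (toMk q l h) ≫ x.map (mkHom (𝟙 A.left) P) = x.map (toMk q (l ≫ (ρ γ).hom) h2) :=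
    map_comp_of_left x _ _ _ (by simp)
  unfold kap
  rw [hy, reassoc_of% i1, reassoc_of% hx]

theorem kap_indep (K : Precoverage Scheme.{u}) (h𝒵 : Stk.IsStack (QuotSh.J K S) 𝒵) (hZ : ZarLE K S)
    (hρq : ∀ γ, (ρ γ).hom ≫ q = q)
    (heff : ∀ {T : Over S} (l l' : T ⟶ E), l ≫ q = l' ≫ q →
      ∃ (W : Γ → Over S) (j : ∀ γ, W γ ⟶ T), (∀ γ, IsOpenImmersion (j γ).left) ∧
        (∀ x : T.left, ∃ γ, x ∈ Set.range (j γ).left) ∧
        ∀ γ, j γ ≫ l' = (j γ ≫ l) ≫ (ρ γ).hom)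
    (hκlift : ∀ {T : Over S} (l : T ⟶ E), 𝒵.p.IsHomLift (𝟙 T) (κ l))
    (hκnat : ∀ {T' T : Over S} (g : T' ⟶ T) (l : T ⟶ E),
      x.map (Over.homMk g (Category.assoc _ _ _).symm : Over.mk ((g ≫ l) ≫ q) ⟶ Over.mk (l ≫ q)) ≫
        κ l = κ (g ≫ l) ≫
          y.map (Over.homMk g (Category.assoc _ _ _).symm :
            Over.mk ((g ≫ l) ≫ q) ⟶ Over.mk (l ≫ q)))
    (hκinv : ∀ {T : Over S} (l : T ⟶ E) (γ : Γ),
      κ l ≫ y.map (eqToHom (by rw [Category.assoc, hρq]) :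
          Over.mk (l ≫ q) ⟶ Over.mk ((l ≫ (ρ γ).hom) ≫ q)) =
        x.map (eqToHom (by rw [Category.assoc, hρq]) :
          Over.mk (l ≫ q) ⟶ Over.mk ((l ≫ (ρ γ).hom) ≫ q)) ≫ κ (l ≫ (ρ γ).hom))
    {A : Over Y} (l l' : A.left ⟶ E) (h : l ≫ q = A.hom) (h' : l' ≫ q = A.hom) :
    kap q x y κ l h = kap q x y κ l' h' := by
  obtain ⟨W, j, hopen, hcov, hj⟩ := heff l l' (h.trans h'.symm)
  have hcovJ := hZ A.left W j hopen hcov
  have hk1 := kap_lift κ (@hκlift) l h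
  have hk2 := kap_lift κ (@hκlift) l' h'
  refine sep_obj h𝒵 hcovJ (𝟙 A.left) _ _ hk1 hk2 ?_
  intro V f hf
  obtain ⟨γ, e1⟩ : ∃ γ : Γ, (f ≫ l) ≫ (ρ γ).hom = f ≫ l' := by
    obtain ⟨_, u, _, ⟨γ⟩, rfl⟩ := hf
    refine ⟨γ, ?_⟩
    have hj' := hj γ
    simp only [Category.assoc] at hj' ⊢
    rw [hj']
  refine ⟨x.obj (Over.mk (f ≫ A.hom)), x.map (Over.homMk f rfl : Over.mk (f ≫ A.hom) ⟶ A),
    isHomLift_map' x (Over.homMk f rfl : Over.mk (f ≫ A.hom) ⟶ A) rfl, ?_⟩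
  have n1 := kap_nat κ (@hκnat) (Over.homMk f rfl : Over.mk (f ≫ A.hom) ⟶ A) l h
  have n2 := kap_nat κ (@hκnat) (Over.homMk f rfl : Over.mk (f ≫ A.hom) ⟶ A) l' h'
  rw [n1, n2]
  congr 1
  have hA1 : (f ≫ l) ≫ q = (Over.mk (f ≫ A.hom)).hom := by
    rw [Category.assoc, h]; rfl
  have i1 := kap_inv ρ κ hρq (@hκinv) (A := Over.mk (f ≫ A.hom)) (f ≫ l) hA1 γ
  refine Eq.trans ?_ (i1.trans ?_)
  · exact kap_congr κ rfl _ _
  · exact kap_congr κ e1 _ _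

end Thm2

section Main2
variable (K : Precoverage Scheme.{u}) {E Y : Over S} (q : E ⟶ Y) {Γ : Type u} [Group Γ] [Finite Γ]
  (ρ : Γ →* Aut E)

/-- **Descent of morphisms along a finite free quotient.** -/
theorem exists_nat_of_invariant (h𝒵 : Stk.IsStack (QuotSh.J K S) 𝒵) (hZ : ZarLE K S)
    (hq : Sieve.generate (Presieve.singleton q) ∈ QuotSh.J K S Y)
    (hρq : ∀ γ, (ρ γ).hom ≫ q = q)
    (heff : ∀ {T : Over S} (l l' : T ⟶ E), l ≫ q = l' ≫ q →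
      ∃ (W : Γ → Over S) (j : ∀ γ, W γ ⟶ T), (∀ γ, IsOpenImmersion (j γ).left) ∧
        (∀ x : T.left, ∃ γ, x ∈ Set.range (j γ).left) ∧
        ∀ γ, j γ ≫ l' = (j γ ≫ l) ≫ (ρ γ).hom)
    (x y : FibCat.overCat Y ⥤ᵇ 𝒵)
    (κ : ∀ {T : Over S} (l : T ⟶ E), x.obj (Over.mk (l ≫ q)) ⟶ y.obj (Over.mk (l ≫ q)))
    (hκlift : ∀ {T : Over S} (l : T ⟶ E), 𝒵.p.IsHomLift (𝟙 T) (κ l))
    (hκnat : ∀ {T' T : Over S} (g : T' ⟶ T) (l : T ⟶ E),
      x.map (Over.homMk g (Category.assoc _ _ _).symm : Over.mk ((g ≫ l) ≫ q) ⟶ Over.mk (l ≫ q)) ≫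
        κ l = κ (g ≫ l) ≫
          y.map (Over.homMk g (Category.assoc _ _ _).symm :
            Over.mk ((g ≫ l) ≫ q) ⟶ Over.mk (l ≫ q)))
    (hκinv : ∀ {T : Over S} (l : T ⟶ E) (γ : Γ),
      κ l ≫ y.map (eqToHom (by rw [Category.assoc, hρq]) :
          Over.mk (l ≫ q) ⟶ Over.mk ((l ≫ (ρ γ).hom) ≫ q)) =
        x.map (eqToHom (by rw [Category.assoc, hρq]) :
          Over.mk (l ≫ q) ⟶ Over.mk ((l ≫ (ρ γ).hom) ≫ q)) ≫ κ (l ≫ (ρ γ).hom)) :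
    ∃ κ₀ : x ⟶ y, ∀ {T : Over S} (l : T ⟶ E), κ₀.toNatTrans.app (Over.mk (l ≫ q)) = κ l := by
  have hl : ∀ (A : Over Y), (Sieve.generate (Presieve.singleton q)) A.hom →
      ∃ l : A.left ⟶ E, l ≫ q = A.hom := fun A hA => exists_lift_of_mem q hA
  choose lA hlA using hl
  have hind : ∀ {A : Over Y} (l l' : A.left ⟶ E) (h : l ≫ q = A.hom) (h' : l' ≫ q = A.hom),
      kap q x y κ l h = kap q x y κ l' h' :=
    fun l l' h h' => kap_indep ρ κ K h𝒵 hZ hρq (@heff) (@hκlift) (@hκnat) (@hκinv) l l' h h'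
  obtain ⟨κ₀, hκ₀⟩ := exists_nat_of_sieve h𝒵 hq (G := x) (H := y)
    (fun A hA => kap q x y κ (lA A hA) (hlA A hA))
    (fun A hA => kap_lift κ (@hκlift) _ _)
    (fun A B f hA hB => by
      rw [kap_nat κ (@hκnat) f (lA B hB) (hlA B hB)]
      congr 1
      exact hind _ _ _ _)
  refine ⟨κ₀, fun {T} l => ?_⟩
  have hmem : (Sieve.generate (Presieve.singleton q)) (Over.mk (l ≫ q)).hom :=
    ⟨E, l, q, ⟨⟩, rfl⟩
  rw [hκ₀ (Over.mk (l ≫ q)) hmem, hind (A := Over.mk (l ≫ q)) (lA _ hmem) l (hlA _ hmem) rfl]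
  exact kap_self κ l

end Main2

end Desc

end Groth.Agent.TorsDescSpec
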