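import Mathlib
import Groth.Prelude
import Groth.Agent.Lib.Helper8.Refl3

/-!
# The transpose of a presentation of a locally projective module has locally projective cokernel
-/

set_option autoImplicit false
universe u

namespace Groth.Agent.Helper8.Transp

section alg

variable {R : Type u} [CommRing R] {X Y P U V C : Type u}
  [AddCommGroup X] [Module R X] [AddCommGroup Y] [Module R Y] [AddCommGroup P] [Module R P]
  [AddCommGroup U] [Module R U] [AddCommGroup V] [Module R V] [AddCommGroup C] [Module R C]

/-- A presentation map of a projective module by a projective module has a generalized inverse. -/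
theorem exists_generalized_inverse [Module.Projective R P] [Module.Projective R Y]
    (ρ : X →ₗ[R] Y) (π : Y →ₗ[R] P) (hex : Function.Exact ρ π) (hπ : Function.Surjective π) :
    ∃ σ : Y →ₗ[R] X, ρ ∘ₗ σ ∘ₗ ρ = ρ := by
  obtain ⟨s, hs⟩ := Module.projective_lifting_property π LinearMap.id hπ
  let r : Y →ₗ[R] Y := LinearMap.id - s ∘ₗ π
  have hr : ∀ y, r y ∈ LinearMap.range ρ := by
    intro y
    apply (hex (r y)).mp
    change π (y - s (π y)) = 0
    rw [map_sub]
    have : π (s (π y)) = π y := LinearMap.congr_fun hs (π y)
    rw [this, sub_self]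
  obtain ⟨σ, hσ⟩ := Module.projective_lifting_property ρ.rangeRestrict
    (r.codRestrict (LinearMap.range ρ) hr) ρ.surjective_rangeRestrict
  refine ⟨σ, ?_⟩
  ext x
  have h1 : ρ (σ (ρ x)) = r (ρ x) := by
    have := LinearMap.congr_fun hσ (ρ x)
    exact congrArg Subtype.val this
  change ρ (σ (ρ x)) = ρ x
  rw [h1]
  change ρ x - s (π (ρ x)) = ρ x
  rw [hex.apply_apply_eq_zero, map_zero, sub_zero]

/-- The cokernel of a map with a generalized inverse is a retract of the target. -/
theorem projective_of_exact_of_generalized_inverse [Module.Projective R V]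
    (α : U →ₗ[R] V) (q : V →ₗ[R] C) (hex : Function.Exact α q) (hq : Function.Surjective q)
    (τ : V →ₗ[R] U) (hτ : α ∘ₗ τ ∘ₗ α = α) : Module.Projective R C := by
  let e : V →ₗ[R] V := LinearMap.id - α ∘ₗ τ
  have hker : LinearMap.ker q ≤ LinearMap.ker e := by
    intro v hv
    rw [LinearMap.mem_ker] at hv
    obtain ⟨w, rfl⟩ := (hex v).mp hv
    rw [LinearMap.mem_ker]
    change α w - α (τ (α w)) = 0
    have := LinearMap.congr_fun hτ w
    change α (τ (α w)) = α w at this
    rw [this, sub_self]
  let i : C →ₗ[R] V :=
    (Submodule.liftQ (LinearMap.ker q) e hker) ∘ₗ (q.quotKerEquivOfSurjective hq).symm.toLinearMap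
  have hi : q ∘ₗ i = LinearMap.id := by
    ext c
    obtain ⟨v, rfl⟩ := hq c
    have h1 : (q.quotKerEquivOfSurjective hq).symm (q v) = Submodule.Quotient.mk v := by
      rw [LinearEquiv.symm_apply_eq]
      rfl
    change q (Submodule.liftQ (LinearMap.ker q) e hker
      ((q.quotKerEquivOfSurjective hq).symm (q v))) = q v
    rw [h1, Submodule.liftQ_apply]
    change q (v - α (τ v)) = q v
    rw [map_sub, hex.apply_apply_eq_zero, sub_zero]
  exact Module.Projective.of_split i q hi

end alg

section loc

open Groth.Agent.Helper8.Refl

variable {B : Type u} [CommRing B] [IsNoetherianRing B] (S : Submonoid B)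
  {X Y P : Type u} [AddCommGroup X] [Module B X] [Module.Finite B X] [Module.Free B X]
  [AddCommGroup Y] [Module B Y] [Module.Finite B Y] [Module.Free B Y]
  [AddCommGroup P] [Module B P]
  (ρ : X →ₗ[B] Y) (π : Y →ₗ[B] P)

/-- Localization of duals is compatible with transposition. -/
theorem dualLoc_dualMap (φ : Module.Dual B Y) :
    dualLoc S X (ρ.dualMap φ) = (LocalizedModule.map S ρ).dualMap (dualLoc S Y φ) := by
  apply LinearMap.restrictScalars_injective B
  apply IsLocalizedModule.linearMap_ext S (LocalizedModule.mkLinearMap S X)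
    (Algebra.linearMap B (Localization S))
  ext x
  simp only [LinearMap.coe_comp, LinearMap.coe_restrictScalars, Function.comp_apply]
  rw [dualLoc_apply, LinearMap.dualMap_apply, LinearMap.dualMap_apply,
    LocalizedModule.mkLinearMap_apply, LocalizedModule.map_mk, ← LocalizedModule.mkLinearMap_apply,
    dualLoc_apply]

/-- If `P` is locally projective, the cokernel of the transpose of a finite free presentation of
`P` is locally projective. -/
theorem projective_localizedModule_coker_dualMap (hex : Function.Exact ρ π)
    (hπ : Function.Surjective π)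
    [Module.Projective (Localization S) (LocalizedModule S P)] :
    Module.Projective (Localization S)
      (LocalizedModule S (Module.Dual B X ⧸ LinearMap.range ρ.dualMap)) := by
  haveI : Module.Free (Localization S) (LocalizedModule S Y) :=
    Module.free_of_isLocalizedModule S (LocalizedModule.mkLinearMap S Y)
  haveI : Module.Free (Localization S) (LocalizedModule S X) :=
    Module.free_of_isLocalizedModule S (LocalizedModule.mkLinearMap S X)
  haveI : Module.Finite (Localization S) (LocalizedModule S X) :=
    Module.Finite.of_isLocalizedModule S (LocalizedModule.mkLinearMap S X)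
  obtain ⟨σ, hσ⟩ := exists_generalized_inverse (LocalizedModule.map S ρ)
    (LocalizedModule.map S π) (LocalizedModule.map_exact S ρ π hex)
    (LocalizedModule.map_surjective S π hπ)
  let qC : Module.Dual B X →ₗ[B] (Module.Dual B X ⧸ LinearMap.range ρ.dualMap) :=
    (LinearMap.range ρ.dualMap).mkQ
  let q : Module.Dual (Localization S) (LocalizedModule S X) →ₗ[Localization S]
      LocalizedModule S (Module.Dual B X ⧸ LinearMap.range ρ.dualMap) :=
    IsLocalizedModule.mapExtendScalars S (dualLoc S X)
      (LocalizedModule.mkLinearMap S (Module.Dual B X ⧸ LinearMap.range ρ.dualMap))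
      (Localization S) qC
  have hqapp : ∀ ψ, q ψ = IsLocalizedModule.map S (dualLoc S X)
      (LocalizedModule.mkLinearMap S (Module.Dual B X ⧸ LinearMap.range ρ.dualMap)) qC ψ :=
    fun ψ => IsLocalizedModule.mapExtendScalars_apply_apply S _ _ _ qC ψ
  have hq : Function.Surjective q := by
    intro c
    obtain ⟨z, hz⟩ := IsLocalizedModule.map_surjective S (dualLoc S X)
      (LocalizedModule.mkLinearMap S (Module.Dual B X ⧸ LinearMap.range ρ.dualMap)) qC
      (Submodule.mkQ_surjective _) c
    exact ⟨z, by rw [hqapp]; exact hz⟩
  have h2 : IsLocalizedModule.map S (dualLoc S Y) (dualLoc S X) ρ.dualMap =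
      ((LocalizedModule.map S ρ).dualMap).restrictScalars B := by
    apply IsLocalizedModule.linearMap_ext S (dualLoc S Y) (dualLoc S X)
    ext φ : 1
    simp only [LinearMap.comp_apply]
    rw [IsLocalizedModule.map_apply, LinearMap.restrictScalars_apply, dualLoc_dualMap]
  have hexq : Function.Exact (LocalizedModule.map S ρ).dualMap q := by
    have h1 := IsLocalizedModule.map_exact S (dualLoc S Y) (dualLoc S X)
      (LocalizedModule.mkLinearMap S (Module.Dual B X ⧸ LinearMap.range ρ.dualMap)) ρ.dualMap qC
      (LinearMap.exact_map_mkQ_range ρ.dualMap)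
    intro ψ
    rw [hqapp, h1 ψ, h2]
    rfl
  have hτ : (LocalizedModule.map S ρ).dualMap ∘ₗ σ.dualMap ∘ₗ (LocalizedModule.map S ρ).dualMap =
      (LocalizedModule.map S ρ).dualMap := by
    rw [LinearMap.dualMap_comp_dualMap, LinearMap.dualMap_comp_dualMap, LinearMap.comp_assoc, hσ]
  exact projective_of_exact_of_generalized_inverse _ q hexq hq σ.dualMap hτ

end loc

end Groth.Agent.Helper8.Transp
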