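import Mathlib
import Groth.Prelude
import Groth.Agent.Lib.Helper8.Transp1

/-!
# A reflexive module is the kernel of a map of finite free modules whose cokernel is locally
projective wherever the dual is
-/

set_option autoImplicit false
universe u

namespace Groth.Agent.Helper8.Transp

open Groth.Agent.Helper8.Refl

variable {A : Type u} [CommRing A] [IsNoetherianRing A]

/-- The dual of a finite module over a Noetherian ring is the kernel of the transpose of a finite
free presentation; the cokernel of the transpose is locally projective wherever the module is. -/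
theorem exists_ker_equiv_dual_and_coker (P : Type u) [AddCommGroup P] [Module A P]
    [Module.Finite A P] :
    ∃ (n m : ℕ) (u : (Fin n → A) →ₗ[A] (Fin (m + 1) → A)),
      Nonempty (Module.Dual A P ≃ₗ[A] LinearMap.ker u) ∧
      ∀ S : Submonoid A, Module.Projective (Localization S) (LocalizedModule S P) →
        Module.Projective (Localization S)
          (LocalizedModule S ((Fin (m + 1) → A) ⧸ LinearMap.range u)) := by
  obtain ⟨n, π, hπ⟩ := Module.Finite.exists_fin' A P
  obtain ⟨m, ρ', hρ'⟩ := Module.Finite.exists_fin' A (LinearMap.ker π)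
  let pad : (Fin (m + 1) → A) →ₗ[A] (Fin m → A) := LinearMap.funLeft A A Fin.castSucc
  have hpad : Function.Surjective pad :=
    LinearMap.funLeft_surjective_of_injective A A _ (Fin.castSucc_injective m)
  let ρ : (Fin (m + 1) → A) →ₗ[A] (Fin n → A) := (LinearMap.ker π).subtype ∘ₗ ρ' ∘ₗ pad
  have hρ : LinearMap.range ρ = LinearMap.ker π := by
    rw [LinearMap.range_comp, LinearMap.range_comp, LinearMap.range_eq_top.mpr hpad,
      Submodule.map_top, LinearMap.range_eq_top.mpr hρ', Submodule.map_top,
      Submodule.range_subtype]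
  have hex : Function.Exact ρ π := by
    intro y
    rw [← LinearMap.mem_ker, ← hρ]
    rfl
  have hπρ : π ∘ₗ ρ = 0 := hex.linearMap_comp_eq_zero
  let en : (Fin n → A) ≃ₗ[A] Module.Dual A (Fin n → A) := (Pi.basisFun A (Fin n)).toDualEquiv
  let em : (Fin (m + 1) → A) ≃ₗ[A] Module.Dual A (Fin (m + 1) → A) :=
    (Pi.basisFun A (Fin (m + 1))).toDualEquiv
  let u : (Fin n → A) →ₗ[A] (Fin (m + 1) → A) :=
    em.symm.toLinearMap ∘ₗ ρ.dualMap ∘ₗ en.toLinearMap
  let Θ : Module.Dual A P →ₗ[A] (Fin n → A) := en.symm.toLinearMap ∘ₗ π.dualMap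
  have hΘ : ∀ φ, Θ φ ∈ LinearMap.ker u := by
    intro φ
    rw [LinearMap.mem_ker]
    change em.symm (ρ.dualMap (en (en.symm (π.dualMap φ)))) = 0
    rw [LinearEquiv.apply_symm_apply]
    have : ρ.dualMap (π.dualMap φ) = 0 := by
      have h3 : ρ.dualMap ∘ₗ π.dualMap = (π ∘ₗ ρ).dualMap := (LinearMap.dualMap_comp_dualMap ρ π)
      have h4 : (ρ.dualMap ∘ₗ π.dualMap) φ = 0 := by
        rw [h3, hπρ]
        ext x
        simp [LinearMap.dualMap_apply]
      exact h4
    rw [this, map_zero]
  let Θ' : Module.Dual A P →ₗ[A] LinearMap.ker u := Θ.codRestrict _ hΘ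
  refine ⟨n, m, u, ⟨LinearEquiv.ofBijective Θ' ⟨?_, ?_⟩⟩, ?_⟩
  · intro φ ψ h
    have h1 : Θ φ = Θ ψ := congrArg Subtype.val h
    have h2 : π.dualMap φ = π.dualMap ψ := en.symm.injective h1
    exact LinearMap.dualMap_injective_of_surjective hπ h2
  · rintro ⟨a, ha⟩
    rw [LinearMap.mem_ker] at ha
    have h1 : ρ.dualMap (en a) = 0 := by
      have : em.symm (ρ.dualMap (en a)) = 0 := ha
      exact em.symm.map_eq_zero_iff.mp this
    have h2 : en a ∈ LinearMap.range π.dualMap := by
      rw [LinearMap.range_dualMap_eq_dualAnnihilator_ker_of_surjective π hπ, ← hρ,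
        ← LinearMap.ker_dualMap_eq_dualAnnihilator_range]
      exact h1
    obtain ⟨φ, hφ⟩ := h2
    refine ⟨φ, Subtype.ext ?_⟩
    change en.symm (π.dualMap φ) = a
    rw [hφ, LinearEquiv.symm_apply_apply]
  · intro S hS
    haveI := hS
    have hC := projective_localizedModule_coker_dualMap S ρ π hex hπ
    have hmap : Submodule.map em.toLinearMap (LinearMap.range u) = LinearMap.range ρ.dualMap := by
      ext ψ
      constructor
      · rintro ⟨_, ⟨a, rfl⟩, rfl⟩
        change em (em.symm (ρ.dualMap (en a))) ∈ _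
        rw [LinearEquiv.apply_symm_apply]
        exact ⟨_, rfl⟩
      · rintro ⟨φ, rfl⟩
        refine ⟨em.symm (ρ.dualMap φ), ⟨en.symm φ, ?_⟩, ?_⟩
        · change em.symm (ρ.dualMap (en (en.symm φ))) = _
          rw [LinearEquiv.apply_symm_apply]
        · exact em.apply_symm_apply _
    let e : ((Fin (m + 1) → A) ⧸ LinearMap.range u) ≃ₗ[A]
        (Module.Dual A (Fin (m + 1) → A) ⧸ LinearMap.range ρ.dualMap) :=
      Submodule.Quotient.equiv _ _ em hmap
    exact Module.Projective.of_equiv (locEquiv S e).symm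

end Groth.Agent.Helper8.Transp
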