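import Mathlib

/-!
# Scalar algebra for tritangent planes: symmetric 3 × 3 determinants
-/

namespace Groth.Agent.Lib.Helper8.TriA

open Polynomial

universe u

section det3

variable {R : Type u} [CommRing R]

/-- determinant of a symmetric 3 × 3 matrix -/
def det3 (m11 m12 m13 m22 m23 m33 : R) : R :=
  m11 * (m22 * m33 - m23 * m23) - m12 * (m12 * m33 - m23 * m13) + m13 * (m12 * m23 - m22 * m13)

/-- trace of `adj(M) * D` for symmetric `M`, `D` -/
def trAdj (m11 m12 m13 m22 m23 m33 d11 d12 d13 d22 d23 d33 : R) : R :=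
  d11 * (m22 * m33 - m23 * m23) + d22 * (m11 * m33 - m13 * m13) + d33 * (m11 * m22 - m12 * m12)
    + 2 * d12 * (m13 * m23 - m12 * m33) + 2 * d13 * (m12 * m23 - m13 * m22)
    + 2 * d23 * (m12 * m13 - m11 * m23)

end det3

variable {K : Type u} [Field K]

theorem eval_det3 (μ : K) (p11 p12 p13 p22 p23 p33 : K[X]) :
    eval μ (det3 p11 p12 p13 p22 p23 p33) = det3 (eval μ p11) (eval μ p12) (eval μ p13)
      (eval μ p22) (eval μ p23) (eval μ p33) := by
  unfold det3
  simp only [eval_add, eval_sub, eval_mul]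

theorem coeff_one_det3 (p11 p12 p13 p22 p23 p33 : K[X]) :
    (det3 p11 p12 p13 p22 p23 p33).coeff 1 =
      trAdj (p11.coeff 0) (p12.coeff 0) (p13.coeff 0) (p22.coeff 0) (p23.coeff 0) (p33.coeff 0)
        (p11.coeff 1) (p12.coeff 1) (p13.coeff 1) (p22.coeff 1) (p23.coeff 1) (p33.coeff 1) := by
  unfold det3 trAdj
  simp only [coeff_add, coeff_sub, mul_coeff_one, mul_coeff_zero]
  ring

theorem coeff_mul3 {f g h : K[X]} {a b c : ℕ} (hf : f.natDegree ≤ a) (hg : g.natDegree ≤ b)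
    (hh : h.natDegree ≤ c) :
    (f * (g * h)).coeff (a + (b + c)) = f.coeff a * (g.coeff b * h.coeff c) := by
  rw [coeff_mul_add_eq_of_natDegree_le hf (natDegree_mul_le_of_le hg hh),
    coeff_mul_add_eq_of_natDegree_le hg hh]

theorem coeff_five_det3 (p11 p12 p13 p22 p23 p33 : K[X]) (h11 : p11.natDegree ≤ 1)
    (h12 : p12.natDegree ≤ 1) (h22 : p22.natDegree ≤ 1) (h13 : p13.natDegree ≤ 2)
    (h23 : p23.natDegree ≤ 2) (h33 : p33.natDegree ≤ 3) :
    (det3 p11 p12 p13 p22 p23 p33).coeff 5 =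
      det3 (p11.coeff 1) (p12.coeff 1) (p13.coeff 2) (p22.coeff 1) (p23.coeff 2)
        (p33.coeff 3) := by
  have e : det3 p11 p12 p13 p22 p23 p33 = p11 * (p22 * p33) - p11 * (p23 * p23)
      - p12 * (p12 * p33) + p12 * (p23 * p13) + p13 * (p12 * p23) - p13 * (p22 * p13) := by
    unfold det3; ring
  have c1 : (p11 * (p22 * p33)).coeff 5 = p11.coeff 1 * (p22.coeff 1 * p33.coeff 3) :=
    coeff_mul3 h11 h22 h33
  have c2 : (p11 * (p23 * p23)).coeff 5 = p11.coeff 1 * (p23.coeff 2 * p23.coeff 2) :=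
    coeff_mul3 h11 h23 h23
  have c3 : (p12 * (p12 * p33)).coeff 5 = p12.coeff 1 * (p12.coeff 1 * p33.coeff 3) :=
    coeff_mul3 h12 h12 h33
  have c4 : (p12 * (p23 * p13)).coeff 5 = p12.coeff 1 * (p23.coeff 2 * p13.coeff 2) :=
    coeff_mul3 h12 h23 h13
  have c5 : (p13 * (p12 * p23)).coeff 5 = p13.coeff 2 * (p12.coeff 1 * p23.coeff 2) :=
    coeff_mul3 h13 h12 h23
  have c6 : (p13 * (p22 * p13)).coeff 5 = p13.coeff 2 * (p22.coeff 1 * p13.coeff 2) :=
    coeff_mul3 h13 h22 h13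
  rw [e]
  simp only [coeff_add, coeff_sub]
  rw [c1, c2, c3, c4, c5, c6]
  unfold det3
  ring

/-! ### binary quadratic forms -/

theorem ker2 (A B C : K) (h : A * C - B * B = 0) :
    ∃ β γ : K, (β ≠ 0 ∨ γ ≠ 0) ∧ A * β + B * γ = 0 ∧ B * β + C * γ = 0 := by
  by_cases hAB : A = 0 ∧ B = 0
  · exact ⟨1, 0, Or.inl one_ne_zero, by rw [hAB.1]; ring, by rw [hAB.2]; ring⟩
  · refine ⟨B, -A, ?_, by ring, by linear_combination -h⟩
    by_contra hcon
    push_neg at hcon
    exact hAB ⟨neg_eq_zero.mp hcon.2, hcon.1⟩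

theorem binzero2 [IsAlgClosed K] [CharZero K] (A B C : K) (h : A * C - B * B ≠ 0) :
    ∃ β₁ γ₁ β₂ γ₂ : K, A * β₁ ^ 2 + 2 * B * β₁ * γ₁ + C * γ₁ ^ 2 = 0 ∧
      A * β₂ ^ 2 + 2 * B * β₂ * γ₂ + C * γ₂ ^ 2 = 0 ∧ β₁ * γ₂ - β₂ * γ₁ ≠ 0 := by
  obtain ⟨z, hz⟩ := IsAlgClosed.exists_eq_mul_self (B * B - A * C)
  have hz0 : z ≠ 0 := by
    intro hz0
    apply h
    rw [hz0] at hz
    linear_combination -hz
  by_cases hC : C = 0
  · have hB : B ≠ 0 := by
      intro hB
      apply h; rw [hC, hB]; ring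
    refine ⟨0, 1, 2 * B, -A, by rw [hC]; ring, by rw [hC]; ring, ?_⟩
    have e : (0 : K) * -A - 2 * B * 1 = -(2 * B) := by ring
    rw [e]
    exact neg_ne_zero.mpr (mul_ne_zero two_ne_zero hB)
  · refine ⟨C, -B + z, C, -B - z, by linear_combination (-C) * hz,
      by linear_combination (-C) * hz, ?_⟩
    have e : C * (-B - z) - C * (-B + z) = -(2 * C * z) := by ring
    rw [e]
    exact neg_ne_zero.mpr (mul_ne_zero (mul_ne_zero two_ne_zero hC) hz0)

/-! ### vertices of a singular conic -/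

theorem second_vtx (m11 m12 m13 m22 m23 v1 v2 v3 : K)
    (h1 : m11 * v1 + m12 * v2 + m13 * v3 = 0) (h2 : m12 * v1 + m22 * v2 + m23 * v3 = 0)
    (hv3 : v3 ≠ 0) (hadj : m11 * m22 - m12 * m12 = 0) :
    ∃ α β : K, (α ≠ 0 ∨ β ≠ 0) ∧ m11 * α + m12 * β = 0 ∧ m12 * α + m22 * β = 0 ∧
      m13 * α + m23 * β = 0 := by
  obtain ⟨α, β, hne, k1, k2⟩ := ker2 m11 m12 m22 hadj
  refine ⟨α, β, hne, k1, k2, ?_⟩
  have h : v3 * (m13 * α + m23 * β) = 0 := by
    linear_combination α * h1 + β * h2 - v1 * k1 - v2 * k2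
  rcases mul_eq_zero.mp h with h' | h'
  · exact absurd h' hv3
  · exact h'

theorem adj3 (m11 m12 m13 m22 m23 m33 d11 d12 d13 d22 d23 d33 v1 v2 v3 : K)
    (h1 : m11 * v1 + m12 * v2 + m13 * v3 = 0) (h2 : m12 * v1 + m22 * v2 + m23 * v3 = 0)
    (h3 : m13 * v1 + m23 * v2 + m33 * v3 = 0) (hv3 : v3 ≠ 0) :
    v3 ^ 2 * trAdj m11 m12 m13 m22 m23 m33 d11 d12 d13 d22 d23 d33
      = (m11 * m22 - m12 * m12) * (d11 * v1 ^ 2 + d22 * v2 ^ 2 + d33 * v3 ^ 2
          + 2 * d12 * v1 * v2 + 2 * d13 * v1 * v3 + 2 * d23 * v2 * v3) := by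
  have e13 : m13 = -(m11 * v1 + m12 * v2) / v3 := by
    rw [eq_div_iff hv3]; linear_combination h1
  have e23 : m23 = -(m12 * v1 + m22 * v2) / v3 := by
    rw [eq_div_iff hv3]; linear_combination h2
  have e33 : m33 = -(m13 * v1 + m23 * v2) / v3 := by
    rw [eq_div_iff hv3]; linear_combination h3
  unfold trAdj
  rw [e33, e13, e23]
  field_simp
  ring

theorem iso_from_line [CharZero K] (c c' Q B Q' : K) (hc : c ≠ 0 ∨ c' ≠ 0) (E1 : c * Q = 0)
    (E2 : c' * Q + 2 * c * B = 0) (E3 : c * Q' + 2 * c' * B = 0) (E4 : c' * Q' = 0) :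
    Q = 0 ∧ B = 0 := by
  rcases hc with hc | hc
  · have hQ : Q = 0 := by
      rcases mul_eq_zero.mp E1 with h | h
      · exact absurd h hc
      · exact h
    rw [hQ] at E2
    have hB : c * B = 0 := by linear_combination (1 / 2 : K) * E2
    rcases mul_eq_zero.mp hB with h | h
    · exact absurd h hc
    · exact ⟨hQ, h⟩
  · have hQ' : Q' = 0 := by
      rcases mul_eq_zero.mp E4 with h | h
      · exact absurd h hc
      · exact h
    rw [hQ'] at E3
    have hB : c' * B = 0 := by linear_combination (1 / 2 : K) * E3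
    have hB0 : B = 0 := by
      rcases mul_eq_zero.mp hB with h | h
      · exact absurd h hc
      · exact h
    rw [hB0] at E2
    have hQ : c' * Q = 0 := by linear_combination E2
    rcases mul_eq_zero.mp hQ with h | h
    · exact absurd h hc
    · exact ⟨h, hB0⟩

/-! ### determinants and kernels -/

theorem det3_zero_iff (m11 m12 m13 m22 m23 m33 : K) :
    det3 m11 m12 m13 m22 m23 m33 = 0 ↔
      ∃ v1 v2 v3 : K, (v1 ≠ 0 ∨ v2 ≠ 0 ∨ v3 ≠ 0) ∧ m11 * v1 + m12 * v2 + m13 * v3 = 0 ∧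
        m12 * v1 + m22 * v2 + m23 * v3 = 0 ∧ m13 * v1 + m23 * v2 + m33 * v3 = 0 := by
  have hdet : (Matrix.of ![![m11, m12, m13], ![m12, m22, m23], ![m13, m23, m33]]).det
      = det3 m11 m12 m13 m22 m23 m33 := by
    rw [Matrix.det_fin_three]
    unfold det3
    simp
    ring
  rw [← hdet, ← Matrix.exists_mulVec_eq_zero_iff]
  constructor
  · rintro ⟨v, hv, hMv⟩
    have q1 := congrFun hMv 0
    have q2 := congrFun hMv 1
    have q3 := congrFun hMv 2
    simp [Matrix.mulVec, dotProduct, Fin.sum_univ_three] at q1 q2 q3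
    refine ⟨v 0, v 1, v 2, ?_, by linear_combination q1, by linear_combination q2,
      by linear_combination q3⟩
    by_contra hcon
    push_neg at hcon
    apply hv
    funext i
    fin_cases i
    · exact hcon.1
    · exact hcon.2.1
    · exact hcon.2.2
  · rintro ⟨v1, v2, v3, hne, h1, h2, h3⟩
    refine ⟨![v1, v2, v3], ?_, ?_⟩
    · intro h0
      have q1 := congrFun h0 0
      have q2 := congrFun h0 1
      have q3 := congrFun h0 2
      simp at q1 q2 q3
      rcases hne with h | h | h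
      · exact h q1
      · exact h q2
      · exact h q3
    · funext i
      fin_cases i
      · simp [Matrix.mulVec, dotProduct, Fin.sum_univ_three]; linear_combination h1
      · simp [Matrix.mulVec, dotProduct, Fin.sum_univ_three]; linear_combination h2
      · simp [Matrix.mulVec, dotProduct, Fin.sum_univ_three]; linear_combination h3

theorem indep3 (a b c a' b' c' a'' b'' c'' p1 p2 p3 : K)
    (hind : ∀ α β γ : K, α * a + β * a' + γ * a'' = 0 → α * b + β * b' + γ * b'' = 0 →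
      α * c + β * c' + γ * c'' = 0 → α = 0 ∧ β = 0 ∧ γ = 0)
    (e1 : p1 * a + p2 * b + p3 * c = 0) (e2 : p1 * a' + p2 * b' + p3 * c' = 0)
    (e3 : p1 * a'' + p2 * b'' + p3 * c'' = 0) : p1 = 0 ∧ p2 = 0 ∧ p3 = 0 := by
  by_contra hp
  have hU : ∃ v : Fin 3 → K, v ≠ 0 ∧
      (Matrix.of ![![a, b, c], ![a', b', c'], ![a'', b'', c'']]).mulVec v = 0 := by
    refine ⟨![p1, p2, p3], ?_, ?_⟩
    · intro h0
      apply hp
      have q1 := congrFun h0 0
      have q2 := congrFun h0 1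
      have q3 := congrFun h0 2
      simp at q1 q2 q3
      exact ⟨q1, q2, q3⟩
    · funext i
      fin_cases i
      · simp [Matrix.mulVec, dotProduct, Fin.sum_univ_three]; linear_combination e1
      · simp [Matrix.mulVec, dotProduct, Fin.sum_univ_three]; linear_combination e2
      · simp [Matrix.mulVec, dotProduct, Fin.sum_univ_three]; linear_combination e3
  have hdet := Matrix.exists_mulVec_eq_zero_iff.mp hU
  have hdetT : (Matrix.of ![![a, b, c], ![a', b', c'], ![a'', b'', c'']]).transpose.det = 0 := by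
    rw [Matrix.det_transpose]; exact hdet
  obtain ⟨g, hg, hUg⟩ := Matrix.exists_mulVec_eq_zero_iff.mpr hdetT
  have g1 := congrFun hUg 0
  have g2 := congrFun hUg 1
  have g3 := congrFun hUg 2
  simp [Matrix.mulVec, dotProduct, Fin.sum_univ_three, Matrix.transpose_apply] at g1 g2 g3
  obtain ⟨z0, z1, z2⟩ := hind (g 0) (g 1) (g 2) (by linear_combination g1)
    (by linear_combination g2) (by linear_combination g3)
  apply hg
  funext i
  fin_cases i
  · exact z0
  · exact z1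
  · exact z2

theorem pivot (α β p x y x' y' : K) (hp : p ≠ 0) (hy : y ≠ 0 ∨ y' ≠ 0) (hαβ : α ≠ 0 ∨ β ≠ 0)
    (e0 : α * p + β * 0 = 0) (e1 : α * x + β * y = 0) (e2 : α * x' + β * y' = 0) : False := by
  have hα : α = 0 := by
    have h : α * p = 0 := by linear_combination e0
    rcases mul_eq_zero.mp h with h' | h'
    · exact h'
    · exact absurd h' hp
  have hβ : β ≠ 0 := by
    rcases hαβ with h | h
    · exact absurd hα h
    · exact h
  rw [hα] at e1 e2
  rcases hy with h | h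
  · have h1 : β * y = 0 := by linear_combination e1
    rcases mul_eq_zero.mp h1 with h' | h'
    · exact hβ h'
    · exact h h'
  · have h1 : β * y' = 0 := by linear_combination e2
    rcases mul_eq_zero.mp h1 with h' | h'
    · exact hβ h'
    · exact h h'

theorem simple_scalar (m11 m12 m13 m22 m23 m33 d11 d12 d13 d22 d23 d33 v1 v2 v3 : K)
    (h1 : m11 * v1 + m12 * v2 + m13 * v3 = 0) (h2 : m12 * v1 + m22 * v2 + m23 * v3 = 0)
    (h3 : m13 * v1 + m23 * v2 + m33 * v3 = 0) (hne : v1 ≠ 0 ∨ v2 ≠ 0 ∨ v3 ≠ 0)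
    (n3 : v3 ≠ 0 → m11 * m22 - m12 * m12 ≠ 0) (n1 : v1 ≠ 0 → m22 * m33 - m23 * m23 ≠ 0)
    (n2 : v2 ≠ 0 → m11 * m33 - m13 * m13 ≠ 0)
    (hN : d11 * v1 ^ 2 + d22 * v2 ^ 2 + d33 * v3 ^ 2 + 2 * d12 * v1 * v2 + 2 * d13 * v1 * v3
      + 2 * d23 * v2 * v3 ≠ 0) :
    trAdj m11 m12 m13 m22 m23 m33 d11 d12 d13 d22 d23 d33 ≠ 0 := by
  intro htr
  rcases hne with ha | hb | hc
  · have key := adj3 m33 m23 m13 m22 m12 m11 d33 d23 d13 d22 d12 d11 v3 v2 v1
      (by linear_combination h3) (by linear_combination h2) (by linear_combination h1) ha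
    have e : (m22 * m33 - m23 * m23) * (d11 * v1 ^ 2 + d22 * v2 ^ 2 + d33 * v3 ^ 2
        + 2 * d12 * v1 * v2 + 2 * d13 * v1 * v3 + 2 * d23 * v2 * v3) = 0 := by
      unfold trAdj at key htr
      linear_combination (-1 : K) * key + v1 ^ 2 * htr
    rcases mul_eq_zero.mp e with h | h
    · exact n1 ha h
    · exact hN h
  · have key := adj3 m11 m13 m12 m33 m23 m22 d11 d13 d12 d33 d23 d22 v1 v3 v2
      (by linear_combination h1) (by linear_combination h3) (by linear_combination h2) hb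
    have e : (m11 * m33 - m13 * m13) * (d11 * v1 ^ 2 + d22 * v2 ^ 2 + d33 * v3 ^ 2
        + 2 * d12 * v1 * v2 + 2 * d13 * v1 * v3 + 2 * d23 * v2 * v3) = 0 := by
      unfold trAdj at key htr
      linear_combination (-1 : K) * key + v2 ^ 2 * htr
    rcases mul_eq_zero.mp e with h | h
    · exact n2 hb h
    · exact hN h
  · have key := adj3 m11 m12 m13 m22 m23 m33 d11 d12 d13 d22 d23 d33 v1 v2 v3 h1 h2 h3 hc
    rw [htr, mul_zero] at key
    rcases mul_eq_zero.mp key.symm with h | h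
    · exact n3 hc h
    · exact hN h

end Groth.Agent.Lib.Helper8.TriA
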