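import Mathlib
import Groth.Agent.Lib.Helper8.ODPd
import Groth.Agent.Lib.Helper8.TriA

/-!
# Tritangent planes through a line of a smooth cubic surface: local theory in a frame
-/

namespace Groth.Agent.Lib.Helper8.TriB

open Groth.Agent.Lib.Helper8.CubLines Groth.Agent.Lib.Helper8.ODPa Groth.Agent.Lib.Helper8.ODPc
  Groth.Agent.Lib.Helper8.ODPd Groth.Agent.Lib.Helper8.TriA

universe u v

variable {K : Type u} [Field K] {V : Type v} [AddCommGroup V] [Module K V]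
variable {T : V → V → V → K}

/-- a tritangent plane through the line `L` -/
def IsTri (T : V → V → V → K) (L H : Submodule K V) : Prop :=
  Module.finrank K H = 3 ∧ L ≤ H ∧
    ∃ L' L'' : Submodule K V, Module.finrank K L' = 2 ∧ Module.finrank K L'' = 2 ∧
      L' ≠ L ∧ L'' ≠ L ∧ L' ≠ L'' ∧ L' ≤ H ∧ L'' ≤ H ∧
      (∀ u ∈ L', T u u u = 0) ∧ (∀ u ∈ L'', T u u u = 0)

/-- a basis `e₁, e₂, w, w'` of the ambient space adapted to the line `⟨e₁, e₂⟩` on the smooth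
cubic `T` -/
structure Frame (T : V → V → V → K) (e₁ e₂ w w' : V) : Prop where
  hT : SymTri T
  hind : ∀ a b s t : K, a • e₁ + b • e₂ + s • w + t • w' = 0 → a = 0 ∧ b = 0 ∧ s = 0 ∧ t = 0
  hspan : ∀ x : V, ∃ a b s t : K, x = a • e₁ + b • e₂ + s • w + t • w'
  h111 : T e₁ e₁ e₁ = 0
  h112 : T e₁ e₁ e₂ = 0
  h122 : T e₁ e₂ e₂ = 0
  h222 : T e₂ e₂ e₂ = 0
  hsm : ∀ v : V, v ≠ 0 → T v v v = 0 → ∃ u, T v v u ≠ 0

/-- the vertex equations of the residual conic in the plane `⟨e₁, e₂, w⟩` -/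
def IsVtx (T : V → V → V → K) (e₁ e₂ w : V) (a b c : K) : Prop :=
  6 * T e₁ e₁ w * a + 6 * T e₁ e₂ w * b + 3 * T e₁ w w * c = 0 ∧
  6 * T e₁ e₂ w * a + 6 * T e₂ e₂ w * b + 3 * T e₂ w w * c = 0 ∧
  3 * T e₁ w w * a + 3 * T e₂ w w * b + 2 * T w w w * c = 0

/-- twice the residual conic -/
def QQ (T : V → V → V → K) (e₁ e₂ w : V) (a b c : K) : K :=
  6 * T e₁ e₁ w * a ^ 2 + 2 * (6 * T e₁ e₂ w) * a * b + 6 * T e₂ e₂ w * b ^ 2
    + 2 * (3 * T e₁ w w) * a * c + 2 * (3 * T e₂ w w) * b * c + 2 * T w w w * c ^ 2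

/-- its polar form -/
def BB (T : V → V → V → K) (e₁ e₂ w : V) (a b c a' b' c' : K) : K :=
  a' * (6 * T e₁ e₁ w * a + 6 * T e₁ e₂ w * b + 3 * T e₁ w w * c)
    + b' * (6 * T e₁ e₂ w * a + 6 * T e₂ e₂ w * b + 3 * T e₂ w w * c)
    + c' * (3 * T e₁ w w * a + 3 * T e₂ w w * b + 2 * T w w w * c)

/-- the discriminant of the residual conic of the plane `⟨e₁, e₂, w⟩` -/
def DD (T : V → V → V → K) (e₁ e₂ w : V) : K :=
  det3 (6 * T e₁ e₁ w) (6 * T e₁ e₂ w) (3 * T e₁ w w) (6 * T e₂ e₂ w) (3 * T e₂ w w)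
    (2 * T w w w)

theorem quad3 (hT : SymTri T) (e₁ e₂ w u : V) (a b c : K) :
    T (a • e₁ + b • e₂ + c • w) (a • e₁ + b • e₂ + c • w) u =
      a ^ 2 * T e₁ e₁ u + 2 * a * b * T e₁ e₂ u + b ^ 2 * T e₂ e₂ u + 2 * a * c * T e₁ w u
        + 2 * b * c * T e₂ w u + c ^ 2 * T w w u := by
  have s21 : T e₂ e₁ u = T e₁ e₂ u := hT.s12 e₂ e₁ u
  have s31 : T w e₁ u = T e₁ w u := hT.s12 w e₁ u
  have s32 : T w e₂ u = T e₂ w u := hT.s12 w e₂ u
  simp only [hT.add₁, hT.add₂, hT.smul₁, hT.smul₂]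
  rw [s21, s31, s32]; ring

theorem li3 (a b c : V)
    (h : ∀ g0 g1 g2 : K, g0 • a + g1 • b + g2 • c = 0 → g0 = 0 ∧ g1 = 0 ∧ g2 = 0) :
    LinearIndependent K ![a, b, c] := by
  rw [Fintype.linearIndependent_iff]
  intro g hg
  rw [Fin.sum_univ_three] at hg
  obtain ⟨h0, h1, h2⟩ := h (g 0) (g 1) (g 2) hg
  intro i
  fin_cases i
  · exact h0
  · exact h1
  · exact h2

theorem finrank_span_triple (a b c : V) (hli : LinearIndependent K ![a, b, c]) :
    Module.finrank K (Submodule.span K ({a, b, c} : Set V)) = 3 := by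
  have hr : Set.range ![a, b, c] = {a, b, c} := by
    refine Set.ext fun y => ⟨?_, ?_⟩
    · rintro ⟨i, rfl⟩
      fin_cases i <;> simp
    · rintro (rfl | rfl | rfl)
      · exact ⟨0, rfl⟩
      · exact ⟨1, rfl⟩
      · exact ⟨2, rfl⟩
  have h := finrank_span_eq_card hli
  rw [Fintype.card_fin, hr] at h
  exact h

section scalar

variable {e₁ e₂ w : V}

theorem vtx_add {a₁ b₁ c₁ a₂ b₂ c₂ : K} (h₁ : IsVtx T e₁ e₂ w a₁ b₁ c₁)
    (h₂ : IsVtx T e₁ e₂ w a₂ b₂ c₂) (α β : K) :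
    IsVtx T e₁ e₂ w (α * a₁ + β * a₂) (α * b₁ + β * b₂) (α * c₁ + β * c₂) := by
  obtain ⟨p1, p2, p3⟩ := h₁
  obtain ⟨q1, q2, q3⟩ := h₂
  refine ⟨?_, ?_, ?_⟩
  · linear_combination α * p1 + β * q1
  · linear_combination α * p2 + β * q2
  · linear_combination α * p3 + β * q3

theorem QQ_of_vtx {a b c : K} (hv : IsVtx T e₁ e₂ w a b c) : QQ T e₁ e₂ w a b c = 0 := by
  obtain ⟨h1, h2, h3⟩ := hv
  unfold QQ
  linear_combination a * h1 + b * h2 + c * h3

theorem BB_of_vtx {a b c : K} (hv : IsVtx T e₁ e₂ w a b c) (a' b' c' : K) :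
    BB T e₁ e₂ w a b c a' b' c' = 0 := by
  obtain ⟨h1, h2, h3⟩ := hv
  unfold BB
  linear_combination a' * h1 + b' * h2 + c' * h3

theorem BB_symm (a b c a' b' c' : K) :
    BB T e₁ e₂ w a b c a' b' c' = BB T e₁ e₂ w a' b' c' a b c := by
  unfold BB; ring

theorem BB_self (a b c : K) : BB T e₁ e₂ w a b c a b c = QQ T e₁ e₂ w a b c := by
  unfold BB QQ; ring

theorem QQ_comb (s r a b c a' b' c' : K) :
    QQ T e₁ e₂ w (s * a + r * a') (s * b + r * b') (s * c + r * c')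
      = s ^ 2 * QQ T e₁ e₂ w a b c + 2 * s * r * BB T e₁ e₂ w a b c a' b' c'
        + r ^ 2 * QQ T e₁ e₂ w a' b' c' := by
  unfold QQ BB; ring

theorem L_le_H : Submodule.span K ({e₁, e₂} : Set V) ≤ Submodule.span K ({e₁, e₂, w} : Set V) := by
  apply Submodule.span_le.mpr
  intro y hy
  rcases hy with h | h
  · rw [h]; exact Submodule.subset_span (by simp)
  · rw [Set.mem_singleton_iff.mp h]; exact Submodule.subset_span (by simp)

theorem mem_L (p q : K) : p • e₁ + q • e₂ ∈ Submodule.span K ({e₁, e₂} : Set V) :=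
  Submodule.add_mem _ (Submodule.smul_mem _ _ (Submodule.subset_span (by simp)))
    (Submodule.smul_mem _ _ (Submodule.subset_span (by simp)))

theorem pair_le_H (a b c a' b' c' : K) :
    Submodule.span K ({a • e₁ + b • e₂ + c • w, a' • e₁ + b' • e₂ + c' • w} : Set V)
      ≤ Submodule.span K ({e₁, e₂, w} : Set V) := by
  apply Submodule.span_le.mpr
  intro y hy
  rcases hy with h | h
  · rw [h]; exact mem_span3 e₁ e₂ w a b c
  · rw [Set.mem_singleton_iff.mp h]; exact mem_span3 e₁ e₂ w a' b' c'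

end scalar

section frame

variable [CharZero K] {e₁ e₂ w w' : V} (F : Frame T e₁ e₂ w w')

include F

theorem coord_zero (p q r : K) (h : p • e₁ + q • e₂ + r • w = 0) : p = 0 ∧ q = 0 ∧ r = 0 := by
  have h' : p • e₁ + q • e₂ + r • w + (0 : K) • w' = 0 := by
    rw [zero_smul, add_zero]; exact h
  obtain ⟨h1, h2, h3, -⟩ := F.hind p q r 0 h'
  exact ⟨h1, h2, h3⟩

theorem coord_eq (p q r p' q' r' : K)
    (h : p • e₁ + q • e₂ + r • w = p' • e₁ + q' • e₂ + r' • w) :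
    p = p' ∧ q = q' ∧ r = r' := by
  have h' : (p - p') • e₁ + (q - q') • e₂ + (r - r') • w = 0 := by
    have e : (p - p') • e₁ + (q - q') • e₂ + (r - r') • w
        = (p • e₁ + q • e₂ + r • w) - (p' • e₁ + q' • e₂ + r' • w) := by module
    rw [e, h, sub_self]
  obtain ⟨h1, h2, h3⟩ := coord_zero F _ _ _ h'
  exact ⟨sub_eq_zero.mp h1, sub_eq_zero.mp h2, sub_eq_zero.mp h3⟩

theorem finrank_H : Module.finrank K (Submodule.span K ({e₁, e₂, w} : Set V)) = 3 :=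
  finrank_span_triple e₁ e₂ w (li3 e₁ e₂ w (fun g0 g1 g2 h => coord_zero F g0 g1 g2 h))

theorem finrank_L : Module.finrank K (Submodule.span K ({e₁, e₂} : Set V)) = 2 := by
  apply finrank_span_pair
  rw [LinearIndependent.pair_iff]
  intro s r hsr
  have e : s • e₁ + r • e₂ + (0 : K) • w = 0 := by rw [zero_smul, add_zero]; exact hsr
  obtain ⟨h1, h2, -⟩ := coord_zero F _ _ _ e
  exact ⟨h1, h2⟩

/-- the main expansion: the cubic along the plane `⟨e₁, e₂, w⟩` -/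
theorem TXX6 (a b c a' b' c' : K) :
    6 * T (a • e₁ + b • e₂ + c • w) (a • e₁ + b • e₂ + c • w) (a' • e₁ + b' • e₂ + c' • w)
      = c' * QQ T e₁ e₂ w a b c + 2 * c * BB T e₁ e₂ w a b c a' b' c' := by
  have k1 : T e₁ e₂ e₁ = 0 := (F.hT.s23 e₁ e₂ e₁).trans F.h112
  have k2 : T e₂ e₂ e₁ = 0 := (F.hT.s13 e₂ e₂ e₁).trans F.h122
  have k3 : T e₁ w e₁ = T e₁ e₁ w := F.hT.s23 e₁ w e₁
  have k4 : T e₁ w e₂ = T e₁ e₂ w := F.hT.s23 e₁ w e₂
  have k5 : T e₂ w e₁ = T e₁ e₂ w := (F.hT.s23 e₂ w e₁).trans (F.hT.s12 e₂ e₁ w)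
  have k6 : T e₂ w e₂ = T e₂ e₂ w := F.hT.s23 e₂ w e₂
  have k7 : T w w e₁ = T e₁ w w := F.hT.s13 w w e₁
  have k8 : T w w e₂ = T e₂ w w := F.hT.s13 w w e₂
  rw [quad3 F.hT]
  simp only [F.hT.add₃, F.hT.smul₃]
  simp only [F.h111, F.h112, k1, F.h122, k2, F.h222, k3, k4, k5, k6, k7, k8]
  unfold QQ BB
  ring

theorem vtx_TXX {a b c : K} (hv : IsVtx T e₁ e₂ w a b c) (a' b' c' : K) :
    T (a • e₁ + b • e₂ + c • w) (a • e₁ + b • e₂ + c • w) (a' • e₁ + b' • e₂ + c' • w) = 0 := by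
  have h := TXX6 F a b c a' b' c'
  rw [QQ_of_vtx hv, BB_of_vtx hv] at h
  have h6 : (6 : K) * T (a • e₁ + b • e₂ + c • w) (a • e₁ + b • e₂ + c • w)
      (a' • e₁ + b' • e₂ + c' • w) = 0 := by rw [h]; ring
  rcases mul_eq_zero.mp h6 with h' | h'
  · norm_num at h'
  · exact h'

theorem iso_self {a b c : K} (hq : QQ T e₁ e₂ w a b c = 0) :
    T (a • e₁ + b • e₂ + c • w) (a • e₁ + b • e₂ + c • w) (a • e₁ + b • e₂ + c • w) = 0 := by
  have h := TXX6 F a b c a b c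
  rw [BB_self, hq] at h
  have h6 : (6 : K) * T (a • e₁ + b • e₂ + c • w) (a • e₁ + b • e₂ + c • w)
      (a • e₁ + b • e₂ + c • w) = 0 := by rw [h]; ring
  rcases mul_eq_zero.mp h6 with h' | h'
  · norm_num at h'
  · exact h'

theorem iso_vtx {a b c a₁ b₁ c₁ : K} (hv : IsVtx T e₁ e₂ w a b c)
    (hq : QQ T e₁ e₂ w a₁ b₁ c₁ = 0) :
    T (a₁ • e₁ + b₁ • e₂ + c₁ • w) (a₁ • e₁ + b₁ • e₂ + c₁ • w) (a • e₁ + b • e₂ + c • w)
      = 0 := by
  have h := TXX6 F a₁ b₁ c₁ a b c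
  rw [BB_symm a₁ b₁ c₁ a b c, BB_of_vtx hv, hq] at h
  have h6 : (6 : K) * T (a₁ • e₁ + b₁ • e₂ + c₁ • w) (a₁ • e₁ + b₁ • e₂ + c₁ • w)
      (a • e₁ + b • e₂ + c • w) = 0 := by rw [h]; ring
  rcases mul_eq_zero.mp h6 with h' | h'
  · norm_num at h'
  · exact h'

/-- no pencil of points of the plane at which the plane section is singular -/
theorem sing_line [IsAlgClosed K] (a₁ b₁ c₁ a₂ b₂ c₂ : K)
    (hne : ∀ α β : K, (α ≠ 0 ∨ β ≠ 0) →
      ¬(α * a₁ + β * a₂ = 0 ∧ α * b₁ + β * b₂ = 0 ∧ α * c₁ + β * c₂ = 0))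
    (hH : ∀ α β a' b' c' : K,
      T ((α * a₁ + β * a₂) • e₁ + (α * b₁ + β * b₂) • e₂ + (α * c₁ + β * c₂) • w)
        ((α * a₁ + β * a₂) • e₁ + (α * b₁ + β * b₂) • e₂ + (α * c₁ + β * c₂) • w)
        (a' • e₁ + b' • e₂ + c' • w) = 0) : False := by
  obtain ⟨α, β, hαβ, hB⟩ := exists_zero_pair (mkB F.hT w') (mkB_symm F.hT w')
    (a₁ • e₁ + b₁ • e₂ + c₁ • w) (a₂ • e₁ + b₂ • e₂ + c₂ • w)
  have hB' : T w' (α • (a₁ • e₁ + b₁ • e₂ + c₁ • w) + β • (a₂ • e₁ + b₂ • e₂ + c₂ • w))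
      (α • (a₁ • e₁ + b₁ • e₂ + c₁ • w) + β • (a₂ • e₁ + b₂ • e₂ + c₂ • w)) = 0 := hB
  have ez : α • (a₁ • e₁ + b₁ • e₂ + c₁ • w) + β • (a₂ • e₁ + b₂ • e₂ + c₂ • w)
      = (α * a₁ + β * a₂) • e₁ + (α * b₁ + β * b₂) • e₂ + (α * c₁ + β * c₂) • w := by module
  rw [ez] at hB'
  obtain ⟨z, hz⟩ : ∃ z : V,
      z = (α * a₁ + β * a₂) • e₁ + (α * b₁ + β * b₂) • e₂ + (α * c₁ + β * c₂) • w := ⟨_, rfl⟩
  have hH' : ∀ a' b' c' : K, T z z (a' • e₁ + b' • e₂ + c' • w) = 0 := by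
    intro a' b' c'; rw [hz]; exact hH α β a' b' c'
  rw [← hz] at hB'
  have hz0 : z ≠ 0 := by
    intro h0
    rw [hz] at h0
    obtain ⟨q1, q2, q3⟩ := coord_zero F _ _ _ h0
    exact hne α β hαβ ⟨q1, q2, q3⟩
  have hzzz : T z z z = 0 := by
    have h := hH' (α * a₁ + β * a₂) (α * b₁ + β * b₂) (α * c₁ + β * c₂)
    rw [← hz] at h
    exact h
  obtain ⟨u, hu⟩ := F.hsm z hz0 hzzz
  obtain ⟨a', b', s, t, hu'⟩ := F.hspan u
  apply hu
  rw [hu', F.hT.add₃, F.hT.smul₃ t, hH', F.hT.s13 z z w', hB']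
  ring

theorem no_two_vtx [IsAlgClosed K] {a₁ b₁ c₁ a₂ b₂ c₂ : K} (h₁ : IsVtx T e₁ e₂ w a₁ b₁ c₁)
    (h₂ : IsVtx T e₁ e₂ w a₂ b₂ c₂)
    (hne : ∀ α β : K, (α ≠ 0 ∨ β ≠ 0) →
      ¬(α * a₁ + β * a₂ = 0 ∧ α * b₁ + β * b₂ = 0 ∧ α * c₁ + β * c₂ = 0)) : False := by
  apply sing_line F a₁ b₁ c₁ a₂ b₂ c₂ hne
  intro α β a' b' c'
  exact vtx_TXX F (vtx_add h₁ h₂ α β) a' b' c'

theorem no_lin_conic [IsAlgClosed K]
    (hA : T e₁ e₁ w = 0 ∧ T e₁ e₂ w = 0 ∧ T e₂ e₂ w = 0) : False := by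
  obtain ⟨h11, h12, h22⟩ := hA
  apply sing_line F 1 0 0 0 1 0
  · intro α β hαβ hcon
    obtain ⟨q1, q2, -⟩ := hcon
    rcases hαβ with h | h
    · apply h; linear_combination q1
    · apply h; linear_combination q2
  · intro α β a' b' c'
    have h := TXX6 F (α * 1 + β * 0) (α * 0 + β * 1) (α * 0 + β * 0) a' b' c'
    unfold QQ BB at h
    rw [h11, h12, h22] at h
    have h6 : (6 : K) * T ((α * 1 + β * 0) • e₁ + (α * 0 + β * 1) • e₂ + (α * 0 + β * 0) • w)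
        ((α * 1 + β * 0) • e₁ + (α * 0 + β * 1) • e₂ + (α * 0 + β * 0) • w)
        (a' • e₁ + b' • e₂ + c' • w) = 0 := by rw [h]; ring
    rcases mul_eq_zero.mp h6 with h' | h'
    · norm_num at h'
    · exact h'

theorem adj_ne [IsAlgClosed K] {a b c : K} (hv : IsVtx T e₁ e₂ w a b c) :
    (c ≠ 0 → 6 * T e₁ e₁ w * (6 * T e₂ e₂ w) - 6 * T e₁ e₂ w * (6 * T e₁ e₂ w) ≠ 0) ∧
    (a ≠ 0 → 6 * T e₂ e₂ w * (2 * T w w w) - 3 * T e₂ w w * (3 * T e₂ w w) ≠ 0) ∧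
    (b ≠ 0 → 6 * T e₁ e₁ w * (2 * T w w w) - 3 * T e₁ w w * (3 * T e₁ w w) ≠ 0) := by
  obtain ⟨h1, h2, h3⟩ := hv
  have hv0 : IsVtx T e₁ e₂ w a b c := ⟨h1, h2, h3⟩
  refine ⟨?_, ?_, ?_⟩
  · intro hc hadj
    obtain ⟨α, β, hne, k1, k2, k3⟩ := second_vtx (6 * T e₁ e₁ w) (6 * T e₁ e₂ w)
      (3 * T e₁ w w) (6 * T e₂ e₂ w) (3 * T e₂ w w) a b c h1 h2 hc hadj
    have hv' : IsVtx T e₁ e₂ w α β 0 := by
      refine ⟨?_, ?_, ?_⟩
      · linear_combination k1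
      · linear_combination k2
      · linear_combination k3
    apply no_two_vtx F hv0 hv'
    intro α' β' hαβ hcon
    obtain ⟨q1, q2, q3⟩ := hcon
    exact pivot α' β' c a α b β hc hne hαβ q3 q1 q2
  · intro ha hadj
    obtain ⟨α, β, hne, k1, k2, k3⟩ := second_vtx (2 * T w w w) (3 * T e₂ w w)
      (3 * T e₁ w w) (6 * T e₂ e₂ w) (6 * T e₁ e₂ w) c b a (by linear_combination h3)
      (by linear_combination h2) ha (by linear_combination hadj)
    have hv' : IsVtx T e₁ e₂ w 0 β α := by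
      refine ⟨?_, ?_, ?_⟩
      · linear_combination k3
      · linear_combination k2
      · linear_combination k1
    apply no_two_vtx F hv0 hv'
    intro α' β' hαβ hcon
    obtain ⟨q1, q2, q3⟩ := hcon
    exact pivot α' β' a b β c α ha hne.symm hαβ q1 q2 q3
  · intro hb hadj
    obtain ⟨α, β, hne, k1, k2, k3⟩ := second_vtx (6 * T e₁ e₁ w) (3 * T e₁ w w)
      (6 * T e₁ e₂ w) (2 * T w w w) (3 * T e₂ w w) a c b (by linear_combination h1)
      (by linear_combination h3) hb (by linear_combination hadj)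
    have hv' : IsVtx T e₁ e₂ w α 0 β := by
      refine ⟨?_, ?_, ?_⟩
      · linear_combination k1
      · linear_combination k3
      · linear_combination k2
    apply no_two_vtx F hv0 hv'
    intro α' β' hαβ hcon
    obtain ⟨q1, q2, q3⟩ := hcon
    exact pivot α' β' b a α c β hb hne hαβ q2 q1 q3

theorem vtx_N_ne {a b c : K} (hv : IsVtx T e₁ e₂ w a b c) (hne : a ≠ 0 ∨ b ≠ 0 ∨ c ≠ 0) :
    T (a • e₁ + b • e₂ + c • w) (a • e₁ + b • e₂ + c • w) w' ≠ 0 := by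
  intro hN
  have hz0 : a • e₁ + b • e₂ + c • w ≠ 0 := by
    intro h0
    obtain ⟨q1, q2, q3⟩ := coord_zero F _ _ _ h0
    rcases hne with h | h | h
    · exact h q1
    · exact h q2
    · exact h q3
  obtain ⟨u, hu⟩ := F.hsm _ hz0 (vtx_TXX F hv a b c)
  obtain ⟨a', b', s, t, hu'⟩ := F.hspan u
  apply hu
  rw [hu', F.hT.add₃, F.hT.smul₃ t, vtx_TXX F hv, hN]
  ring

theorem iso_plane_mem {a b c a₁ b₁ c₁ : K} (hv : IsVtx T e₁ e₂ w a b c)
    (hq : QQ T e₁ e₂ w a₁ b₁ c₁ = 0) (p q : K)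
    (hmem : p • e₁ + q • e₂ ∈ Submodule.span K
      ({a • e₁ + b • e₂ + c • w, a₁ • e₁ + b₁ • e₂ + c₁ • w} : Set V)) :
    QQ T e₁ e₂ w p q 0 = 0 := by
  obtain ⟨s, r, hsr⟩ := Submodule.mem_span_pair.mp hmem
  have e : (s * a + r * a₁) • e₁ + (s * b + r * b₁) • e₂ + (s * c + r * c₁) • w
      = p • e₁ + q • e₂ + (0 : K) • w := by
    rw [zero_smul, add_zero, ← hsr]; module
  obtain ⟨e1, e2, e3⟩ := coord_eq F _ _ _ _ _ _ e
  have h := QQ_comb (T := T) (e₁ := e₁) (e₂ := e₂) (w := w) s r a b c a₁ b₁ c₁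
  rw [QQ_of_vtx hv, BB_of_vtx hv, hq, e1, e2, e3] at h
  rw [h]; ring

theorem line_ne_L [IsAlgClosed K] {a b c a₁ b₁ c₁ : K} (hv : IsVtx T e₁ e₂ w a b c)
    (hq : QQ T e₁ e₂ w a₁ b₁ c₁ = 0) :
    Submodule.span K ({a • e₁ + b • e₂ + c • w, a₁ • e₁ + b₁ • e₂ + c₁ • w} : Set V)
      ≠ Submodule.span K ({e₁, e₂} : Set V) := by
  intro heq
  have key : ∀ p q : K, QQ T e₁ e₂ w p q 0 = 0 := by
    intro p q
    apply iso_plane_mem F hv hq p q
    rw [heq]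
    exact mem_L p q
  have h10 := key 1 0
  have h01 := key 0 1
  have h11 := key 1 1
  unfold QQ at h10 h01 h11
  apply no_lin_conic F
  refine ⟨?_, ?_, ?_⟩
  · linear_combination (1 / 6 : K) * h10
  · linear_combination (1 / 12 : K) * h11 - (1 / 12 : K) * h10 - (1 / 12 : K) * h01
  · linear_combination (1 / 6 : K) * h01

theorem lines_of_iso [IsAlgClosed K] {a b c a₁ b₁ c₁ a₂ b₂ c₂ : K}
    (hv : IsVtx T e₁ e₂ w a b c)
    (hq₁ : QQ T e₁ e₂ w a₁ b₁ c₁ = 0) (hq₂ : QQ T e₁ e₂ w a₂ b₂ c₂ = 0)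
    (hind : ∀ α β γ : K, α * a + β * a₁ + γ * a₂ = 0 → α * b + β * b₁ + γ * b₂ = 0 →
      α * c + β * c₁ + γ * c₂ = 0 → α = 0 ∧ β = 0 ∧ γ = 0) :
    IsTri T (Submodule.span K {e₁, e₂}) (Submodule.span K {e₁, e₂, w}) := by
  refine ⟨finrank_H F, L_le_H,
    Submodule.span K {a • e₁ + b • e₂ + c • w, a₁ • e₁ + b₁ • e₂ + c₁ • w},
    Submodule.span K {a • e₁ + b • e₂ + c • w, a₂ • e₁ + b₂ • e₂ + c₂ • w},
    ?_, ?_, line_ne_L F hv hq₁, line_ne_L F hv hq₂, ?_, pair_le_H _ _ _ _ _ _,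
    pair_le_H _ _ _ _ _ _, ?_, ?_⟩
  · apply finrank_span_pair
    rw [LinearIndependent.pair_iff]
    intro s r hsr
    have e : (s * a + r * a₁) • e₁ + (s * b + r * b₁) • e₂ + (s * c + r * c₁) • w = 0 := by
      rw [← hsr]; module
    obtain ⟨e1, e2, e3⟩ := coord_zero F _ _ _ e
    obtain ⟨z1, z2, -⟩ := hind s r 0 (by linear_combination e1) (by linear_combination e2)
      (by linear_combination e3)
    exact ⟨z1, z2⟩
  · apply finrank_span_pair
    rw [LinearIndependent.pair_iff]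
    intro s r hsr
    have e : (s * a + r * a₂) • e₁ + (s * b + r * b₂) • e₂ + (s * c + r * c₂) • w = 0 := by
      rw [← hsr]; module
    obtain ⟨e1, e2, e3⟩ := coord_zero F _ _ _ e
    obtain ⟨z1, -, z3⟩ := hind s 0 r (by linear_combination e1) (by linear_combination e2)
      (by linear_combination e3)
    exact ⟨z1, z3⟩
  · intro heq
    have hmem : a₂ • e₁ + b₂ • e₂ + c₂ • w ∈ Submodule.span K
        ({a • e₁ + b • e₂ + c • w, a₁ • e₁ + b₁ • e₂ + c₁ • w} : Set V) := by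
      rw [heq]; exact Submodule.subset_span (by simp)
    obtain ⟨s, r, hsr⟩ := Submodule.mem_span_pair.mp hmem
    have e : (s * a + r * a₁ + (-1) * a₂) • e₁ + (s * b + r * b₁ + (-1) * b₂) • e₂
        + (s * c + r * c₁ + (-1) * c₂) • w = 0 := by
      have e' : (s * a + r * a₁ + (-1) * a₂) • e₁ + (s * b + r * b₁ + (-1) * b₂) • e₂
          + (s * c + r * c₁ + (-1) * c₂) • w
          = (s • (a • e₁ + b • e₂ + c • w) + r • (a₁ • e₁ + b₁ • e₂ + c₁ • w))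
            - (a₂ • e₁ + b₂ • e₂ + c₂ • w) := by module
      rw [e', hsr, sub_self]
    obtain ⟨e1, e2, e3⟩ := coord_zero F _ _ _ e
    obtain ⟨-, -, z3⟩ := hind s r (-1) e1 e2 e3
    norm_num at z3
  · exact line_of_pair F.hT _ _ (vtx_TXX F hv a b c) (vtx_TXX F hv a₁ b₁ c₁)
      (by rw [F.hT.s13]; exact iso_vtx F hv hq₁) (iso_self F hq₁)
  · exact line_of_pair F.hT _ _ (vtx_TXX F hv a b c) (vtx_TXX F hv a₂ b₂ c₂)
      (by rw [F.hT.s13]; exact iso_vtx F hv hq₂) (iso_self F hq₂)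

theorem tri_of_DD_zero [IsAlgClosed K] (hD : DD T e₁ e₂ w = 0) :
    IsTri T (Submodule.span K {e₁, e₂}) (Submodule.span K {e₁, e₂, w}) := by
  unfold DD at hD
  obtain ⟨a, b, c, hne, h1, h2, h3⟩ := (det3_zero_iff _ _ _ _ _ _).mp hD
  have hv : IsVtx T e₁ e₂ w a b c := ⟨h1, h2, h3⟩
  obtain ⟨n3, n1, n2⟩ := adj_ne F hv
  rcases hne with ha | hb | hc
  · obtain ⟨β₁, γ₁, β₂, γ₂, z1, z2, hdet⟩ := binzero2 (6 * T e₂ e₂ w) (3 * T e₂ w w)
      (2 * T w w w) (n1 ha)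
    refine lines_of_iso F hv (a₁ := 0) (b₁ := β₁) (c₁ := γ₁) (a₂ := 0) (b₂ := β₂) (c₂ := γ₂)
      ?_ ?_ ?_
    · unfold QQ; linear_combination z1
    · unfold QQ; linear_combination z2
    · intro α β γ q1 q2 q3
      have hα : α = 0 := by
        have h : α * a = 0 := by linear_combination q1
        rcases mul_eq_zero.mp h with h' | h'
        · exact h'
        · exact absurd h' ha
      rw [hα] at q2 q3
      have hβ : β * (β₁ * γ₂ - β₂ * γ₁) = 0 := by linear_combination γ₂ * q2 - β₂ * q3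
      have hγ : γ * (β₁ * γ₂ - β₂ * γ₁) = 0 := by linear_combination β₁ * q3 - γ₁ * q2
      refine ⟨hα, ?_, ?_⟩
      · rcases mul_eq_zero.mp hβ with h' | h'
        · exact h'
        · exact absurd h' hdet
      · rcases mul_eq_zero.mp hγ with h' | h'
        · exact h'
        · exact absurd h' hdet
  · obtain ⟨β₁, γ₁, β₂, γ₂, z1, z2, hdet⟩ := binzero2 (6 * T e₁ e₁ w) (3 * T e₁ w w)
      (2 * T w w w) (n2 hb)
    refine lines_of_iso F hv (a₁ := β₁) (b₁ := 0) (c₁ := γ₁) (a₂ := β₂) (b₂ := 0) (c₂ := γ₂)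
      ?_ ?_ ?_
    · unfold QQ; linear_combination z1
    · unfold QQ; linear_combination z2
    · intro α β γ q1 q2 q3
      have hα : α = 0 := by
        have h : α * b = 0 := by linear_combination q2
        rcases mul_eq_zero.mp h with h' | h'
        · exact h'
        · exact absurd h' hb
      rw [hα] at q1 q3
      have hβ : β * (β₁ * γ₂ - β₂ * γ₁) = 0 := by linear_combination γ₂ * q1 - β₂ * q3
      have hγ : γ * (β₁ * γ₂ - β₂ * γ₁) = 0 := by linear_combination β₁ * q3 - γ₁ * q1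
      refine ⟨hα, ?_, ?_⟩
      · rcases mul_eq_zero.mp hβ with h' | h'
        · exact h'
        · exact absurd h' hdet
      · rcases mul_eq_zero.mp hγ with h' | h'
        · exact h'
        · exact absurd h' hdet
  · obtain ⟨β₁, γ₁, β₂, γ₂, z1, z2, hdet⟩ := binzero2 (6 * T e₁ e₁ w) (6 * T e₁ e₂ w)
      (6 * T e₂ e₂ w) (n3 hc)
    refine lines_of_iso F hv (a₁ := β₁) (b₁ := γ₁) (c₁ := 0) (a₂ := β₂) (b₂ := γ₂) (c₂ := 0)
      ?_ ?_ ?_
    · unfold QQ; linear_combination z1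
    · unfold QQ; linear_combination z2
    · intro α β γ q1 q2 q3
      have hα : α = 0 := by
        have h : α * c = 0 := by linear_combination q3
        rcases mul_eq_zero.mp h with h' | h'
        · exact h'
        · exact absurd h' hc
      rw [hα] at q1 q2
      have hβ : β * (β₁ * γ₂ - β₂ * γ₁) = 0 := by linear_combination γ₂ * q1 - β₂ * q2
      have hγ : γ * (β₁ * γ₂ - β₂ * γ₁) = 0 := by linear_combination β₁ * q2 - γ₁ * q1
      refine ⟨hα, ?_, ?_⟩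
      · rcases mul_eq_zero.mp hβ with h' | h'
        · exact h'
        · exact absurd h' hdet
      · rcases mul_eq_zero.mp hγ with h' | h'
        · exact h'
        · exact absurd h' hdet

/-- a line of the cubic in the plane, different from `⟨e₁, e₂⟩`, is isotropic for the conic -/
theorem line_iso [FiniteDimensional K V] (L' : Submodule K V) (hL'2 : Module.finrank K L' = 2)
    (hL'L : L' ≠ Submodule.span K {e₁, e₂}) (hT' : ∀ u ∈ L', T u u u = 0)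
    (a b c a' b' c' : K) (hx : a • e₁ + b • e₂ + c • w ∈ L')
    (hx' : a' • e₁ + b' • e₂ + c' • w ∈ L')
    (hsp : Submodule.span K ({a • e₁ + b • e₂ + c • w, a' • e₁ + b' • e₂ + c' • w} : Set V)
      = L') :
    QQ T e₁ e₂ w a b c = 0 ∧ BB T e₁ e₂ w a b c a' b' c' = 0 := by
  have hcc' : c ≠ 0 ∨ c' ≠ 0 := by
    by_contra hcon
    push_neg at hcon
    apply hL'L
    have hle : L' ≤ Submodule.span K ({e₁, e₂} : Set V) := by
      rw [← hsp]
      apply Submodule.span_le.mpr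
      intro y hy
      rcases hy with h | h
      · rw [h, hcon.1, zero_smul, add_zero]; exact mem_L a b
      · rw [Set.mem_singleton_iff.mp h, hcon.2, zero_smul, add_zero]; exact mem_L a' b'
    exact Submodule.eq_of_le_of_finrank_eq hle (by rw [hL'2, finrank_L F])
  have P1 := hT' _ hx
  have P2 := F.hT.polar2 L' hT' _ hx _ hx'
  have P3 := F.hT.polar2 L' hT' _ hx' _ hx
  have P4 := hT' _ hx'
  have E1 : c * QQ T e₁ e₂ w a b c = 0 := by
    have h := TXX6 F a b c a b c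
    rw [P1, BB_self] at h
    linear_combination (-1 / 3 : K) * h
  have E2 : c' * QQ T e₁ e₂ w a b c + 2 * c * BB T e₁ e₂ w a b c a' b' c' = 0 := by
    have h := TXX6 F a b c a' b' c'
    rw [P2] at h
    linear_combination (-1 : K) * h
  have E3 : c * QQ T e₁ e₂ w a' b' c' + 2 * c' * BB T e₁ e₂ w a b c a' b' c' = 0 := by
    have h := TXX6 F a' b' c' a b c
    rw [P3, BB_symm a' b' c' a b c] at h
    linear_combination (-1 : K) * h
  have E4 : c' * QQ T e₁ e₂ w a' b' c' = 0 := by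
    have h := TXX6 F a' b' c' a' b' c'
    rw [P4, BB_self] at h
    linear_combination (-1 / 3 : K) * h
  exact iso_from_line c c' _ _ _ hcc' E1 E2 E3 E4

theorem DD_zero_of_tri [FiniteDimensional K V]
    (h : IsTri T (Submodule.span K {e₁, e₂}) (Submodule.span K {e₁, e₂, w})) :
    DD T e₁ e₂ w = 0 := by
  obtain ⟨hH3, -, L', L'', hL'2, hL''2, hL'L, hL''L, hne, hL'H, hL''H, hT', hT''⟩ := h
  have h1 := Submodule.finrank_sup_add_finrank_inf_eq L' L''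
  have h2 : Module.finrank K ↥(L' ⊔ L'') ≤ 3 := by
    rw [← hH3]; exact Submodule.finrank_mono (sup_le hL'H hL''H)
  have hinf : L' ⊓ L'' ≠ ⊥ := by
    intro hbot
    rw [hbot, finrank_bot, hL'2, hL''2] at h1
    omega
  obtain ⟨x, hx, hx0⟩ := Submodule.exists_mem_ne_zero_of_ne_bot hinf
  have hxL' : x ∈ L' := (Submodule.mem_inf.mp hx).1
  have hxL'' : x ∈ L'' := (Submodule.mem_inf.mp hx).2
  obtain ⟨x', hx'L, hx'n⟩ := exists_not_mem_span L' hL'2 x
  obtain ⟨x'', hx''L, hx''n⟩ := exists_not_mem_span L'' hL''2 x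
  have hspan' : Submodule.span K {x, x'} = L' := span_pair_eq L' hL'2 x x' hxL' hx'L hx0 hx'n
  have hspan'' : Submodule.span K {x, x''} = L'' :=
    span_pair_eq L'' hL''2 x x'' hxL'' hx''L hx0 hx''n
  have hx''L' : x'' ∉ L' := by
    intro hmem
    apply hne
    have hle : L'' ≤ L' := by
      rw [← hspan'']
      apply Submodule.span_le.mpr
      intro y hy
      rcases hy with h | h
      · rw [h]; exact hxL'
      · rw [Set.mem_singleton_iff.mp h]; exact hmem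
    exact (Submodule.eq_of_le_of_finrank_eq hle (by rw [hL'2, hL''2])).symm
  obtain ⟨a, b, c, hxe⟩ := Submodule.mem_span_triple.mp (hL'H hxL')
  obtain ⟨a', b', c', hx'e⟩ := Submodule.mem_span_triple.mp (hL'H hx'L)
  obtain ⟨a'', b'', c'', hx''e⟩ := Submodule.mem_span_triple.mp (hL''H hx''L)
  rw [← hxe, ← hx'e] at hspan'
  rw [← hxe, ← hx''e] at hspan''
  rw [← hxe] at hxL' hxL''
  rw [← hx'e] at hx'L
  rw [← hx''e] at hx''L
  obtain ⟨hQ, hB'⟩ := line_iso F L' hL'2 hL'L hT' a b c a' b' c' hxL' hx'L hspan'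
  obtain ⟨-, hB''⟩ := line_iso F L'' hL''2 hL''L hT'' a b c a'' b'' c'' hxL'' hx''L hspan''
  have hind : ∀ α β γ : K, α * a + β * a' + γ * a'' = 0 → α * b + β * b' + γ * b'' = 0 →
      α * c + β * c' + γ * c'' = 0 → α = 0 ∧ β = 0 ∧ γ = 0 := by
    intro α β γ q1 q2 q3
    have hsum : α • x + β • x' + γ • x'' = 0 := by
      rw [← hxe, ← hx'e, ← hx''e]
      have e : α • (a • e₁ + b • e₂ + c • w) + β • (a' • e₁ + b' • e₂ + c' • w)
          + γ • (a'' • e₁ + b'' • e₂ + c'' • w)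
          = (α * a + β * a' + γ * a'') • e₁ + (α * b + β * b' + γ * b'') • e₂
            + (α * c + β * c' + γ * c'') • w := by module
      rw [e, q1, q2, q3, zero_smul, zero_smul, zero_smul, add_zero, add_zero]
    have hγ : γ = 0 := by
      by_contra hγ
      apply hx''L'
      have e : x'' = (-(γ⁻¹ * α)) • x + (-(γ⁻¹ * β)) • x' := by
        have h1 : γ • x'' = -(α • x + β • x') := eq_neg_of_add_eq_zero_right hsum
        have h2 : x'' = γ⁻¹ • (γ • x'') := by rw [smul_smul, inv_mul_cancel₀ hγ, one_smul]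
        rw [h2, h1]; module
      rw [e]
      have hxm : x ∈ L' := by rw [← hxe]; exact hxL'
      have hx'm : x' ∈ L' := by rw [← hx'e]; exact hx'L
      exact L'.add_mem (L'.smul_mem _ hxm) (L'.smul_mem _ hx'm)
    rw [hγ, zero_smul, add_zero] at hsum
    have hβ : β = 0 := by
      by_contra hβ
      apply hx'n
      have e : x' = (-(β⁻¹ * α)) • x := by
        have h1 : β • x' = -(α • x) := eq_neg_of_add_eq_zero_right hsum
        have h2 : x' = β⁻¹ • (β • x') := by rw [smul_smul, inv_mul_cancel₀ hβ, one_smul]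
        rw [h2, h1]; module
      rw [e]; exact Submodule.smul_mem _ _ (Submodule.mem_span_singleton_self x)
    rw [hβ, zero_smul, add_zero] at hsum
    have hα : α = 0 := by
      rcases smul_eq_zero.mp hsum with h | h
      · exact h
      · exact absurd h hx0
    exact ⟨hα, hβ, hγ⟩
  obtain ⟨p1, p2, p3⟩ := indep3 a b c a' b' c' a'' b'' c''
    (6 * T e₁ e₁ w * a + 6 * T e₁ e₂ w * b + 3 * T e₁ w w * c)
    (6 * T e₁ e₂ w * a + 6 * T e₂ e₂ w * b + 3 * T e₂ w w * c)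
    (3 * T e₁ w w * a + 3 * T e₂ w w * b + 2 * T w w w * c) hind
    (by unfold QQ at hQ; linear_combination hQ)
    (by unfold BB at hB'; linear_combination hB')
    (by unfold BB at hB''; linear_combination hB'')
  have hne3 : a ≠ 0 ∨ b ≠ 0 ∨ c ≠ 0 := by
    by_contra hcon
    push_neg at hcon
    apply hx0
    rw [← hxe, hcon.1, hcon.2.1, hcon.2.2, zero_smul, zero_smul, zero_smul, add_zero, add_zero]
  unfold DD
  exact (det3_zero_iff _ _ _ _ _ _).mpr ⟨a, b, c, hne3, p1, p2, p3⟩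

/-- the derivative of the discriminant along `w'` at a root is nonzero -/
theorem simple [IsAlgClosed K] (hD : DD T e₁ e₂ w = 0) :
    trAdj (6 * T e₁ e₁ w) (6 * T e₁ e₂ w) (3 * T e₁ w w) (6 * T e₂ e₂ w) (3 * T e₂ w w)
      (2 * T w w w) (6 * T e₁ e₁ w') (6 * T e₁ e₂ w') (6 * T e₁ w w') (6 * T e₂ e₂ w')
      (6 * T e₂ w w') (6 * T w w w') ≠ 0 := by
  unfold DD at hD
  obtain ⟨a, b, c, hne, h1, h2, h3⟩ := (det3_zero_iff _ _ _ _ _ _).mp hD
  have hv : IsVtx T e₁ e₂ w a b c := ⟨h1, h2, h3⟩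
  obtain ⟨n3, n1, n2⟩ := adj_ne F hv
  have hN := vtx_N_ne F hv hne
  rw [quad3 F.hT] at hN
  apply simple_scalar _ _ _ _ _ _ _ _ _ _ _ _ a b c h1 h2 h3 hne n3 n1 n2
  intro h
  apply hN
  linear_combination (1 / 6 : K) * h

end frame

end Groth.Agent.Lib.Helper8.TriB
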