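import Mathlib
import Groth.Agent.Lib.Helper8.TriB

/-!
# Tritangent planes through a line of a smooth cubic surface: the quintic and the count
-/

namespace Groth.Agent.Lib.Helper8.TriC

open Groth.Agent.Lib.Helper8.CubLines Groth.Agent.Lib.Helper8.ODPa Groth.Agent.Lib.Helper8.ODPb
  Groth.Agent.Lib.Helper8.ODPc Groth.Agent.Lib.Helper8.ODPd Groth.Agent.Lib.Helper8.TriA
  Groth.Agent.Lib.Helper8.TriB Polynomial

universe u v

variable {K : Type u} [Field K] {V : Type v} [AddCommGroup V] [Module K V]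
variable {T : V → V → V → K}

open scoped Classical

theorem frame_swap {e₁ e₂ w w' : V} (F : Frame T e₁ e₂ w w') : Frame T e₁ e₂ w' w where
  hT := F.hT
  hind := fun a b s t h => by
    have h' : a • e₁ + b • e₂ + t • w + s • w' = 0 := by rw [← h]; abel
    obtain ⟨h1, h2, h3, h4⟩ := F.hind a b t s h'
    exact ⟨h1, h2, h4, h3⟩
  hspan := fun x => by
    obtain ⟨a, b, s, t, hx⟩ := F.hspan x
    exact ⟨a, b, t, s, by rw [hx]; abel⟩
  h111 := F.h111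
  h112 := F.h112
  h122 := F.h122
  h222 := F.h222
  hsm := F.hsm

theorem frame_shift {e₁ e₂ w w' : V} (F : Frame T e₁ e₂ w w') (μ : K) :
    Frame T e₁ e₂ (w + μ • w') w' where
  hT := F.hT
  hind := fun a b s t h => by
    have h' : a • e₁ + b • e₂ + s • w + (s * μ + t) • w' = 0 := by rw [← h]; module
    obtain ⟨h1, h2, h3, h4⟩ := F.hind a b s (s * μ + t) h'
    refine ⟨h1, h2, h3, ?_⟩
    rw [h3] at h4
    linear_combination h4
  hspan := fun x => by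
    obtain ⟨a, b, s, t, hx⟩ := F.hspan x
    exact ⟨a, b, s, t - s * μ, by rw [hx]; module⟩
  h111 := F.h111
  h112 := F.h112
  h122 := F.h122
  h222 := F.h222
  hsm := F.hsm

theorem exists_frame [CharZero K] [FiniteDimensional K V] (hT : SymTri T)
    (hsm : ∀ v : V, v ≠ 0 → T v v v = 0 → ∃ u, T v v u ≠ 0)
    (hdim : Module.finrank K V = 4)
    (L : Submodule K V) (hL2 : Module.finrank K L = 2) (hLT : ∀ u ∈ L, T u u u = 0) :
    ∃ e₁ e₂ w₁ w₂ : V, L = Submodule.span K {e₁, e₂} ∧ Frame T e₁ e₂ w₁ w₂ := by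
  obtain ⟨e₁, he₁L, he₁⟩ := exists_not_mem_span L hL2 (0 : V)
  have he₁0 : e₁ ≠ 0 := fun hz => he₁ (by rw [hz]; exact Submodule.zero_mem _)
  obtain ⟨e₂, he₂L, he₂⟩ := exists_not_mem_span L hL2 e₁
  have hLs : Submodule.span K {e₁, e₂} = L := span_pair_eq L hL2 e₁ e₂ he₁L he₂L he₁0 he₂
  obtain ⟨w₁, hw₁⟩ := exists_not_mem_span3 hdim e₁ e₂ e₂
  obtain ⟨w₂, hw₂⟩ := exists_not_mem_span3 hdim e₁ e₂ w₁
  have hind : ∀ a b s t : K, a • e₁ + b • e₂ + s • w₁ + t • w₂ = 0 →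
      a = 0 ∧ b = 0 ∧ s = 0 ∧ t = 0 := by
    intro a b s t h
    have ht : t = 0 := by
      by_contra ht
      apply hw₂
      have e : w₂ = (-(t⁻¹ * a)) • e₁ + (-(t⁻¹ * b)) • e₂ + (-(t⁻¹ * s)) • w₁ := by
        have h1 : t • w₂ = -(a • e₁ + b • e₂ + s • w₁) := eq_neg_of_add_eq_zero_right h
        have h2 : w₂ = t⁻¹ • (t • w₂) := by rw [smul_smul, inv_mul_cancel₀ ht, one_smul]
        rw [h2, h1]; module
      rw [e]; exact mem_span3 e₁ e₂ w₁ _ _ _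
    rw [ht, zero_smul, add_zero] at h
    have hs : s = 0 := by
      by_contra hs
      apply hw₁
      have e : w₁ = (-(s⁻¹ * a)) • e₁ + (-(s⁻¹ * b)) • e₂ + (0 : K) • e₂ := by
        have h1 : s • w₁ = -(a • e₁ + b • e₂) := eq_neg_of_add_eq_zero_right h
        have h2 : w₁ = s⁻¹ • (s • w₁) := by rw [smul_smul, inv_mul_cancel₀ hs, one_smul]
        rw [h2, h1]; module
      rw [e]; exact mem_span3 e₁ e₂ e₂ _ _ _
    rw [hs, zero_smul, add_zero] at h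
    have hb : b = 0 := by
      by_contra hb
      apply he₂
      have e : e₂ = (-(b⁻¹ * a)) • e₁ := by
        have h1 : b • e₂ = -(a • e₁) := eq_neg_of_add_eq_zero_right h
        have h2 : e₂ = b⁻¹ • (b • e₂) := by rw [smul_smul, inv_mul_cancel₀ hb, one_smul]
        rw [h2, h1]; module
      rw [e]; exact Submodule.smul_mem _ _ (Submodule.mem_span_singleton_self e₁)
    rw [hb, zero_smul, add_zero] at h
    have ha : a = 0 := by
      rcases smul_eq_zero.mp h with h' | h'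
      · exact h'
      · exact absurd h' he₁0
    exact ⟨ha, hb, hs, ht⟩
  have hli : LinearIndependent K ![e₁, e₂, w₁, w₂] := li4 e₁ e₂ w₁ w₂ hind
  refine ⟨e₁, e₂, w₁, w₂, hLs.symm, ⟨hT, hind, span4 hdim e₁ e₂ w₁ w₂ hli, hLT e₁ he₁L, ?_, ?_,
    hLT e₂ he₂L, hsm⟩⟩
  · exact hT.polar2 L hLT e₁ he₁L e₂ he₂L
  · rw [hT.s13]; exact hT.polar2 L hLT e₂ he₂L e₁ he₁L

/-! ### the quintic -/

theorem exp2 (hT : SymTri T) (u w₁ w₂ : V) (μ : K) :
    T u (w₁ + μ • w₂) (w₁ + μ • w₂)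
      = T u w₁ w₁ + 2 * μ * T u w₁ w₂ + μ ^ 2 * T u w₂ w₂ := by
  have e : T u w₂ w₁ = T u w₁ w₂ := hT.s23 u w₂ w₁
  simp only [hT.add₂, hT.add₃, hT.smul₂, hT.smul₃]
  rw [e]; ring

theorem exp3 (hT : SymTri T) (w₁ w₂ : V) (μ : K) :
    T (w₁ + μ • w₂) (w₁ + μ • w₂) (w₁ + μ • w₂)
      = T w₁ w₁ w₁ + 3 * μ * T w₁ w₁ w₂ + 3 * μ ^ 2 * T w₁ w₂ w₂ + μ ^ 3 * T w₂ w₂ w₂ := by
  rw [hT.cube_add]
  simp only [hT.smul₁, hT.smul₂, hT.smul₃]
  ring

/-- the discriminant of the residual conic along the pencil of planes through the line -/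
noncomputable def PP (T : V → V → V → K) (e₁ e₂ w₁ w₂ : V) : K[X] :=
  det3 (C (6 * T e₁ e₁ w₁) + C (6 * T e₁ e₁ w₂) * X)
    (C (6 * T e₁ e₂ w₁) + C (6 * T e₁ e₂ w₂) * X)
    (C (3 * T e₁ w₁ w₁) + C (6 * T e₁ w₁ w₂) * X + C (3 * T e₁ w₂ w₂) * X ^ 2)
    (C (6 * T e₂ e₂ w₁) + C (6 * T e₂ e₂ w₂) * X)
    (C (3 * T e₂ w₁ w₁) + C (6 * T e₂ w₁ w₂) * X + C (3 * T e₂ w₂ w₂) * X ^ 2)
    (C (2 * T w₁ w₁ w₁) + C (6 * T w₁ w₁ w₂) * X + C (6 * T w₁ w₂ w₂) * X ^ 2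
      + C (2 * T w₂ w₂ w₂) * X ^ 3)

theorem eval_PP (hT : SymTri T) (e₁ e₂ w₁ w₂ : V) (μ : K) :
    eval μ (PP T e₁ e₂ w₁ w₂) = DD T e₁ e₂ (w₁ + μ • w₂) := by
  unfold PP DD
  rw [eval_det3, exp2 hT e₁, exp2 hT e₂, exp3 hT]
  simp only [eval_add, eval_mul, eval_C, eval_X, eval_pow, hT.add₃, hT.smul₃]
  unfold det3
  ring

theorem PP_natDegree_le (e₁ e₂ w₁ w₂ : V) : (PP T e₁ e₂ w₁ w₂).natDegree ≤ 5 := by
  unfold PP det3
  compute_degree!

theorem PP_coeff_five (e₁ e₂ w₁ w₂ : V) : (PP T e₁ e₂ w₁ w₂).coeff 5 = DD T e₁ e₂ w₂ := by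
  unfold PP DD
  rw [coeff_five_det3]
  · simp only [coeff_add, coeff_C_mul, coeff_X_pow, coeff_X, coeff_C]
    norm_num
  all_goals compute_degree!

theorem PP_coeff_one (e₁ e₂ w₀ w₂ : V) : (PP T e₁ e₂ w₀ w₂).coeff 1 =
    trAdj (6 * T e₁ e₁ w₀) (6 * T e₁ e₂ w₀) (3 * T e₁ w₀ w₀) (6 * T e₂ e₂ w₀) (3 * T e₂ w₀ w₀)
      (2 * T w₀ w₀ w₀) (6 * T e₁ e₁ w₂) (6 * T e₁ e₂ w₂) (6 * T e₁ w₀ w₂) (6 * T e₂ e₂ w₂)
      (6 * T e₂ w₀ w₂) (6 * T w₀ w₀ w₂) := by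
  unfold PP
  rw [coeff_one_det3]
  simp only [coeff_add, coeff_C_mul, coeff_X_pow, coeff_X, coeff_C]
  norm_num

theorem taylor_PP [CharZero K] (hT : SymTri T) (e₁ e₂ w₁ w₂ : V) (μ : K) :
    taylor μ (PP T e₁ e₂ w₁ w₂) = PP T e₁ e₂ (w₁ + μ • w₂) w₂ := by
  apply Polynomial.funext
  intro s
  rw [taylor_apply, eval_comp, eval_add, eval_X, eval_C, eval_PP hT, eval_PP hT]
  have e : w₁ + (s + μ) • w₂ = w₁ + μ • w₂ + s • w₂ := by module
  rw [e]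

section count

variable [CharZero K] [IsAlgClosed K] {e₁ e₂ w₁ w₂ : V} (F : Frame T e₁ e₂ w₁ w₂)

include F

theorem PP_simple (μ : K) (hμ : (PP T e₁ e₂ w₁ w₂).IsRoot μ) :
    eval μ (derivative (PP T e₁ e₂ w₁ w₂)) ≠ 0 := by
  rw [← taylor_coeff_one, taylor_PP F.hT, PP_coeff_one]
  apply simple (frame_shift F μ)
  rw [← eval_PP F.hT]
  exact hμ

theorem PP_ne_zero : PP T e₁ e₂ w₁ w₂ ≠ 0 := by
  intro h0
  have e0 : (PP T e₁ e₂ w₁ w₂).IsRoot 0 := by rw [h0, IsRoot.def, eval_zero]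
  have e1 := PP_simple F 0 e0
  rw [h0, derivative_zero, eval_zero] at e1
  exact e1 rfl

theorem exists_good_frame :
    ∃ w₁' w₂' : V, Frame T e₁ e₂ w₁' w₂' ∧ DD T e₁ e₂ w₂' ≠ 0 := by
  have hex : ∃ μ, eval μ (PP T e₁ e₂ w₁ w₂) ≠ 0 := by
    by_contra hcon
    push_neg at hcon
    apply PP_ne_zero F
    apply Polynomial.funext
    intro r
    rw [eval_zero]; exact hcon r
  obtain ⟨μ, hμ⟩ := hex
  rw [eval_PP F.hT] at hμ
  exact ⟨w₂, w₁ + μ • w₂, frame_swap (frame_shift F μ), hμ⟩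

variable [FiniteDimensional K V]

theorem plane_eq (H : Submodule K V) (hH3 : Module.finrank K H = 3) (hw : w₁ ∈ H)
    (hLH : Submodule.span K ({e₁, e₂} : Set V) ≤ H) :
    H = Submodule.span K ({e₁, e₂, w₁} : Set V) := by
  have hle : Submodule.span K ({e₁, e₂, w₁} : Set V) ≤ H := by
    apply Submodule.span_le.mpr
    intro y hy
    rcases hy with h | h | h
    · rw [h]; exact hLH (Submodule.subset_span (by simp))
    · rw [h]; exact hLH (Submodule.subset_span (by simp))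
    · rw [Set.mem_singleton_iff.mp h]; exact hw
  exact (Submodule.eq_of_le_of_finrank_eq hle (by rw [finrank_H F, hH3])).symm

theorem plane_cases (H : Submodule K V) (hH3 : Module.finrank K H = 3)
    (hLH : Submodule.span K ({e₁, e₂} : Set V) ≤ H) :
    H = Submodule.span K ({e₁, e₂, w₂} : Set V) ∨
      ∃ μ : K, H = Submodule.span K ({e₁, e₂, w₁ + μ • w₂} : Set V) := by
  have hex : ∃ u ∈ H, u ∉ Submodule.span K ({e₁, e₂} : Set V) := by
    by_contra hcon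
    push_neg at hcon
    have hle : H ≤ Submodule.span K ({e₁, e₂} : Set V) := hcon
    have h := Submodule.finrank_mono hle
    rw [hH3, finrank_L F] at h
    omega
  obtain ⟨u, huH, huL⟩ := hex
  obtain ⟨a, b, s, t, hu⟩ := F.hspan u
  have he₁ : e₁ ∈ H := hLH (Submodule.subset_span (by simp))
  have he₂ : e₂ ∈ H := hLH (Submodule.subset_span (by simp))
  have hst : s • w₁ + t • w₂ ∈ H := by
    have e : s • w₁ + t • w₂ = u - a • e₁ - b • e₂ := by rw [hu]; abel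
    rw [e]; exact H.sub_mem (H.sub_mem huH (H.smul_mem _ he₁)) (H.smul_mem _ he₂)
  by_cases hs : s = 0
  · left
    have ht : t ≠ 0 := by
      intro ht
      apply huL
      rw [hu, hs, ht, zero_smul, zero_smul, add_zero, add_zero]
      exact mem_L a b
    rw [hs, zero_smul, zero_add] at hst
    have hw₂ : w₂ ∈ H := by
      have e : w₂ = t⁻¹ • (t • w₂) := by rw [smul_smul, inv_mul_cancel₀ ht, one_smul]
      rw [e]; exact H.smul_mem _ hst
    exact plane_eq (frame_swap F) H hH3 hw₂ hLH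
  · right
    refine ⟨s⁻¹ * t, ?_⟩
    have hw : w₁ + (s⁻¹ * t) • w₂ ∈ H := by
      have e : w₁ + (s⁻¹ * t) • w₂ = s⁻¹ • (s • w₁ + t • w₂) := by
        rw [smul_add, smul_smul, smul_smul, inv_mul_cancel₀ hs, one_smul]
      rw [e]; exact H.smul_mem _ hst
    exact plane_eq (frame_shift F (s⁻¹ * t)) H hH3 hw hLH

theorem tri_iff_root (μ : K) :
    IsTri T (Submodule.span K {e₁, e₂}) (Submodule.span K {e₁, e₂, w₁ + μ • w₂}) ↔
      (PP T e₁ e₂ w₁ w₂).IsRoot μ := by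
  rw [IsRoot.def, eval_PP F.hT]
  exact ⟨DD_zero_of_tri (frame_shift F μ), tri_of_DD_zero (frame_shift F μ)⟩

theorem tri_set_eq (hD2 : DD T e₁ e₂ w₂ ≠ 0) :
    {H : Submodule K V | IsTri T (Submodule.span K {e₁, e₂}) H} =
      (fun μ : K => Submodule.span K ({e₁, e₂, w₁ + μ • w₂} : Set V)) ''
        ((PP T e₁ e₂ w₁ w₂).roots.toFinset : Set K) := by
  ext H
  constructor
  · intro hH
    have hH' : IsTri T (Submodule.span K {e₁, e₂}) H := hH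
    rcases plane_cases F H hH'.1 hH'.2.1 with h | ⟨μ, h⟩
    · exfalso
      apply hD2
      rw [h] at hH'
      exact DD_zero_of_tri (frame_swap F) hH'
    · refine ⟨μ, ?_, h.symm⟩
      rw [Finset.mem_coe, Multiset.mem_toFinset, mem_roots (PP_ne_zero F)]
      rw [h] at hH'
      exact (tri_iff_root F μ).mp hH'
  · rintro ⟨μ, hμ, rfl⟩
    rw [Finset.mem_coe, Multiset.mem_toFinset, mem_roots (PP_ne_zero F)] at hμ
    exact (tri_iff_root F μ).mpr hμ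

theorem plane_inj :
    Function.Injective (fun μ : K => Submodule.span K ({e₁, e₂, w₁ + μ • w₂} : Set V)) := by
  intro μ μ' h
  have hmem : w₁ + μ' • w₂ ∈ Submodule.span K ({e₁, e₂, w₁ + μ • w₂} : Set V) := by
    have h' : Submodule.span K ({e₁, e₂, w₁ + μ • w₂} : Set V)
        = Submodule.span K ({e₁, e₂, w₁ + μ' • w₂} : Set V) := h
    rw [h']; exact Submodule.subset_span (by simp)
  obtain ⟨a, b, c, habc⟩ := Submodule.mem_span_triple.mp hmem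
  have e : a • e₁ + b • e₂ + (c - 1) • w₁ + (c * μ - μ') • w₂ = 0 := by
    have e' : a • e₁ + b • e₂ + (c - 1) • w₁ + (c * μ - μ') • w₂
        = (a • e₁ + b • e₂ + c • (w₁ + μ • w₂)) - (w₁ + μ' • w₂) := by module
    rw [e', habc, sub_self]
  obtain ⟨-, -, h3, h4⟩ := F.hind _ _ _ _ e
  have hc : c = 1 := by linear_combination h3
  rw [hc] at h4
  linear_combination h4

theorem card_roots (hD2 : DD T e₁ e₂ w₂ ≠ 0) :
    (PP T e₁ e₂ w₁ w₂).roots.toFinset.card = 5 := by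
  have hdeg : (PP T e₁ e₂ w₁ w₂).natDegree = 5 :=
    natDegree_eq_of_le_of_coeff_ne_zero (PP_natDegree_le _ _ _ _)
      (by rw [PP_coeff_five]; exact hD2)
  rw [card_roots_of_simple _ (PP_simple F), hdeg]

theorem ncard_tri_frame (hD2 : DD T e₁ e₂ w₂ ≠ 0) :
    {H : Submodule K V | IsTri T (Submodule.span K {e₁, e₂}) H}.ncard = 5 := by
  rw [tri_set_eq F hD2, Set.InjOn.ncard_image ((plane_inj F).injOn), Set.ncard_coe_finset,
    card_roots F hD2]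

/-! ### two disjoint lines -/

omit [IsAlgClosed K] in
theorem phi_w (L' : Submodule K V)
    (hL'2 : Module.finrank K L' = 2) (hL'L : L' ≠ Submodule.span K {e₁, e₂})
    (hL'H : L' ≤ Submodule.span K {e₁, e₂, w₁}) (hT' : ∀ u ∈ L', T u u u = 0)
    (y : V) (hy : y ∈ L') (hy1 : T y y e₁ = 0) (hy2 : T y y e₂ = 0) : T y y w₁ = 0 := by
  have hex : ∃ z ∈ L', z ∉ Submodule.span K ({e₁, e₂} : Set V) := by
    by_contra hcon
    push_neg at hcon
    apply hL'L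
    have hle : L' ≤ Submodule.span K ({e₁, e₂} : Set V) := hcon
    exact Submodule.eq_of_le_of_finrank_eq hle (by rw [hL'2, finrank_L F])
  obtain ⟨z, hzL', hzL⟩ := hex
  obtain ⟨p, q, r, hz⟩ := Submodule.mem_span_triple.mp (hL'H hzL')
  have hr : r ≠ 0 := by
    intro hr
    apply hzL
    rw [← hz, hr, zero_smul, add_zero]
    exact mem_L p q
  have hpol := F.hT.polar2 L' hT' y hy z hzL'
  rw [← hz, F.hT.add₃, F.hT.add₃, F.hT.smul₃, F.hT.smul₃, F.hT.smul₃, hy1, hy2] at hpol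
  have h : r * T y y w₁ = 0 := by linear_combination hpol
  rcases mul_eq_zero.mp h with h' | h'
  · exact absurd h' hr
  · exact h'

omit [IsAlgClosed K] in
theorem disjoint_of_planes (μ₁ μ₂ : K) (hμ : μ₁ ≠ μ₂) (L₁ L₂ : Submodule K V)
    (h₁2 : Module.finrank K L₁ = 2) (h₁L : L₁ ≠ Submodule.span K {e₁, e₂})
    (h₁H : L₁ ≤ Submodule.span K {e₁, e₂, w₁ + μ₁ • w₂}) (hT₁ : ∀ u ∈ L₁, T u u u = 0)
    (h₂2 : Module.finrank K L₂ = 2) (h₂L : L₂ ≠ Submodule.span K {e₁, e₂})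
    (h₂H : L₂ ≤ Submodule.span K {e₁, e₂, w₁ + μ₂ • w₂}) (hT₂ : ∀ u ∈ L₂, T u u u = 0) :
    L₁ ⊓ L₂ = ⊥ := by
  rw [Submodule.eq_bot_iff]
  intro y hy
  obtain ⟨hy1, hy2⟩ := Submodule.mem_inf.mp hy
  by_contra hy0
  obtain ⟨a, b, c, e1⟩ := Submodule.mem_span_triple.mp (h₁H hy1)
  obtain ⟨a', b', c', e2⟩ := Submodule.mem_span_triple.mp (h₂H hy2)
  have e : (a - a') • e₁ + (b - b') • e₂ + (c - c') • w₁ + (c * μ₁ - c' * μ₂) • w₂ = 0 := by
    have e' : (a - a') • e₁ + (b - b') • e₂ + (c - c') • w₁ + (c * μ₁ - c' * μ₂) • w₂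
        = (a • e₁ + b • e₂ + c • (w₁ + μ₁ • w₂))
          - (a' • e₁ + b' • e₂ + c' • (w₁ + μ₂ • w₂)) := by module
    rw [e', e1, e2, sub_self]
  obtain ⟨-, -, h3, h4⟩ := F.hind _ _ _ _ e
  have hc : c = 0 := by
    have hcc : c = c' := by linear_combination h3
    rw [← hcc] at h4
    have h5 : c * (μ₁ - μ₂) = 0 := by linear_combination h4
    rcases mul_eq_zero.mp h5 with h' | h'
    · exact h'
    · exact absurd (sub_eq_zero.mp h') hμ
  rw [hc, zero_smul, add_zero] at e1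
  have hye : y = a • e₁ + b • e₂ + (0 : K) • w₁ := by rw [zero_smul, add_zero, e1]
  have k1 : T e₁ e₂ e₁ = 0 := (F.hT.s23 e₁ e₂ e₁).trans F.h112
  have k2 : T e₂ e₂ e₁ = 0 := (F.hT.s13 e₂ e₂ e₁).trans F.h122
  have φ1 : T y y e₁ = 0 := by
    rw [hye, quad3 F.hT, F.h111, k1, k2]; ring
  have φ2 : T y y e₂ = 0 := by
    rw [hye, quad3 F.hT, F.h112, F.h122, F.h222]; ring
  have ψ1 : T y y (w₁ + μ₁ • w₂) = 0 :=
    phi_w (frame_shift F μ₁) L₁ h₁2 h₁L h₁H hT₁ y hy1 φ1 φ2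
  have ψ2 : T y y (w₁ + μ₂ • w₂) = 0 :=
    phi_w (frame_shift F μ₂) L₂ h₂2 h₂L h₂H hT₂ y hy2 φ1 φ2
  rw [F.hT.add₃, F.hT.smul₃] at ψ1 ψ2
  have φ4 : T y y w₂ = 0 := by
    have h5 : (μ₁ - μ₂) * T y y w₂ = 0 := by linear_combination ψ1 - ψ2
    rcases mul_eq_zero.mp h5 with h' | h'
    · exact absurd (sub_eq_zero.mp h') hμ
    · exact h'
  have φ3 : T y y w₁ = 0 := by
    rw [φ4] at ψ1; linear_combination ψ1
  obtain ⟨u, hu⟩ := F.hsm y hy0 (hT₁ y hy1)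
  obtain ⟨p, q, s, t, hu'⟩ := F.hspan u
  apply hu
  rw [hu']
  simp only [F.hT.add₃, F.hT.smul₃]
  rw [φ1, φ2, φ3, φ4]; ring

theorem exists_disjoint_frame (hD2 : DD T e₁ e₂ w₂ ≠ 0) :
    ∃ U₁ U₂ : Submodule K V, IsLine T U₁ ∧ IsLine T U₂ ∧ U₁ ⊓ U₂ = ⊥ := by
  have h1 : 1 < (PP T e₁ e₂ w₁ w₂).roots.toFinset.card := by
    rw [card_roots F hD2]; norm_num
  obtain ⟨μ₁, hμ₁, μ₂, hμ₂, hne⟩ := Finset.one_lt_card.mp h1
  rw [Multiset.mem_toFinset, mem_roots (PP_ne_zero F)] at hμ₁ hμ₂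
  obtain ⟨-, -, L₁, _, h₁2, -, h₁L, -, -, h₁H, -, hT₁, -⟩ := (tri_iff_root F μ₁).mpr hμ₁
  obtain ⟨-, -, L₂, _, h₂2, -, h₂L, -, -, h₂H, -, hT₂, -⟩ := (tri_iff_root F μ₂).mpr hμ₂
  exact ⟨L₁, L₂, ⟨h₁2, hT₁⟩, ⟨h₂2, hT₂⟩,
    disjoint_of_planes F μ₁ μ₂ hne L₁ L₂ h₁2 h₁L h₁H hT₁ h₂2 h₂L h₂H hT₂⟩

end count

section final

variable [CharZero K] [IsAlgClosed K] [FiniteDimensional K V]

/-- exactly five tritangent planes pass through a line of a smooth cubic surface -/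
theorem ncard_tri (hT : SymTri T)
    (hsm : ∀ v : V, v ≠ 0 → T v v v = 0 → ∃ u, T v v u ≠ 0)
    (hdim : Module.finrank K V = 4)
    (L : Submodule K V) (hL2 : Module.finrank K L = 2) (hLT : ∀ u ∈ L, T u u u = 0) :
    {H : Submodule K V | IsTri T L H}.ncard = 5 := by
  obtain ⟨e₁, e₂, w₁, w₂, hL, F⟩ := exists_frame hT hsm hdim L hL2 hLT
  obtain ⟨w₁', w₂', F', hD⟩ := exists_good_frame F
  rw [hL]
  exact ncard_tri_frame F' hD

/-- a smooth cubic surface containing a line contains two disjoint lines -/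
theorem exists_disjoint (hT : SymTri T)
    (hsm : ∀ v : V, v ≠ 0 → T v v v = 0 → ∃ u, T v v u ≠ 0)
    (hdim : Module.finrank K V = 4)
    (L : Submodule K V) (hL2 : Module.finrank K L = 2) (hLT : ∀ u ∈ L, T u u u = 0) :
    ∃ U₁ U₂ : Submodule K V, IsLine T U₁ ∧ IsLine T U₂ ∧ U₁ ⊓ U₂ = ⊥ := by
  obtain ⟨e₁, e₂, w₁, w₂, hL, F⟩ := exists_frame hT hsm hdim L hL2 hLT
  obtain ⟨w₁', w₂', F', hD⟩ := exists_good_frame F
  exact exists_disjoint_frame F' hD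

end final

end Groth.Agent.Lib.Helper8.TriC
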