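import Mathlib
import Groth.Agent.Lib.Helper8.TriC

/-!
# Tritangent planes and disjoint lines on a smooth cubic surface: the polynomial statements
-/

namespace Groth.Agent.Lib.Helper8.TriD

open Groth.Agent.Lib.Helper8.CubLines Groth.Agent.Lib.Helper8.ODPc Groth.Agent.Lib.Helper8.TriB
  Groth.Agent.Lib.Helper8.TriC MvPolynomial

universe u

variable {K : Type u} [Field K] [IsAlgClosed K] [CharZero K]

theorem eval_iff (f : MvPolynomial (Fin 4) K) (hf : f.IsHomogeneous 3) (u : Fin 4 → K) :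
    eval u f = 0 ↔ TT f u u u = 0 := by
  rw [← six_eval f hf u]
  constructor
  · intro h; rw [h, mul_zero]
  · intro h
    rcases mul_eq_zero.mp h with h' | h'
    · norm_num at h'
    · exact h'

theorem smooth_TT (f : MvPolynomial (Fin 4) K) (hf : f.IsHomogeneous 3)
    (hsm : ∀ v : Fin 4 → K, v ≠ 0 → eval v f = 0 → ∃ i : Fin 4, eval v (pderiv i f) ≠ 0) :
    ∀ v : Fin 4 → K, v ≠ 0 → TT f v v v = 0 → ∃ u, TT f v v u ≠ 0 := by
  intro v hv hvvv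
  obtain ⟨i, hi⟩ := hsm v hv ((eval_iff f hf v).mpr hvvv)
  refine ⟨Pi.single i 1, ?_⟩
  rw [← two_eval_pderiv f hf v i]
  exact mul_ne_zero two_ne_zero hi

theorem main5 (f : MvPolynomial (Fin 4) K) (hf : f.IsHomogeneous 3)
    (hsm : ∀ v : Fin 4 → K, v ≠ 0 → eval v f = 0 → ∃ i : Fin 4, eval v (pderiv i f) ≠ 0)
    (L : Submodule K (Fin 4 → K)) (hL : Module.finrank K ↥L = 2)
    (hLS : ∀ u ∈ L, eval u f = 0) :
    {H : Submodule K (Fin 4 → K) | Module.finrank K ↥H = 3 ∧ L ≤ H ∧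
      ∃ L' L'' : Submodule K (Fin 4 → K), Module.finrank K ↥L' = 2 ∧
        Module.finrank K ↥L'' = 2 ∧
        L' ≠ L ∧ L'' ≠ L ∧ L' ≠ L'' ∧ L' ≤ H ∧ L'' ≤ H ∧
        (∀ u ∈ L', eval u f = 0) ∧ (∀ u ∈ L'', eval u f = 0)}.ncard = 5 := by
  have e : {H : Submodule K (Fin 4 → K) | Module.finrank K ↥H = 3 ∧ L ≤ H ∧
      ∃ L' L'' : Submodule K (Fin 4 → K), Module.finrank K ↥L' = 2 ∧
        Module.finrank K ↥L'' = 2 ∧
        L' ≠ L ∧ L'' ≠ L ∧ L' ≠ L'' ∧ L' ≤ H ∧ L'' ≤ H ∧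
        (∀ u ∈ L', eval u f = 0) ∧ (∀ u ∈ L'', eval u f = 0)}
      = {H : Submodule K (Fin 4 → K) | IsTri (TT f) L H} := by
    ext H
    constructor
    · rintro ⟨h1, h2, L', L'', a1, a2, a3, a4, a5, a6, a7, a8, a9⟩
      exact ⟨h1, h2, L', L'', a1, a2, a3, a4, a5, a6, a7,
        fun u hu => (eval_iff f hf u).mp (a8 u hu), fun u hu => (eval_iff f hf u).mp (a9 u hu)⟩
    · rintro ⟨h1, h2, L', L'', a1, a2, a3, a4, a5, a6, a7, a8, a9⟩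
      exact ⟨h1, h2, L', L'', a1, a2, a3, a4, a5, a6, a7,
        fun u hu => (eval_iff f hf u).mpr (a8 u hu), fun u hu => (eval_iff f hf u).mpr (a9 u hu)⟩
  rw [e]
  exact ncard_tri (TT_symTri f) (smooth_TT f hf hsm) (Module.finrank_fin_fun K) L hL
    (fun u hu => (eval_iff f hf u).mp (hLS u hu))

theorem main_disjoint (f : MvPolynomial (Fin 4) K) (hf : f.IsHomogeneous 3)
    (hsm : ∀ v : Fin 4 → K, v ≠ 0 → eval v f = 0 → ∃ i : Fin 4, eval v (pderiv i f) ≠ 0)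
    (hL : ∃ U : Submodule K (Fin 4 → K),
      (Module.finrank K ↥U = 2 ∧ ∀ u ∈ U, eval u f = 0)) :
    ∃ U₁ U₂ : Submodule K (Fin 4 → K),
      (Module.finrank K ↥U₁ = 2 ∧ ∀ u ∈ U₁, eval u f = 0) ∧
      (Module.finrank K ↥U₂ = 2 ∧ ∀ u ∈ U₂, eval u f = 0) ∧ U₁ ⊓ U₂ = ⊥ := by
  obtain ⟨L, hL2, hLS⟩ := hL
  obtain ⟨U₁, U₂, h₁, h₂, hd⟩ := exists_disjoint (TT_symTri f) (smooth_TT f hf hsm)
    (Module.finrank_fin_fun K) L hL2 (fun u hu => (eval_iff f hf u).mp (hLS u hu))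
  exact ⟨U₁, U₂, ⟨h₁.1, fun u hu => (eval_iff f hf u).mpr (h₁.2 u hu)⟩,
    ⟨h₂.1, fun u hu => (eval_iff f hf u).mpr (h₂.2 u hu)⟩, hd⟩

end Groth.Agent.Lib.Helper8.TriD
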