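import Mathlib

set_option autoImplicit false

namespace Groth.Agent.Lib.Helper8.Trisec

open MvPolynomial Module

variable {K : Type*} [Field K]

theorem finrank_homog (n : ℕ) :
    Module.finrank K ↥(homogeneousSubmodule (Fin 2) K n) = n + 1 := by
  classical
  have h1 : {d : Fin 2 →₀ ℕ | Finsupp.degree d = n} =
      (↑((Finset.univ : Finset (Fin 2)).finsuppAntidiag n) : Set (Fin 2 →₀ ℕ)) := by
    ext d
    simp only [Set.mem_ofPred_eq, Finset.mem_coe, Finset.mem_finsuppAntidiag, Finset.subset_univ,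
      and_true]
    rw [Finsupp.degree_eq_sum]
  have hc : ((Finset.univ : Finset (Fin 2)).finsuppAntidiag n).card = n + 1 := by
    rw [Finset.card_finsuppAntidiag_nat_eq_choose, Finset.card_univ, Fintype.card_fin]
    have : 2 + n - 1 = n + 1 := by omega
    rw [this, Nat.choose_succ_self_right]
  rw [homogeneousSubmodule_eq_finsupp_supported, h1,
    LinearEquiv.finrank_eq (AddMonoidAlgebra.supportedEquivFinsupp _),
    Module.finrank_finsupp_self, Fintype.card_eq_nat_card]
  exact (Nat.card_eq_finsetCard _).trans hc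

set_option backward.isDefEq.respectTransparency false in
theorem main (V : Submodule K (MvPolynomial (Fin 2) K))
    (hV : V ≤ homogeneousSubmodule (Fin 2) K 5) (hdim : Module.finrank K ↥V = 5)
    (hsep : ∀ e ∈ homogeneousSubmodule (Fin 2) K 2, e ≠ 0 →
      ∀ F ∈ homogeneousSubmodule (Fin 2) K 5, ∃ v ∈ V,
        ∃ h ∈ homogeneousSubmodule (Fin 2) K 3, F = v + e * h) :
    ∃ g ∈ homogeneousSubmodule (Fin 2) K 3, g ≠ 0 ∧
      (∀ h ∈ homogeneousSubmodule (Fin 2) K 2, g * h ∈ V) ∧
      ∀ g' ∈ homogeneousSubmodule (Fin 2) K 3,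
        (∀ h ∈ homogeneousSubmodule (Fin 2) K 2, g' * h ∈ V) → ∃ c : K, g' = c • g := by
  classical
  haveI hfin : ∀ d, Module.Finite K ↥(homogeneousSubmodule (Fin 2) K d) := fun d =>
    Module.Finite.iff_fg.mpr (homogeneousSubmodule_fg (Fin 2) K d)
  have hV' : Module.finrank K ↥(V.comap (homogeneousSubmodule (Fin 2) K 5).subtype) = 5 := by
    exact (Submodule.comapSubtypeEquivOfLe hV).finrank_eq.trans hdim
  have hq : Module.finrank K (↥(homogeneousSubmodule (Fin 2) K 5) ⧸
      V.comap (homogeneousSubmodule (Fin 2) K 5).subtype) = 1 := by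
    have h := Submodule.finrank_quotient_add_finrank
      (V.comap (homogeneousSubmodule (Fin 2) K 5).subtype)
    rw [finrank_homog 5, hV'] at h
    omega
  let ε : (↥(homogeneousSubmodule (Fin 2) K 5) ⧸
      V.comap (homogeneousSubmodule (Fin 2) K 5).subtype) ≃ₗ[K] K :=
    LinearEquiv.ofFinrankEq _ _ (by rw [hq, Module.finrank_self])
  obtain ⟨φ, hφ⟩ := LinearMap.exists_extend
    (ε.toLinearMap ∘ₗ (V.comap (homogeneousSubmodule (Fin 2) K 5).subtype).mkQ)
  have hφV : ∀ F ∈ homogeneousSubmodule (Fin 2) K 5, (φ F = 0 ↔ F ∈ V) := by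
    intro F hF
    have h1 : φ F = ε ((V.comap (homogeneousSubmodule (Fin 2) K 5).subtype).mkQ ⟨F, hF⟩) := by
      have := LinearMap.congr_fun hφ ⟨F, hF⟩
      simpa using this
    rw [h1, LinearEquiv.map_eq_zero_iff, Submodule.mkQ_apply, Submodule.Quotient.mk_eq_zero]
    simp only [Submodule.mem_comap, Submodule.subtype_apply]
  let B : ↥(homogeneousSubmodule (Fin 2) K 3) →ₗ[K] ↥(homogeneousSubmodule (Fin 2) K 2) →ₗ[K] K :=
    ((LinearMap.mul K (MvPolynomial (Fin 2) K)).compr₂ φ).domRestrict₁₂ _ _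
  have hB : ∀ g h, B g h = φ (g.1 * h.1) := fun g h => rfl
  have hmul : ∀ (g : ↥(homogeneousSubmodule (Fin 2) K 3))
      (h : ↥(homogeneousSubmodule (Fin 2) K 2)),
      g.1 * h.1 ∈ homogeneousSubmodule (Fin 2) K 5 := by
    intro g h
    have h3 : (g.1).IsHomogeneous 3 := (mem_homogeneousSubmodule 3 g.1).mp g.2
    have h2 : (h.1).IsHomogeneous 2 := (mem_homogeneousSubmodule 2 h.1).mp h.2
    exact (mem_homogeneousSubmodule 5 _).mpr (h3.mul h2)
  have hinj : Function.Injective B.flip := by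
    rw [← LinearMap.ker_eq_bot, LinearMap.ker_eq_bot']
    intro h hh
    by_contra hne
    have hne' : h.1 ≠ 0 := fun h0 => hne (Subtype.ext h0)
    have hall : homogeneousSubmodule (Fin 2) K 5 ≤ V := by
      intro F hF
      obtain ⟨v, hv, c, hc, hFeq⟩ := hsep h.1 h.2 hne' F hF
      rw [← hφV _ hF, hFeq, map_add, (hφV v (hV hv)).mpr hv, zero_add]
      have h1 : B.flip h ⟨c, hc⟩ = 0 := by rw [hh]; rfl
      rw [LinearMap.flip_apply, hB] at h1
      rw [mul_comm]
      exact h1
    have h6 : Module.finrank K ↥V = 6 := by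
      rw [le_antisymm hV hall]; exact finrank_homog 5
    omega
  have hsurj : Function.Surjective B := LinearMap.flip_injective_iff₁.mp hinj
  have hrange : Module.finrank K ↥(LinearMap.range B) = 3 := by
    rw [LinearMap.range_eq_top.mpr hsurj, finrank_top]
    exact (Subspace.dual_finrank_eq (K := K)
      (V := ↥(homogeneousSubmodule (Fin 2) K 2))).trans (finrank_homog 2)
  have hker : Module.finrank K ↥(LinearMap.ker B) = 1 := by
    have h := LinearMap.finrank_range_add_finrank_ker B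
    rw [hrange, finrank_homog 3] at h
    omega
  obtain ⟨W, hW⟩ : ∃ W : Submodule K ↥(homogeneousSubmodule (Fin 2) K 3), W = LinearMap.ker B :=
    ⟨_, rfl⟩
  rw [← hW] at hker
  obtain ⟨g, hg0⟩ : ∃ g : ↥W, g ≠ 0 := by
    by_contra hcon
    have hcon' : ∀ g : ↥W, g = 0 := fun g => by_contra fun h => hcon ⟨g, h⟩
    haveI : Subsingleton ↥W := ⟨fun a b => by rw [hcon' a, hcon' b]⟩
    rw [Module.finrank_zero_of_subsingleton] at hker
    omega
  have hgall := (finrank_eq_one_iff_of_nonzero' g hg0).mp hker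
  have hgker : g.1 ∈ LinearMap.ker B := hW ▸ g.2
  refine ⟨g.1.1, g.1.2, fun h0 => hg0 (Subtype.ext (Subtype.ext h0)), ?_, ?_⟩
  · intro h hh
    have h1 : B g.1 ⟨h, hh⟩ = 0 := by rw [LinearMap.mem_ker.mp hgker]; rfl
    rw [hB] at h1
    exact (hφV _ (hmul g.1 ⟨h, hh⟩)).mp h1
  · intro g' hg' hall
    have hmem : (⟨g', hg'⟩ : ↥(homogeneousSubmodule (Fin 2) K 3)) ∈ W := by
      rw [hW, LinearMap.mem_ker]
      ext h
      rw [hB]
      exact (hφV _ (hmul ⟨g', hg'⟩ h)).mpr (hall h.1 h.2)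
    obtain ⟨c, hc⟩ := hgall ⟨⟨g', hg'⟩, hmem⟩
    refine ⟨c, ?_⟩
    have := congrArg (fun x : ↥W => x.1.1) hc
    simpa using this.symm

end Groth.Agent.Lib.Helper8.Trisec
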