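import Mathlib
import Groth.Agent.Lib.Helper8.Trisec
import Groth.Agent.Lib.Helper8.CubLines

/-!
Trisecant lines of a rational quintic curve in `P^3` (for S19809): a `4`-dimensional
very ample space `V` of binary quintics has infinitely many cubics `g` with
`dim (V ∩ g · K[s,t]_2) ≥ 2`.
-/

set_option autoImplicit false

namespace Groth.Agent.Lib.Helper8.Trisec2

open MvPolynomial Module
open Groth.Agent.Lib.Helper8.Trisec
open Groth.Agent.Lib.Helper8.CubLines

universe u

variable {K : Type u} [Field K]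

theorem mulLeft_inj {l : MvPolynomial (Fin 2) K} (hl : l ≠ 0) :
    Function.Injective (LinearMap.mulLeft K l) := by
  intro a b hab
  rw [LinearMap.mulLeft_apply, LinearMap.mulLeft_apply] at hab
  exact mul_left_cancel₀ hl hab

theorem exists_root_cubic [IsAlgClosed K] (a₃ a₂ a₁ a₀ : K) (h : a₃ ≠ 0) :
    ∃ t : K, a₃ * t ^ 3 + a₂ * t ^ 2 + a₁ * t + a₀ = 0 := by
  obtain ⟨p, hp⟩ : ∃ p : Polynomial K, p = Polynomial.monomial 3 a₃ +
      Polynomial.monomial 2 a₂ + Polynomial.monomial 1 a₁ + Polynomial.monomial 0 a₀ := ⟨_, rfl⟩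
  have hc : p.coeff 3 = a₃ := by
    rw [hp]; simp [Polynomial.coeff_monomial]
  have hdeg : p.degree ≠ 0 := by
    intro h0
    have h1 : p.natDegree = 0 := Polynomial.natDegree_eq_zero_iff_degree_le_zero.mpr (le_of_eq h0)
    have h2 : 3 ≤ p.natDegree := Polynomial.le_natDegree_of_ne_zero (by rw [hc]; exact h)
    omega
  obtain ⟨t, ht⟩ := IsAlgClosed.exists_root p hdeg
  refine ⟨t, ?_⟩
  rw [Polynomial.IsRoot.def, hp] at ht
  simpa [Polynomial.eval_monomial] using ht

theorem exists_zero_cubic [IsAlgClosed K] [CharZero K] (g : MvPolynomial (Fin 2) K)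
    (hg : g.IsHomogeneous 3) : ∃ p : Fin 2 → K, p ≠ 0 ∧ eval p g = 0 := by
  have hT := TT_symTri g
  have h6' : (6 : K) ≠ 0 := by norm_num
  obtain ⟨u, hu⟩ : ∃ u : Fin 2 → K, u = ![1, 0] := ⟨_, rfl⟩
  obtain ⟨v, hv⟩ : ∃ v : Fin 2 → K, v = ![0, 1] := ⟨_, rfl⟩
  by_cases h0 : TT g u u u = 0
  · refine ⟨u, ?_, ?_⟩
    · intro h
      have := congrFun h 0
      rw [hu] at this
      simp at this
    · have h6 := six_eval g hg u
      rw [h0] at h6
      exact (mul_eq_zero.mp h6).resolve_left h6'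
  · obtain ⟨t, ht⟩ := exists_root_cubic (TT g u u u) (3 * TT g u u v) (3 * TT g u v v)
      (TT g v v v) h0
    refine ⟨t • u + v, ?_, ?_⟩
    · intro h
      have := congrFun h 1
      rw [hu, hv] at this
      simp at this
    · have h6 := six_eval g hg (t • u + v)
      have hc := hT.cube_add (t • u) v
      rw [hc] at h6
      simp only [hT.smul₁, hT.smul₂, hT.smul₃] at h6
      have : 6 * eval (t • u + v) g = 0 := by rw [h6]; linear_combination ht
      exact (mul_eq_zero.mp this).resolve_left h6'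

theorem exists_linear_factor [IsAlgClosed K] [CharZero K] (g : MvPolynomial (Fin 2) K)
    (hg : g ∈ homogeneousSubmodule (Fin 2) K 3) (hg0 : g ≠ 0) :
    ∃ l e : MvPolynomial (Fin 2) K, l ∈ homogeneousSubmodule (Fin 2) K 1 ∧
      e ∈ homogeneousSubmodule (Fin 2) K 2 ∧ e ≠ 0 ∧ g = l * e := by
  classical
  haveI hfin : ∀ d, Module.Finite K ↥(homogeneousSubmodule (Fin 2) K d) := fun d =>
    Module.Finite.iff_fg.mpr (homogeneousSubmodule_fg (Fin 2) K d)
  obtain ⟨p, hp0, hpg⟩ := exists_zero_cubic g ((mem_homogeneousSubmodule 3 g).mp hg)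
  obtain ⟨l, hl⟩ : ∃ l : MvPolynomial (Fin 2) K, l = C (p 1) * X 0 - C (p 0) * X 1 := ⟨_, rfl⟩
  have hlH : l ∈ homogeneousSubmodule (Fin 2) K 1 := by
    rw [hl]
    refine Submodule.sub_mem _ ?_ ?_
    · exact (mem_homogeneousSubmodule 1 _).mpr (isHomogeneous_C_mul_X (p 1) 0)
    · exact (mem_homogeneousSubmodule 1 _).mpr (isHomogeneous_C_mul_X (p 0) 1)
  have hle : ∀ q : Fin 2 → K, eval q l = p 1 * q 0 - p 0 * q 1 := by
    intro q; rw [hl]; simp
  have hl0 : l ≠ 0 := by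
    intro h
    have h1 : p 1 = 0 := by
      have := hle ![1, 0]
      rw [h, map_zero] at this
      simp at this
      first | exact this | exact this.symm
    have h2 : p 0 = 0 := by
      have := hle ![0, 1]
      rw [h, map_zero] at this
      simp at this
      first | exact this | exact this.symm
    have hz : ∀ i : Fin 2, p i = (0 : Fin 2 → K) i := Fin.forall_fin_two.mpr ⟨h2, h1⟩
    exact hp0 (funext hz)
  have hpl : eval p l = 0 := by rw [hle]; ring
  obtain ⟨evL, hevL⟩ : ∃ evL : MvPolynomial (Fin 2) K →ₗ[K] K, ∀ G, evL G = eval p G :=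
    ⟨(aeval p : MvPolynomial (Fin 2) K →ₐ[K] K).toLinearMap, fun G => by
      rw [AlgHom.toLinearMap_apply, aeval_eq_eval]⟩
  obtain ⟨N, hN⟩ : ∃ N : Submodule K (MvPolynomial (Fin 2) K),
      N = homogeneousSubmodule (Fin 2) K 3 ⊓ LinearMap.ker evL := ⟨_, rfl⟩
  obtain ⟨M, hM⟩ : ∃ M : Submodule K (MvPolynomial (Fin 2) K),
      M = (homogeneousSubmodule (Fin 2) K 2).map (LinearMap.mulLeft K l) := ⟨_, rfl⟩
  have hMN : M ≤ N := by
    rw [hM, hN]
    rintro _ ⟨h, hh, rfl⟩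
    refine Submodule.mem_inf.mpr ⟨?_, ?_⟩
    · rw [LinearMap.mulLeft_apply]
      exact (mem_homogeneousSubmodule 3 _).mpr
        (((mem_homogeneousSubmodule 1 l).mp hlH).mul ((mem_homogeneousSubmodule 2 h).mp hh))
    · rw [LinearMap.mem_ker, LinearMap.mulLeft_apply, hevL, map_mul, hpl, zero_mul]
  have hMrank : Module.finrank K ↥M = 3 := by
    have e1 := (Submodule.equivMapOfInjective (LinearMap.mulLeft K l) (mulLeft_inj hl0)
      (homogeneousSubmodule (Fin 2) K 2)).finrank_eq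
    rw [finrank_homog 2] at e1
    rw [hM]; omega
  have hNle : N ≤ homogeneousSubmodule (Fin 2) K 3 := by rw [hN]; exact inf_le_left
  have hNlt : N < homogeneousSubmodule (Fin 2) K 3 := by
    refine lt_of_le_of_ne hNle ?_
    intro hEq
    obtain ⟨i, hi⟩ : ∃ i, p i ≠ 0 := by
      by_contra hcon
      exact hp0 (funext fun i => by_contra fun hi => hcon ⟨i, hi⟩)
    have hX : (X i : MvPolynomial (Fin 2) K) ^ 3 ∈ homogeneousSubmodule (Fin 2) K 3 :=
      (mem_homogeneousSubmodule 3 _).mpr (isHomogeneous_X_pow i 3)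
    rw [← hEq, hN] at hX
    have := (Submodule.mem_inf.mp hX).2
    rw [LinearMap.mem_ker, hevL, map_pow, eval_X] at this
    exact pow_ne_zero 3 hi this
  haveI : FiniteDimensional K ↥N := Submodule.finiteDimensional_of_le hNle
  have hNrank : Module.finrank K ↥N ≤ 3 := by
    have := Submodule.finrank_lt_finrank_of_lt hNlt
    rw [finrank_homog 3] at this
    omega
  have hMeqN : M = N := Submodule.eq_of_le_of_finrank_le hMN (by rw [hMrank]; exact hNrank)
  have hgN : g ∈ N := by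
    rw [hN]
    exact Submodule.mem_inf.mpr ⟨hg, by rw [LinearMap.mem_ker, hevL]; exact hpg⟩
  rw [← hMeqN, hM] at hgN
  obtain ⟨e, he, heq⟩ := Submodule.mem_map.mp hgN
  rw [LinearMap.mulLeft_apply] at heq
  refine ⟨l, e, hlH, he, ?_, heq.symm⟩
  intro h0
  rw [h0, mul_zero] at heq
  exact hg0 heq.symm

set_option backward.isDefEq.respectTransparency false in
theorem exists_Phi (V : Submodule K (MvPolynomial (Fin 2) K))
    (hV : V ≤ homogeneousSubmodule (Fin 2) K 5) (hdim : Module.finrank K ↥V = 4) :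
    ∃ Φ : MvPolynomial (Fin 2) K →ₗ[K] (Fin 2 → K),
      ∀ F ∈ homogeneousSubmodule (Fin 2) K 5, (Φ F = 0 ↔ F ∈ V) := by
  classical
  haveI hfin : ∀ d, Module.Finite K ↥(homogeneousSubmodule (Fin 2) K d) := fun d =>
    Module.Finite.iff_fg.mpr (homogeneousSubmodule_fg (Fin 2) K d)
  have hV' : Module.finrank K ↥(V.comap (homogeneousSubmodule (Fin 2) K 5).subtype) = 4 :=
    (Submodule.comapSubtypeEquivOfLe hV).finrank_eq.trans hdim
  have hq : Module.finrank K (↥(homogeneousSubmodule (Fin 2) K 5) ⧸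
      V.comap (homogeneousSubmodule (Fin 2) K 5).subtype) = 2 := by
    have h := Submodule.finrank_quotient_add_finrank
      (V.comap (homogeneousSubmodule (Fin 2) K 5).subtype)
    rw [finrank_homog 5, hV'] at h
    omega
  let ε : (↥(homogeneousSubmodule (Fin 2) K 5) ⧸
      V.comap (homogeneousSubmodule (Fin 2) K 5).subtype) ≃ₗ[K] (Fin 2 → K) :=
    LinearEquiv.ofFinrankEq _ _ (by rw [hq, Module.finrank_fin_fun])
  obtain ⟨φ, hφ⟩ := LinearMap.exists_extend
    (ε.toLinearMap ∘ₗ (V.comap (homogeneousSubmodule (Fin 2) K 5).subtype).mkQ)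
  refine ⟨φ, ?_⟩
  intro F hF
  have h1 : φ F = ε ((V.comap (homogeneousSubmodule (Fin 2) K 5).subtype).mkQ ⟨F, hF⟩) := by
    have := LinearMap.congr_fun hφ ⟨F, hF⟩
    simpa using this
  rw [h1, LinearEquiv.map_eq_zero_iff, Submodule.mkQ_apply, Submodule.Quotient.mk_eq_zero]
  simp only [Submodule.mem_comap, Submodule.subtype_apply]

/-- `g · h` lies in the kernel of the functional `Φ₀ + c Φ₁` for all quadrics `h` -/
def Sol (Φ : MvPolynomial (Fin 2) K →ₗ[K] (Fin 2 → K)) (c : K) (g : MvPolynomial (Fin 2) K) :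
    Prop :=
  ∀ h ∈ homogeneousSubmodule (Fin 2) K 2, Φ (g * h) 0 + c * Φ (g * h) 1 = 0

set_option backward.isDefEq.respectTransparency false in
theorem exists_sol (Φ : MvPolynomial (Fin 2) K →ₗ[K] (Fin 2 → K)) (c : K) :
    ∃ g ∈ homogeneousSubmodule (Fin 2) K 3, g ≠ 0 ∧ Sol Φ c g := by
  classical
  haveI hfin : ∀ d, Module.Finite K ↥(homogeneousSubmodule (Fin 2) K d) := fun d =>
    Module.Finite.iff_fg.mpr (homogeneousSubmodule_fg (Fin 2) K d)
  obtain ⟨ψ, hψ⟩ : ∃ ψ : MvPolynomial (Fin 2) K →ₗ[K] K, ∀ G, ψ G = Φ G 0 + c * Φ G 1 :=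
    ⟨{ toFun := fun G => Φ G 0 + c * Φ G 1
       map_add' := fun a b => by simp only [map_add, Pi.add_apply]; ring
       map_smul' := fun r a => by
         simp only [map_smul, Pi.smul_apply, smul_eq_mul, RingHom.id_apply]; ring }, fun G => rfl⟩
  let B : ↥(homogeneousSubmodule (Fin 2) K 3) →ₗ[K]
      ↥(homogeneousSubmodule (Fin 2) K 2) →ₗ[K] K :=
    ((LinearMap.mul K (MvPolynomial (Fin 2) K)).compr₂ ψ).domRestrict₁₂ _ _
  have hB : ∀ g h, B g h = ψ (g.1 * h.1) := fun g h => rfl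
  have hni : ¬ Function.Injective B := by
    intro hinj
    have h := LinearMap.finrank_le_finrank_of_injective hinj
    rw [finrank_homog 3] at h
    have h2 : Module.finrank K (Module.Dual K ↥(homogeneousSubmodule (Fin 2) K 2)) = 2 + 1 :=
      (Subspace.dual_finrank_eq (K := K)
        (V := ↥(homogeneousSubmodule (Fin 2) K 2))).trans (finrank_homog 2)
    exact absurd (h.trans_eq h2) (by norm_num)
  rw [← LinearMap.ker_eq_bot] at hni
  obtain ⟨g, hgk, hg0⟩ := Submodule.exists_mem_ne_zero_of_ne_bot hni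
  refine ⟨g.1, g.2, fun h0 => hg0 (Subtype.ext h0), ?_⟩
  intro h hh
  have h1 : B g ⟨h, hh⟩ = 0 := by rw [LinearMap.mem_ker.mp hgk]; rfl
  rw [hB, hψ] at h1
  exact h1

theorem sol_unique [IsAlgClosed K] [CharZero K] (V : Submodule K (MvPolynomial (Fin 2) K))
    (hV : V ≤ homogeneousSubmodule (Fin 2) K 5) (hdim : Module.finrank K ↥V = 4)
    (hsep : ∀ e ∈ homogeneousSubmodule (Fin 2) K 2, e ≠ 0 →
      ∀ F ∈ homogeneousSubmodule (Fin 2) K 5, ∃ v ∈ V,
        ∃ h ∈ homogeneousSubmodule (Fin 2) K 3, F = v + e * h)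
    (Φ : MvPolynomial (Fin 2) K →ₗ[K] (Fin 2 → K))
    (hΦ : ∀ F ∈ homogeneousSubmodule (Fin 2) K 5, (Φ F = 0 ↔ F ∈ V))
    (g : MvPolynomial (Fin 2) K) (hg : g ∈ homogeneousSubmodule (Fin 2) K 3) (hg0 : g ≠ 0)
    (c c' : K) (h1 : Sol Φ c g) (h2 : Sol Φ c' g) : c = c' := by
  classical
  by_contra hne
  haveI hfin : ∀ d, Module.Finite K ↥(homogeneousSubmodule (Fin 2) K d) := fun d =>
    Module.Finite.iff_fg.mpr (homogeneousSubmodule_fg (Fin 2) K d)
  have hmul : ∀ h ∈ homogeneousSubmodule (Fin 2) K 2,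
      g * h ∈ homogeneousSubmodule (Fin 2) K 5 := by
    intro h hh
    exact (mem_homogeneousSubmodule 5 _).mpr
      (((mem_homogeneousSubmodule 3 g).mp hg).mul ((mem_homogeneousSubmodule 2 h).mp hh))
  have hall : ∀ h ∈ homogeneousSubmodule (Fin 2) K 2, g * h ∈ V := by
    intro h hh
    have e1 := h1 h hh
    have e2 := h2 h hh
    have hcc : c - c' ≠ 0 := sub_ne_zero.mpr hne
    have z1 : Φ (g * h) 1 = 0 := by
      have : (c - c') * Φ (g * h) 1 = 0 := by linear_combination e1 - e2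
      exact (mul_eq_zero.mp this).resolve_left hcc
    have z0 : Φ (g * h) 0 = 0 := by
      rw [z1, mul_zero, add_zero] at e1
      exact e1
    refine (hΦ _ (hmul h hh)).mp ?_
    have hz : ∀ i : Fin 2, Φ (g * h) i = (0 : Fin 2 → K) i := Fin.forall_fin_two.mpr ⟨z0, z1⟩
    exact funext hz
  obtain ⟨l, e, hl, he, he0, hge⟩ := exists_linear_factor g hg hg0
  obtain ⟨P, hP⟩ : ∃ P : Submodule K (MvPolynomial (Fin 2) K),
      P = (homogeneousSubmodule (Fin 2) K 2).map (LinearMap.mulLeft K g) := ⟨_, rfl⟩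
  obtain ⟨E, hE⟩ : ∃ E : Submodule K (MvPolynomial (Fin 2) K),
      E = (homogeneousSubmodule (Fin 2) K 3).map (LinearMap.mulLeft K e) := ⟨_, rfl⟩
  have hPrank : Module.finrank K ↥P = 3 := by
    have e1 := (Submodule.equivMapOfInjective (LinearMap.mulLeft K g) (mulLeft_inj hg0)
      (homogeneousSubmodule (Fin 2) K 2)).finrank_eq
    rw [finrank_homog 2] at e1
    rw [hP]; omega
  have hErank : Module.finrank K ↥E = 4 := by
    have e1 := (Submodule.equivMapOfInjective (LinearMap.mulLeft K e) (mulLeft_inj he0)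
      (homogeneousSubmodule (Fin 2) K 3)).finrank_eq
    rw [finrank_homog 3] at e1
    rw [hE]; omega
  have hPV : P ≤ V := by
    rw [hP]
    rintro _ ⟨h, hh, rfl⟩
    rw [LinearMap.mulLeft_apply]
    exact hall h hh
  have hPE : P ≤ E := by
    rw [hP, hE]
    rintro _ ⟨h, hh, rfl⟩
    refine Submodule.mem_map.mpr ⟨l * h, ?_, ?_⟩
    · exact (mem_homogeneousSubmodule 3 _).mpr
        (((mem_homogeneousSubmodule 1 l).mp hl).mul ((mem_homogeneousSubmodule 2 h).mp hh))
    · rw [LinearMap.mulLeft_apply, LinearMap.mulLeft_apply, hge]; ring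
  have hEH : E ≤ homogeneousSubmodule (Fin 2) K 5 := by
    rw [hE]
    rintro _ ⟨h, hh, rfl⟩
    rw [LinearMap.mulLeft_apply]
    exact (mem_homogeneousSubmodule 5 _).mpr
      (((mem_homogeneousSubmodule 2 e).mp he).mul ((mem_homogeneousSubmodule 3 h).mp hh))
  haveI : FiniteDimensional K ↥V := FiniteDimensional.of_finrank_pos (by rw [hdim]; norm_num)
  haveI : FiniteDimensional K ↥E := Submodule.finiteDimensional_of_le hEH
  have hsup : V ⊔ E = homogeneousSubmodule (Fin 2) K 5 := by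
    apply le_antisymm (sup_le hV hEH)
    intro F hF
    obtain ⟨v, hv, h, hh, hFeq⟩ := hsep e he he0 F hF
    rw [hFeq]
    refine Submodule.add_mem_sup hv ?_
    rw [hE]
    exact Submodule.mem_map.mpr ⟨h, hh, rfl⟩
  have hform := Submodule.finrank_sup_add_finrank_inf_eq V E
  rw [hsup, finrank_homog 5, hdim, hErank] at hform
  have hle : P ≤ V ⊓ E := le_inf hPV hPE
  haveI : FiniteDimensional K ↥(V ⊓ E) := Submodule.finiteDimensional_inf_left V E
  have hmono := LinearMap.finrank_le_finrank_of_injective (Submodule.inclusion_injective hle)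
  rw [hPrank] at hmono
  omega

theorem finrank_ge (V : Submodule K (MvPolynomial (Fin 2) K))
    (hV : V ≤ homogeneousSubmodule (Fin 2) K 5) (hdim : Module.finrank K ↥V = 4)
    (Φ : MvPolynomial (Fin 2) K →ₗ[K] (Fin 2 → K))
    (hΦ : ∀ F ∈ homogeneousSubmodule (Fin 2) K 5, (Φ F = 0 ↔ F ∈ V))
    (g : MvPolynomial (Fin 2) K) (hg : g ∈ homogeneousSubmodule (Fin 2) K 3) (hg0 : g ≠ 0)
    (c : K) (h1 : Sol Φ c g) :
    2 ≤ Module.finrank K
      ↥(V ⊓ (homogeneousSubmodule (Fin 2) K 2).map (LinearMap.mulLeft K g)) := by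
  classical
  haveI hfin : ∀ d, Module.Finite K ↥(homogeneousSubmodule (Fin 2) K d) := fun d =>
    Module.Finite.iff_fg.mpr (homogeneousSubmodule_fg (Fin 2) K d)
  haveI : FiniteDimensional K ↥V := FiniteDimensional.of_finrank_pos (by rw [hdim]; norm_num)
  obtain ⟨f, hf⟩ : ∃ f : ↥(homogeneousSubmodule (Fin 2) K 2) →ₗ[K] MvPolynomial (Fin 2) K,
      ∀ h, f h = g * h.1 :=
    ⟨(LinearMap.mulLeft K g) ∘ₗ (homogeneousSubmodule (Fin 2) K 2).subtype, fun h => rfl⟩
  have hfinj : Function.Injective f := by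
    intro a b hab
    rw [hf, hf] at hab
    exact Subtype.ext (mul_left_cancel₀ hg0 hab)
  obtain ⟨lam, hlam⟩ : ∃ lam : ↥(homogeneousSubmodule (Fin 2) K 2) →ₗ[K] K,
      ∀ h, lam h = Φ (g * h.1) 1 :=
    ⟨(LinearMap.proj 1 : (Fin 2 → K) →ₗ[K] K) ∘ₗ Φ ∘ₗ f, fun h => by
      rw [LinearMap.comp_apply, LinearMap.comp_apply, LinearMap.proj_apply, hf]⟩
  have hker : 2 ≤ Module.finrank K ↥(LinearMap.ker lam) := by
    have h := LinearMap.finrank_range_add_finrank_ker lam
    rw [finrank_homog 2] at h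
    have hr : Module.finrank K ↥(LinearMap.range lam) ≤ 1 := by
      have := Submodule.finrank_le (LinearMap.range lam)
      rwa [Module.finrank_self] at this
    omega
  obtain ⟨Q, hQ⟩ : ∃ Q : Submodule K (MvPolynomial (Fin 2) K),
      Q = (LinearMap.ker lam).map f := ⟨_, rfl⟩
  have hQrank : Module.finrank K ↥Q = Module.finrank K ↥(LinearMap.ker lam) := by
    rw [hQ]
    exact (Submodule.equivMapOfInjective f hfinj (LinearMap.ker lam)).finrank_eq.symm
  have hQle : Q ≤ V ⊓ (homogeneousSubmodule (Fin 2) K 2).map (LinearMap.mulLeft K g) := by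
    rw [hQ]
    rintro _ ⟨h, hh, rfl⟩
    have hh' : lam h = 0 := LinearMap.mem_ker.mp hh
    rw [hlam] at hh'
    have e1 := h1 h.1 h.2
    rw [hh', mul_zero, add_zero] at e1
    have hmem5 : g * h.1 ∈ homogeneousSubmodule (Fin 2) K 5 :=
      (mem_homogeneousSubmodule 5 _).mpr
        (((mem_homogeneousSubmodule 3 g).mp hg).mul ((mem_homogeneousSubmodule 2 h.1).mp h.2))
    refine Submodule.mem_inf.mpr ⟨?_, ?_⟩
    · rw [hf]
      refine (hΦ _ hmem5).mp ?_
      have hz : ∀ i : Fin 2, Φ (g * h.1) i = (0 : Fin 2 → K) i :=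
        Fin.forall_fin_two.mpr ⟨e1, hh'⟩
      exact funext hz
    · rw [hf]
      exact Submodule.mem_map.mpr ⟨h.1, h.2, rfl⟩
  haveI : FiniteDimensional K
      ↥(V ⊓ (homogeneousSubmodule (Fin 2) K 2).map (LinearMap.mulLeft K g)) :=
    Submodule.finiteDimensional_inf_left V _
  have hmono := LinearMap.finrank_le_finrank_of_injective (Submodule.inclusion_injective hQle)
  rw [hQrank] at hmono
  omega

theorem main [IsAlgClosed K] [CharZero K] (V : Submodule K (MvPolynomial (Fin 2) K))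
    (hV : V ≤ homogeneousSubmodule (Fin 2) K 5) (hdim : Module.finrank K ↥V = 4)
    (hsep : ∀ e ∈ homogeneousSubmodule (Fin 2) K 2, e ≠ 0 →
      ∀ F ∈ homogeneousSubmodule (Fin 2) K 5, ∃ v ∈ V,
        ∃ h ∈ homogeneousSubmodule (Fin 2) K 3, F = v + e * h)
    (F : Finset (MvPolynomial (Fin 2) K)) :
    ∃ g ∈ homogeneousSubmodule (Fin 2) K 3, g ≠ 0 ∧
      2 ≤ Module.finrank K
        ↥(V ⊓ (homogeneousSubmodule (Fin 2) K 2).map (LinearMap.mulLeft K g)) ∧
      ∀ g' ∈ F, ∀ c : K, g ≠ c • g' := by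
  classical
  obtain ⟨Φ, hΦ⟩ := exists_Phi V hV hdim
  obtain ⟨Bad, hBad⟩ : ∃ Bad : Set K, Bad = ⋃ g' ∈ (↑F : Set (MvPolynomial (Fin 2) K)),
      {c : K | g' ∈ homogeneousSubmodule (Fin 2) K 3 ∧ g' ≠ 0 ∧ Sol Φ c g'} := ⟨_, rfl⟩
  have hBadfin : Bad.Finite := by
    rw [hBad]
    refine Set.Finite.biUnion F.finite_toSet ?_
    intro g' _
    refine Set.Subsingleton.finite ?_
    intro c hc c' hc'
    exact sol_unique V hV hdim hsep Φ hΦ g' hc.1 hc.2.1 c c' hc.2.2 hc'.2.2
  obtain ⟨c, hc⟩ := hBadfin.exists_notMem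
  obtain ⟨g, hg, hg0, hsol⟩ := exists_sol Φ c
  refine ⟨g, hg, hg0, finrank_ge V hV hdim Φ hΦ g hg hg0 c hsol, ?_⟩
  intro g' hg' c' hEq
  apply hc
  rw [hBad]
  refine Set.mem_iUnion₂.mpr ⟨g', Finset.mem_coe.mpr hg', ?_⟩
  have hc'0 : c' ≠ 0 := by
    intro h0
    rw [h0, zero_smul] at hEq
    exact hg0 hEq
  have hg'eq : g' = c'⁻¹ • g := by
    rw [hEq, smul_smul, inv_mul_cancel₀ hc'0, one_smul]
  refine ⟨?_, ?_, ?_⟩
  · rw [hg'eq]; exact Submodule.smul_mem _ _ hg
  · intro h0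
    rw [h0, smul_zero] at hEq
    exact hg0 hEq
  · intro h hh
    have := hsol h hh
    rw [hg'eq]
    simp only [smul_mul_assoc, map_smul, Pi.smul_apply, smul_eq_mul]
    linear_combination c'⁻¹ * this

end Groth.Agent.Lib.Helper8.Trisec2
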