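import Mathlib
import Groth.Prelude
import Groth.Agent.Lib.Helper8.UB9

/-!
# The fraction field of the completion of a henselian local domain with geometrically normal
formal fibres
-/

set_option autoImplicit false

universe u

namespace Groth.Agent.Helper8.UB

open IsLocalRing TensorProduct

section frac

variable (A : Type u) [CommRing A] [IsNoetherianRing A] [HenselianLocalRing A] [IsDomain A]
  [IsDomain (EGA4.Cpl A)]
  (K L : Type u) [Field K] [Field L] [Algebra A K] [IsFractionRing A K]
  [Algebra (EGA4.Cpl A) L] [IsFractionRing (EGA4.Cpl A) L] [Algebra K L] [Algebra A L]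
  [IsScalarTower A K L] [IsScalarTower A (EGA4.Cpl A) L]

include A in
/-- `E ⊗_K L` is a domain for every field extension `E` of `K`. -/
theorem isDomain_tensor_fractionRing_cpl (h : EGA4.HasGeomNormalFormalFibres A)
    (E : Type u) [Field E] [Algebra K E] : IsDomain (E ⊗[K] L) := by
  letI : Algebra A E := ((algebraMap K E).comp (algebraMap A K)).toAlgebra
  haveI : IsScalarTower A K E := IsScalarTower.of_algebraMap_eq fun _ => rfl
  haveI hD : IsDomain (E ⊗[A] EGA4.Cpl A) := isDomain_field_tensor_cpl A h E
  have hinjAE : Function.Injective (algebraMap A E) :=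
    (algebraMap K E).injective.comp (IsFractionRing.injective A K)
  have hinc : Function.Injective (Algebra.TensorProduct.includeRight :
      EGA4.Cpl A →ₐ[A] E ⊗[A] EGA4.Cpl A) :=
    Algebra.TensorProduct.includeRight_injective hinjAE
  have hM' : (nonZeroDivisors (EGA4.Cpl A)).map
      (Algebra.TensorProduct.includeRight (R := A) (A := E) (B := EGA4.Cpl A)) ≤
      nonZeroDivisors (E ⊗[A] EGA4.Cpl A) := by
    rintro _ ⟨a, ha, rfl⟩
    apply mem_nonZeroDivisors_of_ne_zero
    rw [Ne, map_eq_zero_iff _ hinc]
    exact nonZeroDivisors.ne_zero ha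
  haveI : IsDomain (Localization ((nonZeroDivisors (EGA4.Cpl A)).map
      (Algebra.TensorProduct.includeRight (R := A) (A := E) (B := EGA4.Cpl A)))) :=
    IsLocalization.isDomain_of_le_nonZeroDivisors _ hM'
  let e1 := IsLocalization.tensorProductEquivOfMapIncludeRight A E
    (nonZeroDivisors (EGA4.Cpl A)) L (Localization ((nonZeroDivisors (EGA4.Cpl A)).map
      (Algebra.TensorProduct.includeRight (R := A) (A := E) (B := EGA4.Cpl A))))
  let e2 : E ⊗[K] L ≃ₐ[K] E ⊗[A] L := IsLocalization.algebraTensorEquiv (nonZeroDivisors A) K E L
  exact (e2.toRingEquiv.trans e1.toRingEquiv).toMulEquiv.isDomain _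

include A in
/-- **S5056.** -/
theorem geomReduced_and_algClosed_fractionRing_cpl (h : EGA4.HasGeomNormalFormalFibres A) :
    Algebra.IsGeometricallyReduced K L ∧
      ∀ x : L, IsAlgebraic K x → x ∈ Set.range (algebraMap K L) := by
  constructor
  · rw [Algebra.isGeometricallyReduced_field_iff]
    haveI := isDomain_tensor_fractionRing_cpl A K L h (AlgebraicClosure K)
    infer_instance
  · intro x hx
    haveI : Algebra.IsAlgebraic K (IntermediateField.adjoin K {x}) :=
      IntermediateField.isAlgebraic_adjoin_simple hx.isIntegral
    haveI := isDomain_tensor_fractionRing_cpl A K L h (IntermediateField.adjoin K {x})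
    have hfield : IsField ((IntermediateField.adjoin K {x}) ⊗[K] L) :=
      Algebra.TensorProduct.isField_of_isAlgebraic K (IntermediateField.adjoin K {x}) L
        (Or.inl inferInstance)
    have hLD : (IntermediateField.adjoin K {x}).LinearDisjoint L :=
      IntermediateField.LinearDisjoint.of_isField hfield
    have hLD' : (IntermediateField.adjoin K {x}).LinearDisjoint (IntermediateField.adjoin K {x}) :=
      hLD.of_le_right' (IntermediateField.adjoin K {x})
    have hbot : IntermediateField.adjoin K {x} = ⊥ := hLD'.eq_bot_of_self
    have hxmem : x ∈ IntermediateField.adjoin K {x} :=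
      IntermediateField.mem_adjoin_simple_self K x
    rw [hbot, IntermediateField.mem_bot] at hxmem
    exact hxmem

end frac

end Groth.Agent.Helper8.UB
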