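import Mathlib
import Groth.Prelude
import Groth.Agent.Lib.Helper8.UnivCpl3
import Groth.Agent.Lib.Helper8.FreeCpl6
import Groth.Agent.Lib.Helper1.ML7
import Groth.Agent.S6338

/-!
# Projectivity of a module flat over a complete base, from projectivity modulo the ideal
-/

set_option autoImplicit false

universe u

namespace Groth.Agent.Helper8.UnivCpl

open TensorProduct
open scoped Pointwise

section cg

theorem isCountablyGenerated_of_finiteType {R : Type u} (S : Type u) [CommRing R] [CommRing S]
    [Algebra R S] [Algebra.FiniteType R S]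
    (N : Type u) [AddCommGroup N] [Module S N] [Module R N] [IsScalarTower R S N]
    [Module.Finite S N] : CAlg.IsCountablyGenerated R N := by
  classical
  obtain ⟨n, f, hf⟩ := Algebra.FiniteType.iff_quotient_mvPolynomial''.mp
    (inferInstance : Algebra.FiniteType R S)
  obtain ⟨t, ht⟩ := (Module.Finite.fg_top : (⊤ : Submodule S N).FG)
  let s : Set S := Set.range fun m : Fin n →₀ ℕ => f (MvPolynomial.monomial m 1)
  have hs : Submodule.span R s = ⊤ := by
    have h1 : Submodule.span R (Set.range fun m : Fin n →₀ ℕ =>
        (MvPolynomial.monomial m (1 : R) : MvPolynomial (Fin n) R)) = ⊤ := by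
      have := (MvPolynomial.basisMonomials (Fin n) R).span_eq
      rw [MvPolynomial.coe_basisMonomials] at this
      exact this
    have h2 : s = f.toLinearMap '' (Set.range fun m : Fin n →₀ ℕ =>
        (MvPolynomial.monomial m (1 : R) : MvPolynomial (Fin n) R)) := by
      rw [← Set.range_comp]
      rfl
    rw [h2, ← Submodule.map_span, h1, Submodule.map_top, LinearMap.range_eq_top]
    exact hf
  refine ⟨s • (t : Set N), ?_, ?_⟩
  · exact (Set.countable_range _).image2 t.countable_toSet _
  · rw [Submodule.span_smul_of_span_eq_top hs, ht]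
    rfl

end cg

section main

variable {R S : Type u} [CommRing R] [CommRing S] [Algebra R S] [IsNoetherianRing R]
  (I : Ideal R) [IsAdicComplete I R] [Algebra.FiniteType R S]
  (N : Type u) [AddCommGroup N] [Module S N] [Module R N] [IsScalarTower R S N]
  [Module.Finite S N] [Module.Flat R N]
  [Module.Projective (R ⧸ I) (N ⧸ (I • ⊤ : Submodule R N))]
  (h : ∀ (p : Ideal R) (q : Ideal S) [p.IsPrime] [q.IsPrime] [q.LiesOver p],
    FlatCA.fiberIdeal p q ∈ associatedPrimes (p.Fiber S) (FlatCA.fiberMod p S N) →
      I.map (algebraMap R S) ⊔ q ≠ ⊤)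

include h in
theorem projective_of_fibers : Module.Projective R N := by
  haveI : IsNoetherianRing S := Algebra.FiniteType.isNoetherianRing R S
  have h1 : FlatCA.UnivInj R (AdicCompletion.of I N) :=
    univInj I N (fun Q _ _ hQ => ass_tensor N (I.map (algebraMap R S)) h Q hQ)
  have h2 : CAlgX.UniversallyInjective R (AdicCompletion.of I N) := by
    intro Q _ _
    exact (LinearMap.lTensor_inj_iff_rTensor_inj _ _).mp (h1 Q)
  obtain ⟨-, h3⟩ := Groth.Agent.Helper8.FreeCpl.flat_and_mittagLeffler_of_projective R I N
  have h4 : CAlg.IsMittagLeffler R N := Groth.Agent.S6338.result R _ h2 h3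
  exact Groth.Agent.Helper1.ML7.projective_of_flat_ml_cg h4
    (isCountablyGenerated_of_finiteType S N)

end main

end Groth.Agent.Helper8.UnivCpl
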