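import Groth.Agent.Lib.Helper8.Ver1
import Groth.Agent.Lib.Helper9.GrLC.Van

/-!
# Veronese submodules: functoriality, exactness, acyclicity (helper8)

* `verGMod D X` the bundled Veronese of a graded module, `verMap D f hf` the induced `V`-linear map;
* `verMap` preserves injectivity, surjectivity and exactness;
* `ResT D M`: restriction of scalars along `D.φ` as a type synonym;
* `isNoetherianRing_ver`: `V` is Noetherian if `R` is;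
* `subsingleton_H_ver`: the Veronese of a *injective module is acyclic for local cohomology over `V`.
-/

set_option autoImplicit false
set_option linter.unusedSectionVars false
universe u
open DirectSum CategoryTheory

namespace Groth.Agent.Helper8.Ver
open Groth.Agent.Helper9.GrLCLib Groth.Agent.Helper8.LC

variable {R : Type u} [CommRing R] {V : Type u} [CommRing V]
variable {𝒜 : ℤ → AddSubgroup R} [GradedRing 𝒜] {𝒜' : ℤ → AddSubgroup V} [GradedRing 𝒜']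
  (D : VerData 𝒜 𝒜')

/-- the bundled Veronese of a graded module -/
noncomputable def verGMod (X : GrLC.GMod.{u} 𝒜) : GrLC.GMod.{u} 𝒜' :=
  GrLC.GMod.of 𝒜' (VerT D X.gr) (verFam D X.gr)

section Map

variable {M N P : Type u} [AddCommGroup M] [Module R M] [AddCommGroup N] [Module R N]
  [AddCommGroup P] [Module R P]
  (ℳ : ℤ → AddSubgroup M) [DirectSum.Decomposition ℳ] [SetLike.GradedSMul 𝒜 ℳ]
  (𝒩 : ℤ → AddSubgroup N) [DirectSum.Decomposition 𝒩] [SetLike.GradedSMul 𝒜 𝒩]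
  (𝒬 : ℤ → AddSubgroup P) [DirectSum.Decomposition 𝒬] [SetLike.GradedSMul 𝒜 𝒬]

lemma map_mem_verAdd {f : M →ₗ[R] N} (hf : GrLC.IsGrHom ℳ 𝒩 f) {x : M} (hx : x ∈ verAdd ℳ D.q) :
    f x ∈ verAdd 𝒩 D.q := by
  intro i hi
  rw [proj_map_of_isGrHom ℳ 𝒩 hf, hx i hi, map_zero]

lemma map_verProjM {f : M →ₗ[R] N} (hf : GrLC.IsGrHom ℳ 𝒩 f) (x : M) :
    f (verProjM ℳ D.q x) = verProjM 𝒩 D.q (f x) := by
  classical
  apply eq_of_forall_proj_eq 𝒩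
  intro i
  rw [proj_map_of_isGrHom ℳ 𝒩 hf, proj_verProjM, proj_verProjM, proj_map_of_isGrHom ℳ 𝒩 hf]
  split_ifs
  · rfl
  · rw [map_zero]

/-- the map induced on Veronese modules by a homogeneous map -/
noncomputable def verMap (f : M →ₗ[R] N) (hf : GrLC.IsGrHom ℳ 𝒩 f) : VerT D ℳ →ₗ[V] VerT D 𝒩 where
  toFun x := VerT.mk D 𝒩 (f (VerT.ι D ℳ x)) (map_mem_verAdd D ℳ 𝒩 hf (VerT.ι_mem D ℳ x))
  map_add' x y := VerT.ext D 𝒩 (by
    change f (VerT.ι D ℳ (x + y)) = f (VerT.ι D ℳ x) + f (VerT.ι D ℳ y)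
    rw [map_add, map_add])
  map_smul' v x := VerT.ext D 𝒩 (by
    change f (VerT.ι D ℳ (v • x)) = D.φ v • f (VerT.ι D ℳ x)
    rw [VerT.ι_smul, map_smul])

lemma ι_verMap (f : M →ₗ[R] N) (hf : GrLC.IsGrHom ℳ 𝒩 f) (x : VerT D ℳ) :
    VerT.ι D 𝒩 (verMap D ℳ 𝒩 f hf x) = f (VerT.ι D ℳ x) := rfl

lemma isGrHom_verMap (f : M →ₗ[R] N) (hf : GrLC.IsGrHom ℳ 𝒩 f) :
    GrLC.IsGrHom (verFam D ℳ) (verFam D 𝒩) (verMap D ℳ 𝒩 f hf) := by
  intro j x hx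
  rw [mem_verFam, ι_verMap]
  exact hf _ _ hx

lemma verMap_injective (f : M →ₗ[R] N) (hf : GrLC.IsGrHom ℳ 𝒩 f) (hinj : Function.Injective f) :
    Function.Injective (verMap D ℳ 𝒩 f hf) := by
  intro x y hxy
  apply VerT.ext D ℳ
  apply hinj
  rw [← ι_verMap D ℳ 𝒩 f hf, ← ι_verMap D ℳ 𝒩 f hf, hxy]

lemma verMap_surjective (f : M →ₗ[R] N) (hf : GrLC.IsGrHom ℳ 𝒩 f) (hsurj : Function.Surjective f) :
    Function.Surjective (verMap D ℳ 𝒩 f hf) := by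
  intro y
  obtain ⟨x, hx⟩ := hsurj (VerT.ι D 𝒩 y)
  refine ⟨verProj D ℳ x, ?_⟩
  apply VerT.ext D 𝒩
  rw [ι_verMap, ι_verProj, map_verProjM D ℳ 𝒩 hf, hx]
  exact verProjM_of_mem 𝒩 D.q (VerT.ι_mem D 𝒩 y)

lemma verMap_comp_eq_zero (j : M →ₗ[R] N) (p : N →ₗ[R] P) (hj : GrLC.IsGrHom ℳ 𝒩 j)
    (hp : GrLC.IsGrHom 𝒩 𝒬 p) (h : p ∘ₗ j = 0) :
    verMap D 𝒩 𝒬 p hp ∘ₗ verMap D ℳ 𝒩 j hj = 0 := by
  apply LinearMap.ext
  intro x
  apply VerT.ext D 𝒬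
  change p (j (VerT.ι D ℳ x)) = VerT.ι D 𝒬 0
  rw [map_zero]
  exact LinearMap.congr_fun h _

lemma ker_verMap_le_range (j : M →ₗ[R] N) (p : N →ₗ[R] P) (hj : GrLC.IsGrHom ℳ 𝒩 j)
    (hp : GrLC.IsGrHom 𝒩 𝒬 p) (hex : LinearMap.ker p ≤ LinearMap.range j) :
    LinearMap.ker (verMap D 𝒩 𝒬 p hp) ≤ LinearMap.range (verMap D ℳ 𝒩 j hj) := by
  intro x hx
  have h1 : p (VerT.ι D 𝒩 x) = 0 := by
    have := congrArg (VerT.ι D 𝒬) (LinearMap.mem_ker.mp hx)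
    rw [ι_verMap, map_zero] at this
    exact this
  obtain ⟨w, hw⟩ := hex (LinearMap.mem_ker.mpr h1)
  refine ⟨verProj D ℳ w, ?_⟩
  apply VerT.ext D 𝒩
  rw [ι_verMap, ι_verProj, map_verProjM D ℳ 𝒩 hj, hw]
  exact verProjM_of_mem 𝒩 D.q (VerT.ι_mem D 𝒩 x)

/-- the Veronese of a short exact sequence is short exact -/
lemma ver_shortExact (j : M →ₗ[R] N) (p : N →ₗ[R] P) (hj : GrLC.IsGrHom ℳ 𝒩 j)
    (hp : GrLC.IsGrHom 𝒩 𝒬 p) (h : p ∘ₗ j = 0) (hjinj : Function.Injective j)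
    (hpsurj : Function.Surjective p) (hex : LinearMap.ker p ≤ LinearMap.range j) :
    (sesOf (verMap D ℳ 𝒩 j hj) (verMap D 𝒩 𝒬 p hp)
      (verMap_comp_eq_zero D ℳ 𝒩 𝒬 j p hj hp h)).ShortExact := by
  apply sesOf_shortExact
  · exact verMap_injective D ℳ 𝒩 j hj hjinj
  · exact verMap_surjective D 𝒩 𝒬 p hp hpsurj
  · apply le_antisymm (ker_verMap_le_range D ℳ 𝒩 𝒬 j p hj hp hex)
    rintro _ ⟨x, rfl⟩
    rw [LinearMap.mem_ker]
    exact LinearMap.congr_fun (verMap_comp_eq_zero D ℳ 𝒩 𝒬 j p hj hp h) x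

end Map

end Groth.Agent.Helper8.Ver
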