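import Groth.Agent.Lib.Helper8.Ver2

/-!
# Veronese: Noetherianity of the Veronese ring and acyclicity of Veroneses of *injectives (helper8)
-/

set_option autoImplicit false
set_option linter.unusedSectionVars false
universe u
open DirectSum CategoryTheory

namespace Groth.Agent.Helper8.Ver
open Groth.Agent.Helper9.GrLCLib Groth.Agent.Helper8.LC

variable {R : Type u} [CommRing R] {V : Type u} [CommRing V]
variable {𝒜 : ℤ → AddSubgroup R} [GradedRing 𝒜] {𝒜' : ℤ → AddSubgroup V} [GradedRing 𝒜']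
  (D : VerData 𝒜 𝒜')

section Ring

lemma one_mem_verAdd : (1 : R) ∈ verAdd 𝒜 D.q := by
  have h1 : (1 : R) ∈ 𝒜 ((0 : ℤ) * D.q) := by
    rw [zero_mul]; exact SetLike.GradedOne.one_mem
  exact mem_verAdd_of_mem 𝒜 D.q h1

lemma map_mem_verAdd_self (v : V) : D.φ v ∈ verAdd 𝒜 D.q := by
  have := smul_mem_verAdd D 𝒜 v (one_mem_verAdd D)
  rwa [smul_eq_mul, mul_one] at this

open Classical in
lemma exists_of_mem_verAdd {r : R} (hr : r ∈ verAdd 𝒜 D.q) : ∃ v, D.φ v = r := by
  have h : ∀ i : ℤ, ∃ v, D.φ v = proj 𝒜 i r := by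
    intro i
    by_cases hi : (D.q : ℤ) ∣ i
    · obtain ⟨j, rfl⟩ := hi
      have : proj 𝒜 ((D.q : ℤ) * j) r ∈ 𝒜 (j * D.q) := by
        rw [mul_comm]; exact proj_mem 𝒜 _ r
      obtain ⟨v, -, hv⟩ := D.exists_of_mem this
      exact ⟨v, hv⟩
    · exact ⟨0, by rw [map_zero, hr i hi]⟩
  choose c hc using h
  refine ⟨∑ i ∈ (decompose 𝒜 r).support, c i, ?_⟩
  rw [map_sum]
  simp only [hc]
  exact DirectSum.sum_support_decompose 𝒜 r

lemma comap_map_eq (J : Ideal V) : (J.map D.φ).comap D.φ = J := by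
  apply le_antisymm _ Ideal.le_comap_map
  intro v hv
  rw [Ideal.mem_comap] at hv
  have key : ∀ r ∈ Ideal.span (D.φ '' (J : Set V)), ∃ w ∈ J, D.φ w = verProjM 𝒜 D.q r := by
    intro r hr
    induction hr using Submodule.closure_induction with
    | zero => exact ⟨0, zero_mem _, by rw [map_zero, map_zero]⟩
    | add x y _ _ hx hy =>
      obtain ⟨w, hw, hwx⟩ := hx
      obtain ⟨w', hw', hwy⟩ := hy
      exact ⟨w + w', add_mem hw hw', by rw [map_add, map_add, hwx, hwy]⟩
    | smul_mem r x hx =>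
      obtain ⟨j, hj, rfl⟩ := hx
      obtain ⟨w', hw'⟩ := exists_of_mem_verAdd D (verProjM_mem 𝒜 D.q r)
      refine ⟨j * w', Ideal.mul_mem_right _ _ hj, ?_⟩
      have h1 : r • D.φ j = D.φ j • r := by rw [smul_eq_mul, smul_eq_mul, mul_comm]
      rw [h1, verProjM_smul D 𝒜 j r, map_mul, hw', smul_eq_mul]
  obtain ⟨w, hw, hwv⟩ := key (D.φ v) hv
  rw [verProjM_of_mem 𝒜 D.q (map_mem_verAdd_self D v)] at hwv
  rw [← D.inj hwv]
  exact hw

include D in
/-- the Veronese ring is Noetherian -/
theorem isNoetherianRing_ver [IsNoetherianRing R] : IsNoetherianRing V := by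
  have hinj : Function.Injective (Ideal.map D.φ : Ideal V → Ideal R) := by
    intro J J' h
    rw [← comap_map_eq D J, ← comap_map_eq D J', h]
  have hmon : Monotone (Ideal.map D.φ : Ideal V → Ideal R) := fun _ _ h => Ideal.map_mono h
  have hmono : StrictMono (Ideal.map D.φ : Ideal V → Ideal R) :=
    hmon.strictMono_of_injective hinj
  exact isNoetherian_iff'.mpr hmono.wellFoundedGT

end Ring

section Res

/-- restriction of scalars along `D.φ`, as a type synonym -/
def ResT (_D : VerData 𝒜 𝒜') (M : Type u) : Type u := M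

variable (M : Type u) [AddCommGroup M] [Module R M]

instance : AddCommGroup (ResT D M) := inferInstanceAs (AddCommGroup M)
instance : Module R (ResT D M) := inferInstanceAs (Module R M)
noncomputable instance : Module V (ResT D M) := Module.compHom M D.φ

lemma ResT.smul_def (v : V) (x : ResT D M) : v • x = (D.φ v • (show M from x) : M) := rfl

end Res

section Acyclic

variable [IsNoetherianRing R]

/-- the extension to `R` of a homogeneous ideal of `V` is homogeneous -/
lemma map_isHomogeneous (a' : HomogeneousIdeal 𝒜') : (a'.toIdeal.map D.φ).IsHomogeneous 𝒜 := by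
  rw [← a'.toIdeal_homogeneousCore_eq_self]
  change (Ideal.map D.φ (Ideal.span _)).IsHomogeneous 𝒜
  rw [Ideal.map_span]
  apply Ideal.homogeneous_span
  rintro _ ⟨_, ⟨⟨x, ⟨j, hj⟩⟩, -, rfl⟩, rfl⟩
  exact ⟨j * D.q, D.map_mem hj⟩

/-- the extension to `R` of a homogeneous ideal of `V` -/
def mapIdeal (a' : HomogeneousIdeal 𝒜') : HomogeneousIdeal 𝒜 :=
  ⟨a'.toIdeal.map D.φ, map_isHomogeneous D a'⟩

lemma mapIdeal_toIdeal (a' : HomogeneousIdeal 𝒜') : (mapIdeal D a').toIdeal = a'.toIdeal.map D.φ := rfl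

/-- the Veronese of a *injective module is acyclic -/
theorem subsingleton_H_ver (X : GrLC.GMod.{u} 𝒜) (hX : GrLC.IsStarInj 𝒜 X.gr)
    (a' : HomogeneousIdeal 𝒜') (i : ℕ) (hi : 1 ≤ i) :
    Subsingleton (LocCoh.H a'.toIdeal i (VerT D X.gr)) := by
  haveI : IsNoetherianRing V := isNoetherianRing_ver D
  letI : Algebra V R := D.φ.toAlgebra
  haveI : IsScalarTower V R (ResT D X.carrier) := ⟨fun v r x => by
    change (D.φ v * r) • (show X.carrier from x) = D.φ v • (r • (show X.carrier from x))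
    rw [mul_smul]⟩
  have h1 : Subsingleton (LocCoh.H (a'.toIdeal.map (algebraMap V R)) i (ResT D X.carrier)) :=
    Groth.Agent.S13217.Aux.main 𝒜 X.gr hX (mapIdeal D a') i hi
  obtain ⟨e, -⟩ := exists_semilinear_equiv (R := V) (R' := R) a'.toIdeal i (ResT D X.carrier)
  have h2 : Subsingleton (LocCoh.H a'.toIdeal i (ResT D X.carrier)) :=
    e.symm.injective.subsingleton
  let ιl : VerT D X.gr →ₗ[V] ResT D X.carrier :=
    { toFun := fun x => VerT.ι D X.gr x
      map_add' := fun x y => map_add _ x y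
      map_smul' := fun v x => VerT.ι_smul D X.gr v x }
  let πl : ResT D X.carrier →ₗ[V] VerT D X.gr :=
    { toFun := fun x => verProj D X.gr x
      map_add' := fun x y => map_add (verProj D X.gr) x y
      map_smul' := fun v x => verProj_smul D X.gr v x }
  have hcomp : πl ∘ₗ ιl = LinearMap.id := by
    apply LinearMap.ext
    intro x
    exact verProj_ι D X.gr x
  apply subsingleton_of_forall_eq 0
  intro x
  have h3 : ((localCohomology a'.toIdeal i).map (ModuleCat.ofHom πl))
      (((localCohomology a'.toIdeal i).map (ModuleCat.ofHom ιl)) x) = x := by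
    rw [← ModuleCat.comp_apply, ← Functor.map_comp, ← ModuleCat.ofHom_comp, hcomp,
      ModuleCat.ofHom_id, CategoryTheory.Functor.map_id]
    rfl
  rw [← h3, h2.elim (((localCohomology a'.toIdeal i).map (ModuleCat.ofHom ιl)) x) 0, map_zero]

end Acyclic

end Groth.Agent.Helper8.Ver
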