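import Groth.Agent.Lib.Helper8.Ver3
import Groth.Agent.S13225

/-!
# Veronese: the comparison of local cohomology in degree 0 (helper8)

For compatible homogeneous ideals `a ⊆ R`, `a' ⊆ V` (`IdealCompat`), the map
`psi0 : H^0_{a'}(M^(q)) → H^0_a(M)` and its properties.  `IsVerIso` is the list of properties of
a comparison map in degree `p`.
-/

set_option autoImplicit false
set_option linter.unusedSectionVars false
universe u
open DirectSum CategoryTheory

namespace Groth.Agent.Helper8.Ver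
open Groth.Agent.Helper9.GrLCLib Groth.Agent.Helper8.LC Groth.Agent.S13224.Aux

variable {R : Type u} [CommRing R] {V : Type u} [CommRing V]
variable {𝒜 : ℤ → AddSubgroup R} [GradedRing 𝒜] {𝒜' : ℤ → AddSubgroup V} [GradedRing 𝒜']
  (D : VerData 𝒜 𝒜')
variable (a : HomogeneousIdeal 𝒜) (a' : HomogeneousIdeal 𝒜')

/-- compatibility of a homogeneous ideal of `R` with one of `V`: same radical after extension -/
structure IdealCompat : Prop where
  le : a'.toIdeal.map D.φ ≤ a.toIdeal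
  pow : ∃ N : ℕ, a.toIdeal ^ N ≤ a'.toIdeal.map D.φ

variable {M N : Type u} [AddCommGroup M] [Module R M] [AddCommGroup N] [Module R N]
  (ℳ : ℤ → AddSubgroup M) [DirectSum.Decomposition ℳ] [SetLike.GradedSMul 𝒜 ℳ]
  (𝒩 : ℤ → AddSubgroup N) [DirectSum.Decomposition 𝒩] [SetLike.GradedSMul 𝒜 𝒩]

variable {D a a'}

lemma mem_torsionSub_iff (hc : IdealCompat D a a') (x : VerT D ℳ) :
    x ∈ DRing.torsionSub a'.toIdeal (VerT D ℳ) ↔
      VerT.ι D ℳ x ∈ DRing.torsionSub a.toIdeal M := by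
  constructor
  · rintro ⟨n, hn⟩
    obtain ⟨N, hN⟩ := hc.pow
    have key : ∀ r ∈ Ideal.span (D.φ '' ((a'.toIdeal ^ n : Ideal V) : Set V)),
        r • VerT.ι D ℳ x = 0 := by
      intro r h1
      induction h1 using Submodule.span_induction with
      | mem r hr' =>
        obtain ⟨v, hv, rfl⟩ := hr'
        rw [← VerT.ι_smul, hn v hv, map_zero]
      | zero => rw [zero_smul]
      | add r s _ _ hr hs => rw [add_smul, hr, hs, add_zero]
      | smul c r _ hr => rw [smul_eq_mul, mul_smul, hr, smul_zero]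
    refine ⟨N * n, fun r hr => key r ?_⟩
    rw [← Ideal.map_span, Ideal.span_eq, Ideal.map_pow]
    rw [pow_mul] at hr
    exact Ideal.pow_right_mono hN n hr
  · rintro ⟨n, hn⟩
    refine ⟨n, fun v hv => ?_⟩
    apply VerT.ext D ℳ
    rw [VerT.ι_smul, map_zero]
    apply hn
    have h1 : D.φ v ∈ (a'.toIdeal ^ n).map D.φ := Ideal.mem_map_of_mem D.φ hv
    rw [Ideal.map_pow] at h1
    exact Ideal.pow_right_mono hc.le n h1

/-- the comparison map in degree 0, as a function -/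
noncomputable def psi0Fun (hc : IdealCompat D a a') (x : LocCoh.H a'.toIdeal 0 (VerT D ℳ)) :
    LocCoh.H a.toIdeal 0 M :=
  (h0Equiv a.toIdeal (ModuleCat.of R M)).symm
    ⟨VerT.ι D ℳ (ev0 a'.toIdeal (ModuleCat.of V (VerT D ℳ)) x),
      (mem_torsionSub_iff ℳ hc _).mp (ev0_mem a'.toIdeal (ModuleCat.of V (VerT D ℳ)) x)⟩

lemma ev0_psi0Fun (hc : IdealCompat D a a') (x : LocCoh.H a'.toIdeal 0 (VerT D ℳ)) :
    ev0 a.toIdeal (ModuleCat.of R M) (psi0Fun ℳ hc x) =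
      VerT.ι D ℳ (ev0 a'.toIdeal (ModuleCat.of V (VerT D ℳ)) x) :=
  ev0_h0Equiv_symm a.toIdeal M _

/-- the comparison map in degree 0 -/
noncomputable def psi0 (hc : IdealCompat D a a') :
    LocCoh.H a'.toIdeal 0 (VerT D ℳ) →+ LocCoh.H a.toIdeal 0 M :=
  AddMonoidHom.mk' (psi0Fun ℳ hc) (fun x y => by
    apply ev0_injective a.toIdeal (ModuleCat.of R M)
    rw [map_add, ev0_psi0Fun, ev0_psi0Fun, ev0_psi0Fun, map_add, map_add])

lemma ev0_psi0 (hc : IdealCompat D a a') (x : LocCoh.H a'.toIdeal 0 (VerT D ℳ)) :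
    ev0 a.toIdeal (ModuleCat.of R M) (psi0 ℳ hc x) =
      VerT.ι D ℳ (ev0 a'.toIdeal (ModuleCat.of V (VerT D ℳ)) x) :=
  ev0_psi0Fun ℳ hc x

lemma psi0_injective (hc : IdealCompat D a a') : Function.Injective (psi0 ℳ hc) := by
  intro x y hxy
  apply ev0_injective a'.toIdeal (ModuleCat.of V (VerT D ℳ))
  apply VerT.ι_injective D ℳ
  rw [← ev0_psi0 ℳ hc, ← ev0_psi0 ℳ hc, hxy]

lemma psi0_smul (hc : IdealCompat D a a') (v : V) (x : LocCoh.H a'.toIdeal 0 (VerT D ℳ)) :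
    psi0 ℳ hc (v • x) = D.φ v • psi0 ℳ hc x := by
  apply ev0_injective a.toIdeal (ModuleCat.of R M)
  rw [ev0_psi0, (ev0 a'.toIdeal (ModuleCat.of V (VerT D ℳ))).map_smul, VerT.ι_smul,
    (ev0 a.toIdeal (ModuleCat.of R M)).map_smul, ev0_psi0]

/-- the image of `psi0` -/
lemma exists_psi0_eq (hc : IdealCompat D a a') (y : LocCoh.H a.toIdeal 0 M)
    (hy : ev0 a.toIdeal (ModuleCat.of R M) y ∈ verAdd ℳ D.q) :
    ∃ x, psi0 ℳ hc x = y := by
  let x₀ : VerT D ℳ := VerT.mk D ℳ _ hy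
  have hx₀ : x₀ ∈ DRing.torsionSub a'.toIdeal (VerT D ℳ) :=
    (mem_torsionSub_iff ℳ hc x₀).mpr (ev0_mem a.toIdeal (ModuleCat.of R M) y)
  obtain ⟨x, hx⟩ := exists_ev0_eq a'.toIdeal (ModuleCat.of V (VerT D ℳ)) x₀ hx₀
  refine ⟨x, ?_⟩
  apply ev0_injective a.toIdeal (ModuleCat.of R M)
  rw [ev0_psi0, hx]
  rfl

/-- naturality of `psi0` -/
lemma psi0_natural (hc : IdealCompat D a a') (f : M →ₗ[R] N) (hf : GrLC.IsGrHom ℳ 𝒩 f)
    (x : LocCoh.H a'.toIdeal 0 (VerT D ℳ)) :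
    psi0 𝒩 hc (((localCohomology a'.toIdeal 0).map (ModuleCat.ofHom (verMap D ℳ 𝒩 f hf))) x) =
      ((localCohomology a.toIdeal 0).map (ModuleCat.ofHom f)) (psi0 ℳ hc x) := by
  apply ev0_injective a.toIdeal (ModuleCat.of R N)
  rw [ev0_psi0, ev0_map', ev0_map', ev0_psi0]
  rfl

end Groth.Agent.Helper8.Ver
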