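import Groth.Agent.Lib.Helper8.Ver4

/-!
# Veronese: local cohomology of the Veronese of a graded module (helper8)

`exists_isVerIso`: for compatible homogeneous ideals `a ⊆ R`, `a' ⊆ V` and every graded `R`-module `M`
there is an injective `φ`-semilinear additive map `ψ : H^p_{a'}(M^(q)) → H^p_a(M)` which carries the piece
of degree `j` onto the piece of degree `j q`.
-/

set_option autoImplicit false
set_option linter.unusedSectionVars false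
universe u
open DirectSum CategoryTheory

namespace Groth.Agent.Helper8.Ver
open Groth.Agent.Helper9.GrLCLib Groth.Agent.Helper8.LC Groth.Agent.S13224.Aux

lemma exists_addHom_of_surjective {A C C' : Type*} [AddCommGroup A] [AddCommGroup C]
    [AddCommGroup C'] (d : A →+ C) (hd : Function.Surjective d) (f : A →+ C')
    (h : ∀ x, d x = 0 → f x = 0) : ∃ ψ : C →+ C', ∀ x, ψ (d x) = f x := by
  let e := QuotientAddGroup.quotientKerEquivOfSurjective d hd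
  let l : A ⧸ d.ker →+ C' := QuotientAddGroup.lift d.ker f (fun x hx => h x hx)
  refine ⟨l.comp e.symm.toAddMonoidHom, fun x => ?_⟩
  have h1 : e (QuotientAddGroup.mk x) = d x := rfl
  change l (e.symm (d x)) = f x
  rw [← h1, AddEquiv.symm_apply_apply]
  rfl

variable {R : Type u} [CommRing R] {V : Type u} [CommRing V]
variable {𝒜 : ℤ → AddSubgroup R} [GradedRing 𝒜] {𝒜' : ℤ → AddSubgroup V} [GradedRing 𝒜']
  (D : VerData 𝒜 𝒜')
variable (a : HomogeneousIdeal 𝒜) (a' : HomogeneousIdeal 𝒜')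

section Def

variable {M : Type u} [AddCommGroup M] [Module R M]
  (ℳ : ℤ → AddSubgroup M) [DirectSum.Decomposition ℳ] [SetLike.GradedSMul 𝒜 ℳ]

/-- the properties of a comparison map in degree `p` -/
def IsVerIso (p : ℕ) (ψ : LocCoh.H a'.toIdeal p (VerT D ℳ) →+ LocCoh.H a.toIdeal p M) : Prop :=
  Function.Injective ψ ∧ (∀ (v : V) x, ψ (v • x) = D.φ v • ψ x) ∧
    ∀ (j : ℤ) (y : LocCoh.H a.toIdeal p M), y ∈ LCgr 𝒜 ℳ a.toIdeal p (j * D.q) ↔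
      ∃ x ∈ LCgr 𝒜' (verFam D ℳ) a'.toIdeal p j, ψ x = y

end Def

variable [IsNoetherianRing R]

section Zero

variable {M : Type u} [AddCommGroup M] [Module R M]
  (ℳ : ℤ → AddSubgroup M) [DirectSum.Decomposition ℳ] [SetLike.GradedSMul 𝒜 ℳ]

variable {D a a'}

lemma isVerIso_psi0 (hc : IdealCompat D a a') : IsVerIso D a a' ℳ 0 (psi0 ℳ hc) := by
  haveI : IsNoetherianRing V := isNoetherianRing_ver D
  refine ⟨psi0_injective ℳ hc, psi0_smul ℳ hc, fun j y => ?_⟩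
  rw [Van.mem_LCgr_zero]
  constructor
  · intro hy
    obtain ⟨x, rfl⟩ := exists_psi0_eq ℳ hc y (mem_verAdd_of_mem ℳ D.q hy)
    refine ⟨x, ?_, rfl⟩
    rw [Van.mem_LCgr_zero, mem_verFam, ← ev0_psi0 ℳ hc]
    exact hy
  · rintro ⟨x, hx, rfl⟩
    rw [Van.mem_LCgr_zero, mem_verFam] at hx
    rw [ev0_psi0]
    exact hx

lemma verProjM_mem_of_isHomogeneous (P : Submodule R M) (hP : P.IsHomogeneous ℳ) {x : M}
    (hx : x ∈ P) (q : ℕ) : verProjM ℳ q x ∈ P := by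
  classical
  rw [← DirectSum.sum_support_decompose ℳ (verProjM ℳ q x)]
  apply Submodule.sum_mem
  intro i _
  have h1 : ((decompose ℳ (verProjM ℳ q x) i : ℳ i) : M) = proj ℳ i (verProjM ℳ q x) := rfl
  rw [h1, proj_verProjM]
  split_ifs
  · exact hP i hx
  · exact zero_mem _

end Zero

section Step

variable {M₁ M₂ M₃ : Type u} [AddCommGroup M₁] [Module R M₁] [AddCommGroup M₂] [Module R M₂]
  [AddCommGroup M₃] [Module R M₃]
  (ℳ₁ : ℤ → AddSubgroup M₁) [DirectSum.Decomposition ℳ₁] [SetLike.GradedSMul 𝒜 ℳ₁]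
  (ℳ₂ : ℤ → AddSubgroup M₂) [DirectSum.Decomposition ℳ₂] [SetLike.GradedSMul 𝒜 ℳ₂]
  (ℳ₃ : ℤ → AddSubgroup M₃) [DirectSum.Decomposition ℳ₃] [SetLike.GradedSMul 𝒜 ℳ₃]
  (j : M₁ →ₗ[R] M₂) (pr : M₂ →ₗ[R] M₃) (hj : GrLC.IsGrHom ℳ₁ ℳ₂ j) (hpr : GrLC.IsGrHom ℳ₂ ℳ₃ pr)
  (h : pr ∘ₗ j = 0) (hS : (sesOf j pr h).ShortExact)
  (hS' : (sesOf (verMap D ℳ₁ ℳ₂ j hj) (verMap D ℳ₂ ℳ₃ pr hpr)
      (verMap_comp_eq_zero D ℳ₁ ℳ₂ ℳ₃ j pr hj hpr h)).ShortExact)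

/-- the induction step -/
theorem isVerIso_step (p : ℕ) (hacyc : Subsingleton (LocCoh.H a.toIdeal (p + 1) M₂))
    (hacyc' : Subsingleton (LocCoh.H a'.toIdeal (p + 1) (VerT D ℳ₂)))
    (ψ₃ : LocCoh.H a'.toIdeal p (VerT D ℳ₃) →+ LocCoh.H a.toIdeal p M₃)
    (hψ₃ : IsVerIso D a a' ℳ₃ p ψ₃)
    (hker : ∀ x, δ a'.toIdeal p hS' x = 0 ↔ δ a.toIdeal p hS (ψ₃ x) = 0) :
    ∃ ψ₁ : LocCoh.H a'.toIdeal (p + 1) (VerT D ℳ₁) →+ LocCoh.H a.toIdeal (p + 1) M₁,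
      IsVerIso D a a' ℳ₁ (p + 1) ψ₁ := by
  haveI : IsNoetherianRing V := isNoetherianRing_ver D
  have hsurj' : Function.Surjective (δ a'.toIdeal p hS') :=
    δ_surjective_of_subsingleton a'.toIdeal p hS' hacyc'
  obtain ⟨ψ₁, hψ₁⟩ := exists_addHom_of_surjective (δ a'.toIdeal p hS').toAddMonoidHom hsurj'
    ((δ a.toIdeal p hS).toAddMonoidHom.comp ψ₃) (fun x hx => (hker x).mp hx)
  have hψ₁' : ∀ x, ψ₁ (δ a'.toIdeal p hS' x) = δ a.toIdeal p hS (ψ₃ x) := hψ₁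
  refine ⟨ψ₁, ?_, ?_, ?_⟩
  · rw [injective_iff_map_eq_zero]
    intro y hy
    obtain ⟨x, rfl⟩ := hsurj' y
    rw [hψ₁'] at hy
    exact (hker x).mpr hy
  · intro v y
    obtain ⟨x, rfl⟩ := hsurj' y
    rw [← map_smul, hψ₁', hψ₁', hψ₃.2.1, map_smul]
  · intro k y
    constructor
    · intro hy
      have h0 : ((localCohomology a.toIdeal (p + 1)).map (ModuleCat.ofHom j)) y = 0 :=
        hacyc.elim _ _
      obtain ⟨w, hw, rfl⟩ := Van.exists_LCgr_of_map_f_eq_zero 𝒜 ℳ₁ ℳ₂ ℳ₃ j pr h hS hj hpr a p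
        (k * D.q) y hy h0
      obtain ⟨x, hx, rfl⟩ := (hψ₃.2.2 k w).mp hw
      refine ⟨δ a'.toIdeal p hS' x, ?_, hψ₁' x⟩
      exact LCgr_δ 𝒜' (verFam D ℳ₁) (verFam D ℳ₂) (verFam D ℳ₃) _ _ _ hS'
        (isGrHom_verMap D ℳ₁ ℳ₂ j hj) (isGrHom_verMap D ℳ₂ ℳ₃ pr hpr) a'.toIdeal p k x hx
    · rintro ⟨x₁, hx₁, rfl⟩
      have h0 : ((localCohomology a'.toIdeal (p + 1)).map
          (ModuleCat.ofHom (verMap D ℳ₁ ℳ₂ j hj))) x₁ = 0 := hacyc'.elim _ _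
      obtain ⟨w, hw, rfl⟩ := Van.exists_LCgr_of_map_f_eq_zero 𝒜' (verFam D ℳ₁) (verFam D ℳ₂)
        (verFam D ℳ₃) _ _ _ hS' (isGrHom_verMap D ℳ₁ ℳ₂ j hj) (isGrHom_verMap D ℳ₂ ℳ₃ pr hpr)
        a' p k x₁ hx₁ h0
      rw [hψ₁']
      exact LCgr_δ 𝒜 ℳ₁ ℳ₂ ℳ₃ j pr h hS hj hpr a.toIdeal p (k * D.q) _
        ((hψ₃.2.2 k _).mpr ⟨w, hw, rfl⟩)

variable {D a a'}

/-- the kernel condition in degree 0 -/
lemma hker_zero (hc : IdealCompat D a a') (x : LocCoh.H a'.toIdeal 0 (VerT D ℳ₃)) :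
    δ a'.toIdeal 0 hS' x = 0 ↔ δ a.toIdeal 0 hS (psi0 ℳ₃ hc x) = 0 := by
  constructor
  · intro hx
    obtain ⟨w, rfl⟩ := (exact_g_δ a'.toIdeal 0 hS' x).mp hx
    apply (exact_g_δ a.toIdeal 0 hS _).mpr
    exact ⟨psi0 ℳ₂ hc w, (psi0_natural ℳ₂ ℳ₃ hc pr hpr w).symm⟩
  · intro hx
    obtain ⟨u, hu⟩ := (exact_g_δ a.toIdeal 0 hS _).mp hx
    -- the Veronese projection of `u`
    have htors : verProjM ℳ₂ D.q (ev0 a.toIdeal (ModuleCat.of R M₂) u) ∈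
        DRing.torsionSub a.toIdeal M₂ :=
      verProjM_mem_of_isHomogeneous ℳ₂ (GrLC.gam a.toIdeal M₂)
        (Groth.Agent.S13225.Aux.gam_isHomogeneous 𝒜 ℳ₂ a)
        (ev0_mem a.toIdeal (ModuleCat.of R M₂) u) D.q
    obtain ⟨u', hu'⟩ := exists_ev0_eq a.toIdeal (ModuleCat.of R M₂) _ htors
    obtain ⟨w, hw⟩ := exists_psi0_eq ℳ₂ hc u' (by rw [hu']; exact verProjM_mem ℳ₂ D.q _)
    apply (exact_g_δ a'.toIdeal 0 hS' x).mpr
    refine ⟨w, ?_⟩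
    apply psi0_injective ℳ₃ hc
    have h1 := psi0_natural ℳ₂ ℳ₃ hc pr hpr w
    refine h1.trans ?_
    rw [hw]
    apply ev0_injective a.toIdeal (ModuleCat.of R M₃)
    rw [ev0_map', hu', map_verProjM D ℳ₂ ℳ₃ hpr, ← ev0_map', ev0_psi0]
    have h2 : ((localCohomology a.toIdeal 0).map (ModuleCat.ofHom pr)) u = psi0 ℳ₃ hc x := hu
    rw [h2, ev0_psi0]
    exact verProjM_of_mem ℳ₃ D.q (VerT.ι_mem D ℳ₃ _)

end Step

end Groth.Agent.Helper8.Ver
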