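import Groth.Agent.Lib.Helper8.Ver5

/-!
# Veronese: the main comparison theorem (helper8)

* `exists_isVerIso`: for compatible homogeneous ideals and every graded `R`-module `X`, an injective
  `φ`-semilinear map `H^p_{a'}(X^(q)) → H^p_a(X)` carrying degree `j` onto degree `j q`.
* `exists_hom_starInjRes`: the same for an abstract presentation `(M', g)` of the Veronese of `M` and arbitrary
  *injective resolutions on both sides.
* `finrank_Hcomp_eq`: the equality of dimensions of the pieces.
-/

set_option autoImplicit false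
set_option linter.unusedSectionVars false
universe u
open DirectSum CategoryTheory

namespace Groth.Agent.Helper8.Ver
open Groth.Agent.Helper9.GrLCLib Groth.Agent.Helper8.LC Groth.Agent.S13224.Aux

variable {R : Type u} [CommRing R] {V : Type u} [CommRing V]
variable {𝒜 : ℤ → AddSubgroup R} [GradedRing 𝒜] {𝒜' : ℤ → AddSubgroup V} [GradedRing 𝒜']
  {D : VerData 𝒜 𝒜'}
variable {a : HomogeneousIdeal 𝒜} {a' : HomogeneousIdeal 𝒜'}
variable [IsNoetherianRing R]

/-- **Local cohomology of Veronese modules.** -/
theorem exists_isVerIso (hc : IdealCompat D a a') : ∀ (p : ℕ) (X : GrLC.GMod.{u} 𝒜),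
    ∃ ψ : LocCoh.H a'.toIdeal p (VerT D X.gr) →+ LocCoh.H a.toIdeal p X.carrier,
      IsVerIso D a a' X.gr p ψ := by
  haveI : IsNoetherianRing V := isNoetherianRing_ver D
  intro p
  induction p using Nat.strong_induction_on with
  | _ p ih =>
    intro X
    match p, ih with
    | 0, _ => exact ⟨psi0 X.gr hc, isVerIso_psi0 X.gr hc⟩
    | (p + 1), ih =>
      obtain ⟨E, η, hηg, hηinj, hE⟩ := exists_starInj_embedding 𝒜 X.gr
      have hR : (LinearMap.range η).IsHomogeneous E.gr := range_isHomogeneous X.gr E.gr hηg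
      let Q := quotGMod E (LinearMap.range η) hR
      let pr : E.carrier →ₗ[R] Q.carrier := quotMap E (LinearMap.range η) hR
      have hprg : GrLC.IsGrHom E.gr Q.gr pr := isGrHom_quotMap E (LinearMap.range η) hR
      have hprs : Function.Surjective pr := quotMap_surjective E (LinearMap.range η) hR
      have hker : LinearMap.ker pr = LinearMap.range η := ker_quotMap E (LinearMap.range η) hR
      have h : pr ∘ₗ η = 0 := by
        apply LinearMap.ext
        intro x
        have : η x ∈ LinearMap.ker pr := by rw [hker]; exact ⟨x, rfl⟩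
        exact this
      have hS : (sesOf η pr h).ShortExact := sesOf_shortExact η pr h hηinj hprs hker
      have hS' := ver_shortExact D X.gr E.gr Q.gr η pr hηg hprg h hηinj hprs hker.le
      have hacyc : ∀ i, 1 ≤ i → Subsingleton (LocCoh.H a.toIdeal i E.carrier) :=
        fun i hi => Groth.Agent.S13217.Aux.main 𝒜 E.gr hE a i hi
      have hacyc' : ∀ i, 1 ≤ i → Subsingleton (LocCoh.H a'.toIdeal i (VerT D E.gr)) :=
        fun i hi => subsingleton_H_ver D E hE a' i hi
      match p, ih with
      | 0, _ =>
        exact isVerIso_step D a a' X.gr E.gr Q.gr η pr hηg hprg h hS hS' 0 (hacyc 1 le_rfl)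
          (hacyc' 1 le_rfl) (psi0 Q.gr hc) (isVerIso_psi0 Q.gr hc)
          (hker_zero X.gr E.gr Q.gr η pr hηg hprg h hS hS' hc)
      | (p + 1), ih =>
        obtain ⟨ψ₃, hψ₃⟩ := ih (p + 1) (by omega) Q
        have hb := δ_bijective_of_subsingleton a.toIdeal (p + 1) hS (hacyc (p + 1) (by omega))
          (hacyc (p + 1 + 1) (by omega))
        have hb' := δ_bijective_of_subsingleton a'.toIdeal (p + 1) hS' (hacyc' (p + 1) (by omega))
          (hacyc' (p + 1 + 1) (by omega))
        refine isVerIso_step D a a' X.gr E.gr Q.gr η pr hηg hprg h hS hS' (p + 1)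
          (hacyc (p + 1 + 1) (by omega)) (hacyc' (p + 1 + 1) (by omega)) ψ₃ hψ₃ (fun x => ?_)
        constructor
        · intro hx
          have : x = 0 := hb'.1 (by rw [hx, map_zero])
          rw [this, map_zero, map_zero]
        · intro hx
          have h1 : ψ₃ x = 0 := hb.1 (by rw [hx, map_zero])
          have h2 : x = 0 := hψ₃.1 (by rw [h1, map_zero])
          rw [h2, map_zero]

/-- unbundled version of `exists_isVerIso` -/
theorem exists_isVerIso' (hc : IdealCompat D a a') (p : ℕ) {M : Type u} [AddCommGroup M]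
    [Module R M] (ℳ : ℤ → AddSubgroup M) [DirectSum.Decomposition ℳ] [SetLike.GradedSMul 𝒜 ℳ] :
    ∃ ψ : LocCoh.H a'.toIdeal p (VerT D ℳ) →+ LocCoh.H a.toIdeal p M, IsVerIso D a a' ℳ p ψ :=
  exists_isVerIso hc p (GrLC.GMod.of 𝒜 M ℳ)

end Groth.Agent.Helper8.Ver
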