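import Mathlib

/-!
# Lengths along the contravariant long exact `Ext` sequence (towards S13444)
-/

set_option autoImplicit false
universe u

namespace Groth.Agent.Helper8.W4

open CategoryTheory Abelian

section len

variable {R : Type*} [Ring R] {X Y Z : Type*} [AddCommGroup X] [Module R X] [AddCommGroup Y]
  [Module R Y] [AddCommGroup Z] [Module R Z]

lemma length_eq_range_add_range (f : X →ₗ[R] Y) (g : Y →ₗ[R] Z) (h : Function.Exact f g) :
    Module.length R Y =
      Module.length R (LinearMap.range f) + Module.length R (LinearMap.range g) := by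
  have hex : Function.Exact (LinearMap.ker g).subtype g.rangeRestrict := by
    intro y
    constructor
    · intro hy
      have h0 : g y = 0 := congrArg Subtype.val hy
      exact ⟨⟨y, h0⟩, rfl⟩
    · rintro ⟨z, rfl⟩
      exact Subtype.ext z.2
  rw [Module.length_eq_add_of_exact (LinearMap.ker g).subtype g.rangeRestrict
    (Submodule.subtype_injective _) (LinearMap.surjective_rangeRestrict g) hex,
    (LinearEquiv.ofEq _ _ h.linearMap_ker_eq).length_eq]

lemma length_range_of_injective (f : X →ₗ[R] Y) (hf : Function.Injective f) :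
    Module.length R (LinearMap.range f) = Module.length R X :=
  (LinearEquiv.ofInjective f hf).length_eq.symm

lemma length_range_of_surjective (f : X →ₗ[R] Y) (hf : Function.Surjective f) :
    Module.length R (LinearMap.range f) = Module.length R Y :=
  ((LinearEquiv.ofEq _ _ (LinearMap.range_eq_top.mpr hf)).trans Submodule.topEquiv).length_eq

lemma length_range_of_subsingleton (f : X →ₗ[R] Y) [Subsingleton Y] :
    Module.length R (LinearMap.range f) = 0 := by
  rw [Module.length_eq_zero_iff]
  exact ⟨fun a b => Subtype.ext (Subsingleton.elim _ _)⟩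

end len

section les

variable {R : Type u} [CommRing R] (S : ShortComplex (ModuleCat.{u} R)) (hS : S.ShortExact)
  (N : ModuleCat.{u} R)

/-- `Ext^i(X₃, N) → Ext^i(X₂, N)`. -/
noncomputable def cφ (i : ℕ) : Ext S.X₃ N i →ₗ[R] Ext S.X₂ N i :=
  (Ext.mk₀ S.g).precompOfLinear R N (zero_add i)

/-- `Ext^i(X₂, N) → Ext^i(X₁, N)`. -/
noncomputable def cψ (i : ℕ) : Ext S.X₂ N i →ₗ[R] Ext S.X₁ N i :=
  (Ext.mk₀ S.f).precompOfLinear R N (zero_add i)

variable {S}

/-- `Ext^i(X₁, N) → Ext^{i+1}(X₃, N)`. -/
noncomputable def cδ (i : ℕ) : Ext S.X₁ N i →ₗ[R] Ext S.X₃ N (i + 1) :=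
  hS.extClass.precompOfLinear R N (add_comm 1 i)

include hS in
lemma exact_cφ_cψ (i : ℕ) : Function.Exact (cφ S N i) (cψ S N i) := by
  intro x₂
  constructor
  · intro hx₂
    exact Ext.contravariant_sequence_exact₂ hS N x₂ hx₂
  · rintro ⟨x₃, rfl⟩
    change (Ext.mk₀ S.f).comp ((Ext.mk₀ S.g).comp x₃ (zero_add i)) (zero_add i) = 0
    rw [← Ext.comp_assoc (Ext.mk₀ S.f) (Ext.mk₀ S.g) x₃ (zero_add 0) (zero_add i)
      (by omega), Ext.mk₀_comp_mk₀, S.zero, Ext.mk₀_zero, Ext.zero_comp]

lemma exact_cψ_cδ (i : ℕ) : Function.Exact (cψ S N i) (cδ hS N i) := by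
  intro x₁
  constructor
  · intro hx₁
    exact Ext.contravariant_sequence_exact₁ hS N x₁ (add_comm 1 i) hx₁
  · rintro ⟨x₂, rfl⟩
    exact hS.extClass_comp_assoc x₂ (h := add_comm 1 i)

lemma exact_cδ_cφ (i : ℕ) : Function.Exact (cδ hS N i) (cφ S N (i + 1)) := by
  intro x₃
  constructor
  · intro hx₃
    exact Ext.contravariant_sequence_exact₃ hS N x₃ hx₃ (add_comm 1 i)
  · rintro ⟨x₁, rfl⟩
    exact hS.comp_extClass_assoc x₁ (add_comm 1 i)

include hS in
lemma cφ_zero_injective : Function.Injective (cφ S N 0) := by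
  haveI : Epi S.g := hS.epi_g
  exact Ext.precomp_mk₀_injective_of_epi N S.g

include hS in
/-- The alternating sum of lengths along the nine-term exact sequence, written without
subtraction. -/
theorem contra_master (hvan : Subsingleton (Ext S.X₃ N 3)) :
    Module.length R (Ext S.X₃ N 0) + Module.length R (Ext S.X₁ N 0) +
        Module.length R (Ext S.X₂ N 1) + Module.length R (Ext S.X₃ N 2) +
        Module.length R (Ext S.X₁ N 2) =
      Module.length R (Ext S.X₂ N 0) + Module.length R (Ext S.X₃ N 1) +
        Module.length R (Ext S.X₁ N 1) + Module.length R (Ext S.X₂ N 2) := by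
  have e1 : Module.length R (Ext S.X₃ N 0) = Module.length R (LinearMap.range (cφ S N 0)) :=
    (length_range_of_injective _ (cφ_zero_injective hS N)).symm
  have e2 : Module.length R (Ext S.X₂ N 0) = Module.length R (LinearMap.range (cφ S N 0)) +
      Module.length R (LinearMap.range (cψ S N 0)) :=
    length_eq_range_add_range _ _ (exact_cφ_cψ hS N 0)
  have e3 : Module.length R (Ext S.X₁ N 0) = Module.length R (LinearMap.range (cψ S N 0)) +
      Module.length R (LinearMap.range (cδ hS N 0)) :=
    length_eq_range_add_range _ _ (exact_cψ_cδ hS N 0)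
  have e4 : Module.length R (Ext S.X₃ N 1) = Module.length R (LinearMap.range (cδ hS N 0)) +
      Module.length R (LinearMap.range (cφ S N 1)) :=
    length_eq_range_add_range (cδ hS N 0) (cφ S N 1) (exact_cδ_cφ hS N 0)
  have e5 : Module.length R (Ext S.X₂ N 1) = Module.length R (LinearMap.range (cφ S N 1)) +
      Module.length R (LinearMap.range (cψ S N 1)) :=
    length_eq_range_add_range _ _ (exact_cφ_cψ hS N 1)
  have e6 : Module.length R (Ext S.X₁ N 1) = Module.length R (LinearMap.range (cψ S N 1)) +
      Module.length R (LinearMap.range (cδ hS N 1)) :=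
    length_eq_range_add_range _ _ (exact_cψ_cδ hS N 1)
  have e7 : Module.length R (Ext S.X₃ N 2) = Module.length R (LinearMap.range (cδ hS N 1)) +
      Module.length R (LinearMap.range (cφ S N 2)) :=
    length_eq_range_add_range (cδ hS N 1) (cφ S N 2) (exact_cδ_cφ hS N 1)
  have e8 : Module.length R (Ext S.X₂ N 2) = Module.length R (LinearMap.range (cφ S N 2)) +
      Module.length R (LinearMap.range (cψ S N 2)) :=
    length_eq_range_add_range _ _ (exact_cφ_cψ hS N 2)
  have e9 : Module.length R (Ext S.X₁ N 2) = Module.length R (LinearMap.range (cψ S N 2)) +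
      Module.length R (LinearMap.range (cδ hS N 2)) :=
    length_eq_range_add_range _ _ (exact_cψ_cδ hS N 2)
  have e10 : Module.length R (LinearMap.range (cδ hS N 2)) = 0 := by
    haveI : Subsingleton (Ext S.X₃ N (2 + 1)) := hvan
    exact length_range_of_subsingleton _
  rw [e1, e2, e3, e4, e5, e6, e7, e8, e9, e10]
  ring

include hS in
/-- The first five terms of the sequence when `Ext^1(X₂, N) = 0`. -/
theorem contra_five (hvan : Subsingleton (Ext S.X₂ N 1)) :
    Module.length R (Ext S.X₁ N 0) + Module.length R (Ext S.X₃ N 0) =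
      Module.length R (Ext S.X₂ N 0) + Module.length R (Ext S.X₃ N 1) := by
  have e1 : Module.length R (Ext S.X₃ N 0) = Module.length R (LinearMap.range (cφ S N 0)) :=
    (length_range_of_injective _ (cφ_zero_injective hS N)).symm
  have e2 : Module.length R (Ext S.X₂ N 0) = Module.length R (LinearMap.range (cφ S N 0)) +
      Module.length R (LinearMap.range (cψ S N 0)) :=
    length_eq_range_add_range _ _ (exact_cφ_cψ hS N 0)
  have e3 : Module.length R (Ext S.X₁ N 0) = Module.length R (LinearMap.range (cψ S N 0)) +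
      Module.length R (LinearMap.range (cδ hS N 0)) :=
    length_eq_range_add_range _ _ (exact_cψ_cδ hS N 0)
  have e4 : Module.length R (Ext S.X₃ N 1) = Module.length R (LinearMap.range (cδ hS N 0)) +
      Module.length R (LinearMap.range (cφ S N 1)) :=
    length_eq_range_add_range (cδ hS N 0) (cφ S N 1) (exact_cδ_cφ hS N 0)
  have e5 : Module.length R (LinearMap.range (cφ S N 1)) = 0 :=
    length_range_of_subsingleton _
  rw [e1, e2, e3, e4, e5]
  ring

end les

end Groth.Agent.Helper8.W4
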