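import Groth.Agent.Lib.Helper8.W4a
import Groth.Agent.Lib.Helper8.DM2
import Groth.Agent.Lib.Helper8.ExtFL

/-!
# The Euler characteristic of `Ext(A, N)` vanishes for finite length modules over a
two-dimensional regular local ring (towards S13444)
-/

set_option autoImplicit false
universe u

namespace Groth.Agent.Helper8.W4

open CategoryTheory Abelian IsLocalRing RingTheory.Sequence Pointwise

section gen

variable {R : Type u} [CommRing R]

lemma isFiniteLength_ext [IsNoetherianRing R] (X N : ModuleCat.{u} R) [Module.Finite R X]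
    (hN : IsFiniteLength R N) (j : ℕ) : IsFiniteLength R (Ext X N j) := by
  rw [isFiniteLength_iff_isNoetherian_isArtinian] at hN ⊢
  obtain ⟨h1, h2⟩ := hN
  haveI : Module.Finite R N := inferInstance
  exact ⟨isNoetherian_of_isNoetherianRing_of_finite R _,
    Groth.Agent.Helper8.DM.isArtinian_ext X N j⟩

lemma length_ext_ne_top [IsNoetherianRing R] (X N : ModuleCat.{u} R) [Module.Finite R X]
    (hN : IsFiniteLength R N) (j : ℕ) : Module.length R (Ext X N j) ≠ ⊤ :=
  Module.length_ne_top_iff.mpr (isFiniteLength_ext X N hN j)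

/-- `Ext` only depends on the isomorphism class of the first variable. -/
noncomputable def extCongrLeft {X X' : ModuleCat.{u} R} (e : X ≅ X') (N : ModuleCat.{u} R)
    (j : ℕ) : Ext X' N j ≃ₗ[R] Ext X N j :=
  LinearEquiv.ofLinear ((Ext.mk₀ e.hom).precompOfLinear R N (zero_add j))
    ((Ext.mk₀ e.inv).precompOfLinear R N (zero_add j))
    (by
      apply LinearMap.ext
      intro x
      change (Ext.mk₀ e.hom).comp ((Ext.mk₀ e.inv).comp x (zero_add j)) (zero_add j) = x
      rw [Ext.mk₀_comp_mk₀_assoc, e.hom_inv_id, Ext.mk₀_id_comp])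
    (by
      apply LinearMap.ext
      intro x
      change (Ext.mk₀ e.inv).comp ((Ext.mk₀ e.hom).comp x (zero_add j)) (zero_add j) = x
      rw [Ext.mk₀_comp_mk₀_assoc, e.inv_hom_id, Ext.mk₀_id_comp])

lemma enat_cancel₁ {u v w a b c : ℕ∞} (ha : a ≠ ⊤) (hb : b ≠ ⊤) (hc : c ≠ ⊤) (hu : u ≠ ⊤)
    (hv : v ≠ ⊤) (hw : w ≠ ⊤) (h : u + a + b + v + c = a + w + b + c) : u + v = w := by
  lift a to ℕ using ha
  lift b to ℕ using hb
  lift c to ℕ using hc
  lift u to ℕ using hu
  lift v to ℕ using hv
  lift w to ℕ using hw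
  norm_cast at h ⊢
  omega

lemma enat_cancel₂ {q0 q1 q2 n0 n1 n2 m0 m1 m2 : ℕ∞} (hq0 : q0 ≠ ⊤) (hq1 : q1 ≠ ⊤)
    (hq2 : q2 ≠ ⊤) (hn0 : n0 ≠ ⊤) (hn1 : n1 ≠ ⊤) (hn2 : n2 ≠ ⊤) (hm0 : m0 ≠ ⊤) (hm1 : m1 ≠ ⊤)
    (hm2 : m2 ≠ ⊤) (key : q0 + n0 + m1 + q2 + n2 = m0 + q1 + n1 + m2) (hQ : q0 + q2 = q1)
    (hN : n0 + n2 = n1) : m0 + m2 = m1 := by
  lift q0 to ℕ using hq0
  lift q1 to ℕ using hq1
  lift q2 to ℕ using hq2
  lift n0 to ℕ using hn0
  lift n1 to ℕ using hn1
  lift n2 to ℕ using hn2
  lift m0 to ℕ using hm0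
  lift m1 to ℕ using hm1
  lift m2 to ℕ using hm2
  norm_cast at key hQ hN ⊢
  omega

end gen

section reg

variable (R : Type u) [CommRing R] [IsRegularLocalRing R] (hdim : ringKrullDim R = 2)

include hdim in
theorem euler_residue (N : ModuleCat.{u} R) (hN : IsFiniteLength R N) :
    Module.length R (Ext (ModuleCat.of R (R ⧸ maximalIdeal R)) N 0) +
      Module.length R (Ext (ModuleCat.of R (R ⧸ maximalIdeal R)) N 2) =
    Module.length R (Ext (ModuleCat.of R (R ⧸ maximalIdeal R)) N 1) := by
  obtain ⟨xs, hxs, hlen, hreg⟩ := Groth.Agent.Helper8.FlatReg.exists_regular_generators R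
  rw [hdim] at hlen
  have hlen' : xs.length = 2 := by exact_mod_cast hlen.symm
  obtain ⟨x, y, rfl⟩ := List.length_eq_two.mp hlen'
  rw [isWeaklyRegular_cons_iff] at hreg
  obtain ⟨-, hreg'⟩ := hreg
  rw [isWeaklyRegular_cons_iff] at hreg'
  obtain ⟨hy, -⟩ := hreg'
  have hspan : maximalIdeal R = Ideal.span {x, y} := by
    rw [← hxs, Ideal.ofList_cons, Ideal.ofList_singleton, ← Ideal.span_insert]
  have hxmem : x ∈ maximalIdeal R := by
    rw [hspan]; exact Ideal.subset_span (by simp)
  have hymem : y ∈ maximalIdeal R := by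
    rw [hspan]; exact Ideal.subset_span (by simp)
  let f : QuotSMulTop x R →ₗ[R] QuotSMulTop x R := LinearMap.lsmul R (QuotSMulTop x R) y
  have hf : Function.Injective f := fun a b h => hy h
  let g : QuotSMulTop x R →ₗ[R] (R ⧸ maximalIdeal R) :=
    Submodule.liftQ (x • (⊤ : Submodule R R)) (Submodule.mkQ (maximalIdeal R)) (by
      intro r hr
      rw [Submodule.mem_smul_pointwise_iff_exists] at hr
      obtain ⟨a, -, rfl⟩ := hr
      rw [LinearMap.mem_ker, Submodule.mkQ_apply, Submodule.Quotient.mk_eq_zero, smul_eq_mul]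
      exact Ideal.mul_mem_right _ _ hxmem)
  have hg : Function.Surjective g := by
    intro z
    obtain ⟨r, rfl⟩ := Submodule.mkQ_surjective _ z
    exact ⟨Submodule.Quotient.mk r, rfl⟩
  have hkill : ∀ z : R ⧸ maximalIdeal R, y • z = 0 := by
    intro z
    obtain ⟨c, rfl⟩ := Submodule.mkQ_surjective _ z
    rw [Submodule.mkQ_apply, ← Submodule.Quotient.mk_smul, Submodule.Quotient.mk_eq_zero,
      smul_eq_mul]
    exact Ideal.mul_mem_right _ _ hymem
  have hfg : Function.Exact f g := by
    intro s
    obtain ⟨r, rfl⟩ := Submodule.mkQ_surjective _ s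
    rw [Submodule.mkQ_apply]
    constructor
    · intro hs
      have hr : r ∈ maximalIdeal R := by
        have h0 : (Submodule.mkQ (maximalIdeal R)) r = 0 := hs
        rwa [Submodule.mkQ_apply, Submodule.Quotient.mk_eq_zero] at h0
      rw [hspan, Ideal.mem_span_pair] at hr
      obtain ⟨a, b, rfl⟩ := hr
      refine ⟨Submodule.Quotient.mk b, ?_⟩
      change y • (Submodule.Quotient.mk b : QuotSMulTop x R) =
        Submodule.Quotient.mk (a * x + b * y)
      rw [← Submodule.Quotient.mk_smul, Submodule.Quotient.eq,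
        Submodule.mem_smul_pointwise_iff_exists]
      refine ⟨-a, Submodule.mem_top, ?_⟩
      simp only [smul_eq_mul]
      ring
    · rintro ⟨t, ht⟩
      rw [← ht]
      change g (y • t) = 0
      rw [map_smul]
      exact hkill _
  let S := ModuleCat.shortComplexOfCompEqZero f g hfg.linearMap_comp_eq_zero
  have hS : S.ShortExact := ModuleCat.shortComplex_shortExact S hfg hf hg
  have hdim' : ringKrullDim R = ((2 : ℕ) : WithBot ℕ∞) := by exact_mod_cast hdim
  have hpd := Groth.Agent.Helper8.ABS.hasProjectiveDimensionLT_of_regular R 2 hdim'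
    (R ⧸ maximalIdeal R)
  have hvan : Subsingleton (Ext (ModuleCat.of R (R ⧸ maximalIdeal R)) N 3) :=
    HasProjectiveDimensionLT.subsingleton _ 3 3 le_rfl N
  have key : Module.length R (Ext (ModuleCat.of R (R ⧸ maximalIdeal R)) N 0) +
        Module.length R (Ext (ModuleCat.of R (QuotSMulTop x R)) N 0) +
        Module.length R (Ext (ModuleCat.of R (QuotSMulTop x R)) N 1) +
        Module.length R (Ext (ModuleCat.of R (R ⧸ maximalIdeal R)) N 2) +
        Module.length R (Ext (ModuleCat.of R (QuotSMulTop x R)) N 2) =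
      Module.length R (Ext (ModuleCat.of R (QuotSMulTop x R)) N 0) +
        Module.length R (Ext (ModuleCat.of R (R ⧸ maximalIdeal R)) N 1) +
        Module.length R (Ext (ModuleCat.of R (QuotSMulTop x R)) N 1) +
        Module.length R (Ext (ModuleCat.of R (QuotSMulTop x R)) N 2) :=
    contra_master hS N hvan
  exact enat_cancel₁ (length_ext_ne_top _ N hN 0) (length_ext_ne_top _ N hN 1)
    (length_ext_ne_top _ N hN 2) (length_ext_ne_top _ N hN 0) (length_ext_ne_top _ N hN 2)
    (length_ext_ne_top _ N hN 1) key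

include hdim in
theorem euler_finiteLength (N : ModuleCat.{u} R) (hN : IsFiniteLength R N) :
    ∀ (A : Type u) [AddCommGroup A] [Module R A], IsFiniteLength R A →
      Module.length R (Ext (ModuleCat.of R A) N 0) +
          Module.length R (Ext (ModuleCat.of R A) N 2) =
        Module.length R (Ext (ModuleCat.of R A) N 1) := by
  intro A _ _ hA
  induction hA with
  | @of_subsingleton M _ _ _ =>
    have hz : Limits.IsZero (ModuleCat.of R M) := ModuleCat.isZero_of_subsingleton _
    have := hz.hasProjectiveDimensionLT_zero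
    have hsub : ∀ i : ℕ, Subsingleton (Ext (ModuleCat.of R M) N i) :=
      fun i => HasProjectiveDimensionLT.subsingleton (ModuleCat.of R M) 0 i (Nat.zero_le _) _
    haveI := hsub 0
    haveI := hsub 1
    haveI := hsub 2
    rw [Module.length_eq_zero, Module.length_eq_zero, Module.length_eq_zero, add_zero]
  | @of_simple_quotient M _ _ N' hsimple hN' ih =>
    obtain ⟨I, hImax, ⟨e⟩⟩ := isSimpleModule_iff_quot_maximal.mp hsimple
    obtain rfl : I = maximalIdeal R := IsLocalRing.eq_maximalIdeal hImax
    have hM : IsFiniteLength R M := IsFiniteLength.of_simple_quotient hN'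
    haveI : IsNoetherian R M := (isFiniteLength_iff_isNoetherian_isArtinian.mp hM).1
    let S := ModuleCat.shortComplexOfCompEqZero N'.subtype N'.mkQ
      (LinearMap.exact_subtype_mkQ N').linearMap_comp_eq_zero
    have hS : S.ShortExact := ModuleCat.shortComplex_shortExact S (LinearMap.exact_subtype_mkQ N')
      N'.injective_subtype N'.mkQ_surjective
    have hdim' : ringKrullDim R = ((2 : ℕ) : WithBot ℕ∞) := by exact_mod_cast hdim
    have hpd := Groth.Agent.Helper8.ABS.hasProjectiveDimensionLT_of_regular R 2 hdim' (M ⧸ N')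
    have hvan : Subsingleton (Ext (ModuleCat.of R (M ⧸ N')) N 3) :=
      HasProjectiveDimensionLT.subsingleton _ 3 3 le_rfl N
    have key : Module.length R (Ext (ModuleCat.of R (M ⧸ N')) N 0) +
          Module.length R (Ext (ModuleCat.of R N') N 0) +
          Module.length R (Ext (ModuleCat.of R M) N 1) +
          Module.length R (Ext (ModuleCat.of R (M ⧸ N')) N 2) +
          Module.length R (Ext (ModuleCat.of R N') N 2) =
        Module.length R (Ext (ModuleCat.of R M) N 0) +
          Module.length R (Ext (ModuleCat.of R (M ⧸ N')) N 1) +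
          Module.length R (Ext (ModuleCat.of R N') N 1) +
          Module.length R (Ext (ModuleCat.of R M) N 2) :=
      contra_master hS N hvan
    have hQ := euler_residue R hdim N hN
    rw [(extCongrLeft e.toModuleIso N 0).length_eq, (extCongrLeft e.toModuleIso N 1).length_eq,
      (extCongrLeft e.toModuleIso N 2).length_eq] at hQ
    exact enat_cancel₂ (length_ext_ne_top _ N hN 0) (length_ext_ne_top _ N hN 1)
      (length_ext_ne_top _ N hN 2) (length_ext_ne_top _ N hN 0) (length_ext_ne_top _ N hN 1)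
      (length_ext_ne_top _ N hN 2) (length_ext_ne_top _ N hN 0) (length_ext_ne_top _ N hN 1)
      (length_ext_ne_top _ N hN 2) key hQ ih

end reg

end Groth.Agent.Helper8.W4
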