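import Groth.Agent.Lib.Helper8.W4b
import Groth.Agent.Lib.Helper8.CanMod4
import Groth.Agent.Lib.Helper8.ABS21
import Groth.Agent.Lib.Helper8.LC14
import Groth.Agent.Lib.Helper8.LD11
import Groth.Agent.Lib.Helper1.MatlisL

/-!
# `ℓ(Hom(I, R/J)) + ℓ(R/(I : J)) = ℓ(R/J) + ℓ(R/I)` over a two-dimensional regular local ring
(S13444)
-/

set_option autoImplicit false
universe u

namespace Groth.Agent.Helper8.W4

open CategoryTheory Abelian IsLocalRing LocCoh
open Groth.Agent.Helper8.Watts Groth.Agent.Helper8.CanMod Groth.Agent.Helper8.LC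

section functor

variable {R : Type u} [CommRing R]

/-- `Ext^n(A, -)` as a module valued functor. -/
noncomputable def extFunctor (A : ModuleCat.{u} R) (n : ℕ) :
    ModuleCat.{u} R ⥤ ModuleCat.{u} R where
  obj N := ModuleCat.of R (Ext A N n)
  map g := ModuleCat.ofHom ((Ext.mk₀ g).postcompOfLinear R A (add_zero n))
  map_id N := by
    apply ModuleCat.hom_ext
    apply LinearMap.ext
    intro x
    change x.comp (Ext.mk₀ (𝟙 N)) (add_zero n) = x
    exact Ext.comp_mk₀_id x
  map_comp g h := by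
    apply ModuleCat.hom_ext
    apply LinearMap.ext
    intro x
    change x.comp (Ext.mk₀ (g ≫ h)) (add_zero n) =
      (x.comp (Ext.mk₀ g) (add_zero n)).comp (Ext.mk₀ h) (add_zero n)
    rw [Ext.comp_assoc_of_third_deg_zero, Ext.mk₀_comp_mk₀]

lemma extFunctor_map_apply (A : ModuleCat.{u} R) (n : ℕ) {N N' : ModuleCat.{u} R} (g : N ⟶ N')
    (x : Ext A N n) :
    ((extFunctor A n).map g).hom x = x.comp (Ext.mk₀ g) (add_zero n) := rfl

variable (A : ModuleCat.{u} R) (n : ℕ)
  (hvan : ∀ N : ModuleCat.{u} R, Subsingleton (Ext A N (n + 1)))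

/-- the kernel short exact sequence of a surjection. -/
noncomputable abbrev kerSC {M M'' : Type u} [AddCommGroup M] [Module R M] [AddCommGroup M'']
    [Module R M''] (v : M →ₗ[R] M'') : ShortComplex (ModuleCat.{u} R) :=
  ModuleCat.shortComplexOfCompEqZero (LinearMap.ker v).subtype v (by
    apply LinearMap.ext
    intro x
    exact x.2)

lemma kerSC_shortExact {M M'' : Type u} [AddCommGroup M] [Module R M] [AddCommGroup M'']
    [Module R M''] (v : M →ₗ[R] M'') (hv : Function.Surjective v) : (kerSC v).ShortExact := by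
  apply ModuleCat.shortComplex_shortExact
  · intro x
    change v x = 0 ↔ x ∈ Set.range (LinearMap.ker v).subtype
    constructor
    · intro hx; exact ⟨⟨x, hx⟩, rfl⟩
    · rintro ⟨y, rfl⟩; exact y.2
  · exact Submodule.subtype_injective _
  · exact hv

include hvan in
lemma ext_map_surjective {M M'' : Type u} [AddCommGroup M] [Module R M] [AddCommGroup M'']
    [Module R M''] (v : M →ₗ[R] M'') (hv : Function.Surjective v) :
    Function.Surjective ((extFunctor A n).map (ModuleCat.ofHom v)).hom := by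
  have hT := kerSC_shortExact v hv
  intro y
  haveI := hvan (kerSC v).X₁
  obtain ⟨x₂, hx₂⟩ := Ext.covariant_sequence_exact₃ A hT y rfl (Subsingleton.elim _ _)
  exact ⟨x₂, hx₂⟩

include hvan in
lemma ext_map_exact {M' M M'' : Type u} [AddCommGroup M'] [Module R M'] [AddCommGroup M]
    [Module R M] [AddCommGroup M''] [Module R M''] (u : M' →ₗ[R] M) (v : M →ₗ[R] M'')
    (huv : Function.Exact u v) (hv : Function.Surjective v) :
    Function.Exact ((extFunctor A n).map (ModuleCat.ofHom u)).hom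
      ((extFunctor A n).map (ModuleCat.ofHom v)).hom := by
  have hT := kerSC_shortExact v hv
  have hvu : ∀ x, u x ∈ LinearMap.ker v := fun x => (huv (u x)).mpr ⟨x, rfl⟩
  let ubar : M' →ₗ[R] LinearMap.ker v := u.codRestrict _ hvu
  have hubar : Function.Surjective ubar := by
    rintro ⟨y, hy⟩
    obtain ⟨x, rfl⟩ := (huv y).mp hy
    exact ⟨x, rfl⟩
  have hs := ext_map_surjective A n hvan ubar hubar
  have hfac : ModuleCat.ofHom u = ModuleCat.ofHom ubar ≫ (kerSC v).f := by
    apply ModuleCat.hom_ext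
    apply LinearMap.ext
    intro x
    rfl
  intro y
  constructor
  · intro hy
    obtain ⟨w, hw⟩ := Ext.covariant_sequence_exact₂ A hT y hy
    obtain ⟨x, hx⟩ := hs w
    refine ⟨x, ?_⟩
    rw [hfac, Functor.map_comp]
    change ((extFunctor A n).map (kerSC v).f).hom
      (((extFunctor A n).map (ModuleCat.ofHom ubar)).hom x) = y
    rw [hx]
    exact hw
  · rintro ⟨x, rfl⟩
    rw [hfac, Functor.map_comp]
    change ((((extFunctor A n).map (ModuleCat.ofHom ubar)).hom x).comp
      (Ext.mk₀ (kerSC v).f) (add_zero n)).comp (Ext.mk₀ (kerSC v).g) (add_zero n) = 0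
    rw [Ext.comp_assoc_of_third_deg_zero, Ext.mk₀_comp_mk₀, (kerSC v).zero, Ext.mk₀_zero,
      Ext.comp_zero]

include hvan in
theorem isLinearRightExact_extFunctor : IsLinearRightExact (extFunctor A n) where
  map_add f g := by
    apply ModuleCat.hom_ext
    apply LinearMap.ext
    intro x
    rw [ModuleCat.hom_add, LinearMap.add_apply]
    change x.comp (Ext.mk₀ (f + g)) (add_zero n) =
      x.comp (Ext.mk₀ f) (add_zero n) + x.comp (Ext.mk₀ g) (add_zero n)
    rw [Ext.mk₀_add, Ext.comp_add]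
  map_smul r f := by
    apply ModuleCat.hom_ext
    apply LinearMap.ext
    intro x
    rw [ModuleCat.hom_smul, LinearMap.smul_apply]
    change x.comp (Ext.mk₀ (r • f)) (add_zero n) = r • x.comp (Ext.mk₀ f) (add_zero n)
    rw [Ext.mk₀_smul, Ext.comp_smul]
  surj := by
    intro M M'' v hv
    exact ext_map_surjective A n hvan v.hom hv
  exact := by
    intro M' M M'' u v huv hv
    exact ext_map_exact A n hvan u.hom v.hom huv hv

end functor

section colon

variable {R : Type u} [CommRing R]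

lemma isFiniteLength_hom (B A : Type u) [AddCommGroup B] [Module R B] [AddCommGroup A]
    [Module R A] [Module.Finite R B] (hA : IsFiniteLength R A) :
    IsFiniteLength R (B →ₗ[R] A) := by
  obtain ⟨b, s, hs⟩ := Module.Finite.exists_fin (R := R) (M := B)
  let φ : (B →ₗ[R] A) →ₗ[R] (Fin b → A) :=
    { toFun := fun f j => f (s j)
      map_add' := fun f g => rfl
      map_smul' := fun r f => rfl }
  have hφ : Function.Injective φ := by
    intro f g hfg
    apply LinearMap.ext_on_range hs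
    intro j
    exact congrFun hfg j
  rw [isFiniteLength_iff_isNoetherian_isArtinian] at hA
  obtain ⟨h1, h2⟩ := hA
  have h3 : IsFiniteLength R (Fin b → A) :=
    isFiniteLength_iff_isNoetherian_isArtinian.mpr ⟨inferInstance, inferInstance⟩
  exact h3.of_injective hφ

lemma length_quot_eq_hom_add_colon (I J : Ideal R) :
    Module.length R (R ⧸ I) =
      Module.length R ((R ⧸ J) →ₗ[R] (R ⧸ I)) + Module.length R (R ⧸ I.colon (J : Set R)) := by
  let ev : ((R ⧸ J) →ₗ[R] (R ⧸ I)) →ₗ[R] (R ⧸ I) := LinearMap.applyₗ (1 : R ⧸ J)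
  have hle : I ≤ I.colon (J : Set R) := Ideal.le_colon
  let q : (R ⧸ I) →ₗ[R] (R ⧸ I.colon (J : Set R)) := (Ideal.Quotient.factorₐ R hle).toLinearMap
  have hone : ∀ r : R, (Ideal.Quotient.mk J r) = r • (1 : R ⧸ J) := by
    intro r
    rw [Algebra.smul_def, mul_one]
    rfl
  have hev : Function.Injective ev := by
    intro φ ψ h
    apply LinearMap.ext
    intro b
    obtain ⟨r, rfl⟩ := Ideal.Quotient.mk_surjective b
    have h' : φ 1 = ψ 1 := h
    rw [hone r, map_smul, map_smul, h']
  have hq : Function.Surjective q := Ideal.Quotient.factor_surjective hle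
  have hex : Function.Exact ev q := by
    intro a
    constructor
    · intro ha
      obtain ⟨r, rfl⟩ := Ideal.Quotient.mk_surjective a
      have hr : r ∈ I.colon (J : Set R) := by
        have h0 : Ideal.Quotient.mk (I.colon (J : Set R)) r = 0 := ha
        rwa [Ideal.Quotient.eq_zero_iff_mem] at h0
      rw [Submodule.mem_colon] at hr
      let φ0 : R →ₗ[R] (R ⧸ I) := LinearMap.toSpanSingleton R (R ⧸ I) (Ideal.Quotient.mk I r)
      have hker : J ≤ LinearMap.ker φ0 := by
        intro j hj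
        rw [LinearMap.mem_ker, LinearMap.toSpanSingleton_apply, Algebra.smul_def,
          Ideal.Quotient.algebraMap_eq, ← map_mul, Ideal.Quotient.eq_zero_iff_mem, mul_comm]
        exact hr j hj
      refine ⟨Submodule.liftQ J φ0 hker, ?_⟩
      change φ0 1 = _
      rw [LinearMap.toSpanSingleton_apply, one_smul]
    · rintro ⟨φ, rfl⟩
      obtain ⟨r, hr⟩ := Ideal.Quotient.mk_surjective (φ 1)
      change q (φ 1) = 0
      rw [← hr]
      change Ideal.Quotient.mk (I.colon (J : Set R)) r = 0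
      rw [Ideal.Quotient.eq_zero_iff_mem, Submodule.mem_colon]
      intro j hj
      have h1 : j • φ 1 = 0 := by
        rw [← map_smul, ← hone j, Ideal.Quotient.eq_zero_iff_mem.mpr hj, map_zero]
      rw [← hr, Algebra.smul_def, Ideal.Quotient.algebraMap_eq, ← map_mul,
        Ideal.Quotient.eq_zero_iff_mem] at h1
      rw [smul_eq_mul, mul_comm]
      exact h1
  exact Module.length_eq_add_of_exact ev q hev hq hex

lemma enat_final {h a0 a1 a2 b a c d : ℕ∞} (ha0 : a0 ≠ ⊤) (s1 : h + a0 = b + a1)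
    (s2 : a0 + a2 = a1) (s3 : a2 = d) (s4 : a = d + c) : h + c = b + a := by
  subst s3 s2 s4
  have h1 : h + a0 = (b + a2) + a0 := by rw [s1]; ring
  have h2 : h = b + a2 := ENat.add_left_injective_of_ne_top ha0 h1
  rw [h2]
  ring

end colon

section dual

variable (R : Type u) [CommRing R] [IsRegularLocalRing R] (hdim : ringKrullDim R = 2)

include hdim in
theorem length_ext_two (A B : Type u) [AddCommGroup A] [Module R A] [AddCommGroup B] [Module R B]
    [Module.Finite R B] (hA : IsFiniteLength R A) :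
    Module.length R (Ext (ModuleCat.of R A) (ModuleCat.of R B) 2) =
      Module.length R (B →ₗ[R] A) := by
  haveI : IsGorensteinLocalRing R :=
    Groth.Agent.Helper8.ABS.isGorensteinLocalRing_of_isRegularLocalRing R
  obtain ⟨E, _, _, f, hf⟩ :=
    Groth.Agent.Helper1.InjHullL.exists_injectiveHull (R := R) (ResidueField R)
  haveI : Module.Injective R E := hf.isInjective
  have hdim' : ringKrullDim R = ((2 : ℕ) : WithBot ℕ∞) := by exact_mod_cast hdim
  have hAnoe : IsNoetherian R A := (isFiniteLength_iff_isNoetherian_isArtinian.mp hA).1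
  have hAart : IsArtinian R A := (isFiniteLength_iff_isNoetherian_isArtinian.mp hA).2
  haveI : Module.Finite R A := inferInstance
  obtain ⟨e1⟩ := Groth.Agent.Helper8.LD.nonempty_H_equiv_dual_ext_of_gorenstein R 2 hdim' E f hf
    A 0 2 rfl
  have hpt : IsPowerTorsion (maximalIdeal R) A :=
    Groth.Agent.Helper1.MatlisL.isPowerTorsion_of_isArtinian A
  obtain ⟨e2⟩ := (torsion_h0_and_vanishing (maximalIdeal R) A hpt).1
  have hW : IsFiniteLength R (Ext (ModuleCat.of R A) (ModuleCat.of R R) 2) := by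
    rw [← Module.length_ne_top_iff,
      (Groth.Agent.Helper8.ExtFL.ext_finiteLength R 2 hdim' A hA).2, Module.length_ne_top_iff]
    exact hA
  let e3 : A ≃ₗ[R] (Ext (ModuleCat.of R A) (ModuleCat.of R R) 2 →ₗ[R] E) := e2.symm.trans e1
  let e4 : Ext (ModuleCat.of R A) (ModuleCat.of R R) 2 ≃ₗ[R]
      ((Ext (ModuleCat.of R A) (ModuleCat.of R R) 2 →ₗ[R] E) →ₗ[R] E) :=
    LinearEquiv.ofBijective _
      (Groth.Agent.Helper1.MatlisL.applyₗ_bijective_of_isFiniteLength f hf _ hW)
  let e5 : ((Ext (ModuleCat.of R A) (ModuleCat.of R R) 2 →ₗ[R] E) →ₗ[R] E) ≃ₗ[R] (A →ₗ[R] E) :=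
    LinearEquiv.arrowCongr e3.symm (LinearEquiv.refl R E)
  let e6 : (A →ₗ[R] E) ≃ₗ[R] ((R →ₗ[R] A) →ₗ[R] E) :=
    LinearEquiv.arrowCongr (LinearMap.ringLmapEquivSelf R R A).symm (LinearEquiv.refl R E)
  let e0 : Ext (ModuleCat.of R A) (ModuleCat.of R R) 2 ≃ₗ[R] ((R →ₗ[R] A) →ₗ[R] E) :=
    e4.trans (e5.trans e6)
  have hvan : ∀ N : ModuleCat.{u} R, Subsingleton (Ext (ModuleCat.of R A) N (2 + 1)) := by
    intro N
    have hpd := Groth.Agent.Helper8.ABS.hasProjectiveDimensionLT_of_regular R 2 hdim' A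
    exact HasProjectiveDimensionLT.subsingleton _ 3 3 le_rfl N
  have hF := isLinearRightExact_extFunctor (ModuleCat.of R A) 2 hvan
  have hG := isLinearRightExact_ddual (R := R) (K := A) (E := E)
  let e : (extFunctor (ModuleCat.of R A) 2).obj (O R) ≅ (ddual A E).obj (O R) := e0.toModuleIso
  obtain ⟨τ⟩ := nonempty_linearEquiv hF hG e B
  have h1 : Module.length R (Ext (ModuleCat.of R A) (ModuleCat.of R B) 2) =
      Module.length R ((B →ₗ[R] A) →ₗ[R] E) := τ.length_eq
  rw [h1, Groth.Agent.Helper1.MatlisL.length_dual f hf _ (isFiniteLength_hom B A hA)]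

include hdim in
theorem main_S13444 (I J : Ideal R) (hI : Module.length R (R ⧸ I) < ⊤)
    (hJ : Module.length R (R ⧸ J) < ⊤) :
    Module.length R (↥I →ₗ[R] (R ⧸ J)) + Module.length R (R ⧸ I.colon J) =
      Module.length R (R ⧸ J) + Module.length R (R ⧸ I) := by
  have hA : IsFiniteLength R (R ⧸ I) := Module.length_ne_top_iff.mp (ne_of_lt hI)
  have hB : IsFiniteLength R (R ⧸ J) := Module.length_ne_top_iff.mp (ne_of_lt hJ)
  let S := ModuleCat.shortComplexOfCompEqZero I.subtype I.mkQ
    (LinearMap.exact_subtype_mkQ I).linearMap_comp_eq_zero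
  have hS : S.ShortExact := ModuleCat.shortComplex_shortExact S (LinearMap.exact_subtype_mkQ I)
    I.injective_subtype I.mkQ_surjective
  have hvan : Subsingleton (Ext (ModuleCat.of R R) (ModuleCat.of R (R ⧸ J)) 1) :=
    Ext.subsingleton_of_projective _ _ 0
  have s1 : Module.length R (Ext (ModuleCat.of R I) (ModuleCat.of R (R ⧸ J)) 0) +
      Module.length R (Ext (ModuleCat.of R (R ⧸ I)) (ModuleCat.of R (R ⧸ J)) 0) =
      Module.length R (Ext (ModuleCat.of R R) (ModuleCat.of R (R ⧸ J)) 0) +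
        Module.length R (Ext (ModuleCat.of R (R ⧸ I)) (ModuleCat.of R (R ⧸ J)) 1) :=
    contra_five hS (ModuleCat.of R (R ⧸ J)) hvan
  have s2 := euler_finiteLength R hdim (ModuleCat.of R (R ⧸ J)) hB (R ⧸ I) hA
  have s3 := length_ext_two R hdim (R ⧸ I) (R ⧸ J) hA
  have s4 := length_quot_eq_hom_add_colon I J
  rw [(Groth.Agent.Helper8.LD.ext0Equiv I (R ⧸ J)).length_eq,
    (Groth.Agent.Helper8.LD.ext0Equiv (R ⧸ I) (R ⧸ J)).length_eq,
    (Groth.Agent.Helper8.LD.ext0Equiv R (R ⧸ J)).length_eq,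
    (LinearMap.ringLmapEquivSelf R R (R ⧸ J)).length_eq] at s1
  rw [(Groth.Agent.Helper8.LD.ext0Equiv (R ⧸ I) (R ⧸ J)).length_eq] at s2
  have ha0 : Module.length R ((R ⧸ I) →ₗ[R] (R ⧸ J)) ≠ ⊤ :=
    Module.length_ne_top_iff.mpr (isFiniteLength_hom (R ⧸ I) (R ⧸ J) hB)
  exact enat_final ha0 s1 s2 s3 s4

end dual

end Groth.Agent.Helper8.W4
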