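import Mathlib
import Groth.Prelude.Def_CohB1
import Groth.Agent.Lib.Helper6.ProjChart
import Groth.Agent.Lib.Helper6.HypSmooth

/-!
# The short Weierstrass cubic: Jacobian ideals of the three affine charts (helper8)

For `W = Y²Z − X³ − aXZ² + bZ³` the three dehomogenisations (helper6's `ProjChart.delta`) have unit
Jacobian ideal (helper6's `HypSmooth.jac`) when `2 (4a³ + 27b²) ≠ 0`, and conversely the chart
`Z = 1` has a proper Jacobian ideal when `4a³ + 27b² = 0`.
-/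

set_option autoImplicit false
set_option linter.unusedSectionVars false
set_option linter.unusedVariables false
set_option linter.style.haveILetI false
set_option maxHeartbeats 1600000

noncomputable section

namespace Groth.Agent.Helper8.WCub

open MvPolynomial
open Groth.Agent.Lib.Helper6.ProjChart Groth.Agent.Helper6.HypSmooth

universe u

variable {k : Type u} [Field k]

/-- the Weierstrass form `Y²Z − X³ − aXZ² + bZ³` -/
def Wp (a b : k) : MvPolynomial (Fin (2 + 1)) k :=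
  X 1 ^ 2 * X 2 - X 0 ^ 3 - C a * X 0 * X 2 ^ 2 + C b * X 2 ^ 3

lemma jac_top_of_C_mem {σ : Type} [Fintype σ] [DecidableEq σ] (f : MvPolynomial σ k) (c : k)
    (hc : c ≠ 0) (h : (C c : MvPolynomial σ k) ∈ jac f) : jac f = ⊤ := by
  rw [Ideal.eq_top_iff_one]
  have h1 := Ideal.mul_mem_left (jac f) (C c⁻¹) h
  rwa [← C_mul, inv_mul_cancel₀ hc, C_1] at h1

/-- indices of the charts -/
abbrev s20 : {j : Fin (2 + 1) // j ≠ 2} := ⟨0, by decide⟩
abbrev s21 : {j : Fin (2 + 1) // j ≠ 2} := ⟨1, by decide⟩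
abbrev s10 : {j : Fin (2 + 1) // j ≠ 1} := ⟨0, by decide⟩
abbrev s12 : {j : Fin (2 + 1) // j ≠ 1} := ⟨2, by decide⟩
abbrev s01 : {j : Fin (2 + 1) // j ≠ 0} := ⟨1, by decide⟩
abbrev s02 : {j : Fin (2 + 1) // j ≠ 0} := ⟨2, by decide⟩

/-- chart `Z = 1` -/
def w2 (a b : k) : MvPolynomial {j : Fin (2 + 1) // j ≠ 2} k :=
  X s21 ^ 2 - X s20 ^ 3 - C a * X s20 + C b

/-- chart `Y = 1` -/
def w1 (a b : k) : MvPolynomial {j : Fin (2 + 1) // j ≠ 1} k :=
  X s12 - X s10 ^ 3 - C a * X s10 * X s12 ^ 2 + C b * X s12 ^ 3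

/-- chart `X = 1` -/
def w0 (a b : k) : MvPolynomial {j : Fin (2 + 1) // j ≠ 0} k :=
  X s01 ^ 2 * X s02 - 1 - C a * X s02 ^ 2 + C b * X s02 ^ 3

lemma delta2_Wp (a b : k) : delta (2 : Fin (2 + 1)) (Wp a b) = w2 a b := by
  have e0 : delta (2 : Fin (2 + 1)) (X 0 : MvPolynomial (Fin (2 + 1)) k) = X s20 :=
    delta_X_ne 2 s20
  have e1 : delta (2 : Fin (2 + 1)) (X 1 : MvPolynomial (Fin (2 + 1)) k) = X s21 :=
    delta_X_ne 2 s21
  have e2 : delta (2 : Fin (2 + 1)) (X 2 : MvPolynomial (Fin (2 + 1)) k) = 1 := delta_X_self 2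
  unfold Wp w2
  simp only [map_add, map_sub, map_mul, map_pow, delta_C, e0, e1, e2]
  ring

lemma delta1_Wp (a b : k) : delta (1 : Fin (2 + 1)) (Wp a b) = w1 a b := by
  have e0 : delta (1 : Fin (2 + 1)) (X 0 : MvPolynomial (Fin (2 + 1)) k) = X s10 :=
    delta_X_ne 1 s10
  have e1 : delta (1 : Fin (2 + 1)) (X 1 : MvPolynomial (Fin (2 + 1)) k) = 1 := delta_X_self 1
  have e2 : delta (1 : Fin (2 + 1)) (X 2 : MvPolynomial (Fin (2 + 1)) k) = X s12 :=
    delta_X_ne 1 s12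
  unfold Wp w1
  simp only [map_add, map_sub, map_mul, map_pow, delta_C, e0, e1, e2]
  ring

lemma delta0_Wp (a b : k) : delta (0 : Fin (2 + 1)) (Wp a b) = w0 a b := by
  have e0 : delta (0 : Fin (2 + 1)) (X 0 : MvPolynomial (Fin (2 + 1)) k) = 1 := delta_X_self 0
  have e1 : delta (0 : Fin (2 + 1)) (X 1 : MvPolynomial (Fin (2 + 1)) k) = X s01 :=
    delta_X_ne 0 s01
  have e2 : delta (0 : Fin (2 + 1)) (X 2 : MvPolynomial (Fin (2 + 1)) k) = X s02 :=
    delta_X_ne 0 s02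
  unfold Wp w0
  simp only [map_add, map_sub, map_mul, map_pow, delta_C, e0, e1, e2]
  ring

/-! ### partial derivatives -/

lemma pd2x (a b : k) : pderiv s20 (w2 a b) = -(3 * X s20 ^ 2) - C a := by
  have hne : (s21 : {j : Fin (2 + 1) // j ≠ 2}) ≠ s20 := by decide
  unfold w2
  simp only [map_add, map_sub, pderiv_mul, pderiv_pow, pderiv_C, pderiv_X_self,
    pderiv_X_of_ne hne]
  norm_num
  try ring

lemma pd2y (a b : k) : pderiv s21 (w2 a b) = 2 * X s21 := by
  have hne : (s20 : {j : Fin (2 + 1) // j ≠ 2}) ≠ s21 := by decide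
  unfold w2
  simp only [map_add, map_sub, pderiv_mul, pderiv_pow, pderiv_C, pderiv_X_self,
    pderiv_X_of_ne hne]
  norm_num
  try ring

lemma pd1x (a b : k) : pderiv s10 (w1 a b) = -(3 * X s10 ^ 2) - C a * X s12 ^ 2 := by
  have hne : (s12 : {j : Fin (2 + 1) // j ≠ 1}) ≠ s10 := by decide
  unfold w1
  simp only [map_add, map_sub, pderiv_mul, pderiv_pow, pderiv_C, pderiv_X_self,
    pderiv_X_of_ne hne]
  norm_num
  try ring

lemma pd1z (a b : k) :
    pderiv s12 (w1 a b) = 1 - 2 * C a * X s10 * X s12 + 3 * C b * X s12 ^ 2 := by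
  have hne : (s10 : {j : Fin (2 + 1) // j ≠ 1}) ≠ s12 := by decide
  unfold w1
  simp only [map_add, map_sub, pderiv_mul, pderiv_pow, pderiv_C, pderiv_X_self,
    pderiv_X_of_ne hne]
  norm_num
  try ring

lemma pd0y (a b : k) : pderiv s01 (w0 a b) = 2 * X s01 * X s02 := by
  have hne : (s02 : {j : Fin (2 + 1) // j ≠ 0}) ≠ s01 := by decide
  unfold w0
  simp only [map_add, map_sub, pderiv_mul, pderiv_pow, pderiv_C, pderiv_X_self,
    pderiv_X_of_ne hne, pderiv_one]
  norm_num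
  try ring

lemma pd0z (a b : k) :
    pderiv s02 (w0 a b) = X s01 ^ 2 - 2 * C a * X s02 + 3 * C b * X s02 ^ 2 := by
  have hne : (s01 : {j : Fin (2 + 1) // j ≠ 0}) ≠ s02 := by decide
  unfold w0
  simp only [map_add, map_sub, pderiv_mul, pderiv_pow, pderiv_C, pderiv_X_self,
    pderiv_X_of_ne hne, pderiv_one]
  norm_num
  try ring

lemma w2_ne_zero (a b : k) (h2 : (2 : k) ≠ 0) : w2 a b ≠ 0 := by
  intro h
  have h1 := congrArg (pderiv s21) h
  rw [pd2y, map_zero] at h1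
  have h3 : (C (2 : k) : MvPolynomial {j : Fin (2 + 1) // j ≠ 2} k) * X s21 = 0 := by
    rw [map_ofNat]; exact h1
  rcases mul_eq_zero.1 h3 with h4 | h4
  · exact h2 (C_eq_zero.1 h4)
  · exact X_ne_zero s21 h4

lemma Wp_ne_zero (a b : k) (h2 : (2 : k) ≠ 0) : Wp a b ≠ 0 := by
  intro h
  have h1 := congrArg (delta (2 : Fin (2 + 1))) h
  rw [delta2_Wp, map_zero] at h1
  exact w2_ne_zero a b h2 h1

/-! ### the three Jacobian ideals -/

theorem jac_chart2 (a b : k) (h2 : (2 : k) ≠ 0) (hD : 4 * a ^ 3 + 27 * b ^ 2 ≠ 0) :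
    jac (delta (2 : Fin (2 + 1)) (Wp a b)) = ⊤ := by
  rw [delta2_Wp]
  have hx := pderiv_mem_jac (w2 a b) s20
  have hy := pderiv_mem_jac (w2 a b) s21
  have h0 := mem_jac_self (w2 a b)
  rw [pd2x] at hx
  rw [pd2y] at hy
  refine jac_top_of_C_mem (w2 a b) (2 * (4 * a ^ 3 + 27 * b ^ 2)) (mul_ne_zero h2 hD) ?_
  have key : (C (2 * (4 * a ^ 3 + 27 * b ^ 2)) : MvPolynomial {j : Fin (2 + 1) // j ≠ 2} k) =
      (-(2 * (4 * C a ^ 2 + 6 * C a * X s20 ^ 2 + 9 * C b * X s20))) * (-(3 * X s20 ^ 2) - C a)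
      + (-((18 * C a * X s20 + 27 * C b) * X s21)) * (2 * X s21)
      + (2 * (18 * C a * X s20 + 27 * C b)) * w2 a b := by
    unfold w2
    simp only [map_mul, map_add, map_pow, map_ofNat]
    ring
  rw [key]
  exact Ideal.add_mem _ (Ideal.add_mem _ (Ideal.mul_mem_left _ _ hx) (Ideal.mul_mem_left _ _ hy))
    (Ideal.mul_mem_left _ _ h0)

theorem jac_chart1 (a b : k) (h2 : (2 : k) ≠ 0) :
    jac (delta (1 : Fin (2 + 1)) (Wp a b)) = ⊤ := by
  rw [delta1_Wp]
  have hx := pderiv_mem_jac (w1 a b) s10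
  have hz := pderiv_mem_jac (w1 a b) s12
  have h0 := mem_jac_self (w1 a b)
  rw [pd1x] at hx
  rw [pd1z] at hz
  refine jac_top_of_C_mem (w1 a b) 2 h2 ?_
  have key : (C (2 : k) : MvPolynomial {j : Fin (2 + 1) // j ≠ 1} k) =
      (2 - X s12 * (2 * C a * X s10 - 3 * C b * X s12)) *
        (1 - 2 * C a * X s10 * X s12 + 3 * C b * X s12 ^ 2)
      + (3 * (2 * C a * X s10 - 3 * C b * X s12)) * w1 a b
      + (-(X s10 * (2 * C a * X s10 - 3 * C b * X s12))) *
        (-(3 * X s10 ^ 2) - C a * X s12 ^ 2) := by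
    unfold w1
    simp only [map_ofNat]
    ring
  rw [key]
  exact Ideal.add_mem _ (Ideal.add_mem _ (Ideal.mul_mem_left _ _ hz) (Ideal.mul_mem_left _ _ h0))
    (Ideal.mul_mem_left _ _ hx)

theorem jac_chart0 (a b : k) (h2 : (2 : k) ≠ 0) (hD : 4 * a ^ 3 + 27 * b ^ 2 ≠ 0) :
    jac (delta (0 : Fin (2 + 1)) (Wp a b)) = ⊤ := by
  rw [delta0_Wp]
  have hy := pderiv_mem_jac (w0 a b) s01
  have hz := pderiv_mem_jac (w0 a b) s02
  have h0 := mem_jac_self (w0 a b)
  rw [pd0y] at hy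
  rw [pd0z] at hz
  -- `2 y ∈ J`
  have t1 : 2 * X s01 ∈ jac (w0 a b) := by
    have e : (2 * X s01 : MvPolynomial {j : Fin (2 + 1) // j ≠ 0} k) =
        (X s01 ^ 2 - C a * X s02 + C b * X s02 ^ 2) * (2 * X s01 * X s02)
        + (-(2 * X s01)) * w0 a b := by
      unfold w0
      ring
    rw [e]
    exact Ideal.add_mem _ (Ideal.mul_mem_left _ _ hy) (Ideal.mul_mem_left _ _ h0)
  -- `2 p ∈ J`, `p = 1 + a z² − b z³`
  have t2 : 2 * (1 + C a * X s02 ^ 2 - C b * X s02 ^ 3) ∈ jac (w0 a b) := by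
    have e : (2 * (1 + C a * X s02 ^ 2 - C b * X s02 ^ 3) :
        MvPolynomial {j : Fin (2 + 1) // j ≠ 0} k) =
        (X s01 * X s02) * (2 * X s01) + (-2) * w0 a b := by
      unfold w0
      ring
    rw [e]
    exact Ideal.add_mem _ (Ideal.mul_mem_left _ _ t1) (Ideal.mul_mem_left _ _ h0)
  -- `2 p' ∈ J`, `p' = 2 a z − 3 b z²`
  have t3 : 2 * (2 * C a * X s02 - 3 * C b * X s02 ^ 2) ∈ jac (w0 a b) := by
    have e : (2 * (2 * C a * X s02 - 3 * C b * X s02 ^ 2) :
        MvPolynomial {j : Fin (2 + 1) // j ≠ 0} k) =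
        X s01 * (2 * X s01) + (-2) * (X s01 ^ 2 - 2 * C a * X s02 + 3 * C b * X s02 ^ 2) := by
      ring
    rw [e]
    exact Ideal.add_mem _ (Ideal.mul_mem_left _ _ t1) (Ideal.mul_mem_left _ _ hz)
  refine jac_top_of_C_mem (w0 a b) (2 * (4 * a ^ 3 + 27 * b ^ 2)) (mul_ne_zero h2 hD) ?_
  have key : (C (2 * (4 * a ^ 3 + 27 * b ^ 2)) : MvPolynomial {j : Fin (2 + 1) // j ≠ 0} k) =
      ((4 * C a ^ 3 + 27 * C b ^ 2) *
          ((1 + C a * X s02 ^ 2 - C b * X s02 ^ 3) - 2 * X s02 ^ 2 * (C a - C b * X s02))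
        + (C a - C b * X s02) ^ 2 *
          (3 * (4 * C a ^ 2 * X s02 ^ 2 + 6 * C a + 9 * C b * X s02)
            - (18 * C a + 27 * C b * X s02))) *
        (2 * (1 + C a * X s02 ^ 2 - C b * X s02 ^ 3))
      + (-((C a - C b * X s02) ^ 2 *
          (4 * C a ^ 2 * X s02 ^ 2 + 6 * C a + 9 * C b * X s02) * X s02)) *
        (2 * (2 * C a * X s02 - 3 * C b * X s02 ^ 2)) := by
    simp only [map_mul, map_add, map_pow, map_ofNat]
    ring
  rw [key]
  exact Ideal.add_mem _ (Ideal.mul_mem_left _ _ t2) (Ideal.mul_mem_left _ _ t3)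

/-! ### the converse on the chart `Z = 1` -/

theorem disc_ne_zero_of_jac_chart2 (a b : k) (h2 : (2 : k) ≠ 0)
    (h : jac (delta (2 : Fin (2 + 1)) (Wp a b)) = ⊤) : 4 * a ^ 3 + 27 * b ^ 2 ≠ 0 := by
  intro hD
  rw [delta2_Wp] at h
  -- a common root of `x³ + a x − b` and its derivative
  obtain ⟨x0, hx1, hx2⟩ : ∃ x0 : AlgebraicClosure k,
      x0 ^ 3 + algebraMap k (AlgebraicClosure k) a * x0 - algebraMap k (AlgebraicClosure k) b = 0 ∧
      3 * x0 ^ 2 + algebraMap k (AlgebraicClosure k) a = 0 := by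
    by_cases ha : a = 0
    · subst ha
      have hD2 : 27 * b ^ 2 = 0 := by linear_combination hD
      obtain ⟨x0, hx0⟩ := IsAlgClosed.exists_pow_nat_eq
        (algebraMap k (AlgebraicClosure k) b) (n := 3) (by norm_num)
      have hD' : (27 : AlgebraicClosure k) * (algebraMap k (AlgebraicClosure k) b) ^ 2 = 0 := by
        have := congrArg (algebraMap k (AlgebraicClosure k)) hD2
        rwa [map_mul, map_pow, map_ofNat, map_zero] at this
      have h3 : (3 * x0 ^ 2) ^ 3 = 0 := by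
        calc (3 * x0 ^ 2) ^ 3 = 27 * (x0 ^ 3) ^ 2 := by ring
          _ = 0 := by rw [hx0, hD']
      have h4 : 3 * x0 ^ 2 = 0 := (pow_eq_zero_iff (by norm_num)).1 h3
      refine ⟨x0, ?_, ?_⟩
      · rw [hx0, map_zero]; ring
      · rw [map_zero, add_zero]; exact h4
    · have h2a : (2 * a) ≠ 0 := mul_ne_zero h2 ha
      have hx : 2 * a * (3 * b / (2 * a)) = 3 * b := by field_simp
      generalize (3 * b / (2 * a)) = x' at hx
      have e1 : x' ^ 3 + a * x' - b = 0 := by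
        have : (2 * a) ^ 3 * (x' ^ 3 + a * x' - b) = 0 := by
          linear_combination (4 * a ^ 2 * x' ^ 2 + 6 * a * b * x' + 9 * b ^ 2 + 4 * a ^ 3) * hx
            + b * hD
        exact (mul_eq_zero.1 this).resolve_left (pow_ne_zero 3 h2a)
      have e2 : 3 * x' ^ 2 + a = 0 := by
        have : (2 * a) ^ 2 * (3 * x' ^ 2 + a) = 0 := by
          linear_combination (6 * a * x' + 9 * b) * hx + hD
        exact (mul_eq_zero.1 this).resolve_left (pow_ne_zero 2 h2a)
      refine ⟨algebraMap k (AlgebraicClosure k) x', ?_, ?_⟩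
      · have := congrArg (algebraMap k (AlgebraicClosure k)) e1
        rwa [map_sub, map_add, map_mul, map_pow, map_zero] at this
      · have := congrArg (algebraMap k (AlgebraicClosure k)) e2
        rwa [map_add, map_mul, map_pow, map_ofNat, map_zero] at this
  -- evaluation at the singular point
  obtain ⟨φ, hφx, hφy⟩ : ∃ φ : MvPolynomial {j : Fin (2 + 1) // j ≠ 2} k →ₐ[k] AlgebraicClosure k,
      φ (X s20) = x0 ∧ φ (X s21) = 0 := by
    refine ⟨aeval (fun j : {j : Fin (2 + 1) // j ≠ 2} => if j.1 = 0 then x0 else 0), ?_, ?_⟩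
    · rw [aeval_X]
      exact if_pos rfl
    · rw [aeval_X]
      exact if_neg (by decide)
  have hC : ∀ c : k, φ (C c) = algebraMap k (AlgebraicClosure k) c := by
    intro c
    rw [← MvPolynomial.algebraMap_eq]
    exact φ.commutes c
  have hle : jac (w2 a b) ≤ RingHom.ker φ := by
    unfold jac
    rw [Ideal.span_le]
    rintro f (hf | ⟨i, rfl⟩)
    · rw [Set.mem_singleton_iff] at hf
      subst hf
      rw [SetLike.mem_coe, RingHom.mem_ker]
      unfold w2
      simp only [map_add, map_sub, map_mul, map_pow, hφx, hφy, hC]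
      linear_combination -hx1
    · rw [SetLike.mem_coe, RingHom.mem_ker]
      rcases i with ⟨j, hj⟩
      fin_cases j
      · show φ (pderiv s20 (w2 a b)) = 0
        rw [pd2x]
        simp only [map_sub, map_neg, map_mul, map_pow, map_ofNat, hφx, hC]
        linear_combination -hx2
      · show φ (pderiv s21 (w2 a b)) = 0
        rw [pd2y]
        simp only [map_mul, map_ofNat, hφy, mul_zero]
      · exact absurd rfl hj
  have h1 : (1 : MvPolynomial {j : Fin (2 + 1) // j ≠ 2} k) ∈ jac (w2 a b) := by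
    rw [h]; exact Submodule.mem_top
  have h3 := hle h1
  rw [RingHom.mem_ker, map_one] at h3
  exact one_ne_zero h3

end Groth.Agent.Helper8.WCub
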