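import Groth.Agent.Lib.Helper8.SepSys

/-!
# Wild quotient singularities: minor elements, kernel of the evaluation map (S15807)
-/

set_option autoImplicit false
universe u

namespace Groth.Agent.Helper8.WQ1

open MvPolynomial
open Groth.Agent.Helper8.SepSys

section Identities

theorem key_identity {K : Type*} [Field K] (p : ℕ) [Fact p.Prime] [CharP K p]
    (A0 Aj M ρj ρ0 xj x0 : K) :
    (A0 * ρj - Aj * ρ0) ^ p - (M * A0 * Aj) ^ (p - 1) * (A0 * ρj - Aj * ρ0)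
        - (A0 ^ p * xj - Aj ^ p * x0)
      = A0 ^ p * (ρj ^ p - (M * Aj) ^ (p - 1) * ρj - xj)
        - Aj ^ p * (ρ0 ^ p - (M * A0) ^ (p - 1) * ρ0 - x0) := by
  have hp := (Fact.out : p.Prime)
  rw [sub_pow_char]
  obtain ⟨q, hq⟩ : ∃ q, p = q + 1 := ⟨p - 1, by have := hp.pos; omega⟩
  have hq' : p - 1 = q := by omega
  rw [hq', hq]
  ring

theorem shift_identity {K : Type*} [Field K] (p : ℕ) [Fact p.Prime] [CharP K p] (ρ b xx : K) :
    (ρ + b) ^ p - b ^ (p - 1) * (ρ + b) - xx = ρ ^ p - b ^ (p - 1) * ρ - xx := by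
  have hp := (Fact.out : p.Prime)
  rw [add_pow_char]
  obtain ⟨q, hq⟩ : ∃ q, p = q + 1 := ⟨p - 1, by have := hp.pos; omega⟩
  have hq' : p - 1 = q := by omega
  rw [hq', hq]
  ring

end Identities

section Abstract

/-- root tuples of the `f`-system -/
def IsRootF {R K : Type*} [CommRing R] [Field K] (p : ℕ) (φ : R →+* K) {n : ℕ}
    (a : Fin n → R) (μ : R) (x : Fin n → R) (ρ : Fin n → K) : Prop :=
  ∀ i, ρ i ^ p - φ ((μ * a i) ^ (p - 1)) * ρ i - φ (x i) = 0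

theorem minor_root {R K : Type*} [CommRing R] [Field K] (p : ℕ) [Fact p.Prime] [CharP K p]
    (φ : R →+* K) {n : ℕ} (a : Fin n → R) (μ : R) (x : Fin n → R) (i₀ : Fin n)
    (ρ : Fin n → K)
    (hρ : ∀ i, ρ i ^ p - φ ((μ * a i) ^ (p - 1)) * ρ i - φ (x i) = 0)
    (j : {j : Fin n // j ≠ i₀}) :
    (φ (a i₀) * ρ j.1 - φ (a j.1) * ρ i₀) ^ p
      - φ ((μ * a i₀ * a j.1) ^ (p - 1)) * (φ (a i₀) * ρ j.1 - φ (a j.1) * ρ i₀)
      - φ (a i₀ ^ p * x j.1 - a j.1 ^ p * x i₀) = 0 := by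
  have h1 := hρ j.1
  have h0 := hρ i₀
  simp only [map_pow, map_mul, map_sub] at h1 h0 ⊢
  rw [key_identity p (φ (a i₀)) (φ (a j.1)) (φ μ) (ρ j.1) (ρ i₀) (φ (x j.1)) (φ (x i₀)), h1, h0,
    mul_zero, mul_zero, sub_zero]

theorem shift_root {R K : Type*} [CommRing R] [Field K] (p : ℕ) [Fact p.Prime] [CharP K p]
    (φ : R →+* K) {n : ℕ} (a : Fin n → R) (μ : R) (x : Fin n → R) (ρ : Fin n → K)
    (hρ : ∀ i, ρ i ^ p - φ ((μ * a i) ^ (p - 1)) * ρ i - φ (x i) = 0) :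
    ∀ i, (ρ i + φ (μ * a i)) ^ p - φ ((μ * a i) ^ (p - 1)) * (ρ i + φ (μ * a i)) - φ (x i)
      = 0 := by
  intro i
  have h := hρ i
  rw [map_pow] at h ⊢
  rw [shift_identity p (ρ i) (φ (μ * a i)) (φ (x i))]
  exact h

theorem lift_root {R K : Type*} [CommRing R] [Field K] (p : ℕ) [Fact p.Prime] [CharP K p]
    (φ : R →+* K) {n : ℕ} (a : Fin n → R) (μ : R) (x : Fin n → R) (i₀ : Fin n)
    (hA0 : φ (a i₀) ≠ 0) (ζ : {j : Fin n // j ≠ i₀} → K)
    (hζ : ∀ j : {j : Fin n // j ≠ i₀}, ζ j ^ p - φ ((μ * a i₀ * a j.1) ^ (p - 1)) * ζ j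
      - φ (a i₀ ^ p * x j.1 - a j.1 ^ p * x i₀) = 0)
    (ρ₀ : K) (hρ₀ : ρ₀ ^ p - φ ((μ * a i₀) ^ (p - 1)) * ρ₀ - φ (x i₀) = 0) :
    ∃ ρ : Fin n → K, (∀ i, ρ i ^ p - φ ((μ * a i) ^ (p - 1)) * ρ i - φ (x i) = 0) ∧
      ρ i₀ = ρ₀ ∧ ∀ j : {j : Fin n // j ≠ i₀}, φ (a i₀) * ρ j.1 - φ (a j.1) * ρ i₀ = ζ j := by
  obtain ⟨ρ, hρdef⟩ : ∃ ρ : Fin n → K, ρ = fun i =>
      if h : i = i₀ then ρ₀ else (ζ ⟨i, h⟩ + φ (a i) * ρ₀) / φ (a i₀) := ⟨_, rfl⟩
  have hb : ρ i₀ = ρ₀ := by rw [hρdef]; simp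
  have hc : ∀ j : {j : Fin n // j ≠ i₀}, φ (a i₀) * ρ j.1 - φ (a j.1) * ρ i₀ = ζ j := by
    intro j
    rw [hb]
    have h1 : ρ j.1 = (ζ j + φ (a j.1) * ρ₀) / φ (a i₀) := by
      rw [hρdef]; simp only [dif_neg j.2]
    rw [h1]; field_simp; ring
  refine ⟨ρ, ?_, hb, hc⟩
  intro i
  by_cases h : i = i₀
  · rw [h, hb]; exact hρ₀
  · have hk := key_identity p (φ (a i₀)) (φ (a i)) (φ μ) (ρ i) (ρ i₀) (φ (x i)) (φ (x i₀))
    have hz : ζ ⟨i, h⟩ ^ p - φ ((μ * a i₀ * a i) ^ (p - 1)) * ζ ⟨i, h⟩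
        - φ (a i₀ ^ p * x i - a i ^ p * x i₀) = 0 := hζ ⟨i, h⟩
    have hci : φ (a i₀) * ρ i - φ (a i) * ρ i₀ = ζ ⟨i, h⟩ := hc ⟨i, h⟩
    simp only [map_pow, map_mul, map_sub] at hz hρ₀ ⊢
    rw [hci, hz, hb, hρ₀, mul_zero, sub_zero] at hk
    exact (mul_eq_zero.1 hk.symm).resolve_left (pow_ne_zero _ hA0)

/-- the minor elements, as polynomials -/
noncomputable def Zv {R : Type*} [CommRing R] {n : ℕ} (a : Fin n → R) (i₀ : Fin n)
    (j : {j : Fin n // j ≠ i₀}) : MvPolynomial (Fin n) R :=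
  C (a i₀) * X j.1 - C (a j.1) * X i₀

theorem eval₂_Zv {R K : Type*} [CommRing R] [Field K] (φ : R →+* K) {n : ℕ} (a : Fin n → R)
    (i₀ : Fin n) (ρ : Fin n → K) (j : {j : Fin n // j ≠ i₀}) :
    eval₂ φ ρ (Zv a i₀ j) = φ (a i₀) * ρ j.1 - φ (a j.1) * ρ i₀ := by
  simp only [Zv, eval₂_sub, eval₂_mul, eval₂_C, eval₂_X]

theorem aeval_z_eq {R : Type*} [CommRing R] {n : ℕ} (a : Fin n → R) (i₀ : Fin n)
    (I : Ideal (MvPolynomial (Fin n) R)) (F : MvPolynomial {j : Fin n // j ≠ i₀} R) :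
    aeval (fun j : {j : Fin n // j ≠ i₀} =>
        algebraMap R (MvPolynomial (Fin n) R ⧸ I) (a i₀) * Ideal.Quotient.mk I (X j.1)
          - algebraMap R (MvPolynomial (Fin n) R ⧸ I) (a j.1) * Ideal.Quotient.mk I (X i₀)) F
      = Ideal.Quotient.mk I (aeval (Zv a i₀) F) := by
  induction F using MvPolynomial.induction_on with
  | C r => rw [aeval_C, aeval_C]; rfl
  | add f g hf hg => simp only [map_add, hf, hg]
  | mul_X f j hf =>
    simp only [map_mul, aeval_X, hf, Zv, map_sub]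
    rfl

/-- Abstract form of S15807. -/
theorem ker_eq {R K : Type*} [CommRing R] [Field K] [IsAlgClosed K] (p : ℕ) [Fact p.Prime]
    [CharP K p] (φ : R →+* K) (hφ : Function.Injective φ) {n : ℕ} (a : Fin n → R) (μ : R)
    (x : Fin n → R) (i₀ : Fin n) (ha : ∀ i, a i ≠ 0) (hμ : μ ≠ 0) :
    let I : Ideal (MvPolynomial (Fin n) R) :=
      Ideal.span (Set.range fun i : Fin n =>
        X i ^ p - C ((μ * a i) ^ (p - 1)) * X i - C (x i))
    let A := MvPolynomial (Fin n) R ⧸ I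
    let u : Fin n → A := fun i => Ideal.Quotient.mk I (X i)
    let z : {j : Fin n // j ≠ i₀} → A := fun j =>
      algebraMap R A (a i₀) * u j.1 - algebraMap R A (a j.1) * u i₀
    let r : {j : Fin n // j ≠ i₀} → MvPolynomial {j : Fin n // j ≠ i₀} R := fun j =>
      X j ^ p - C ((μ * a i₀ * a j.1) ^ (p - 1)) * X j
        - C (a i₀ ^ p * x j.1 - a j.1 ^ p * x i₀)
    RingHom.ker (MvPolynomial.aeval z : MvPolynomial {j : Fin n // j ≠ i₀} R →ₐ[R] A) =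
      Ideal.span (Set.range r) := by
  intro I A u z r
  have hp := (Fact.out : p.Prime)
  have hM : φ μ ≠ 0 := (map_ne_zero_iff φ hφ).2 hμ
  have hA : ∀ i, φ (a i) ≠ 0 := fun i => (map_ne_zero_iff φ hφ).2 (ha i)
  have hcF : ∀ i, φ ((μ * a i) ^ (p - 1)) ≠ 0 := by
    intro i; rw [map_pow, map_mul]; exact pow_ne_zero _ (mul_ne_zero hM (hA i))
  have hcR : ∀ j : {j : Fin n // j ≠ i₀}, φ ((μ * a i₀ * a j.1) ^ (p - 1)) ≠ 0 := by
    intro j; rw [map_pow, map_mul, map_mul]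
    exact pow_ne_zero _ (mul_ne_zero (mul_ne_zero hM (hA i₀)) (hA j.1))
  have hmem : ∀ F : MvPolynomial {j : Fin n // j ≠ i₀} R,
      F ∈ RingHom.ker (aeval z : MvPolynomial {j : Fin n // j ≠ i₀} R →ₐ[R] A) ↔
        aeval (Zv a i₀) F ∈ I := by
    intro F
    rw [RingHom.mem_ker]
    have h1 : aeval z F = Ideal.Quotient.mk I (aeval (Zv a i₀) F) := aeval_z_eq a i₀ I F
    constructor
    · intro h
      rw [← Ideal.Quotient.eq_zero_iff_mem, ← h1]; exact h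
    · intro h
      exact h1.trans (Ideal.Quotient.eq_zero_iff_mem.2 h)
  ext F
  rw [hmem]
  show aeval (Zv a i₀) F ∈ relIdeal p (fun i => (μ * a i) ^ (p - 1)) x ↔
    F ∈ relIdeal p (fun j : {j : Fin n // j ≠ i₀} => (μ * a i₀ * a j.1) ^ (p - 1))
      (fun j => a i₀ ^ p * x j.1 - a j.1 ^ p * x i₀)
  constructor
  · intro hF
    refine mem_of_forall_eval₂ φ hφ p
      (fun j : {j : Fin n // j ≠ i₀} => (μ * a i₀ * a j.1) ^ (p - 1))
      (fun j => a i₀ ^ p * x j.1 - a j.1 ^ p * x i₀) hcR F ?_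
    intro ζ hζ
    obtain ⟨S0, hS0card, hS0⟩ :=
      exists_roots p (φ ((μ * a i₀) ^ (p - 1))) (φ (x i₀)) (hcF i₀)
    obtain ⟨ρ₀, hρ₀mem⟩ : S0.Nonempty := Finset.card_pos.1 (by rw [hS0card]; exact hp.pos)
    obtain ⟨ρ, hρ, hb, hc⟩ := lift_root p φ a μ x i₀ (hA i₀) ζ hζ ρ₀ (hS0 ρ₀ hρ₀mem)
    have h1 := eval₂_eq_zero_of_mem φ p (fun i => (μ * a i) ^ (p - 1)) x ρ hρ _ hF
    rw [eval₂_aeval'] at h1
    have hfun : (fun j => eval₂ φ ρ (Zv a i₀ j)) = ζ := by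
      funext j; rw [eval₂_Zv]; exact hc j
    rw [hfun] at h1; exact h1
  · intro hF
    refine mem_of_forall_eval₂ φ hφ p (fun i => (μ * a i) ^ (p - 1)) x hcF _ ?_
    intro ρ hρ
    rw [eval₂_aeval']
    refine eval₂_eq_zero_of_mem φ p
      (fun j : {j : Fin n // j ≠ i₀} => (μ * a i₀ * a j.1) ^ (p - 1))
      (fun j => a i₀ ^ p * x j.1 - a j.1 ^ p * x i₀) _ ?_ F hF
    intro j
    have h := minor_root p φ a μ x i₀ ρ hρ j
    simpa only [eval₂_Zv] using h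

end Abstract

section Concrete

theorem exists_field_embedding (p : ℕ) (k : Type u) [Field k] [CharP k p] (n : ℕ) :
    ∃ (K : Type u) (_ : Field K) (_ : IsAlgClosed K) (_ : CharP K p)
      (φ : MvPowerSeries (Fin n) k →+* K), Function.Injective φ := by
  haveI : IsDomain (MvPowerSeries (Fin n) k) := NoZeroDivisors.to_isDomain _
  let F := FractionRing (MvPowerSeries (Fin n) k)
  let φ : MvPowerSeries (Fin n) k →+* AlgebraicClosure F :=
    (algebraMap F (AlgebraicClosure F)).comp (algebraMap (MvPowerSeries (Fin n) k) F)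
  have hφ : Function.Injective φ := by
    show Function.Injective
      ((algebraMap F (AlgebraicClosure F)) ∘ (algebraMap (MvPowerSeries (Fin n) k) F))
    exact (RingHom.injective _).comp (IsFractionRing.injective _ _)
  haveI : CharP (AlgebraicClosure F) p :=
    charP_of_injective_ringHom (f := φ.comp (algebraMap k (MvPowerSeries (Fin n) k)))
      (RingHom.injective _) p
  exact ⟨AlgebraicClosure F, inferInstance, inferInstance, inferInstance, φ, hφ⟩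

theorem nonzero_of_cop {k : Type u} [Field k] (n : ℕ) (hn : 2 ≤ n)
    (a : Fin n → MvPowerSeries (Fin n) k)
    (ham : ∀ i, MvPowerSeries.constantCoeff (a i) = 0)
    (hcop : ∀ i j, i ≠ j → IsRelPrime (a i) (a j)) :
    ∀ i, a i ≠ 0 := by
  intro i hai
  obtain ⟨j, hij⟩ : ∃ j : Fin n, i ≠ j := by
    by_cases h0 : i = ⟨0, by omega⟩
    · refine ⟨⟨1, by omega⟩, ?_⟩
      rw [h0]
      intro h
      have := congrArg Fin.val h
      simp at this
    · exact ⟨⟨0, by omega⟩, h0⟩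
  have hu : IsUnit (a j) := hcop i j hij (by rw [hai]; exact dvd_zero _) (dvd_refl _)
  have hu' : IsUnit (MvPowerSeries.constantCoeff (a j)) := hu.map MvPowerSeries.constantCoeff
  rw [ham j] at hu'
  exact not_isUnit_zero hu'

open MvPolynomial in
theorem main15807
    (p : ℕ) [Fact p.Prime] (k : Type u) [Field k] [CharP k p] (n : ℕ) (hn : 3 ≤ n)
    (a : Fin n → MvPowerSeries (Fin n) k) (μ : MvPowerSeries (Fin n) k)
    (ham : ∀ i, MvPowerSeries.constantCoeff (a i) = 0) (hcop : ∀ i j, i ≠ j → IsRelPrime (a i) (a j))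
    (hμ : μ ≠ 0) (hμa : ∀ i, IsRelPrime μ (a i)) (i₀ : Fin n) :
    let R := MvPowerSeries (Fin n) k
    let I : Ideal (MvPolynomial (Fin n) R) :=
      Ideal.span (Set.range fun i : Fin n =>
        X i ^ p - C ((μ * a i) ^ (p - 1)) * X i - C (MvPowerSeries.X i))
    let A := MvPolynomial (Fin n) R ⧸ I
    let u : Fin n → A := fun i => Ideal.Quotient.mk I (X i)
    let z : {j : Fin n // j ≠ i₀} → A := fun j =>
      algebraMap R A (a i₀) * u j.1 - algebraMap R A (a j.1) * u i₀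
    let r : {j : Fin n // j ≠ i₀} → MvPolynomial {j : Fin n // j ≠ i₀} R := fun j =>
      X j ^ p - C ((μ * a i₀ * a j.1) ^ (p - 1)) * X j
        - C (a i₀ ^ p * MvPowerSeries.X j.1 - a j.1 ^ p * MvPowerSeries.X i₀)
    RingHom.ker (MvPolynomial.aeval z : MvPolynomial {j : Fin n // j ≠ i₀} R →ₐ[R] A) =
      Ideal.span (Set.range r) := by
  intro R I A u z r
  obtain ⟨K, _, _, _, φ, hφ⟩ := exists_field_embedding p k n
  have ha : ∀ i, a i ≠ 0 := nonzero_of_cop n (by omega) a ham hcop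
  exact ker_eq p φ hφ a μ MvPowerSeries.X i₀ ha hμ

end Concrete

end Groth.Agent.Helper8.WQ1
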