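import Groth.Agent.Lib.Helper8.WQ1

/-!
# Wild quotient singularities: invariants lie in the minor algebra after inverting `μ a_{i₀}`
(S19997)
-/

set_option autoImplicit false
universe u

namespace Groth.Agent.Helper8.WQ2

open MvPolynomial
open Groth.Agent.Helper8.SepSys
open Groth.Agent.Helper8.WQ1

section Abstract

/-- the coordinates `(X_{i₀}, Z_j)` as polynomials -/
noncomputable def Wv {R : Type*} [CommRing R] {n : ℕ} (a : Fin n → R) (i₀ : Fin n)
    (i : Fin n) : MvPolynomial (Fin n) R :=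
  if i = i₀ then X i₀ else C (a i₀) * X i - C (a i) * X i₀

theorem stepA {R : Type*} [CommRing R] {n : ℕ} (a : Fin n → R) (i₀ : Fin n)
    (T : MvPolynomial (Fin n) R) :
    ∃ (D : ℕ) (Q : MvPolynomial (Fin n) R), C (a i₀) ^ D * T = aeval (Wv a i₀) Q := by
  induction T using MvPolynomial.induction_on with
  | C r => exact ⟨0, C r, by rw [pow_zero, one_mul, aeval_C, algebraMap_eq]⟩
  | add f g hf hg =>
    obtain ⟨D1, Q1, h1⟩ := hf
    obtain ⟨D2, Q2, h2⟩ := hg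
    refine ⟨D1 + D2, C (a i₀) ^ D2 * Q1 + C (a i₀) ^ D1 * Q2, ?_⟩
    simp only [map_add, map_mul, map_pow, aeval_C, algebraMap_eq]
    rw [← h1, ← h2]
    ring
  | mul_X f i hf =>
    obtain ⟨D, Q, h⟩ := hf
    refine ⟨D + 1, Q * (if i = i₀ then C (a i₀) * X i₀ else X i + C (a i) * X i₀), ?_⟩
    have hE : aeval (Wv a i₀) (if i = i₀ then C (a i₀) * X i₀ else X i + C (a i) * X i₀)
        = C (a i₀) * X i := by
      by_cases hi : i = i₀
      · rw [if_pos hi, map_mul, aeval_C, algebraMap_eq, aeval_X, Wv, if_pos rfl, hi]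
      · rw [if_neg hi, map_add, map_mul, aeval_C, algebraMap_eq, aeval_X, aeval_X, Wv, Wv,
          if_neg hi, if_pos rfl]
        ring
    rw [map_mul, hE, ← h]
    ring

/-- evaluation of the coordinates `(X_{i₀}, Z_j)` at a point -/
noncomputable def wmap {R K : Type*} [CommRing R] [Field K] (φ : R →+* K) {n : ℕ}
    (a : Fin n → R) (i₀ : Fin n) (ρ : Fin n → K) (i : Fin n) : K :=
  if i = i₀ then ρ i₀ else φ (a i₀) * ρ i - φ (a i) * ρ i₀

theorem eval₂_Wv {R K : Type*} [CommRing R] [Field K] (φ : R →+* K) {n : ℕ} (a : Fin n → R)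
    (i₀ : Fin n) (ρ : Fin n → K) (i : Fin n) :
    eval₂ φ ρ (Wv a i₀ i) = wmap φ a i₀ ρ i := by
  unfold Wv wmap
  by_cases h : i = i₀
  · rw [if_pos h, if_pos h, eval₂_X]
  · rw [if_neg h, if_neg h]
    simp only [eval₂_sub, eval₂_mul, eval₂_C, eval₂_X]

/-- coefficients of the mixed system `(f_{i₀}, r_j)` -/
def cM {R : Type*} [CommRing R] (p : ℕ) {n : ℕ} (a : Fin n → R) (μ : R) (i₀ : Fin n)
    (i : Fin n) : R :=
  if i = i₀ then (μ * a i₀) ^ (p - 1) else (μ * a i₀ * a i) ^ (p - 1)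

/-- constant terms of the mixed system `(f_{i₀}, r_j)` -/
def dM {R : Type*} [CommRing R] (p : ℕ) {n : ℕ} (a : Fin n → R) (x : Fin n → R) (i₀ : Fin n)
    (i : Fin n) : R :=
  if i = i₀ then x i₀ else a i₀ ^ p * x i - a i ^ p * x i₀

/-- root tuples of the mixed system -/
def IsRootM {R K : Type*} [CommRing R] [Field K] (p : ℕ) (φ : R →+* K) {n : ℕ}
    (a : Fin n → R) (μ : R) (x : Fin n → R) (i₀ : Fin n) (ω : Fin n → K) : Prop :=
  ∀ i, ω i ^ p - φ (cM p a μ i₀ i) * ω i - φ (dM p a x i₀ i) = 0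

theorem wmap_root {R K : Type*} [CommRing R] [Field K] (p : ℕ) [Fact p.Prime] [CharP K p]
    (φ : R →+* K) {n : ℕ} (a : Fin n → R) (μ : R) (x : Fin n → R) (i₀ : Fin n)
    (ρ : Fin n → K) (hρ : IsRootF p φ a μ x ρ) :
    IsRootM p φ a μ x i₀ (wmap φ a i₀ ρ) := by
  intro i
  by_cases h : i = i₀
  · simp only [wmap, cM, dM, if_pos h]
    exact hρ i₀
  · simp only [wmap, cM, dM, if_neg h]
    exact minor_root p φ a μ x i₀ ρ hρ ⟨i, h⟩

theorem exists_lift {R K : Type*} [CommRing R] [Field K] (p : ℕ) [Fact p.Prime] [CharP K p]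
    (φ : R →+* K) {n : ℕ} (a : Fin n → R) (μ : R) (x : Fin n → R) (i₀ : Fin n)
    (hA0 : φ (a i₀) ≠ 0) (ω : Fin n → K) (hω : IsRootM p φ a μ x i₀ ω) :
    ∃ ρ : Fin n → K, IsRootF p φ a μ x ρ ∧ wmap φ a i₀ ρ = ω := by
  have h0 : ω i₀ ^ p - φ ((μ * a i₀) ^ (p - 1)) * ω i₀ - φ (x i₀) = 0 := by
    have h := hω i₀
    rw [cM, dM, if_pos rfl, if_pos rfl] at h
    exact h
  have hζ : ∀ j : {j : Fin n // j ≠ i₀}, ω j.1 ^ p - φ ((μ * a i₀ * a j.1) ^ (p - 1)) * ω j.1
      - φ (a i₀ ^ p * x j.1 - a j.1 ^ p * x i₀) = 0 := by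
    intro j
    have h := hω j.1
    rw [cM, dM, if_neg j.2, if_neg j.2] at h
    exact h
  obtain ⟨ρ, hρ, hb, hc⟩ := lift_root p φ a μ x i₀ hA0 (fun j => ω j.1) hζ (ω i₀) h0
  refine ⟨ρ, hρ, ?_⟩
  funext i
  by_cases h : i = i₀
  · rw [wmap, if_pos h, hb, h]
  · rw [wmap, if_neg h]; exact hc ⟨i, h⟩

theorem wmap_shift {R K : Type*} [CommRing R] [Field K] (φ : R →+* K) {n : ℕ}
    (a : Fin n → R) (μ : R) (i₀ : Fin n) (ρ : Fin n → K) :
    wmap φ a i₀ (fun i => ρ i + φ (μ * a i))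
      = Function.update (wmap φ a i₀ ρ) i₀ (wmap φ a i₀ ρ i₀ + φ (μ * a i₀)) := by
  funext i
  by_cases h : i = i₀
  · rw [h, Function.update_self]
    simp only [wmap, ↓reduceIte]
  · rw [Function.update_of_ne h]
    simp only [wmap, if_neg h, map_mul]
    ring

/-- the polynomial core of S19997 -/
theorem core {R K : Type*} [CommRing R] [Field K] [IsAlgClosed K] (p : ℕ) [Fact p.Prime]
    [CharP K p] (φ : R →+* K) (hφ : Function.Injective φ) {n : ℕ} (a : Fin n → R) (μ : R)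
    (x : Fin n → R) (i₀ : Fin n) (ha : ∀ i, a i ≠ 0) (hμ : μ ≠ 0)
    (T : MvPolynomial (Fin n) R)
    (hT : aeval (fun i : Fin n => (X i + C (μ * a i) : MvPolynomial (Fin n) R)) T - T ∈
      relIdeal p (fun i => (μ * a i) ^ (p - 1)) x) :
    ∃ (N : ℕ) (Q : MvPolynomial {j : Fin n // j ≠ i₀} R),
      C (μ * a i₀) ^ N * T - aeval (Zv a i₀) Q ∈
        relIdeal p (fun i => (μ * a i) ^ (p - 1)) x := by
  classical
  have hp := (Fact.out : p.Prime)
  have hM : φ μ ≠ 0 := (map_ne_zero_iff φ hφ).2 hμ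
  have hA : ∀ i, φ (a i) ≠ 0 := fun i => (map_ne_zero_iff φ hφ).2 (ha i)
  have hcF : ∀ i, φ ((μ * a i) ^ (p - 1)) ≠ 0 := by
    intro i; rw [map_pow, map_mul]; exact pow_ne_zero _ (mul_ne_zero hM (hA i))
  -- invariance of `T` on root tuples
  have H1 : ∀ ρ : Fin n → K, IsRootF p φ a μ x ρ →
      eval₂ φ (fun i => ρ i + φ (μ * a i)) T = eval₂ φ ρ T := by
    intro ρ hρ
    have h := eval₂_eq_zero_of_mem φ p (fun i => (μ * a i) ^ (p - 1)) x ρ hρ _ hT
    rw [eval₂_sub, eval₂_aeval', sub_eq_zero] at h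
    have hfun : (fun i => eval₂ φ ρ ((X i + C (μ * a i) : MvPolynomial (Fin n) R)))
        = fun i => ρ i + φ (μ * a i) := by
      funext i; rw [eval₂_add, eval₂_X, eval₂_C]
    rw [hfun] at h; exact h
  -- change of coordinates
  obtain ⟨D, Q', hQ'⟩ := stepA a i₀ T
  -- reduction modulo the mixed system
  obtain ⟨G, hG, hQG⟩ := exists_reduced p hp.two_le (cM p a μ i₀) (dM p a x i₀) Q'
  have H2 : ∀ ρ : Fin n → K, IsRootF p φ a μ x ρ →
      φ (a i₀) ^ D * eval₂ φ ρ T = eval₂ φ (wmap φ a i₀ ρ) G := by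
    intro ρ hρ
    have h1 := congrArg (eval₂ φ ρ) hQ'
    rw [eval₂_mul, eval₂_pow, eval₂_C, eval₂_aeval'] at h1
    have hfun : (fun i => eval₂ φ ρ (Wv a i₀ i)) = wmap φ a i₀ ρ := by
      funext i; rw [eval₂_Wv]
    rw [hfun] at h1
    have h2 := eval₂_eq_zero_of_mem φ p (cM p a μ i₀) (dM p a x i₀) (wmap φ a i₀ ρ)
      (wmap_root p φ a μ x i₀ ρ hρ) _ hQG
    rw [eval₂_sub, sub_eq_zero] at h2
    rw [h1, h2]
  -- invariance of `G` under the shift in the `i₀`-direction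
  have F4 : ∀ ω : Fin n → K, IsRootM p φ a μ x i₀ ω →
      IsRootM p φ a μ x i₀ (Function.update ω i₀ (ω i₀ + φ (μ * a i₀))) ∧
      eval₂ φ (Function.update ω i₀ (ω i₀ + φ (μ * a i₀))) G = eval₂ φ ω G := by
    intro ω hω
    obtain ⟨ρ, hρ, rfl⟩ := exists_lift p φ a μ x i₀ (hA i₀) ω hω
    have hρ' : IsRootF p φ a μ x (fun i => ρ i + φ (μ * a i)) := shift_root p φ a μ x ρ hρ
    have hw := wmap_shift φ a μ i₀ ρ
    rw [← hw]
    refine ⟨wmap_root p φ a μ x i₀ _ hρ', ?_⟩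
    rw [← H2 _ hρ', ← H2 ρ hρ, H1 ρ hρ]
  have F4' : ∀ (s : ℕ) (ω : Fin n → K), IsRootM p φ a μ x i₀ ω →
      IsRootM p φ a μ x i₀ (Function.update ω i₀ (ω i₀ + (s : K) * φ (μ * a i₀))) ∧
      eval₂ φ (Function.update ω i₀ (ω i₀ + (s : K) * φ (μ * a i₀))) G = eval₂ φ ω G := by
    intro s
    induction s with
    | zero =>
      intro ω hω
      have h0 : Function.update ω i₀ (ω i₀ + ((0 : ℕ) : K) * φ (μ * a i₀)) = ω := by
        rw [Nat.cast_zero, zero_mul, add_zero, Function.update_eq_self]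
      rw [h0]; exact ⟨hω, rfl⟩
    | succ s ih =>
      intro ω hω
      obtain ⟨h1, h2⟩ := ih ω hω
      obtain ⟨h3, h4⟩ := F4 _ h1
      have h5 : Function.update (Function.update ω i₀ (ω i₀ + (s : K) * φ (μ * a i₀))) i₀
          ((Function.update ω i₀ (ω i₀ + (s : K) * φ (μ * a i₀))) i₀ + φ (μ * a i₀))
          = Function.update ω i₀ (ω i₀ + ((s + 1 : ℕ) : K) * φ (μ * a i₀)) := by
        rw [Function.update_idem, Function.update_self]
        congr 1
        push_cast; ring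
      rw [h5] at h3 h4
      exact ⟨h3, h4.trans h2⟩
  have F5 : ∀ ω : Fin n → K, IsRootM p φ a μ x i₀ ω →
      eval₂ φ (Function.update ω i₀ 0) G = eval₂ φ ω G := by
    intro ω hω
    have hb : φ (μ * a i₀) ≠ 0 := by rw [map_mul]; exact mul_ne_zero hM (hA i₀)
    have hinj : Set.InjOn (fun s : ℕ => ω i₀ + (s : K) * φ (μ * a i₀))
        (Finset.range p : Set ℕ) := by
      intro s hs s' hs' hss
      have h1 : (s : K) = (s' : K) := by
        have h2 : (s : K) * φ (μ * a i₀) = (s' : K) * φ (μ * a i₀) := add_left_cancel hss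
        exact mul_right_cancel₀ hb h2
      have hs1 : s ∈ Set.Iio p := by simpa using hs
      have hs2 : s' ∈ Set.Iio p := by simpa using hs'
      exact CharP.natCast_injOn_Iio K p hs1 hs2 h1
    refine eval₂_update_const φ p i₀ G hG hp.pos ω
      ((Finset.range p).image (fun s : ℕ => ω i₀ + (s : K) * φ (μ * a i₀))) ?_
      (eval₂ φ ω G) ?_ 0
    · rw [Finset.card_image_of_injOn hinj, Finset.card_range]
    · intro w hw
      obtain ⟨s, -, rfl⟩ := Finset.mem_image.1 hw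
      exact (F4' s ω hω).2
  -- the invariant part
  obtain ⟨G₀, hG₀⟩ : ∃ G₀ : MvPolynomial {j : Fin n // j ≠ i₀} R,
      G₀ = aeval (fun i : Fin n =>
        if h : i = i₀ then (0 : MvPolynomial {j : Fin n // j ≠ i₀} R) else X ⟨i, h⟩) G :=
    ⟨_, rfl⟩
  refine ⟨D, C (μ ^ D) * G₀, ?_⟩
  refine mem_of_forall_eval₂ φ hφ p (fun i => (μ * a i) ^ (p - 1)) x hcF _ ?_
  intro ρ hρ
  have hρ' : IsRootF p φ a μ x ρ := hρ
  rw [eval₂_sub, eval₂_mul, eval₂_pow, eval₂_C, eval₂_aeval', eval₂_mul, eval₂_C, hG₀,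
    eval₂_aeval']
  have hfun : (fun i : Fin n => eval₂ φ (fun j => eval₂ φ ρ (Zv a i₀ j))
      (if h : i = i₀ then (0 : MvPolynomial {j : Fin n // j ≠ i₀} R) else X ⟨i, h⟩))
      = Function.update (wmap φ a i₀ ρ) i₀ 0 := by
    funext i
    by_cases h : i = i₀
    · rw [dif_pos h, eval₂_zero, h, Function.update_self]
    · rw [dif_neg h, eval₂_X, eval₂_Zv, Function.update_of_ne h, wmap, if_neg h]
  rw [hfun, F5 _ (wmap_root p φ a μ x i₀ ρ hρ'), ← H2 ρ hρ']
  have e1 : φ (μ * a i₀) = φ μ * φ (a i₀) := map_mul _ _ _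
  have e2 : φ (μ ^ D) = φ μ ^ D := map_pow _ _ _
  rw [e1, e2]
  ring

/-- Abstract form of S19997. -/
theorem inv_thm {R K : Type*} [CommRing R] [Field K] [IsAlgClosed K] (p : ℕ) [Fact p.Prime]
    [CharP K p] (φ : R →+* K) (hφ : Function.Injective φ) {n : ℕ} (a : Fin n → R) (μ : R)
    (x : Fin n → R) (i₀ : Fin n) (ha : ∀ i, a i ≠ 0) (hμ : μ ≠ 0) :
    let I : Ideal (MvPolynomial (Fin n) R) :=
      Ideal.span (Set.range fun i : Fin n =>
        X i ^ p - C ((μ * a i) ^ (p - 1)) * X i - C (x i))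
    let A := MvPolynomial (Fin n) R ⧸ I
    let u : Fin n → A := fun i => Ideal.Quotient.mk I (X i)
    let z : {j : Fin n // j ≠ i₀} → A := fun j =>
      algebraMap R A (a i₀) * u j.1 - algebraMap R A (a j.1) * u i₀
    ∀ σ : A ≃ₐ[R] A, (∀ i, σ (u i) = u i + algebraMap R A (μ * a i)) →
      ∀ t : A, σ t = t →
        ∃ N : ℕ, algebraMap R A (μ * a i₀) ^ N * t ∈ Algebra.adjoin R (Set.range z) := by
  intro I A u z σ hσ t ht
  obtain ⟨T, rfl⟩ := Ideal.Quotient.mk_surjective t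
  have hσT : ∀ F : MvPolynomial (Fin n) R, σ (Ideal.Quotient.mk I F) =
      Ideal.Quotient.mk I
        (aeval (fun i : Fin n => (X i + C (μ * a i) : MvPolynomial (Fin n) R)) F) := by
    intro F
    induction F using MvPolynomial.induction_on with
    | C r =>
      rw [aeval_C]
      exact σ.commutes r
    | add f g hf hg => simp only [map_add, hf, hg]
    | mul_X f i hf =>
      simp only [map_mul, hf, aeval_X, map_add]
      congr 1
      have h3 := hσ i
      rw [map_mul] at h3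
      exact h3
  have hT : aeval (fun i : Fin n => (X i + C (μ * a i) : MvPolynomial (Fin n) R)) T - T ∈ I := by
    rw [← Ideal.Quotient.eq, ← hσT]; exact ht
  obtain ⟨N, Q, hNQ⟩ := core p φ hφ a μ x i₀ ha hμ T hT
  refine ⟨N, ?_⟩
  rw [Algebra.adjoin_range_eq_range_aeval R z, AlgHom.mem_range]
  refine ⟨Q, ?_⟩
  have h1 : aeval z Q = Ideal.Quotient.mk I (aeval (Zv a i₀) Q) := aeval_z_eq a i₀ I Q
  have h2 : Ideal.Quotient.mk I (C (μ * a i₀) ^ N * T) =
      Ideal.Quotient.mk I (aeval (Zv a i₀) Q) := Ideal.Quotient.eq.2 hNQ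
  rw [map_mul, map_pow] at h2
  exact h1.trans h2.symm

end Abstract

section Concrete

open MvPolynomial in
theorem main19997
    (p : ℕ) [Fact p.Prime] (k : Type u) [Field k] [CharP k p] (n : ℕ) (hn : 2 ≤ n)
    (a : Fin n → MvPowerSeries (Fin n) k) (μ : MvPowerSeries (Fin n) k)
    (ham : ∀ i, MvPowerSeries.constantCoeff (a i) = 0) (hcop : ∀ i j, i ≠ j → IsRelPrime (a i) (a j))
    (hμ : μ ≠ 0) (hμa : ∀ i, IsRelPrime μ (a i)) (i₀ : Fin n) :
    let R := MvPowerSeries (Fin n) k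
    let I : Ideal (MvPolynomial (Fin n) R) :=
      Ideal.span (Set.range fun i : Fin n =>
        X i ^ p - C ((μ * a i) ^ (p - 1)) * X i - C (MvPowerSeries.X i))
    let A := MvPolynomial (Fin n) R ⧸ I
    let u : Fin n → A := fun i => Ideal.Quotient.mk I (X i)
    let z : {j : Fin n // j ≠ i₀} → A := fun j =>
      algebraMap R A (a i₀) * u j.1 - algebraMap R A (a j.1) * u i₀
    ∀ σ : A ≃ₐ[R] A, (∀ i, σ (u i) = u i + algebraMap R A (μ * a i)) →
      ∀ t : A, σ t = t →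
        ∃ N : ℕ, algebraMap R A (μ * a i₀) ^ N * t ∈ Algebra.adjoin R (Set.range z) := by
  intro R I A u z
  obtain ⟨K, _, _, _, φ, hφ⟩ := exists_field_embedding p k n
  have ha : ∀ i, a i ≠ 0 := nonzero_of_cop n hn a ham hcop
  exact inv_thm p φ hφ a μ MvPowerSeries.X i₀ ha hμ

end Concrete

end Groth.Agent.Helper8.WQ2
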