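import Mathlib
import Groth.Prelude
import Groth.Agent.Lib.Helper8.FlatReg5
import Groth.Agent.Lib.Helper8.FinPS1
import Groth.Agent.Lib.Helper8.MvPSLocal
import Groth.Agent.Lib.Helper8.MvPSDim
import Groth.Agent.Lib.Helper8.CohenFact1

/-!
# A complete regular local ring is finite free over a parameter power series ring
-/

set_option autoImplicit false

namespace Groth.Agent.Helper8.WQB

open IsLocalRing MvPowerSeries TensorProduct

/-- Length of `M / I M` for a free module with a finite basis. -/
theorem length_quot_of_basis {R M : Type*} [CommRing R] [AddCommGroup M] [Module R M]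
    (I : Ideal R) {d : ℕ} (b : Module.Basis (Fin d) R M) :
    Module.length R (M ⧸ (I • ⊤ : Submodule R M)) = d * Module.length R (R ⧸ I) := by
  classical
  have e1 := TensorProduct.quotTensorEquivQuotSMul M I
  have e2 : ((R ⧸ I) ⊗[R] M) ≃ₗ[R] ((R ⧸ I) ⊗[R] (Fin d → R)) :=
    LinearEquiv.lTensor (R ⧸ I) b.equivFun
  have e3 : ((R ⧸ I) ⊗[R] (Fin d → R)) ≃ₗ[R] (Fin d → (R ⧸ I)) :=
    TensorProduct.piScalarRight R R (R ⧸ I) (Fin d)
  rw [← e1.length_eq, e2.length_eq, e3.length_eq, Module.length_pi]
  simp

theorem length_quot_maximal {R : Type*} [CommRing R] (m : Ideal R) [m.IsMaximal] :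
    Module.length R (R ⧸ m) = 1 :=
  Module.length_eq_one_iff.mpr
    (isSimpleModule_iff_quot_maximal.mpr ⟨m, inferInstance, ⟨LinearEquiv.refl _ _⟩⟩)

section core

universe u

variable (A : Type u) [CommRing A] [IsRegularLocalRing A]
  (n : ℕ) (hn : ringKrullDim A = n) (K : Type u) [Field K]
  (x : Fin n → A) (hx : (Ideal.span (Set.range x)).radical = maximalIdeal A)
  (φ : MvPowerSeries (Fin n) K →+* A) (hφ : ∀ i, φ (X i) = x i)
  (hK : Function.Surjective ((residue A).comp (φ.comp C)))

include hn hx hφ hK in
theorem core : ∃ (d : ℕ) (b : Fin d → A),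
    (d : ℕ∞) = Module.length A (A ⧸ Ideal.span (Set.range x)) ∧
      Function.Bijective (fun r : Fin d → MvPowerSeries (Fin n) K => ∑ i, φ (r i) * b i) := by
  classical
  letI : Algebra (MvPowerSeries (Fin n) K) A := φ.toAlgebra
  have halg : ∀ f : MvPowerSeries (Fin n) K, algebraMap (MvPowerSeries (Fin n) K) A f = φ f :=
    fun _ => rfl
  have hmap : (maximalIdeal (MvPowerSeries (Fin n) K)).map
      (algebraMap (MvPowerSeries (Fin n) K) A) = Ideal.span (Set.range x) := by
    rw [mvPowerSeries_maximalIdeal_eq, Ideal.map_span]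
    congr 1
    ext a
    constructor
    · rintro ⟨_, ⟨i, rfl⟩, rfl⟩
      exact ⟨i, (hφ i).symm⟩
    · rintro ⟨i, rfl⟩
      exact ⟨X i, ⟨i, rfl⟩, hφ i⟩
  have hIle : Ideal.span (Set.range x) ≤ maximalIdeal A := by
    rw [← hx]; exact Ideal.le_radical
  haveI hloc : IsLocalHom (algebraMap (MvPowerSeries (Fin n) K) A) := by
    refine ⟨fun f hf => ?_⟩
    by_contra hnu
    have h1 : f ∈ maximalIdeal (MvPowerSeries (Fin n) K) :=
      (mem_maximalIdeal f).2 (mem_nonunits_iff.2 hnu)
    have h2 : algebraMap (MvPowerSeries (Fin n) K) A f ∈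
        (maximalIdeal (MvPowerSeries (Fin n) K)).map
          (algebraMap (MvPowerSeries (Fin n) K) A) := Ideal.mem_map_of_mem _ h1
    rw [hmap] at h2
    exact (mem_maximalIdeal _).1 (hIle h2) hf
  haveI hfinres : Module.Finite (MvPowerSeries (Fin n) K) (ResidueField A) := by
    have hs : Function.Surjective
        (Algebra.linearMap (MvPowerSeries (Fin n) K) (ResidueField A)) := by
      intro y
      obtain ⟨c, hc⟩ := hK y
      refine ⟨C c, ?_⟩
      rw [Algebra.linearMap_apply,
        IsScalarTower.algebraMap_apply (MvPowerSeries (Fin n) K) A (ResidueField A)]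
      exact hc
    exact Module.Finite.of_surjective _ hs
  have hmin : maximalIdeal A ∈ ((maximalIdeal (MvPowerSeries (Fin n) K)).map
      (algebraMap (MvPowerSeries (Fin n) K) A)).minimalPrimes := by
    rw [hmap]
    refine ⟨⟨inferInstance, hIle⟩, fun q hq _ => ?_⟩
    rw [← hx]
    exact (hq.1.radical_le_iff).2 hq.2
  haveI hfin : Module.Finite (MvPowerSeries (Fin n) K) A :=
    Groth.Agent.Helper8.FinPS.finite_of_complete (MvPowerSeries (Fin n) K) A hmin
  haveI : IsDomain (MvPowerSeries (Fin n) K) := NoZeroDivisors.to_isDomain _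
  have hinj : Function.Injective (algebraMap (MvPowerSeries (Fin n) K) A) :=
    Groth.Agent.Helper8.FinPS.injective_of_finite_of_dim (MvPowerSeries (Fin n) K) A n
      (le_of_eq (Groth.Agent.Helper8.ringKrullDim_mvPowerSeries_fin K n)) (le_of_eq hn.symm)
  haveI hfree : Module.Free (MvPowerSeries (Fin n) K) A :=
    (Groth.Agent.Helper8.FlatReg.free_iff_isCohenMacaulay_and_injective
      (MvPowerSeries (Fin n) K) A).2
      ⟨Groth.Agent.Helper8.FlatReg.isCohenMacaulayLocalRing_of_isRegularLocalRing A, hinj⟩
  let b := Module.finBasis (MvPowerSeries (Fin n) K) A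
  refine ⟨Module.finrank (MvPowerSeries (Fin n) K) A, b, ?_, ?_⟩
  · have h1 := IsLocalRing.length_restrictScalars (MvPowerSeries (Fin n) K) A
      (A ⧸ Ideal.span (Set.range x))
    have h2 : Module.length (ResidueField (MvPowerSeries (Fin n) K)) (ResidueField A) = 1 := by
      have hs : Function.Surjective
          (algebraMap (ResidueField (MvPowerSeries (Fin n) K)) (ResidueField A)) := by
        intro y
        obtain ⟨c, hc⟩ := hK y
        refine ⟨residue _ (C c), ?_⟩
        show ResidueField.map (algebraMap (MvPowerSeries (Fin n) K) A) (residue _ (C c)) = y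
        rw [ResidueField.map_residue]
        exact hc
      let e : ResidueField (MvPowerSeries (Fin n) K) ≃ₗ[ResidueField (MvPowerSeries (Fin n) K)]
          ResidueField A :=
        LinearEquiv.ofBijective (Algebra.linearMap _ _)
          ⟨(algebraMap (ResidueField (MvPowerSeries (Fin n) K)) (ResidueField A)).injective, hs⟩
      rw [← e.length_eq, Module.length_eq_finrank, Module.finrank_self]
      rfl
    have h3 : Module.length (MvPowerSeries (Fin n) K) (A ⧸ Ideal.span (Set.range x)) =
        (Module.finrank (MvPowerSeries (Fin n) K) A : ℕ∞) := by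
      have hh : (maximalIdeal (MvPowerSeries (Fin n) K) • ⊤ :
          Submodule (MvPowerSeries (Fin n) K) A) =
          (Ideal.span (Set.range x)).restrictScalars (MvPowerSeries (Fin n) K) := by
        rw [Ideal.smul_top_eq_map, hmap]
      have e0 : (A ⧸ (maximalIdeal (MvPowerSeries (Fin n) K) • ⊤ :
          Submodule (MvPowerSeries (Fin n) K) A)) ≃ₗ[MvPowerSeries (Fin n) K]
          (A ⧸ Ideal.span (Set.range x)) :=
        (Submodule.quotEquivOfEq _ _ hh).trans
          (Submodule.Quotient.restrictScalarsEquiv (MvPowerSeries (Fin n) K)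
            (Ideal.span (Set.range x)))
      rw [← e0.length_eq, length_quot_of_basis (maximalIdeal (MvPowerSeries (Fin n) K)) b,
        length_quot_maximal, mul_one]
    rw [h1, h2, mul_one] at h3
    exact h3.symm
  · have hfun : (fun r : Fin (Module.finrank (MvPowerSeries (Fin n) K) A) →
        MvPowerSeries (Fin n) K => ∑ i, φ (r i) * b i) = b.equivFun.symm := by
      funext r
      rw [Module.Basis.equivFun_symm_apply]
      refine Finset.sum_congr rfl fun i _ => ?_
      rw [Algebra.smul_def]
      rfl
    rw [hfun]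
    exact b.equivFun.symm.bijective

end core

section main

universe u v

theorem main
    (A : Type u) [CommRing A] [IsRegularLocalRing A]
    (n : ℕ) (hn : ringKrullDim A = n)
    (k : Type v) [Field k] [Algebra k A]
    (hk : Function.Surjective (IsLocalRing.residue A ∘ algebraMap k A))
    (x : Fin n → A) (hx : (Ideal.span (Set.range x)).radical = IsLocalRing.maximalIdeal A)
    (φ : MvPowerSeries (Fin n) k →ₐ[k] A) (hφ : ∀ i, φ (MvPowerSeries.X i) = x i) :
    ∃ (d : ℕ) (b : Fin d → A), (d : ℕ∞) = Module.length A (A ⧸ Ideal.span (Set.range x)) ∧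
      Function.Bijective (fun r : Fin d → MvPowerSeries (Fin n) k => ∑ i, φ (r i) * b i) := by
  classical
  have hk' : Function.Surjective ((residue A).comp (algebraMap k A)) := hk
  let e : k ≃+* ResidueField A :=
    RingEquiv.ofBijective ((residue A).comp (algebraMap k A))
      ⟨((residue A).comp (algebraMap k A)).injective, hk'⟩
  have he : ∀ c : k, e c = residue A (algebraMap k A c) := fun _ => rfl
  let ψ : MvPowerSeries (Fin n) (ResidueField A) →+* MvPowerSeries (Fin n) k :=
    MvPowerSeries.map (e.symm : ResidueField A →+* k)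
  let ψi : MvPowerSeries (Fin n) k →+* MvPowerSeries (Fin n) (ResidueField A) :=
    MvPowerSeries.map (e : k →+* ResidueField A)
  have hψ1 : ∀ f, ψ (ψi f) = f := by
    intro f
    ext d
    simp only [ψ, ψi, MvPowerSeries.coeff_map, RingEquiv.coe_toRingHom,
      RingEquiv.symm_apply_apply]
  have hψ2 : ∀ f, ψi (ψ f) = f := by
    intro f
    ext d
    simp only [ψ, ψi, MvPowerSeries.coeff_map, RingEquiv.coe_toRingHom,
      RingEquiv.apply_symm_apply]
  let φ' : MvPowerSeries (Fin n) (ResidueField A) →+* A := (φ : _ →+* A).comp ψ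
  have hφ' : ∀ i, φ' (X i) = x i := by
    intro i
    simp only [φ', ψ, RingHom.comp_apply, MvPowerSeries.map_X]
    exact hφ i
  have hK : Function.Surjective ((residue A).comp (φ'.comp C)) := by
    intro y
    refine ⟨y, ?_⟩
    simp only [φ', ψ, RingHom.comp_apply, MvPowerSeries.map_C]
    have h1 : (C (e.symm y) : MvPowerSeries (Fin n) k) =
        algebraMap k (MvPowerSeries (Fin n) k) (e.symm y) := rfl
    have h2 : (φ : MvPowerSeries (Fin n) k →+* A) (C ((e.symm : ResidueField A →+* k) y)) =
        algebraMap k A (e.symm y) := by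
      rw [RingEquiv.coe_toRingHom, h1]
      exact φ.commutes _
    rw [h2, ← he, RingEquiv.apply_symm_apply]
  obtain ⟨d, b, hd, hb⟩ := core A n hn (ResidueField A) x hx φ' hφ' hK
  refine ⟨d, b, hd, ?_⟩
  have hcomp : (fun r : Fin d → MvPowerSeries (Fin n) k => ∑ i, φ (r i) * b i) =
      (fun r' : Fin d → MvPowerSeries (Fin n) (ResidueField A) => ∑ i, φ' (r' i) * b i) ∘
        (fun r i => ψi (r i)) := by
    funext r
    simp only [Function.comp_apply, φ', RingHom.comp_apply, hψ1]
    rfl
  rw [hcomp]
  refine hb.comp ?_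
  refine Function.bijective_iff_has_inverse.2 ⟨fun r' i => ψ (r' i), ?_, ?_⟩
  · intro r
    funext i
    exact hψ1 (r i)
  · intro r'
    funext i
    exact hψ2 (r' i)

end main

end Groth.Agent.Helper8.WQB
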