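import Mathlib
import Groth.Prelude
import Groth.Agent.Lib.Helper7.Hensel.FiniteDecomp

/-!
# Finite algebras over a local ring: the length of `S / R` against the number of maximal ideals
(helper8)
-/

set_option autoImplicit false
universe u

namespace Groth.Agent.Helper8.Wedge

open IsLocalRing

section abstract

variable (R S : Type u) [CommRing R] [IsLocalRing R] [CommRing S] [Algebra R S]
  [Module.Finite R S]

theorem comap_eq_maximalIdeal (M : Ideal S) [M.IsMaximal] :
    M.comap (algebraMap R S) = maximalIdeal R :=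
  IsLocalRing.eq_maximalIdeal (Ideal.isMaximal_comap_of_isIntegral_of_isMaximal M)

/-- The map to the product of the residue fields. -/
noncomputable def psi : S →ₗ[R] (Π m' : MaximalSpectrum S, S ⧸ m'.asIdeal) :=
  (LinearMap.pi fun m' : MaximalSpectrum S => (m'.asIdeal).mkQ).restrictScalars R

theorem psi_apply (s : S) (m' : MaximalSpectrum S) :
    psi R S s m' = Ideal.Quotient.mk m'.asIdeal s := rfl

theorem psi_surjective : Function.Surjective (psi R S) := by
  haveI : Finite (MaximalSpectrum S) := Groth.Agent.Helper7.Hensel.finite_maximalSpectrum R S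
  have hcop : Pairwise (Function.onFun IsCoprime fun m' : MaximalSpectrum S => m'.asIdeal) := by
    intro m₁ m₂ hne
    show IsCoprime m₁.asIdeal m₂.asIdeal
    rw [Ideal.isCoprime_iff_sup_eq]
    exact Ideal.IsMaximal.coprime_of_ne m₁.isMaximal m₂.isMaximal
      (fun h => hne (MaximalSpectrum.ext h))
  exact Ideal.pi_mkQ_surjective hcop

theorem length_quotient_maximalIdeal : Module.length R (R ⧸ maximalIdeal R) = 1 := by
  haveI : IsSimpleModule R (R ⧸ maximalIdeal R) :=
    isSimpleModule_iff_isCoatom.mpr (Ideal.isMaximal_def.mp inferInstance)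
  exact Module.length_eq_one R _

/-- The diagonal image of `R` in the product of the residue fields. -/
noncomputable def diag : Submodule R (Π m' : MaximalSpectrum S, S ⧸ m'.asIdeal) :=
  LinearMap.range ((psi R S).comp (Algebra.linearMap R S))

theorem length_diag_le : Module.length R (diag R S) ≤ 1 := by
  let g : R →ₗ[R] diag R S := ((psi R S).comp (Algebra.linearMap R S)).rangeRestrict
  have hg : Function.Surjective g := LinearMap.surjective_rangeRestrict _
  have hker : maximalIdeal R ≤ LinearMap.ker g := by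
    intro a ha
    rw [LinearMap.mem_ker]
    apply Subtype.ext
    funext m'
    show Ideal.Quotient.mk m'.asIdeal (algebraMap R S a) = 0
    rw [Ideal.Quotient.eq_zero_iff_mem, ← Ideal.mem_comap]
    haveI := m'.isMaximal
    rw [comap_eq_maximalIdeal R S m'.asIdeal]
    exact ha
  let g' : (R ⧸ maximalIdeal R) →ₗ[R] diag R S := Submodule.liftQ _ g hker
  have hg' : Function.Surjective g' := by
    intro y
    obtain ⟨a, rfl⟩ := hg y
    exact ⟨Submodule.Quotient.mk a, rfl⟩
  calc Module.length R (diag R S) ≤ Module.length R (R ⧸ maximalIdeal R) :=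
        Module.length_le_of_surjective g' hg'
    _ = 1 := length_quotient_maximalIdeal R

theorem range_le_comap_diag :
    LinearMap.range (Algebra.linearMap R S) ≤ (diag R S).comap (psi R S) := by
  rintro _ ⟨a, rfl⟩
  exact ⟨a, rfl⟩

/-- The induced map `S / R → (∏ κ(m')) / R`. -/
noncomputable def psiBar :
    (S ⧸ LinearMap.range (Algebra.linearMap R S)) →ₗ[R]
      ((Π m' : MaximalSpectrum S, S ⧸ m'.asIdeal) ⧸ diag R S) :=
  Submodule.mapQ _ _ (psi R S) (range_le_comap_diag R S)

theorem psiBar_surjective : Function.Surjective (psiBar R S) := by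
  intro y
  obtain ⟨p, rfl⟩ := Submodule.mkQ_surjective _ y
  obtain ⟨s, rfl⟩ := psi_surjective R S p
  exact ⟨Submodule.Quotient.mk s, rfl⟩

theorem one_le_length_quotient (m' : MaximalSpectrum S) :
    1 ≤ Module.length R (S ⧸ m'.asIdeal) := by
  haveI : Nontrivial (S ⧸ m'.asIdeal) := Ideal.Quotient.nontrivial_iff.mpr m'.isMaximal.ne_top
  exact Order.one_le_iff_pos.mpr Module.length_pos

theorem enat_arith {δ p d q k : ℕ∞} {N : ℕ} (h1 : δ + 1 = N) (h2 : (N : ℕ∞) ≤ p)
    (h3 : p = d + q) (h4 : d ≤ 1) (h5 : δ = k + q) : k = 0 ∧ p = N := by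
  have hδ : δ ≠ ⊤ := by rintro rfl; simp at h1
  lift δ to ℕ using hδ
  have hk : k ≠ ⊤ := by rintro rfl; simp at h5
  have hq : q ≠ ⊤ := by rintro rfl; simp at h5
  have hd : d ≠ ⊤ := by rintro rfl; simp at h4
  lift k to ℕ using hk
  lift q to ℕ using hq
  lift d to ℕ using hd
  subst h3
  norm_cast at *
  omega

theorem enat_sum_eq_card {ι : Type*} [Fintype ι] (a : ι → ℕ∞) (h1 : ∀ i, 1 ≤ a i)
    (h : ∑ i, a i = (Fintype.card ι : ℕ∞)) : ∀ i, a i = 1 := by
  have hle : ∀ i, a i ≤ ∑ j, a j := fun i =>
    Finset.single_le_sum (fun _ _ => zero_le) (Finset.mem_univ i)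
  have hne : ∀ i, a i ≠ ⊤ := by
    intro i hi
    have := hle i
    rw [hi, h] at this
    simp at this
  choose b hb using fun i => ENat.ne_top_iff_exists.mp (hne i)
  have hb1 : ∀ i, 1 ≤ b i := by
    intro i
    have := h1 i
    rw [← hb i] at this
    exact_mod_cast this
  have hsum : ∑ i, b i = Fintype.card ι := by
    have h2 : ((∑ i, b i : ℕ) : ℕ∞) = (Fintype.card ι : ℕ∞) := by
      rw [← h, Nat.cast_sum]
      exact Finset.sum_congr rfl fun i _ => hb i
    exact_mod_cast h2
  have hone : ∑ _i : ι, (1 : ℕ) = ∑ i, b i := by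
    rw [hsum]
    simp
  have := (Finset.sum_eq_sum_iff_of_le (s := Finset.univ) (fun i _ => hb1 i)).mp hone
  intro i
  rw [← hb i, ← this i (Finset.mem_univ i)]
  rfl

theorem key (h : Module.length R (S ⧸ LinearMap.range (Algebra.linearMap R S)) + 1 =
      ENat.card (MaximalSpectrum S)) :
    (∀ m' : MaximalSpectrum S, Module.length R (S ⧸ m'.asIdeal) = 1) ∧
      LinearMap.ker (psiBar R S) = ⊥ := by
  classical
  haveI : Finite (MaximalSpectrum S) := Groth.Agent.Helper7.Hensel.finite_maximalSpectrum R S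
  haveI : Fintype (MaximalSpectrum S) := Fintype.ofFinite _
  have hP : Module.length R (Π m' : MaximalSpectrum S, S ⧸ m'.asIdeal) =
      ∑ m' : MaximalSpectrum S, Module.length R (S ⧸ m'.asIdeal) :=
    Module.length_pi_of_fintype R _
  have hcard : ENat.card (MaximalSpectrum S) = (Fintype.card (MaximalSpectrum S) : ℕ∞) :=
    ENat.card_eq_coe_fintype_card
  have hn_le : (Fintype.card (MaximalSpectrum S) : ℕ∞) ≤
      Module.length R (Π m' : MaximalSpectrum S, S ⧸ m'.asIdeal) := by
    rw [hP]
    calc (Fintype.card (MaximalSpectrum S) : ℕ∞) = ∑ _m' : MaximalSpectrum S, (1 : ℕ∞) := by simp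
      _ ≤ _ := Finset.sum_le_sum (fun m' _ => one_le_length_quotient R S m')
  have hex1 : Module.length R (Π m' : MaximalSpectrum S, S ⧸ m'.asIdeal) =
      Module.length R (diag R S) +
        Module.length R ((Π m' : MaximalSpectrum S, S ⧸ m'.asIdeal) ⧸ diag R S) :=
    Module.length_eq_add_of_exact (diag R S).subtype (diag R S).mkQ
      (Submodule.injective_subtype _) (Submodule.mkQ_surjective _)
      (LinearMap.exact_subtype_mkQ _)
  have hex2 : Module.length R (S ⧸ LinearMap.range (Algebra.linearMap R S)) =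
      Module.length R (LinearMap.ker (psiBar R S)) +
        Module.length R ((Π m' : MaximalSpectrum S, S ⧸ m'.asIdeal) ⧸ diag R S) :=
    Module.length_eq_add_of_exact (LinearMap.ker (psiBar R S)).subtype (psiBar R S)
      (Submodule.injective_subtype _) (psiBar_surjective R S)
      (LinearMap.exact_subtype_ker_map _)
  rw [hcard] at h
  obtain ⟨hk, hp⟩ := enat_arith h hn_le hex1 (length_diag_le R S) hex2
  refine ⟨?_, ?_⟩
  · rw [hP] at hp
    exact enat_sum_eq_card _ (one_le_length_quotient R S) hp
  · rw [Module.length_eq_zero_iff] at hk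
    exact Submodule.subsingleton_iff_eq_bot.mp hk

theorem main (h : Module.length R (S ⧸ LinearMap.range (Algebra.linearMap R S)) + 1 =
      ENat.card (MaximalSpectrum S)) :
    (∀ m' : MaximalSpectrum S, ∀ x : S, ∃ a : R, x - algebraMap R S a ∈ m'.asIdeal) ∧
      (∀ s : S, (∃ a : R, ∀ m' : MaximalSpectrum S, s - algebraMap R S a ∈ m'.asIdeal) →
        s ∈ (algebraMap R S).range) := by
  obtain ⟨h1, h2⟩ := key R S h
  refine ⟨?_, ?_⟩
  · intro m' x
    haveI : IsSimpleModule R (S ⧸ m'.asIdeal) := Module.length_eq_one_iff.mp (h1 m')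
    let g : R →ₗ[R] S ⧸ m'.asIdeal := (m'.asIdeal.mkQ.restrictScalars R).comp (Algebra.linearMap R S)
    have hg : LinearMap.range g = ⊤ := by
      refine (eq_bot_or_eq_top (LinearMap.range g)).resolve_left ?_
      intro hbot
      have h1' : g 1 ∈ LinearMap.range g := ⟨1, rfl⟩
      rw [hbot, Submodule.mem_bot] at h1'
      have h2' : g 1 = Ideal.Quotient.mk m'.asIdeal 1 := by
        show Ideal.Quotient.mk m'.asIdeal (algebraMap R S 1) = _
        rw [map_one]
      rw [h2', Ideal.Quotient.eq_zero_iff_mem] at h1'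
      exact m'.isMaximal.ne_top ((Ideal.eq_top_iff_one _).mpr h1')
    have hx : Ideal.Quotient.mk m'.asIdeal x ∈ LinearMap.range g := hg ▸ Submodule.mem_top
    obtain ⟨a, ha⟩ := hx
    refine ⟨a, ?_⟩
    rw [← Ideal.Quotient.eq_zero_iff_mem, map_sub, sub_eq_zero, ← ha]
    rfl
  · rintro s ⟨a, ha⟩
    have hmem : (Submodule.Quotient.mk s : S ⧸ LinearMap.range (Algebra.linearMap R S)) ∈
        LinearMap.ker (psiBar R S) := by
      rw [LinearMap.mem_ker]
      show Submodule.Quotient.mk (psi R S s) = 0
      rw [Submodule.Quotient.mk_eq_zero]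
      refine ⟨a, ?_⟩
      funext m'
      show Ideal.Quotient.mk m'.asIdeal (algebraMap R S a) = Ideal.Quotient.mk m'.asIdeal s
      rw [eq_comm, ← sub_eq_zero, ← map_sub, Ideal.Quotient.eq_zero_iff_mem]
      exact ha m'
    rw [h2, Submodule.mem_bot, Submodule.Quotient.mk_eq_zero] at hmem
    obtain ⟨b, hb⟩ := hmem
    exact ⟨b, hb⟩

end abstract

end Groth.Agent.Helper8.Wedge
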