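import Mathlib
import Groth.Prelude
import Groth.Agent.Lib.Helper8.Wedge1
import Groth.Agent.Lib.Helper8.NormBr1
import Groth.Agent.Lib.Helper8.HensGU13
import Groth.Agent.Lib.Helper8.SopChain
import Groth.Agent.Lib.Helper8.Nag5
import Groth.Agent.Lib.Helper8.DeltaInv1
import Groth.Agent.Lib.Helper4.GeomBranch2

/-!
# Wedges of discrete valuation rings (helper8)
-/

set_option autoImplicit false
universe u

namespace Groth.Agent.Helper8.Wedge

open IsLocalRing

section card

variable (A : Type u) [CommRing A]

/-- For a reduced ring, the normalization of the reduction has as many maximal ideals as the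
normalization. -/
theorem card_maximalSpectrum_normRed [IsReduced A] :
    ENat.card (MaximalSpectrum (CAlg2.normRed A)) =
      ENat.card (MaximalSpectrum (integralClosure A (FractionRing A))) := by
  have hinj : Function.Injective (Ideal.Quotient.mk (nilradical A)) := by
    rw [RingHom.injective_iff_ker_eq_bot, Ideal.mk_ker]
    exact nilradical_eq_zero A
  let e : A ≃+* CAlg2.red A :=
    RingEquiv.ofBijective (Ideal.Quotient.mk (nilradical A))
      ⟨hinj, Ideal.Quotient.mk_surjective⟩
  have h4 := Groth.Agent.Helper8.NormBr.encard_maximal_of_ringEquiv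
    (Groth.Agent.Helper8.NormBr.integralClosureEquiv e)
  have h5 : ENat.card (MaximalSpectrum (CAlg2.normRed A)) =
      {P : Ideal (CAlg2.normRed A) | P.IsMaximal}.encard :=
    ENat.card_congr (MaximalSpectrum.equivSubtype _)
  have h6 : ENat.card (MaximalSpectrum (integralClosure A (FractionRing A))) =
      {P : Ideal (integralClosure A (FractionRing A)) | P.IsMaximal}.encard :=
    ENat.card_congr (MaximalSpectrum.equivSubtype _)
  rw [h5, h6, h4]

variable [IsLocalRing A] [IsSepClosed (ResidueField A)]

set_option synthInstance.maxHeartbeats 400000 in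
/-- Over a separably closed residue field there is exactly one embedding of each residue field of
the normalization. -/
theorem nonempty_unique_emb (m' : MaximalSpectrum (CAlg2.normRed A)) :
    Nonempty (Unique (Brnch.Emb A m')) := by
  haveI : Algebra.IsIntegral A (CAlg2.red A) :=
    Algebra.isIntegral_of_surjective Ideal.Quotient.mk_surjective
  haveI : Algebra.IsIntegral A (CAlg2.normRed A) := Algebra.IsIntegral.trans (CAlg2.red A)
  haveI := m'.isMaximal
  have hne := Groth.Agent.Lib.Helper4.GeomBranch2.nonempty_emb A (CAlg2.normRed A) m'.asIdeal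
  have hss : Subsingleton {σ : CAlg2.normRed A ⧸ m'.asIdeal →+*
      AlgebraicClosure (ResidueField A) //
      σ.comp ((Ideal.Quotient.mk m'.asIdeal).comp (algebraMap A (CAlg2.normRed A))) =
        Brnch.toClosure A} := by
    letI := Groth.Agent.Lib.Helper4.GeomBranch2.resAlgebra A (CAlg2.normRed A) m'.asIdeal
    letI : Field (CAlg2.normRed A ⧸ m'.asIdeal) := Ideal.Quotient.field m'.asIdeal
    haveI := Groth.Agent.Lib.Helper4.GeomBranch2.resAlgebra_isAlgebraic A (CAlg2.normRed A)
      m'.asIdeal
    haveI : IsPurelyInseparable (ResidueField A) (CAlg2.normRed A ⧸ m'.asIdeal) := inferInstance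
    rw [(Groth.Agent.Lib.Helper4.GeomBranch2.embEquiv A (CAlg2.normRed A)
      m'.asIdeal).subsingleton_congr]
    infer_instance
  obtain ⟨σ⟩ := hne
  have hσ : σ.1.comp (Brnch.toResidue A m') = Brnch.toClosure A := by
    rw [Groth.Agent.Helper8.HensGU.toResidue_eq]
    exact σ.2
  refine ⟨⟨⟨⟨σ.1, hσ⟩⟩, ?_⟩⟩
  intro τ
  have hτ : τ.1.comp ((Ideal.Quotient.mk m'.asIdeal).comp
      (algebraMap A (CAlg2.normRed A))) = Brnch.toClosure A := by
    rw [← Groth.Agent.Helper8.HensGU.toResidue_eq]
    exact τ.2
  have := congrArg Subtype.val (hss.elim ⟨τ.1, hτ⟩ σ)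
  exact Subtype.ext this

theorem numGeomBranches_eq_card [IsNoetherianRing A] [IsReduced A] :
    Brnch.numGeomBranches A =
      ENat.card (MaximalSpectrum (integralClosure A (FractionRing A))) := by
  unfold Brnch.numGeomBranches
  rw [if_pos (minimalPrimes.finite_of_isNoetherianRing A), ← card_maximalSpectrum_normRed]
  haveI : ∀ m' : MaximalSpectrum (CAlg2.normRed A), Unique (Brnch.Emb A m') :=
    fun m' => (nonempty_unique_emb A m').some
  exact ENat.card_congr (Equiv.sigmaUnique _ _)

end card

section dvr

/-- A normal Noetherian local domain of dimension at most one which is not a field is a DVR. -/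
theorem isDiscreteValuationRing_of_normal (R : Type u) [CommRing R] [IsLocalRing R]
    [IsNoetherianRing R] [IsDomain R] [IsIntegrallyClosed R] (hdim : ringKrullDim R ≤ 1)
    (hnf : ¬ IsField R) : IsDiscreteValuationRing R := by
  have hK : Ring.KrullDimLE 1 R := Ring.krullDimLE_iff.mpr hdim
  have h3 : IsIntegrallyClosed R ∧
      ∀ P : Ideal R, P ≠ ⊥ → P.IsPrime → P = maximalIdeal R :=
    ⟨inferInstance, fun P hP hPp =>
      eq_maximalIdeal (Ring.krullDimLE_one_iff_of_noZeroDivisors.mp hK P hP hPp)⟩
  haveI : IsPrincipalIdealRing R :=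
    ((tfae_of_isNoetherianRing_of_isLocalRing_of_isDomain R).out 3 0).mp h3
  refine { not_a_field' := ?_ }
  intro hbot
  exact hnf (IsLocalRing.isField_iff_maximalIdeal_eq.mpr hbot)

variable (A : Type u) [CommRing A] [IsLocalRing A] [IsNoetherianRing A] [IsReduced A]

theorem exists_nonZeroDivisor_mem_maximalIdeal (hdim : ringKrullDim A = 1) :
    ∃ s ∈ maximalIdeal A, s ∈ nonZeroDivisors A := by
  obtain ⟨z, hz, hzp⟩ := Groth.Agent.Helper8.SopChain.exists_mem_maximalIdeal_notMem
    (minimalPrimes A) (minimalPrimes.finite_of_isNoetherianRing A) (by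
      intro p hp
      refine ⟨hp.1.1, ?_⟩
      rintro rfl
      have h0 : (maximalIdeal A).height = 0 := Ideal.height_eq_zero_iff.mpr hp
      have h1 := IsLocalRing.maximalIdeal_height_eq_ringKrullDim (R := A)
      rw [h0, hdim] at h1
      exact absurd h1 (by norm_cast))
  refine ⟨z, hz, ?_⟩
  rw [mem_nonZeroDivisors_iff_right]
  intro x hx
  have hx' : x ∈ nilradical A := by
    rw [nilradical_eq_sInf, Ideal.mem_sInf]
    intro q hq
    haveI : q.IsPrime := hq
    obtain ⟨p, hpmin, hpq⟩ := Ideal.exists_minimalPrimes_le (bot_le : (⊥ : Ideal A) ≤ q)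
    apply hpq
    have hmem : x * z ∈ p := by rw [hx]; exact p.zero_mem
    exact (hpmin.1.1.mem_or_mem hmem).resolve_right (hzp p hpmin)
  rw [nilradical_eq_zero A] at hx'
  exact hx'

theorem isDiscreteValuationRing_atPrime
    [Module.Finite A (integralClosure A (FractionRing A))] (hdim : ringKrullDim A = 1)
    (m' : Ideal (integralClosure A (FractionRing A))) [hm' : m'.IsMaximal] :
    ∃ _ : IsDomain (Localization.AtPrime m'),
      IsDiscreteValuationRing (Localization.AtPrime m') := by
  haveI : IsNoetherianRing (integralClosure A (FractionRing A)) := IsNoetherianRing.of_finite A _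
  haveI : Ring.KrullDimLE 0 (FractionRing A) :=
    Groth.Agent.Helper8.NormRed.krullDimLE_zero_fractionRing A
      (minimalPrimes.finite_of_isNoetherianRing A)
  obtain ⟨hdom, hic⟩ := Groth.Agent.Helper8.NormRed.normal_localization_atPrime
    (integralClosure A (FractionRing A)) (FractionRing A) m'
  refine ⟨hdom, ?_⟩
  haveI := hdom
  haveI := hic
  apply isDiscreteValuationRing_of_normal
  · rw [IsLocalization.AtPrime.ringKrullDim_eq_height m' (Localization.AtPrime m')]
    refine le_trans Ideal.height_le_ringKrullDim_of_isPrime ?_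
    refine le_trans (Groth.Agent.Helper8.Depth.ringKrullDim_le_of_isIntegral A
      (integralClosure A (FractionRing A))) ?_
    exact hdim.le
  · intro hfield
    have hbot : maximalIdeal (Localization.AtPrime m') = ⊥ :=
      IsLocalRing.isField_iff_maximalIdeal_eq.mp hfield
    obtain ⟨s, hsm, hs⟩ := exists_nonZeroDivisor_mem_maximalIdeal A hdim
    have h1 : algebraMap A (integralClosure A (FractionRing A)) s ∈ m' := by
      rw [← Ideal.mem_comap, Groth.Agent.Helper8.Wedge.comap_eq_maximalIdeal A _ m']
      exact hsm
    have h2 : algebraMap (integralClosure A (FractionRing A)) (Localization.AtPrime m')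
        (algebraMap A (integralClosure A (FractionRing A)) s) ∈
        maximalIdeal (Localization.AtPrime m') :=
      (IsLocalization.AtPrime.to_map_mem_maximal_iff (Localization.AtPrime m') m' _).mpr h1
    rw [hbot, Ideal.mem_bot, IsLocalization.map_eq_zero_iff m'.primeCompl] at h2
    obtain ⟨t, ht⟩ := h2
    have h3 : (t : integralClosure A (FractionRing A)) = 0 := by
      apply Subtype.ext
      have h4 := congrArg Subtype.val ht
      have h5 : IsUnit (algebraMap A (FractionRing A) s) :=
        IsLocalization.map_units (FractionRing A) (⟨s, hs⟩ : nonZeroDivisors A)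
      have h6 : ((t : integralClosure A (FractionRing A)) : FractionRing A) *
          algebraMap A (FractionRing A) s = 0 := h4
      exact (h5.mul_left_eq_zero).mp h6
    exact t.2 (h3 ▸ m'.zero_mem)

end dvr

end Groth.Agent.Helper8.Wedge
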