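import Mathlib
import Groth.Prelude
import Groth.Agent.Lib.Helper8.GRing5
import Groth.Agent.Lib.Helper8.GRing6

/-!
# Local rings at quasi-finite primes are local rings of finite algebras (Zariski's main theorem)
-/

set_option autoImplicit false

universe u

namespace Groth.Agent.Helper8.ZMTLoc

open IsLocalRing TensorProduct

section loc

variable {R R' : Type u} [CommRing R] [CommRing R'] [Algebra R R'] (D : Subalgebra R R')
  (p' : Ideal R') [p'.IsPrime]

/-- If `R'[1/r] = D[1/r]` for some `r ∈ D` outside `p'`, then `R'_{p'}` is the local ring of `D` at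
`p' ∩ D`. -/
theorem isLocalization_atPrime (r : D) (hr : (r : R') ∉ p')
    (H : ∀ a : R', ∃ (b : D) (m : ℕ), (b : R') = (r : R') ^ m * a) :
    IsLocalization.AtPrime (Localization.AtPrime p') (p'.comap (algebraMap D R')) := by
  have hmap : ∀ d : D, algebraMap D (Localization.AtPrime p') d =
      algebraMap R' (Localization.AtPrime p') (d : R') := fun d => rfl
  refine ⟨?_, ?_, ?_⟩
  · rintro ⟨d, hd⟩
    rw [hmap]
    exact IsLocalization.map_units (M := p'.primeCompl) (Localization.AtPrime p') ⟨(d : R'), hd⟩
  · intro x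
    obtain ⟨⟨a, s⟩, hx⟩ := IsLocalization.surj p'.primeCompl x
    obtain ⟨b, m, hb⟩ := H a
    obtain ⟨c, n, hc⟩ := H (s : R')
    have hcmem : c ∈ (p'.comap (algebraMap D R')).primeCompl := by
      intro hmem
      have h1 : (c : R') ∈ p' := hmem
      rw [hc] at h1
      rcases Ideal.IsPrime.mem_or_mem inferInstance h1 with h2 | h2
      · exact hr (Ideal.IsPrime.mem_of_pow_mem inferInstance _ h2)
      · exact s.2 h2
    have hrmem : r ∈ (p'.comap (algebraMap D R')).primeCompl := fun hmem => hr hmem
    refine ⟨(b * r ^ n, ⟨c * r ^ m, Submonoid.mul_mem _ hcmem (Submonoid.pow_mem _ hrmem m)⟩), ?_⟩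
    show x * algebraMap D (Localization.AtPrime p') (c * r ^ m) =
      algebraMap D (Localization.AtPrime p') (b * r ^ n)
    rw [hmap, hmap]
    have h1 : ((c * r ^ m : D) : R') = (r : R') ^ n * (s : R') * (r : R') ^ m := by
      push_cast
      rw [hc]
    have h2 : ((b * r ^ n : D) : R') = (r : R') ^ m * a * (r : R') ^ n := by
      push_cast
      rw [hb]
    rw [h1, h2, map_mul, map_mul, map_mul, map_mul, ← hx]
    ring
  · intro d₁ d₂ h
    rw [hmap, hmap] at h
    obtain ⟨s, hs⟩ := (IsLocalization.eq_iff_exists p'.primeCompl _).1 h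
    obtain ⟨c, n, hc⟩ := H (s : R')
    have hcmem : c ∈ (p'.comap (algebraMap D R')).primeCompl := by
      intro hmem
      have h1 : (c : R') ∈ p' := hmem
      rw [hc] at h1
      rcases Ideal.IsPrime.mem_or_mem inferInstance h1 with h2 | h2
      · exact hr (Ideal.IsPrime.mem_of_pow_mem inferInstance _ h2)
      · exact s.2 h2
    refine ⟨⟨c, hcmem⟩, ?_⟩
    apply Subtype.ext
    push_cast
    rw [hc, mul_assoc, mul_assoc, hs]

end loc

section main

variable (R R' : Type u) [CommRing R] [CommRing R'] [IsNoetherianRing R] [IsNoetherianRing R']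
  [Algebra R R'] [Algebra.FiniteType R R'] (p' : Ideal R') [p'.IsPrime]
  [Algebra.QuasiFiniteAt R p']

omit [IsNoetherianRing R] [IsNoetherianRing R'] in
/-- Zariski's main theorem, local form: a finite subalgebra with the same local ring. -/
theorem exists_finite_subalgebra :
    ∃ (D : Subalgebra R R'), Module.Finite R D ∧
      IsLocalization.AtPrime (Localization.AtPrime p') (p'.comap (algebraMap D R')) := by
  obtain ⟨D, hD, r, hr, hbij⟩ :=
    Algebra.QuasiFiniteAt.exists_fg_and_exists_notMem_and_awayMap_bijective (R := R) p'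
  refine ⟨D, ⟨(Submodule.fg_top _).mpr hD⟩, isLocalization_atPrime D p' r hr ?_⟩
  intro a
  obtain ⟨b, m, hb⟩ := Localization.awayMap_surjective_iff.1 hbij.2 a
  exact ⟨b, m, hb⟩

omit [IsNoetherianRing R] [IsNoetherianRing R'] [Algebra R R'] [Algebra.FiniteType R R'] in
theorem isRegularHom_cpl_congr (I J : Ideal R) [I.IsPrime] [J.IsPrime] (hIJ : I = J)
    (h : CAlg.IsRegularHom (Localization.AtPrime I) (EGA4.Cpl (Localization.AtPrime I))) :
    CAlg.IsRegularHom (Localization.AtPrime J) (EGA4.Cpl (Localization.AtPrime J)) := by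
  subst hIJ
  exact h

/-- **S9289.** -/
theorem isRegularHom_cpl_of_quasiFiniteAt
    (h : CAlg.IsRegularHom (Localization.AtPrime (Ideal.comap (algebraMap R R') p'))
      (EGA4.Cpl (Localization.AtPrime (Ideal.comap (algebraMap R R') p')))) :
    CAlg.IsRegularHom (Localization.AtPrime p') (EGA4.Cpl (Localization.AtPrime p')) := by
  obtain ⟨D, hfin, hloc⟩ := exists_finite_subalgebra R R' p'
  haveI := hfin
  haveI := hloc
  haveI : IsNoetherianRing (Localization.AtPrime p') :=
    IsLocalization.isNoetherianRing p'.primeCompl _ inferInstance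
  let e : Localization.AtPrime (p'.comap (algebraMap D R')) ≃ₐ[D] Localization.AtPrime p' :=
    IsLocalization.algEquiv (p'.comap (algebraMap D R')).primeCompl _ _
  have hReg' : CAlg.IsRegularHom
      (Localization.AtPrime ((p'.comap (algebraMap D R')).under R))
      (EGA4.Cpl (Localization.AtPrime ((p'.comap (algebraMap D R')).under R))) := by
    refine isRegularHom_cpl_congr R _ _ ?_ h
    show Ideal.comap (algebraMap R R') p' =
      Ideal.comap (algebraMap R D) (Ideal.comap (algebraMap D R') p')
    rw [Ideal.comap_comap, ← IsScalarTower.algebraMap_eq]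
  have h1 := Groth.Agent.Helper8.GRing.isRegularHom_cpl_of_finite R D
    (p'.comap (algebraMap D R')) hReg'
  exact Groth.Agent.Helper8.GRing.isRegularHom_cpl_of_ringEquiv e.symm.toRingEquiv h1

end main

end Groth.Agent.Helper8.ZMTLoc
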