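import Mathlib
import Groth.Prelude
import Groth.Agent.Lib.Helper8.ZMTLoc1
import Groth.Agent.Lib.Helper8.GRing5b
import Groth.Agent.Lib.Helper8.CplIsoFF

/-!
# Transfer of a single formal fibre along a quasi-finite extension
-/

set_option autoImplicit false

universe u

namespace Groth.Agent.Helper8.ZMTLoc

open IsLocalRing TensorProduct

theorem fiber_cpl_congr (R : Type u) [CommRing R] (I J : Ideal R) [I.IsPrime] [J.IsPrime]
    (P P' : Ideal R) [P.IsPrime] [P'.IsPrime] (hIJ : I = J) (hP : P = P')
    (h : CAlg.IsGeometricallyRegular P.ResidueField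
      (P.Fiber (EGA4.Cpl (Localization.AtPrime I)))) :
    CAlg.IsGeometricallyRegular P'.ResidueField
      (P'.Fiber (EGA4.Cpl (Localization.AtPrime J))) := by
  subst hIJ
  subst hP
  exact h

section main

variable (R R' : Type u) [CommRing R] [CommRing R'] [IsNoetherianRing R] [IsNoetherianRing R']
  [Algebra R R'] [Algebra.FiniteType R R'] (p' : Ideal R') [p'.IsPrime]
  [Algebra.QuasiFiniteAt R p']

/-- **S9290.** -/
theorem formalFibre_of_quasiFiniteAt
    (Q' : Ideal (Localization.AtPrime p')) [Q'.IsPrime]
    (Q : Ideal (Localization.AtPrime (Ideal.comap (algebraMap R R') p'))) [Q.IsPrime]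
    (hQ : Ideal.comap (algebraMap R (Localization.AtPrime (Ideal.comap (algebraMap R R') p'))) Q =
      Ideal.comap (algebraMap R (Localization.AtPrime p')) Q')
    (h : CAlg.IsGeometricallyRegular Q.ResidueField
      (Q.Fiber (EGA4.Cpl (Localization.AtPrime (Ideal.comap (algebraMap R R') p'))))) :
    CAlg.IsGeometricallyRegular Q'.ResidueField
      (Q'.Fiber (EGA4.Cpl (Localization.AtPrime p'))) := by
  obtain ⟨D, hfin, hloc⟩ := exists_finite_subalgebra R R' p'
  haveI := hfin
  haveI := hloc
  haveI : IsNoetherianRing (Localization.AtPrime p') :=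
    IsLocalization.isNoetherianRing p'.primeCompl _ inferInstance
  haveI : IsNoetherianRing D :=
    isNoetherian_of_tower R (isNoetherian_of_isNoetherianRing_of_finite R D)
  haveI : IsNoetherianRing (Localization.AtPrime (p'.comap (algebraMap D R'))) :=
    IsLocalization.isNoetherianRing (p'.comap (algebraMap D R')).primeCompl _ inferInstance
  let e : Localization.AtPrime (p'.comap (algebraMap D R')) ≃ₐ[D] Localization.AtPrime p' :=
    IsLocalization.algEquiv (p'.comap (algebraMap D R')).primeCompl _ _
  let Q'' : Ideal (Localization.AtPrime (p'.comap (algebraMap D R'))) :=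
    Q'.comap (e : _ →+* _)
  haveI : Q''.IsPrime := Ideal.comap_isPrime _ _
  -- Step A
  set p := Ideal.comap (algebraMap R R') p' with hp
  haveI : IsNoetherianRing (Localization.AtPrime p) :=
    IsLocalization.isNoetherianRing p.primeCompl _ inferInstance
  haveI := Groth.Agent.Helper8.GRing.isPushout_of_isLocalization (A := R)
    (A' := Localization.AtPrime p) (B := EGA4.Cpl (Localization.AtPrime p)) p.primeCompl
  have hst : (algebraMap R (Localization.AtPrime p)).SurjectiveOnStalks :=
    RingHom.surjectiveOnStalks_of_isLocalization p.primeCompl _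
  have hA : CAlg.IsGeometricallyRegular (Q.under R).ResidueField
      ((Q.under R).Fiber (EGA4.Cpl (Localization.AtPrime p))) :=
    (Groth.Agent.Helper8.LocHom.isGeometricallyRegular_fiber_iff R
      (EGA4.Cpl (Localization.AtPrime p)) (Localization.AtPrime p)
      (EGA4.Cpl (Localization.AtPrime p)) hst Q).1 h
  -- Step B
  have hIJ : p = (p'.comap (algebraMap D R')).under R := by
    show Ideal.comap (algebraMap R R') p' =
      Ideal.comap (algebraMap R D) (Ideal.comap (algebraMap D R') p')
    rw [Ideal.comap_comap, ← IsScalarTower.algebraMap_eq]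
  have hP : Q.under R = (Q''.under D).comap (algebraMap R D) := by
    show Ideal.comap _ Q = _
    rw [hQ]
    show _ = Ideal.comap (algebraMap R D) (Ideal.comap (algebraMap D _) (Ideal.comap _ Q'))
    rw [Ideal.comap_comap, Ideal.comap_comap]
    congr 1
    ext r
    simp [IsScalarTower.algebraMap_apply R D (Localization.AtPrime p')]
  have hfib := fiber_cpl_congr R p _ (Q.under R) _ hIJ hP hA
  have hC := Groth.Agent.Helper8.GRing.isGeometricallyRegular_formalFibre_of_finite R D
    (p'.comap (algebraMap D R')) Q'' hfib
  refine Groth.Agent.Helper8.CplMap.isGeometricallyRegular_formalFibre_of_ringEquiv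
    e.symm.toRingEquiv Q'' Q' ?_ hC
  ext x
  simp [Q'']

end main

end Groth.Agent.Helper8.ZMTLoc
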